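import Mathlib
import Groth.Agent.Lib.Helper13.GenLocus
import Groth.Agent.Lib.Helper13.PbInv
import Groth.Agent.Lib.Helper13.FinAffine2
import Groth.Agent.Lib.Helper13.QCohKer
import Groth.Agent.Lib.Helper13.Qcqs

set_option autoImplicit false
universe u
open CategoryTheory CategoryTheory.Limits AlgebraicGeometry Opposite TopologicalSpace
open Groth.Agent.Helper13.QCoh Groth.Agent.Helper13.FinType

namespace Groth.Agent.Helper28.CohSub

variable {X : Scheme.{u}}

/-- On a locally Noetherian scheme, a quasi-coherent submodule of a quasi-coherent module of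
finite type is of finite type. -/
theorem isFiniteType_of_mono [IsLocallyNoetherian X] {N M : X.Modules} [N.IsQuasicoherent]
    [M.IsQuasicoherent] [SheafOfModules.IsFiniteType (R := X.ringCatSheaf) M] (φ : N ⟶ M)
    [Mono φ] : SheafOfModules.IsFiniteType (R := X.ringCatSheaf) N := by
  apply isFiniteType_of_finite_sections
  intro x
  obtain ⟨_, ⟨U, hU, rfl⟩, hxU, -⟩ :=
    X.isBasis_affineOpens.exists_subset_of_mem_open (Set.mem_univ x) isOpen_univ
  refine ⟨U, hxU, hU, ?_⟩
  haveI : IsNoetherianRing Γ(X, U) := IsLocallyNoetherian.component_noetherian ⟨U, hU⟩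
  haveI : Module.Finite Γ(X, U) Γ(M, U) := finite_sections_of_isFiniteType M hU
  haveI : IsNoetherian Γ(X, U) Γ(M, U) := isNoetherian_of_isNoetherianRing_of_finite _ _
  let f : Γ(N, U) →ₗ[Γ(X, U)] Γ(M, U) :=
    { toFun := fun m => φ.app U m
      map_add' := fun a b => map_add _ a b
      map_smul' := fun r m => Scheme.Modules.Hom.app_smul φ r m }
  exact Module.Finite.of_injective f ((mono_iff_app_injective φ).1 inferInstance U)

theorem subsingleton_stalk_of_mono_of_comp_zero {K M P : X.Modules} (ι : K ⟶ M) [Mono ι]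
    (u : M ⟶ P) (h : ι ≫ u = 0) (x : X) (hu : Function.Injective (stalkMap u x)) :
    Subsingleton (K.presheaf.stalk x) := by
  refine ⟨fun a b => ?_⟩
  have hι : Function.Injective (stalkMap ι x) := (mono_iff_stalk_injective ι).1 inferInstance x
  apply hι
  apply hu
  rw [← Groth.Agent.Helper13.PbInv.stalkMap_comp, ← Groth.Agent.Helper13.PbInv.stalkMap_comp, h,
    Groth.Agent.Helper13.PbInv.stalkMap_zero, Groth.Agent.Helper13.PbInv.stalkMap_zero]

theorem subsingleton_stalk_of_epi {M Q : X.Modules} (π : M ⟶ Q) [Epi π] (x : X)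
    (h : Subsingleton (M.presheaf.stalk x)) : Subsingleton (Q.presheaf.stalk x) := by
  refine ⟨fun a b => ?_⟩
  obtain ⟨a', rfl⟩ := stalkMap_surjective_of_epi π x a
  obtain ⟨b', rfl⟩ := stalkMap_surjective_of_epi π x b
  rw [Subsingleton.elim a' b']

theorem subsingleton_stalk_of_mono {Q P : X.Modules} (m : Q ⟶ P) [Mono m] (x : X)
    (h : Subsingleton (P.presheaf.stalk x)) : Subsingleton (Q.presheaf.stalk x) :=
  ⟨fun _ _ => (mono_iff_stalk_injective m).1 inferInstance x (h.elim _ _)⟩

/-- The unit `M ⟶ j_* j^* M` of an open immersion is bijective on stalks at points of the open. -/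
theorem unit_stalk_bijective (V : X.Opens) (M : X.Modules) (x : X) (hx : x ∈ V) :
    Function.Bijective (stalkMap ((Scheme.Modules.restrictAdjunction V.ι).unit.app M) x) := by
  have htri := (Scheme.Modules.restrictAdjunction V.ι).left_triangle_components M
  haveI h1 : IsIso ((Scheme.Modules.restrictFunctor V.ι).map
      ((Scheme.Modules.restrictAdjunction V.ι).unit.app M) ≫
      (Scheme.Modules.restrictAdjunction V.ι).counit.app ((Scheme.Modules.restrictFunctor V.ι).obj M)) := by
    rw [htri]; infer_instance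
  have hiso : IsIso ((Scheme.Modules.restrictFunctor V.ι).map
      ((Scheme.Modules.restrictAdjunction V.ι).unit.app M)) :=
    IsIso.of_isIso_comp_right _
      ((Scheme.Modules.restrictAdjunction V.ι).counit.app ((Scheme.Modules.restrictFunctor V.ι).obj M))
  exact (Groth.Agent.Helper13.GenLoc.isIso_restrict_iff _ V).1 hiso x hx

/-- The stalk of `j_* j^* M` vanishes at `x` if `M` has vanishing stalks on `N ∩ V` for some open
neighbourhood `N` of `x`. -/
theorem subsingleton_stalk_pushforward_restrict (V N : X.Opens) (M : X.Modules) (x : X) (hx : x ∈ N)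
    (h : ∀ y : X, y ∈ V → y ∈ N → Subsingleton (M.presheaf.stalk y)) :
    Subsingleton (((Scheme.Modules.pushforward V.ι).obj (M.restrict V.ι)).presheaf.stalk x) := by
  have key : ∀ g : ((Scheme.Modules.pushforward V.ι).obj (M.restrict V.ι)).presheaf.stalk x,
      g = 0 := by
    intro g
    obtain ⟨U, hxU, s, rfl⟩ := TopCat.Presheaf.exists_germ_eq _ g
    rw [← TopCat.Presheaf.germ_res_apply _ (homOfLE (inf_le_left : U ⊓ N ≤ U)) x ⟨hxU, hx⟩ s]
    have hs0 : (((Scheme.Modules.pushforward V.ι).obj (M.restrict V.ι)).presheaf.map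
        (homOfLE (inf_le_left : U ⊓ N ≤ U)).op s) = 0 := by
      refine TopCat.Presheaf.section_ext ⟨M.presheaf, M.isSheaf⟩
        (V.ι ''ᵁ (V.ι ⁻¹ᵁ (U ⊓ N))) _ _ ?_
      intro y hy
      obtain ⟨z, hz, rfl⟩ := hy
      have hsub : Subsingleton (M.presheaf.stalk (V.ι z)) := h _ z.2 hz.2
      exact hsub.elim _ _
    rw [hs0, map_zero]
  exact ⟨fun a b => by rw [key a, key b]⟩

/-- Dévissage by supports: on a Noetherian scheme, a coherent module with support `Z ∪ Z'` is an
extension of a coherent module supported in `Z` by one supported in `Z'`. -/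
theorem devissage (X : Scheme.{u}) [IsNoetherian X] (M : X.Modules) (hM : Coh.IsCoh M)
    (Z Z' : Set X) (hZ : IsClosed Z) (hZ' : IsClosed Z') (h : CohB1.support M = Z ∪ Z') :
    ∃ S : ShortComplex X.Modules, S.ShortExact ∧ Nonempty (S.X₂ ≅ M) ∧ Coh.IsCoh S.X₁ ∧
      Coh.IsCoh S.X₃ ∧ CohB1.support S.X₁ ⊆ Z' ∧ CohB1.support S.X₃ ⊆ Z := by
  classical
  obtain ⟨hM1, hM2⟩ := hM
  haveI : M.IsQuasicoherent := hM1
  haveI : SheafOfModules.IsFiniteType (R := X.ringCatSheaf) M := hM2
  let V : X.Opens := ⟨Z'ᶜ, hZ'.isOpen_compl⟩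
  let N : X.Opens := ⟨Zᶜ, hZ.isOpen_compl⟩
  haveI hPq : ((Scheme.Modules.pushforward V.ι).obj (M.restrict V.ι)).IsQuasicoherent :=
    Groth.Agent.Helper13.Qcqs.isQuasicoherent_pushforward_of_qcqs V.ι (M.restrict V.ι)
  set u : M ⟶ (Scheme.Modules.pushforward V.ι).obj (M.restrict V.ι) :=
    (Scheme.Modules.restrictAdjunction V.ι).unit.app M with hu
  haveI hKq : (kernel u).IsQuasicoherent := Groth.Agent.Helper13.QCohLocal.isQuasicoherent_kernel u
  haveI hKf : SheafOfModules.IsFiniteType (R := X.ringCatSheaf) (kernel u : X.Modules) :=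
    Groth.Agent.Helper28.CohSub.isFiniteType_of_mono (kernel.ι u)
  haveI hCq : (cokernel (kernel.ι u)).IsQuasicoherent :=
    Groth.Agent.Helper13.QCohLocal.isQuasicoherent_cokernel (kernel.ι u)
  haveI hepiπ : Epi (cokernel.π (kernel.ι u)) := coequalizer.π_epi
  haveI hCf : SheafOfModules.IsFiniteType (R := X.ringCatSheaf) (cokernel (kernel.ι u) : X.Modules) :=
    @Groth.Agent.Helper13.FinType.isFiniteType_of_epi _ _ _ (cokernel.π (kernel.ι u)) hepiπ _
  refine ⟨ShortComplex.mk (kernel.ι u) (cokernel.π (kernel.ι u)) (cokernel.condition _), ?_,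
    ⟨Iso.refl _⟩, ⟨hKq, hKf⟩, ⟨hCq, hCf⟩, ?_, ?_⟩
  · exact ShortComplex.ShortExact.mk' (ShortComplex.exact_cokernel _)
      (show Mono (kernel.ι u) from inferInstance) (show Epi (cokernel.π (kernel.ι u)) from hepiπ)
  · intro x hx
    by_contra hxZ'
    apply hx
    have hxV : x ∈ V := hxZ'
    have hbij := Groth.Agent.Helper28.CohSub.unit_stalk_bijective V M x hxV
    exact Groth.Agent.Helper28.CohSub.subsingleton_stalk_of_mono_of_comp_zero (kernel.ι u) u
      (kernel.condition u) x hbij.1
  · intro x hx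
    by_contra hxZ
    apply hx
    by_cases hxZ' : x ∈ Z'
    · haveI : Mono (Abelian.factorThruCoimage u) := inferInstance
      apply Groth.Agent.Helper28.CohSub.subsingleton_stalk_of_mono (Abelian.factorThruCoimage u) x
      apply Groth.Agent.Helper28.CohSub.subsingleton_stalk_pushforward_restrict V N M x hxZ
      intro y hyV hyN
      have hyS : y ∉ CohB1.support M := by
        rw [h]
        exact fun hh => hh.elim hyN hyV
      exact not_not.1 hyS
    · have hxS : x ∉ CohB1.support M := by
        rw [h]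
        exact fun hh => hh.elim hxZ hxZ'
      have hsub : Subsingleton (M.presheaf.stalk x) := not_not.1 hxS
      exact Groth.Agent.Helper28.CohSub.subsingleton_stalk_of_epi (cokernel.π (kernel.ι u)) x hsub

end Groth.Agent.Helper28.CohSub
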