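import Mathlib
import Groth.Prelude.Def_Twist2
import Groth.Prelude.Def_Coh

set_option autoImplicit false
universe u
open CategoryTheory AlgebraicGeometry Opposite TopologicalSpace TopCat

namespace Groth.Agent.Helper28.TwistMul

variable {R A : Type u} [CommRing R] [CommRing A] [Algebra R A] (𝒜 : ℕ → Submodule R A)
  [GradedAlgebra 𝒜]

open Twist

/-! ### multiplication by a homogeneous element on the fibres -/

theorem mul_mem_twistAt {e : ℕ} {g : A} (hg : g ∈ 𝒜 e) {m m' : ℤ} (h : m' = m + e)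
    (x : ProjectiveSpectrum 𝒜) {q : Loc 𝒜 x} (hq : q ∈ twistAt 𝒜 m x) :
    algebraMap A (Loc 𝒜 x) g * q ∈ twistAt 𝒜 m' x := by
  induction hq using Submodule.span_induction with
  | mem q hq =>
    obtain ⟨i, j, a, s, hs, hdeg, rfl⟩ := hq
    refine Submodule.subset_span ⟨e + i, j, ⟨g * a.1, SetLike.mul_mem_graded hg a.2⟩, s, hs, ?_, ?_⟩
    · push_cast; omega
    · rw [← Localization.mk_one_eq_algebraMap, Localization.mk_mul, one_mul]
  | zero => rw [mul_zero]; exact Submodule.zero_mem _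
  | add a b _ _ ha hb => rw [mul_add]; exact Submodule.add_mem _ ha hb
  | smul c q _ hq =>
    have h1 : algebraMap A (Loc 𝒜 x) g * (c • q) = c • (algebraMap A (Loc 𝒜 x) g * q) := by
      rw [Algebra.smul_def, Algebra.smul_def]
      exact mul_left_comm _ _ _
    rw [h1]
    exact Submodule.smul_mem _ c hq

theorem inv_mul_mem_twistAt {e : ℕ} {g : A} (hg : g ∈ 𝒜 e) {m m' : ℤ} (h : m' = m + e)
    (x : ProjectiveSpectrum 𝒜) (hgx : g ∉ x.asHomogeneousIdeal) {q : Loc 𝒜 x}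
    (hq : q ∈ twistAt 𝒜 m' x) :
    Localization.mk 1 ⟨g, hgx⟩ * q ∈ twistAt 𝒜 m x := by
  induction hq using Submodule.span_induction with
  | mem q hq =>
    obtain ⟨i, j, a, s, hs, hdeg, rfl⟩ := hq
    refine Submodule.subset_span ⟨i, e + j, a, ⟨g * s.1, SetLike.mul_mem_graded hg s.2⟩,
      fun hmem => (x.isPrime.mem_or_mem hmem).elim hgx hs, ?_, ?_⟩
    · push_cast; omega
    · rw [Localization.mk_mul, one_mul]
      rfl
  | zero => rw [mul_zero]; exact Submodule.zero_mem _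
  | add a b _ _ ha hb => rw [mul_add]; exact Submodule.add_mem _ ha hb
  | smul c q _ hq =>
    have h1 : Localization.mk 1 ⟨g, hgx⟩ * (c • q) = c • (Localization.mk 1 ⟨g, hgx⟩ * q) := by
      rw [Algebra.smul_def, Algebra.smul_def]
      exact mul_left_comm _ _ _
    rw [h1]
    exact Submodule.smul_mem _ c hq

/-! ### multiplication on sections -/

variable {𝒜}

/-- multiplication by the homogeneous element `g` of degree `e`, on sections `O(m)(U) → O(m+e)(U)`. -/
def mulSec {e : ℕ} {g : A} (hg : g ∈ 𝒜 e) {m m' : ℤ} (h : m' = m + e)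
    (U : (Opens (ProjectiveSpectrum.top 𝒜))ᵒᵖ) (s : sectN (𝒜 := 𝒜) m U) : sectN (𝒜 := 𝒜) m' U :=
  ⟨fun x => ⟨algebraMap A (Loc 𝒜 x.1) g * (s.1 x).1, mul_mem_twistAt 𝒜 hg h x.1 (s.1 x).2⟩, fun x => by
    have hs : (isLocFracN 𝒜 m).pred s.1 := s.2
    obtain ⟨V, hxV, iV, i', j, a, t, nin, hor, w⟩ := hs x
    refine ⟨V, hxV, iV, e + i', j, ⟨g * a.1, SetLike.mul_mem_graded hg a.2⟩, t, nin, ?_, fun y => ?_⟩
    · rcases hor with hor | hor
      · left; push_cast; omega
      · right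
        change g * a.1 = 0
        rw [hor, mul_zero]
    · change algebraMap A (Loc 𝒜 (iV y).1) g * (s.1 (iV y)).1 = Localization.mk (g * a.1) ⟨t.1, nin y⟩
      have hw : (s.1 (iV y)).1 = Localization.mk a.1 ⟨t.1, nin y⟩ := w y
      rw [hw, ← Localization.mk_one_eq_algebraMap, Localization.mk_mul, one_mul]⟩

theorem mulSec_val {e : ℕ} {g : A} (hg : g ∈ 𝒜 e) {m m' : ℤ} (h : m' = m + e)
    (U : (Opens (ProjectiveSpectrum.top 𝒜))ᵒᵖ) (s : sectN (𝒜 := 𝒜) m U) (x : U.unop) :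
    ((mulSec hg h U s).1 x).1 = algebraMap A (Loc 𝒜 x.1) g * (s.1 x).1 := rfl

theorem mulSec_add {e : ℕ} {g : A} (hg : g ∈ 𝒜 e) {m m' : ℤ} (h : m' = m + e)
    (U : (Opens (ProjectiveSpectrum.top 𝒜))ᵒᵖ) (s t : sectN (𝒜 := 𝒜) m U) :
    mulSec hg h U (s + t) = mulSec hg h U s + mulSec hg h U t := by
  apply Subtype.ext
  funext x
  apply Subtype.ext
  exact mul_add _ _ _

theorem mulSec_smul {e : ℕ} {g : A} (hg : g ∈ 𝒜 e) {m m' : ℤ} (h : m' = m + e)
    (U : (Opens (ProjectiveSpectrum.top 𝒜))ᵒᵖ) (c : O U) (s : sectN (𝒜 := 𝒜) m U) :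
    mulSec hg h U (c • s) = c • mulSec hg h U s := by
  apply Subtype.ext
  funext x
  apply Subtype.ext
  change algebraMap A (Loc 𝒜 x.1) g * ((c.1 x • s.1 x : twistAt 𝒜 m x.1) : Loc 𝒜 x.1) =
    ((c.1 x • (mulSec hg h U s).1 x : twistAt 𝒜 m' x.1) : Loc 𝒜 x.1)
  rw [coe_smul_val, coe_smul_val, mulSec_val]
  exact mul_left_comm _ _ _

theorem mulSec_bijective {e : ℕ} {g : A} (hg : g ∈ 𝒜 e) {m m' : ℤ} (h : m' = m + e)
    (V : Opens (ProjectiveSpectrum.top 𝒜)) (hV : ∀ x : V, g ∉ x.1.asHomogeneousIdeal) :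
    Function.Bijective (mulSec hg h (op V)) := by
  constructor
  · intro s t hst
    apply Subtype.ext
    funext x
    apply Subtype.ext
    have h1 : algebraMap A (Loc 𝒜 x.1) g * (s.1 x).1 = algebraMap A (Loc 𝒜 x.1) g * (t.1 x).1 :=
      congrArg (fun r : sectN (𝒜 := 𝒜) m' (op V) => (r.1 x).1) hst
    have hu : IsUnit (algebraMap A (Loc 𝒜 x.1) g) :=
      IsLocalization.map_units (Loc 𝒜 x.1)
        (⟨g, hV x⟩ : x.1.asHomogeneousIdeal.toIdeal.primeCompl)
    exact hu.mul_left_cancel h1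
  · intro t
    have ht : (isLocFracN 𝒜 m').pred t.1 := t.2
    refine ⟨⟨fun x => ⟨Localization.mk 1 ⟨g, hV x⟩ * (t.1 x).1,
      inv_mul_mem_twistAt 𝒜 hg h x.1 (hV x) (t.1 x).2⟩, fun x => ?_⟩, ?_⟩
    · obtain ⟨W, hxW, iW, i', j, a, b, nin, hor, w⟩ := ht x
      refine ⟨W, hxW, iW, i', e + j, a, ⟨g * b.1, SetLike.mul_mem_graded hg b.2⟩,
        fun y hmem => ((iW y).1.isPrime.mem_or_mem hmem).elim (hV (iW y)) (nin y), ?_, fun y => ?_⟩
      · rcases hor with hor | hor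
        · left; push_cast; omega
        · right; exact hor
      · change Localization.mk 1 ⟨g, hV (iW y)⟩ * (t.1 (iW y)).1 = Localization.mk a.1 ⟨g * b.1, _⟩
        have hw : (t.1 (iW y)).1 = Localization.mk a.1 ⟨b.1, nin y⟩ := w y
        rw [hw, Localization.mk_mul, one_mul]
        rfl
    · apply Subtype.ext
      funext x
      apply Subtype.ext
      change algebraMap A (Loc 𝒜 x.1) g * (Localization.mk 1 ⟨g, hV x⟩ * (t.1 x).1) = (t.1 x).1
      have h2 : algebraMap A (Loc 𝒜 x.1) g * Localization.mk 1 ⟨g, hV x⟩ = 1 := by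
        rw [← Localization.mk_one_eq_algebraMap, Localization.mk_mul, mul_one, one_mul]
        exact Localization.mk_self (⟨g, hV x⟩ : x.1.asHomogeneousIdeal.toIdeal.primeCompl)
      rw [← mul_assoc, h2, one_mul]

variable (𝒜)

/-- multiplication by the homogeneous element `g` of degree `e`, as a morphism `O(m) ⟶ O(m + e)`. -/
noncomputable def mulHom {e : ℕ} {g : A} (hg : g ∈ 𝒜 e) {m m' : ℤ} (h : m' = m + e) :
    Twist.twist 𝒜 m ⟶ Twist.twist 𝒜 m' :=
  (⟨PresheafOfModules.homMk (M₁ := Twist.twistPMod 𝒜 m) (M₂ := Twist.twistPMod 𝒜 m')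
    { app := fun U => AddCommGrpCat.ofHom
        { toFun := mulSec hg h U
          map_zero' := by
            have h0 := mulSec_add hg h U 0 0
            rw [add_zero] at h0
            exact left_eq_add.mp h0
          map_add' := mulSec_add hg h U }
      naturality := fun U V i => by ext s; rfl }
    (fun U c s => mulSec_smul hg h U c s)⟩ : SheafOfModules.Hom _ _)

theorem mulHom_app {e : ℕ} {g : A} (hg : g ∈ 𝒜 e) {m m' : ℤ} (h : m' = m + e)
    (V : (Proj 𝒜).Opens) (s : Γ(Twist.twist 𝒜 m, V)) :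
    (mulHom 𝒜 hg h).app V s = mulSec hg h (op V) s := rfl

/-- multiplication by `g` is an isomorphism after restriction to an open contained in `D_+(g)`. -/
theorem isIso_restrict_mulHom {e : ℕ} {g : A} (hg : g ∈ 𝒜 e) {m m' : ℤ} (h : m' = m + e)
    (V : (Proj 𝒜).Opens) (hV : V ≤ Proj.basicOpen 𝒜 g) :
    IsIso ((Scheme.Modules.restrictFunctor V.ι).map (mulHom 𝒜 hg h)) := by
  rw [Scheme.Modules.Hom.isIso_iff_isIso_app]
  intro W
  rw [ConcreteCategory.isIso_iff_bijective]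
  have hW : ∀ x : (V.ι ''ᵁ W : (Proj 𝒜).Opens), g ∉ x.1.asHomogeneousIdeal := by
    intro x
    have hx : x.1 ∈ Proj.basicOpen 𝒜 g := hV (V.ι_image_le W x.2)
    exact (Proj.mem_basicOpen 𝒜 g x.1).mp hx
  exact mulSec_bijective hg h (V.ι ''ᵁ W) hW

end Groth.Agent.Helper28.TwistMul
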