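import Mathlib
import Groth.Prelude.Def_Twist2
import Groth.Prelude.Def_Coh
import Groth.Agent.Lib.Helper28.TwistMul

set_option autoImplicit false
universe u
open CategoryTheory AlgebraicGeometry Opposite TopologicalSpace TopCat

namespace Groth.Agent.Helper28.TwistMul

variable {R A : Type u} [CommRing R] [CommRing A] [Algebra R A] (𝒜 : ℕ → Submodule R A)
  [GradedAlgebra 𝒜]

open Twist

theorem one_nmem (x : ProjectiveSpectrum 𝒜) : (1 : A) ∉ x.asHomogeneousIdeal :=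
  fun h => x.isPrime.ne_top ((Ideal.eq_top_iff_one _).mpr h)

theorem one_mem_twistAt_zero (x : ProjectiveSpectrum 𝒜) : (1 : Loc 𝒜 x) ∈ twistAt 𝒜 0 x := by
  refine Submodule.subset_span ⟨0, 0, ⟨1, SetLike.GradedOne.one_mem⟩,
    ⟨1, SetLike.GradedOne.one_mem⟩, one_nmem 𝒜 x, by simp, ?_⟩
  exact Localization.mk_one.symm

theorem exists_val_eq (x : ProjectiveSpectrum 𝒜) {q : Loc 𝒜 x} (hq : q ∈ twistAt 𝒜 0 x) :
    ∃ c : A0 𝒜 x, c.val = q := by
  induction hq using Submodule.span_induction with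
  | mem q hq =>
    obtain ⟨i, j, a, s, hs, hdeg, rfl⟩ := hq
    have hij : i = j := by omega
    subst hij
    exact ⟨HomogeneousLocalization.mk ⟨i, a, s, hs⟩, HomogeneousLocalization.val_mk _⟩
  | zero => exact ⟨0, HomogeneousLocalization.val_zero⟩
  | add a b _ _ ha hb =>
    obtain ⟨ca, rfl⟩ := ha
    obtain ⟨cb, rfl⟩ := hb
    exact ⟨ca + cb, HomogeneousLocalization.val_add _ _⟩
  | smul c q _ hq =>
    obtain ⟨cq, rfl⟩ := hq
    refine ⟨c * cq, ?_⟩
    rw [HomogeneousLocalization.val_mul, Algebra.smul_def, HomogeneousLocalization.algebraMap_apply]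

variable {𝒜}

/-- the section `1` of `O(0)`. -/
def oneSec (U : (Opens (ProjectiveSpectrum.top 𝒜))ᵒᵖ) : sectN (𝒜 := 𝒜) 0 U :=
  ⟨fun x => ⟨1, one_mem_twistAt_zero 𝒜 x.1⟩, fun x =>
    ⟨U.unop, x.2, 𝟙 _, 0, 0, ⟨1, SetLike.GradedOne.one_mem⟩, ⟨1, SetLike.GradedOne.one_mem⟩,
      fun y => one_nmem 𝒜 y.1, Or.inl (by simp), fun _ => Localization.mk_one.symm⟩⟩

theorem smul_oneSec_val (U : (Opens (ProjectiveSpectrum.top 𝒜))ᵒᵖ) (c : O U) (x : U.unop) :
    (((c • oneSec U : sectN (𝒜 := 𝒜) 0 U)).1 x).1 = (c.1 x).val := by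
  change ((c.1 x • (oneSec U).1 x : twistAt 𝒜 0 x.1) : Loc 𝒜 x.1) = _
  rw [coe_smul_val]
  exact mul_one _

theorem smul_oneSec_bijective (U : (Opens (ProjectiveSpectrum.top 𝒜))ᵒᵖ) :
    Function.Bijective (fun c : O U => (c • oneSec U : sectN (𝒜 := 𝒜) 0 U)) := by
  constructor
  · intro c d hcd
    apply Subtype.ext
    funext x
    apply HomogeneousLocalization.val_injective
    rw [← smul_oneSec_val U c x, ← smul_oneSec_val U d x]
    exact congrArg (fun r : sectN (𝒜 := 𝒜) 0 U => (r.1 x).1) hcd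
  · intro t
    have ht : (isLocFracN 𝒜 0).pred t.1 := t.2
    have hex : ∀ x : U.unop, ∃ c : A0 𝒜 x.1, c.val = (t.1 x).1 :=
      fun x => exists_val_eq 𝒜 x.1 (t.1 x).2
    choose cf hcf using hex
    have hloc : (ProjectiveSpectrum.StructureSheaf.isLocallyFraction 𝒜).pred cf := by
      intro x
      obtain ⟨V, hxV, iV, i', j, a, b, nin, hor, w⟩ := ht x
      rcases hor with hor | hor
      · have hij : i' = j := by omega
        subst hij
        refine ⟨V, hxV, iV, i', a, b, nin, fun y => ?_⟩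
        apply HomogeneousLocalization.val_injective
        change (cf (iV y)).val = _
        rw [hcf, HomogeneousLocalization.val_mk]
        exact w y
      · refine ⟨V, hxV, iV, j, 0, b, nin, fun y => ?_⟩
        apply HomogeneousLocalization.val_injective
        change (cf (iV y)).val = _
        rw [hcf, HomogeneousLocalization.val_mk]
        have hw : (t.1 (iV y)).1 = Localization.mk a.1 ⟨b.1, nin y⟩ := w y
        rw [hw, hor]
        rfl
    refine ⟨⟨cf, hloc⟩, ?_⟩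
    apply Subtype.ext
    funext x
    apply Subtype.ext
    have h1 := smul_oneSec_val U (⟨cf, hloc⟩ : O U) x
    exact h1.trans (hcf x)

variable (𝒜)

/-- the morphism `O ⟶ O(0)` sending `1` to `1`. -/
noncomputable def zeroHom : Coh.structureModule (Proj 𝒜) ⟶ Twist.twist 𝒜 0 :=
  (SheafOfModules.unitHomEquiv (Twist.twist 𝒜 0)).symm
    (PresheafOfModules.sectionsMk (M := Twist.twistPMod 𝒜 0) (fun U => oneSec U) (fun _ _ _ => rfl))

theorem zeroHom_app (V : (Proj 𝒜).Opens) (c : Γ(Coh.structureModule (Proj 𝒜), V)) :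
    (zeroHom 𝒜).app V c = ((show O (𝒜 := 𝒜) (op V) from c) • oneSec (op V) : sectN (𝒜 := 𝒜) 0 (op V)) :=
  rfl

instance isIso_zeroHom : IsIso (zeroHom 𝒜) := by
  rw [Scheme.Modules.Hom.isIso_iff_isIso_app]
  intro V
  rw [ConcreteCategory.isIso_iff_bijective]
  exact smul_oneSec_bijective (op V)

/-- `O ≅ O(0)`. -/
noncomputable def zeroIso : Coh.structureModule (Proj 𝒜) ≅ Twist.twist 𝒜 0 := asIso (zeroHom 𝒜)

/-- `O(nd)` is trivial on `D_+(f)` for `f` homogeneous of degree `d`. -/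
theorem twist_restrict_iso (d : ℕ) (f : A) (hf : f ∈ 𝒜 d) (n : ℤ) :
    Nonempty ((Twist.twist 𝒜 (n * d)).restrict (Proj.basicOpen 𝒜 f).ι ≅
      Coh.structureModule ↑(Proj.basicOpen 𝒜 f)) := by
  have hg : f ^ n.natAbs ∈ 𝒜 (n.natAbs • d) := SetLike.pow_mem_graded _ hf
  have hV : Proj.basicOpen 𝒜 f ≤ Proj.basicOpen 𝒜 (f ^ n.natAbs) := by
    intro x hx
    rw [Proj.mem_basicOpen] at hx ⊢
    exact fun hmem => hx (x.isPrime.mem_of_pow_mem _ hmem)
  have e0 : (Twist.twist 𝒜 0).restrict (Proj.basicOpen 𝒜 f).ι ≅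
      Coh.structureModule ↑(Proj.basicOpen 𝒜 f) :=
    (Scheme.Modules.restrictFunctor (Proj.basicOpen 𝒜 f).ι).mapIso (zeroIso 𝒜).symm ≪≫
      Scheme.Modules.restrictUnitIso (Proj.basicOpen 𝒜 f).ι
  rcases le_total 0 n with hn | hn
  · have h : n * d = 0 + ((n.natAbs • d : ℕ) : ℤ) := by
      rw [zero_add, smul_eq_mul, Nat.cast_mul, Int.natAbs_of_nonneg hn]
    haveI := isIso_restrict_mulHom 𝒜 hg h _ hV
    exact ⟨(asIso ((Scheme.Modules.restrictFunctor (Proj.basicOpen 𝒜 f).ι).map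
      (mulHom 𝒜 hg h))).symm ≪≫ e0⟩
  · have h : (0 : ℤ) = n * d + ((n.natAbs • d : ℕ) : ℤ) := by
      rw [smul_eq_mul, Nat.cast_mul, Int.ofNat_natAbs_of_nonpos hn]
      ring
    haveI := isIso_restrict_mulHom 𝒜 hg h _ hV
    exact ⟨asIso ((Scheme.Modules.restrictFunctor (Proj.basicOpen 𝒜 f).ι).map
      (mulHom 𝒜 hg h)) ≪≫ e0⟩

end Groth.Agent.Helper28.TwistMul
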