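import Mathlib
import Groth.Prelude.Def_Twist2
import Groth.Prelude.Def_Coh
import Groth.Prelude.Def_Pic
import Groth.Agent.Lib.Helper28.TwistZero
import Groth.Agent.Lib.Helper13.AmpleLocal

set_option autoImplicit false
universe u
open CategoryTheory AlgebraicGeometry Opposite TopologicalSpace TopCat

namespace Groth.Agent.Helper28.TwistMul

variable {R A : Type u} [CommRing R] [CommRing A] [Algebra R A] (𝒜 : ℕ → Submodule R A)
  [GradedAlgebra 𝒜]

open Twist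

/-- restricted multiplication by `g`, as an isomorphism over an open of `D_+(g)`. -/
noncomputable def restrictMulIso {e : ℕ} {g : A} (hg : g ∈ 𝒜 e) {m m' : ℤ} (h : m' = m + e)
    (V : (Proj 𝒜).Opens) (hV : V ≤ Proj.basicOpen 𝒜 g) :
    (Twist.twist 𝒜 m).restrict V.ι ≅ (Twist.twist 𝒜 m').restrict V.ι :=
  haveI := isIso_restrict_mulHom 𝒜 hg h V hV
  asIso ((Scheme.Modules.restrictFunctor V.ι).map (mulHom 𝒜 hg h))

/-- `O(0)|_V ≅ O_V`. -/
noncomputable def restrictZeroIso (V : (Proj 𝒜).Opens) :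
    (Twist.twist 𝒜 0).restrict V.ι ≅ Coh.structureModule ↑V :=
  (Scheme.Modules.restrictFunctor V.ι).mapIso (zeroIso 𝒜).symm ≪≫
    Scheme.Modules.restrictUnitIso V.ι

theorem basicOpen_le_pow (f : A) (k : ℕ) : Proj.basicOpen 𝒜 f ≤ Proj.basicOpen 𝒜 (f ^ k) := by
  intro x hx
  rw [Proj.mem_basicOpen] at hx ⊢
  exact fun hmem => hx (x.isPrime.mem_of_pow_mem _ hmem)

/-- variant of `twist_restrict_iso` with a free index. -/
theorem twist_restrict_iso' {e : ℕ} {f : A} (hf : f ∈ 𝒜 e) {m : ℤ} (k : ℤ) (hm : m = k * e) :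
    Nonempty ((Twist.twist 𝒜 m).restrict (Proj.basicOpen 𝒜 f).ι ≅
      Coh.structureModule ↑(Proj.basicOpen 𝒜 f)) := by
  subst hm
  exact twist_restrict_iso 𝒜 e f hf k

/-- `O(nd)` is trivial on `D_+(ab)` for `deg a = deg b + d`. -/
theorem twist_restrict_iso_mul {d : ℕ} {i j : ℕ} {a b : A} (ha : a ∈ 𝒜 i) (hb : b ∈ 𝒜 j)
    (hij : i = j + d) (n : ℤ) :
    Nonempty ((Twist.twist 𝒜 (n * d)).restrict (Proj.basicOpen 𝒜 (a * b)).ι ≅
      Coh.structureModule ↑(Proj.basicOpen 𝒜 (a * b))) := by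
  have hak : a ^ n.natAbs ∈ 𝒜 (n.natAbs • i) := SetLike.pow_mem_graded _ ha
  have hbk : b ^ n.natAbs ∈ 𝒜 (n.natAbs • j) := SetLike.pow_mem_graded _ hb
  have hVa : Proj.basicOpen 𝒜 (a * b) ≤ Proj.basicOpen 𝒜 (a ^ n.natAbs) := by
    refine le_trans ?_ (basicOpen_le_pow 𝒜 a n.natAbs)
    rw [Proj.basicOpen_mul]
    exact inf_le_left
  have hVb : Proj.basicOpen 𝒜 (a * b) ≤ Proj.basicOpen 𝒜 (b ^ n.natAbs) := by
    refine le_trans ?_ (basicOpen_le_pow 𝒜 b n.natAbs)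
    rw [Proj.basicOpen_mul]
    exact inf_le_right
  rcases le_total 0 n with hn | hn
  · have hk : ((n.natAbs : ℕ) : ℤ) = n := Int.natAbs_of_nonneg hn
    have h1 : ((n.natAbs • i : ℕ) : ℤ) = 0 + ((n.natAbs • i : ℕ) : ℤ) := (zero_add _).symm
    have h2 : ((n.natAbs • i : ℕ) : ℤ) = n * d + ((n.natAbs • j : ℕ) : ℤ) := by
      rw [hij]
      simp only [smul_eq_mul, Nat.cast_mul, Nat.cast_add, hk]
      ring
    exact ⟨restrictMulIso 𝒜 hbk h2 _ hVb ≪≫ (restrictMulIso 𝒜 hak h1 _ hVa).symm ≪≫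
      restrictZeroIso 𝒜 _⟩
  · have hk : ((n.natAbs : ℕ) : ℤ) = -n := Int.ofNat_natAbs_of_nonpos hn
    have h1 : ((n.natAbs • j : ℕ) : ℤ) = 0 + ((n.natAbs • j : ℕ) : ℤ) := (zero_add _).symm
    have h2 : ((n.natAbs • j : ℕ) : ℤ) = n * d + ((n.natAbs • i : ℕ) : ℤ) := by
      rw [hij]
      simp only [smul_eq_mul, Nat.cast_mul, Nat.cast_add, hk]
      ring
    exact ⟨restrictMulIso 𝒜 hak h2 _ hVa ≪≫ (restrictMulIso 𝒜 hbk h1 _ hVb).symm ≪≫
      restrictZeroIso 𝒜 _⟩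

open Groth.Agent.Helper13.Ample Groth.Agent.Helper13.Inv in
/-- a module which is trivial on each member of a family of opens is invertible on their union. -/
theorem isInvertible_restrict_iSup {X : Scheme.{u}} (L : X.Modules) {ι : Type*} (V : ι → X.Opens)
    (h : ∀ i, Nonempty (L.restrict (V i).ι ≅ Coh.structureModule ↑(V i))) :
    PicF.IsInvertible (L.restrict (⨆ i, V i).ι) := by
  apply isInvertible_of_forall_exists_restrict
  intro y
  obtain ⟨i, hi⟩ := TopologicalSpace.Opens.mem_iSup.mp y.2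
  have hle : V i ≤ ⨆ i, V i := le_iSup V i
  refine ⟨↑(V i), X.homOfLE hle, inferInstance, ⟨⟨y.1, hi⟩, ?_⟩, ?_⟩
  · exact Scheme.homOfLE_apply' hle y.1 hi
  · obtain ⟨e⟩ := h i
    exact isInvertible_of_iso
      (restrictRestrictIso (X.homOfLE hle) (⨆ i, V i).ι (V i).ι (X.homOfLE_ι hle) L).symm
      (isInvertible_of_iso e.symm isInvertible_structureModule)

/-- `O(nd)` is invertible on the union of the `D_+(f)`, `f ∈ S_d`. -/
theorem twist_isInvertible_iSup (d : ℕ) (n : ℤ) :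
    PicF.IsInvertible ((Twist.twist 𝒜 (n * d)).restrict
      (⨆ f : 𝒜 d, Proj.basicOpen 𝒜 (f : A)).ι) :=
  isInvertible_restrict_iSup (Twist.twist 𝒜 (n * d)) (fun f : 𝒜 d => Proj.basicOpen 𝒜 (f : A))
    (fun f => twist_restrict_iso 𝒜 d f.1 f.2 n)

end Groth.Agent.Helper28.TwistMul
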