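import Mathlib
import Groth.Prelude.Def_Twist2
import Groth.Prelude.Def_Coh
import Groth.Prelude.Def_Pic
import Groth.Agent.Lib.Helper28.TwistMul2
import Groth.Agent.Lib.Helper13.AmpleQA

set_option autoImplicit false
universe u
open CategoryTheory AlgebraicGeometry Opposite TopologicalSpace TopCat

namespace Groth.Agent.Helper28.TwistMul

variable {R A : Type u} [CommRing R] [CommRing A] [Algebra R A] (𝒜 : ℕ → Submodule R A)
  [GradedAlgebra 𝒜]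

open Twist

/-- the section `g/1` of `O(e)` as a morphism `O ⟶ O(e)`. -/
noncomputable def secHom {e : ℕ} {g : A} (hg : g ∈ 𝒜 e) {m : ℤ} (h : m = 0 + e) :
    Coh.structureModule (Proj 𝒜) ⟶ Twist.twist 𝒜 m :=
  zeroHom 𝒜 ≫ mulHom 𝒜 hg h

theorem secHom_app_val {e : ℕ} {g : A} (hg : g ∈ 𝒜 e) {m : ℤ} (h : m = 0 + e)
    (V : (Proj 𝒜).Opens) (c : Γ(Coh.structureModule (Proj 𝒜), V)) (x : V) :
    ((((secHom 𝒜 hg h).app V c : sectN (𝒜 := 𝒜) m (op V))).1 x).1 =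
      algebraMap A (Loc 𝒜 x.1) g * ((show O (𝒜 := 𝒜) (op V) from c).1 x).val := by
  change ((mulSec hg h (op V) ((show O (𝒜 := 𝒜) (op V) from c) • oneSec (op V))).1 x).1 = _
  rw [mulSec_val, smul_oneSec_val]

theorem le_genLocus_secHom {e : ℕ} {g : A} (hg : g ∈ 𝒜 e) {m : ℤ} (h : m = 0 + e) :
    Proj.basicOpen 𝒜 g ≤ CohB1.genLocus _ (secHom 𝒜 hg h) := by
  rw [Groth.Agent.Helper13.GenLoc.le_genLocus_iff]
  unfold secHom
  rw [Functor.map_comp]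
  haveI := isIso_restrict_mulHom 𝒜 hg h _ (le_refl (Proj.basicOpen 𝒜 g))
  infer_instance

theorem mem_of_mem_genLocus {e : ℕ} {g : A} (hg : g ∈ 𝒜 e) {m : ℤ} (h : m = 0 + e) {k : A}
    (hk : k ∈ 𝒜 e) (x : Proj 𝒜) (hx : x ∈ CohB1.genLocus _ (secHom 𝒜 hg h))
    (hgx : g ∈ x.asHomogeneousIdeal) : k ∈ x.asHomogeneousIdeal := by
  set U := CohB1.genLocus _ (secHom 𝒜 hg h) with hU
  have hiso : IsIso ((Scheme.Modules.restrictFunctor U.ι).map (secHom 𝒜 hg h)) :=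
    Groth.Agent.Helper13.GenLoc.isIso_restrict_genLocus _ _
  rw [Scheme.Modules.Hom.isIso_iff_isIso_app] at hiso
  have hb := hiso ⊤
  rw [ConcreteCategory.isIso_iff_bijective] at hb
  have hsurj : Function.Surjective ((secHom 𝒜 hg h).app (U.ι ''ᵁ ⊤)) := hb.2
  obtain ⟨c, hc⟩ := hsurj (mulSec hk h (op (U.ι ''ᵁ ⊤)) (oneSec (op (U.ι ''ᵁ ⊤))))
  have hxV : x ∈ U.ι ''ᵁ (⊤ : U.toScheme.Opens) := by
    rw [Scheme.Opens.ι_image_top]
    exact hx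
  have h1 := secHom_app_val 𝒜 hg h (U.ι ''ᵁ ⊤) c ⟨x, hxV⟩
  rw [hc, mulSec_val] at h1
  have h1' : algebraMap A (Loc 𝒜 x) k = algebraMap A (Loc 𝒜 x) g *
      ((show O (𝒜 := 𝒜) (op (U.ι ''ᵁ ⊤)) from c).1 ⟨x, hxV⟩).val :=
    (mul_one _).symm.trans h1
  have hmem : algebraMap A (Loc 𝒜 x) k ∈ IsLocalRing.maximalIdeal (Loc 𝒜 x) := by
    rw [h1']
    exact Ideal.mul_mem_right _ _
      ((IsLocalization.AtPrime.to_map_mem_maximal_iff (Loc 𝒜 x)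
        x.asHomogeneousIdeal.toIdeal g).mpr hgx)
  exact (IsLocalization.AtPrime.to_map_mem_maximal_iff (Loc 𝒜 x)
    x.asHomogeneousIdeal.toIdeal k).mp hmem

theorem exists_nmem (s : Set A) (hs : (HomogeneousIdeal.irrelevant 𝒜).toIdeal ≤ Ideal.span s)
    (x : Proj 𝒜) : ∃ f ∈ s, f ∉ x.asHomogeneousIdeal := by
  by_contra! H
  refine x.not_irrelevant_le (hs.trans ?_)
  rw [Ideal.span_le]
  exact fun f hf => H f hf

theorem genLocus_secHom_eq (s : Set A) {e : ℕ} (hs1 : ∀ f ∈ s, f ∈ 𝒜 e)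
    (hs : (HomogeneousIdeal.irrelevant 𝒜).toIdeal ≤ Ideal.span s) {g : A} (hg : g ∈ 𝒜 e)
    {m : ℤ} (h : m = 0 + e) :
    CohB1.genLocus _ (secHom 𝒜 hg h) = Proj.basicOpen 𝒜 g := by
  apply le_antisymm
  · intro x hx
    change g ∉ x.asHomogeneousIdeal
    intro hgx
    obtain ⟨k, hk, hkx⟩ := exists_nmem 𝒜 s hs x
    exact hkx (mem_of_mem_genLocus 𝒜 hg h (hs1 k hk) x hx hgx)
  · exact le_genLocus_secHom 𝒜 hg h

theorem compactSpace_of_finite (s : Finset A) {e : ℕ} (he : 0 < e) (hs1 : ∀ f ∈ s, f ∈ 𝒜 e)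
    (hs : (HomogeneousIdeal.irrelevant 𝒜).toIdeal ≤ Ideal.span (s : Set A)) :
    CompactSpace (Proj 𝒜) := by
  constructor
  have H (i : s) : IsCompact (Proj.basicOpen 𝒜 (i : A) : Set (Proj 𝒜)) :=
    (Proj.isAffineOpen_basicOpen 𝒜 _ (hs1 _ i.2) he).isCompact
  have h1 : (Set.univ : Set (Proj 𝒜)) = ⋃ i : s, (Proj.basicOpen 𝒜 (i : A) : Set (Proj 𝒜)) := by
    ext x
    simp only [Set.mem_univ, Set.mem_iUnion, true_iff]
    obtain ⟨f, hf, hfx⟩ := exists_nmem 𝒜 (s : Set A) hs x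
    exact ⟨⟨f, hf⟩, hfx⟩
  rw [h1]
  exact isCompact_iUnion H

/-- `O(1)` is ample when the irrelevant ideal is generated by finitely many elements of degree 1. -/
theorem twist_one_isAmple (s : Finset A) (hs1 : ∀ f ∈ s, f ∈ 𝒜 1)
    (hs : (HomogeneousIdeal.irrelevant 𝒜).toIdeal = Ideal.span (s : Set A)) :
    CohB1.IsAmple (Twist.twist 𝒜 1) := by
  have hs' : (HomogeneousIdeal.irrelevant 𝒜).toIdeal ≤ Ideal.span (s : Set A) := hs.le
  refine ⟨?_, compactSpace_of_finite 𝒜 s one_pos hs1 hs', fun x => ?_⟩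
  · intro y
    obtain ⟨f, hf, hfy⟩ := exists_nmem 𝒜 (s : Set A) hs' y
    exact ⟨Proj.basicOpen 𝒜 f, hfy, twist_restrict_iso' 𝒜 (hs1 f hf) 1 (by norm_num)⟩
  · obtain ⟨f, hf, hfx⟩ := exists_nmem 𝒜 (s : Set A) hs' x
    have h : (1 : ℤ) = 0 + ((1 : ℕ) : ℤ) := by norm_num
    obtain ⟨s', hs''⟩ := Groth.Agent.Helper13.GenLoc.exists_tensorPow_one (Twist.twist 𝒜 1)
      (secHom 𝒜 (hs1 f hf) h)
    have hgl := genLocus_secHom_eq 𝒜 (s : Set A) (fun f hf => hs1 f hf) hs' (hs1 f hf) h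
    refine ⟨0, s', ?_, ?_⟩
    · rw [hs'', hgl]
      exact hfx
    · rw [hs'', hgl]
      exact Proj.isAffineOpen_basicOpen 𝒜 _ (hs1 f hf) one_pos

end Groth.Agent.Helper28.TwistMul
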