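import Mathlib
import Groth.Prelude.Def_Twist2
import Groth.Prelude.Def_Coh
import Groth.Prelude.Def_Pic
import Groth.Prelude.Def_ProjUP
import Groth.Agent.Lib.Helper28.TwistTensor
import Groth.Agent.Lib.Helper13.Ample

set_option autoImplicit false
universe u
open CategoryTheory AlgebraicGeometry Opposite TopologicalSpace TopCat

namespace Groth.Agent.Helper28.TwistMul

open Groth.Agent.Helper13 Groth.Agent.Helper13.QCoh Groth.Agent.Helper13.FinType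

variable {R A : Type u} [CommRing R] [CommRing A] [Algebra R A] (𝒜 : ℕ → Submodule R A)
  [GradedAlgebra 𝒜]

open Twist

/-- the global section of `O(e)` named by `secHom g` is `g/1`. -/
theorem secHom_app_top_one {e : ℕ} {g : A} (hg : g ∈ 𝒜 e) (h : (e : ℤ) = 0 + (e : ℤ)) :
    ((secHom 𝒜 hg h).app ⊤ (LocFree.toO ⊤ 1) : sectN (𝒜 := 𝒜) (e : ℤ) (op ⊤)) =
      globalOf 𝒜 ⟨g, hg⟩ := by
  apply Subtype.ext
  funext x
  apply Subtype.ext
  have h1 := secHom_app_val 𝒜 hg h ⊤ (LocFree.toO ⊤ 1) x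
  refine h1.trans ?_
  change algebraMap A (Loc 𝒜 x.1) g * (1 : A0 𝒜 x.1).val = Localization.mk g ⟨1, _⟩
  rw [HomogeneousLocalization.val_one, mul_one, ← Localization.mk_one_eq_algebraMap]
  rfl

/-- when `Proj` is covered by the `D_+(g)`, `deg g = 1`, `O(n)` is generated by the global sections
`b/1`, `b ∈ S_n`. -/
theorem generatedBy_globalOf (hcov : ∀ x : Proj 𝒜, ∃ g ∈ 𝒜 1, g ∉ x.asHomogeneousIdeal) (n : ℕ) :
    ProjUP.GeneratedBy (Twist.twist 𝒜 (n : ℤ))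
      (fun b : 𝒜 n => (Twist.globalOf 𝒜 b : ProjUP.Γm (Twist.twist 𝒜 (n : ℤ)))) := by
  intro x
  obtain ⟨g, hg, hgx⟩ := hcov x
  have hb : g ^ n ∈ 𝒜 n := by simpa using SetLike.pow_mem_graded n hg
  have h : (n : ℤ) = 0 + (n : ℤ) := (zero_add _).symm
  have hx : x ∈ CohB1.genLocus _ (secHom 𝒜 hb h) :=
    le_genLocus_secHom 𝒜 hb h (fun hmem => hgx (x.isPrime.mem_of_pow_mem _ hmem))
  have hgen := GenLoc.isGen_of_mem_genLocus _ _ hx
  rw [eq_top_iff]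
  rintro m -
  obtain ⟨r, rfl⟩ := hgen.2 m
  refine Submodule.smul_mem _ r (Submodule.subset_span ⟨⟨g ^ n, hb⟩, ?_⟩)
  exact congrArg (fun t => (Twist.twist 𝒜 (n : ℤ)).presheaf.germ ⊤ x trivial t)
    (secHom_app_top_one 𝒜 hb h).symm

theorem genLocus_secHom_eq' {e : ℕ}
    (hcov : ∀ x : Proj 𝒜, ∃ k ∈ 𝒜 e, k ∉ x.asHomogeneousIdeal) {g : A} (hg : g ∈ 𝒜 e)
    {m : ℤ} (h : m = 0 + e) :
    CohB1.genLocus _ (secHom 𝒜 hg h) = Proj.basicOpen 𝒜 g := by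
  apply le_antisymm
  · intro x hx
    change g ∉ x.asHomogeneousIdeal
    intro hgx
    obtain ⟨k, hk, hkx⟩ := hcov x
    exact hkx (mem_of_mem_genLocus 𝒜 hg h hk x hx hgx)
  · exact le_genLocus_secHom 𝒜 hg h

/-- `O(1)` is ample on a quasi-compact `Proj` covered by the `D_+(g)`, `deg g = 1`. -/
theorem twist_one_isAmple' (hcov : ∀ x : Proj 𝒜, ∃ g ∈ 𝒜 1, g ∉ x.asHomogeneousIdeal)
    [CompactSpace (Proj 𝒜)] : CohB1.IsAmple (Twist.twist 𝒜 1) := by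
  refine ⟨(twist_all_of_degree_one 𝒜 hcov).1 1, inferInstance, fun x => ?_⟩
  obtain ⟨f, hf, hfx⟩ := hcov x
  have h : (1 : ℤ) = 0 + ((1 : ℕ) : ℤ) := by norm_num
  obtain ⟨s', hs''⟩ := GenLoc.exists_tensorPow_one (Twist.twist 𝒜 1) (secHom 𝒜 hf h)
  have hgl := genLocus_secHom_eq' 𝒜 hcov hf h
  refine ⟨0, s', ?_, ?_⟩
  · rw [hs'', hgl]
    exact hfx
  · rw [hs'', hgl]
    exact Proj.isAffineOpen_basicOpen 𝒜 _ hf one_pos

/-- `O(n)`, `n ≥ 1`, is ample on a quasi-compact `Proj` covered by the `D_+(g)`, `deg g = 1`. -/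
theorem twist_isAmple_of_degree_one (hcov : ∀ x : Proj 𝒜, ∃ g ∈ 𝒜 1, g ∉ x.asHomogeneousIdeal)
    [CompactSpace (Proj 𝒜)] (n : ℕ) (hn : 0 < n) : CohB1.IsAmple (Twist.twist 𝒜 (n : ℤ)) := by
  obtain ⟨e⟩ := (twist_all_of_degree_one 𝒜 hcov).2.2 n
  exact Ample.isAmple_of_iso e.symm (Ample.isAmple_tensorPow _ (twist_one_isAmple' 𝒜 hcov) n hn)

end Groth.Agent.Helper28.TwistMul
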