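import Mathlib
import Groth.Prelude.Def_ProjUP
import Groth.Agent.Lib.Helper13.PbInv
import Groth.Agent.Lib.Helper13.PbGen
import Groth.Agent.Lib.Helper13.GenLocusQcqs

/-!
# Pulled back sections and the locus where they generate (helper28)
-/

set_option autoImplicit false
universe u
open CategoryTheory CategoryTheory.Limits AlgebraicGeometry Opposite TopologicalSpace
open Groth.Agent.Helper13

noncomputable section

namespace Groth.Agent.Helper28.PullSecBridge

variable {X Y : Scheme.{u}}

lemma pullSec_eq (r : X ⟶ Y) (M : Y.Modules) (σ : Γ(M, ⊤)) :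
    ProjUP.pullSec r M σ = PbGen.ηsec r M ⊤ σ := rfl

/-- the section named by the pullback of a morphism `O ⟶ M` is the pullback of the section. -/
lemma sec_pullback (r : X ⟶ Y) (M : Y.Modules) (s : Coh.structureModule Y ⟶ M) :
    GenLoc.sec ((Scheme.Modules.pullback r).obj M)
      ((PbUnit.pullbackUnitIso r).symm.hom ≫ (Scheme.Modules.pullback r).map s) =
      PbGen.ηsec r M ⊤ (GenLoc.sec M s) := by
  set t := (PbUnit.pullbackUnitIso r).symm.hom ≫ (Scheme.Modules.pullback r).map s with ht
  have h1 : PbUnit.pullbackUnitHom r ≫ t = (Scheme.Modules.pullback r).map s := by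
    rw [ht, ← Category.assoc]
    have : PbUnit.pullbackUnitHom r ≫ (PbUnit.pullbackUnitIso r).symm.hom = 𝟙 _ :=
      (PbUnit.pullbackUnitIso r).hom_inv_id
    rw [this, Category.id_comp]
  have h2 := congrArg ((Scheme.Modules.pullbackPushforwardAdjunction r).homEquiv _ _) h1
  rw [Adjunction.homEquiv_naturality_right] at h2
  have h3 : (Scheme.Modules.pullbackPushforwardAdjunction r).homEquiv _ _
      (PbUnit.pullbackUnitHom r) = SheafOfModules.unitToPushforwardObjUnit r.toRingCatSheafHom :=
    SheafOfModules.pullbackPushforwardAdjunction_homEquiv_pullbackObjUnitToUnit _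
  have h4 : (Scheme.Modules.pullbackPushforwardAdjunction r).homEquiv _ _
      ((Scheme.Modules.pullback r).map s) =
      s ≫ (Scheme.Modules.pullbackPushforwardAdjunction r).unit.app M := by
    rw [Adjunction.homEquiv_unit]
    exact ((Scheme.Modules.pullbackPushforwardAdjunction r).unit.naturality s).symm
  rw [h3, h4] at h2
  have h5 := congrArg (fun φ : Coh.structureModule Y ⟶
    (Scheme.Modules.pushforward r).obj ((Scheme.Modules.pullback r).obj M) =>
      (φ.val.app (op ⊤)).hom (1 : Y.ringCatSheaf.obj.obj (op ⊤))) h2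
  refine Eq.trans ?_ h5
  show (t.val.app (op ⊤)).hom _ = (t.val.app (op ⊤)).hom _
  congr 1
  exact (map_one (r.toRingCatSheafHom.hom.app (op ⊤)).hom).symm

open Groth.Agent.Helper13.Inv in
/-- `r⁻¹(Y_s)` is the locus where the pulled back section generates. -/
theorem preimage_genLocus_iff (r : X ⟶ Y) (M : Y.Modules) (hM : PicF.IsInvertible M)
    (s : Coh.structureModule Y ⟶ M) (x : X) :
    r x ∈ CohB1.genLocus M s ↔
      IsGen ((Scheme.Modules.pullback r).obj M) (PbGen.ηsec r M ⊤ (GenLoc.sec M s)) x trivial := by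
  have h1 := PbInv.genLocus_pullback r M hM s (PbUnit.pullbackUnitIso r).symm
  have h2 : r x ∈ CohB1.genLocus M s ↔ x ∈ r ⁻¹ᵁ CohB1.genLocus M s := Iff.rfl
  rw [h2, ← h1, GenLoc.mem_genLocus_iff_isGen _ _ (PbInv.isInvertible_pullback r M hM) x,
    sec_pullback]
  exact Iff.rfl

open Groth.Agent.Helper13.Inv Groth.Agent.Helper13.QCoh in
/-- isomorphisms transport generating sections. -/
theorem isGen_iso_iff {N N' : X.Modules} (τ : N ≅ N') {U : X.Opens} (n : Γ(N, U)) (x : X)
    (hx : x ∈ U) : IsGen N' (τ.hom.app U n) x hx ↔ IsGen N n x hx := by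
  unfold IsGen
  have key : (fun a : X.presheaf.stalk x => a • N'.presheaf.germ U x hx (τ.hom.app U n)) =
      (stalkMap τ.hom x) ∘ (fun a : X.presheaf.stalk x => a • N.presheaf.germ U x hx n) := by
    funext a
    rw [Function.comp_apply, stalkMap_smul, stalkMap_germ]
  rw [key]
  exact Function.Bijective.of_comp_iff' (stalkMap_bijective_of_isIso τ.hom x) _

open Groth.Agent.Helper13.Inv in
/-- cancellation of scalars against a generating section. -/
theorem smul_cancel_of_isGen (L : X.Modules) {W : X.Opens} (e : Γ(L, W))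
    (he : ∀ (y : X) (hy : y ∈ W), IsGen L e y hy) (a b : Γ(X, W)) (h : a • e = b • e) : a = b := by
  refine TopCat.Presheaf.section_ext X.sheaf W a b (fun y hy => ?_)
  have h1 := congrArg (L.presheaf.germ W y hy) h
  rw [Tensor.germ_smul, Tensor.germ_smul] at h1
  exact (he y hy).1 h1

end Groth.Agent.Helper28.PullSecBridge
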