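import Mathlib
import Groth.Agent.Lib.Helper28.PullSecBridge
import Groth.Agent.Lib.Helper18.AffHom

/-!
# Coefficients against a generating section, gluing of sections over a cover (helper28)
-/

set_option autoImplicit false
universe u
open CategoryTheory CategoryTheory.Limits AlgebraicGeometry Opposite TopologicalSpace
open Groth.Agent.Helper13 Groth.Agent.Helper13.Inv
open Groth.Agent.Helper18.AffHom (res res_smul res_res app_res res_self)

noncomputable section

namespace Groth.Agent.Helper28.GenCoef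

variable {X : Scheme.{u}}

/-- gluing of sections of a module over a cover. -/
theorem exists_glue (F : X.Modules) {κ : Type u} (W : X.Opens) (V : κ → X.Opens)
    (hV : ∀ k, V k ≤ W) (hcov : W ≤ ⨆ k, V k) (s : ∀ k, Γ(F, V k))
    (hs : ∀ k k', res F (inf_le_left : V k ⊓ V k' ≤ V k) (s k) =
      res F (inf_le_right : V k ⊓ V k' ≤ V k') (s k')) :
    ∃ t : Γ(F, W), ∀ k, res F (hV k) t = s k := by
  obtain ⟨t, ht, -⟩ := TopCat.Sheaf.existsUnique_gluing'
    (⟨F.presheaf, F.isSheaf⟩ : TopCat.Sheaf Ab X) V W (fun k => homOfLE (hV k)) hcov s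
    (fun k k' => hs k k')
  exact ⟨t, ht⟩

/-- sections agreeing on a cover agree. -/
theorem sec_ext_cover (F : X.Modules) {κ : Type u} (W : X.Opens) (V : κ → X.Opens)
    (hV : ∀ k, V k ≤ W) (hcov : W ≤ ⨆ k, V k) (s t : Γ(F, W))
    (h : ∀ k, res F (hV k) s = res F (hV k) t) : s = t :=
  TopCat.Sheaf.eq_of_locally_eq' (⟨F.presheaf, F.isSheaf⟩ : TopCat.Sheaf Ab X) V W
    (fun k => homOfLE (hV k)) hcov s t h

/-- gluing of functions over a cover. -/
theorem exists_glue_fun {κ : Type u} (W : X.Opens) (V : κ → X.Opens)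
    (hV : ∀ k, V k ≤ W) (hcov : W ≤ ⨆ k, V k) (s : ∀ k, Γ(X, V k))
    (hs : ∀ k k', X.presheaf.map (homOfLE (inf_le_left : V k ⊓ V k' ≤ V k)).op (s k) =
      X.presheaf.map (homOfLE (inf_le_right : V k ⊓ V k' ≤ V k')).op (s k')) :
    ∃ t : Γ(X, W), ∀ k, X.presheaf.map (homOfLE (hV k)).op t = s k := by
  obtain ⟨t, ht, -⟩ := TopCat.Sheaf.existsUnique_gluing' X.sheaf V W (fun k => homOfLE (hV k))
    hcov s (fun k k' => hs k k')
  exact ⟨t, ht⟩

lemma isGen_res' (L : X.Modules) {U V : X.Opens} (h : V ≤ U) (e : Γ(L, U))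
    (he : ∀ (y : X) (hy : y ∈ U), IsGen L e y hy) (y : X) (hy : y ∈ V) :
    IsGen L (res L h e) y hy :=
  (isGen_res L (homOfLE h) e y hy).2 (he y (h hy))

/-- if `e` generates `L` freely at every point of `U`, then `c ↦ c • e` is bijective. -/
theorem smul_bijective_of_isGen (L : X.Modules) {U : X.Opens} (e : Γ(L, U))
    (he : ∀ (y : X) (hy : y ∈ U), IsGen L e y hy) :
    Function.Bijective (fun c : Γ(X, U) => c • e) := by
  refine ⟨fun a b h => PullSecBridge.smul_cancel_of_isGen L e he a b h, fun t => ?_⟩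
  have hex : ∀ y : U, ∃ (W : X.Opens) (_ : y.1 ∈ W) (hWU : W ≤ U) (a : Γ(X, W)),
      res L hWU t = a • res L hWU e := by
    intro y
    obtain ⟨W, hyW, hWU, hWV, a, ha⟩ :=
      GenLoc.exists_eq_smul_of_isGen L e y.1 y.2 (he y.1 y.2) (V := U) y.2 t
    exact ⟨W, hyW, hWU, a, ha⟩
  choose W hyW hWU a ha using hex
  have hcov : U ≤ ⨆ y : U, W y := fun y hy => Opens.mem_iSup.2 ⟨⟨y, hy⟩, hyW ⟨y, hy⟩⟩
  obtain ⟨c, hc⟩ := exists_glue_fun U W hWU hcov a (by
    intro y y'
    apply PullSecBridge.smul_cancel_of_isGen L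
      (res L ((inf_le_left : W y ⊓ W y' ≤ W y).trans (hWU y)) e)
      (isGen_res' L _ e he)
    have h1 := congrArg (res L (inf_le_left : W y ⊓ W y' ≤ W y)) (ha y)
    have h2 := congrArg (res L (inf_le_right : W y ⊓ W y' ≤ W y')) (ha y')
    rw [res_smul, res_res, res_res] at h1 h2
    rw [← h1, ← h2])
  refine ⟨c, ?_⟩
  apply sec_ext_cover L U W hWU hcov
  intro y
  change res L (hWU y) (c • e) = res L (hWU y) t
  rw [res_smul, hc y, ha y]

/-- the coefficient of `t` against the generator `e`. -/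
def coef (L : X.Modules) {U : X.Opens} (e : Γ(L, U))
    (he : ∀ (y : X) (hy : y ∈ U), IsGen L e y hy) (t : Γ(L, U)) : Γ(X, U) :=
  ((smul_bijective_of_isGen L e he).2 t).choose

lemma coef_smul (L : X.Modules) {U : X.Opens} (e : Γ(L, U))
    (he : ∀ (y : X) (hy : y ∈ U), IsGen L e y hy) (t : Γ(L, U)) : coef L e he t • e = t :=
  ((smul_bijective_of_isGen L e he).2 t).choose_spec

lemma coef_eq (L : X.Modules) {U : X.Opens} (e : Γ(L, U))
    (he : ∀ (y : X) (hy : y ∈ U), IsGen L e y hy) (t : Γ(L, U)) (c : Γ(X, U)) (h : c • e = t) :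
    coef L e he t = c :=
  PullSecBridge.smul_cancel_of_isGen L e he _ _ ((coef_smul L e he t).trans h.symm)

end Groth.Agent.Helper28.GenCoef
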