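import Mathlib
import Groth.Prelude.Def_Twist2
import Groth.Prelude.Def_Coh
import Groth.Agent.Lib.Helper28.TwistAmple

/-!
# Fractions `g/f` of degree one elements on `Proj`, generators of `Away`, and charts (helper28)
-/

set_option autoImplicit false
universe u
open CategoryTheory CategoryTheory.Limits AlgebraicGeometry Opposite TopologicalSpace
open HomogeneousLocalization

noncomputable section

namespace Groth.Agent.Helper28.ProjFrac

variable {A S : Type u} [CommRing A] [CommRing S] [Algebra A S] {𝒮 : ℕ → Submodule A S}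
  [GradedAlgebra 𝒮]

section mk1

variable {f : S} (hf : f ∈ 𝒮 1)

/-- `a / f^k` for `a` of degree `k` and `f` of degree one. -/
def mk1 (k : ℕ) (a : S) (ha : a ∈ 𝒮 k) : Away 𝒮 f :=
  Away.mk 𝒮 hf k a (by rwa [smul_eq_mul, mul_one])

lemma val_mk1 (k : ℕ) (a : S) (ha : a ∈ 𝒮 k) :
    (mk1 hf k a ha).val = Localization.mk a ⟨f ^ k, by use k⟩ := rfl

lemma mk1_congr {k : ℕ} {a b : S} (h : a = b) (ha : a ∈ 𝒮 k) (hb : b ∈ 𝒮 k) :
    mk1 hf k a ha = mk1 hf k b hb := by
  subst h
  rfl

lemma mk1_mul {i j : ℕ} {a b : S} (ha : a ∈ 𝒮 i) (hb : b ∈ 𝒮 j) :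
    mk1 hf (i + j) (a * b) (SetLike.mul_mem_graded ha hb) = mk1 hf i a ha * mk1 hf j b hb := by
  apply HomogeneousLocalization.val_injective
  rw [HomogeneousLocalization.val_mul, val_mk1, val_mk1, val_mk1, Localization.mk_mul]
  congr 1
  exact Subtype.ext (pow_add f i j)

lemma mk1_add {k : ℕ} {a b : S} (ha : a ∈ 𝒮 k) (hb : b ∈ 𝒮 k) :
    mk1 hf k (a + b) (add_mem ha hb) = mk1 hf k a ha + mk1 hf k b hb := by
  apply HomogeneousLocalization.val_injective
  rw [HomogeneousLocalization.val_add, val_mk1, val_mk1, val_mk1]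
  exact (Localization.add_mk_self a _ b).symm

lemma mk1_zero (k : ℕ) : mk1 hf k (0 : S) (zero_mem _) = 0 := by
  apply HomogeneousLocalization.val_injective
  rw [HomogeneousLocalization.val_zero, val_mk1]
  exact Localization.mk_zero _

lemma mk1_one : mk1 hf 0 (1 : S) SetLike.GradedOne.one_mem = 1 := by
  apply HomogeneousLocalization.val_injective
  rw [HomogeneousLocalization.val_one, val_mk1, ← Localization.mk_one, Localization.mk_eq_mk_iff,
    Localization.r_iff_exists]
  exact ⟨1, by simp⟩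

lemma mk1_self : mk1 hf 1 f hf = 1 := by
  apply HomogeneousLocalization.val_injective
  rw [HomogeneousLocalization.val_one, val_mk1, ← Localization.mk_one, Localization.mk_eq_mk_iff,
    Localization.r_iff_exists]
  exact ⟨1, by simp⟩

variable (𝒮) in
/-- the homogeneous component. -/
def pr (k : ℕ) (a : S) : S := ((DirectSum.decompose 𝒮 a) k : S)

lemma pr_mem (k : ℕ) (a : S) : pr 𝒮 k a ∈ 𝒮 k := SetLike.coe_mem _

lemma pr_add (k : ℕ) (a b : S) : pr 𝒮 k (a + b) = pr 𝒮 k a + pr 𝒮 k b := by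
  unfold pr
  rw [DirectSum.decompose_add, DirectSum.add_apply, Submodule.coe_add]

lemma pr_zero (k : ℕ) : pr 𝒮 k 0 = 0 := by
  unfold pr
  rw [DirectSum.decompose_zero, DirectSum.zero_apply, Submodule.coe_zero]

lemma pr_smul (k : ℕ) (c : A) (a : S) : pr 𝒮 k (c • a) = c • pr 𝒮 k a := by
  unfold pr
  rw [DirectSum.decompose_smul, DirectSum.smul_apply, Submodule.coe_smul]

lemma pr_of_mem {k : ℕ} {a : S} (ha : a ∈ 𝒮 k) : pr 𝒮 k a = a :=
  DirectSum.decompose_of_mem_same 𝒮 ha

lemma pr_of_mem_ne {k n : ℕ} {a : S} (ha : a ∈ 𝒮 n) (h : n ≠ k) : pr 𝒮 k a = 0 :=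
  DirectSum.decompose_of_mem_ne 𝒮 ha h

/-- **generators of `Away`**: a subring of `S_(f)` containing the image of `A` and the `g_i/f`
for a family of degree one algebra generators `g_i` is everything. -/
theorem subring_eq_top {I : Type*} (g : I → S) (hg : ∀ i, g i ∈ 𝒮 1)
    (hgen : Algebra.adjoin A (Set.range g) = ⊤) (E : Subring (Away 𝒮 f))
    (hA : ∀ c : A, mk1 hf 0 (algebraMap A S c) (SetLike.algebraMap_mem_graded 𝒮 c) ∈ E)
    (hE : ∀ i, mk1 hf 1 (g i) (hg i) ∈ E) : E = ⊤ := by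
  classical
  have hQ : ∀ w ∈ Submonoid.closure (Set.range g),
      ∃ (n : ℕ) (hw : w ∈ 𝒮 n), mk1 hf n w hw ∈ E := by
    intro w hw
    induction hw using Submonoid.closure_induction with
    | mem x hx =>
      obtain ⟨i, rfl⟩ := hx
      exact ⟨1, hg i, hE i⟩
    | one =>
      refine ⟨0, SetLike.GradedOne.one_mem, ?_⟩
      rw [mk1_one]
      exact E.one_mem
    | mul x y _ _ hx hy =>
      obtain ⟨n, hxn, hxE⟩ := hx
      obtain ⟨n', hyn, hyE⟩ := hy
      refine ⟨n + n', SetLike.mul_mem_graded hxn hyn, ?_⟩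
      rw [mk1_mul hf hxn hyn]
      exact E.mul_mem hxE hyE
  have hR : ∀ a : S, ∀ k : ℕ, mk1 hf k (pr 𝒮 k a) (pr_mem k a) ∈ E := by
    intro a
    have ha : a ∈ Submodule.span A (Submonoid.closure (Set.range g) : Set S) := by
      rw [← Algebra.adjoin_eq_span, hgen]
      trivial
    induction ha using Submodule.span_induction with
    | mem w hw =>
      intro k
      obtain ⟨n, hwn, hwE⟩ := hQ w hw
      by_cases h : n = k
      · subst h
        rw [mk1_congr hf (pr_of_mem hwn) (pr_mem n w) hwn]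
        exact hwE
      · rw [mk1_congr hf (pr_of_mem_ne hwn h) (pr_mem k w) (zero_mem _), mk1_zero]
        exact E.zero_mem
    | zero =>
      intro k
      rw [mk1_congr hf (pr_zero k) (pr_mem k 0) (zero_mem _), mk1_zero]
      exact E.zero_mem
    | add x y _ _ hx hy =>
      intro k
      rw [mk1_congr hf (pr_add k x y) (pr_mem k (x + y)) (add_mem (pr_mem k x) (pr_mem k y)),
        mk1_add hf (pr_mem k x) (pr_mem k y)]
      exact E.add_mem (hx k) (hy k)
    | smul c x _ hx =>
      intro k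
      have h1 : pr 𝒮 k (c • x) = algebraMap A S c * pr 𝒮 k x := by
        rw [pr_smul, Algebra.smul_def]
      have h2 : algebraMap A S c * pr 𝒮 k x ∈ 𝒮 (0 + k) :=
        SetLike.mul_mem_graded (SetLike.algebraMap_mem_graded 𝒮 c) (pr_mem k x)
      have h3 : mk1 hf k (pr 𝒮 k (c • x)) (pr_mem k (c • x)) =
          mk1 hf 0 (algebraMap A S c) (SetLike.algebraMap_mem_graded 𝒮 c) *
            mk1 hf k (pr 𝒮 k x) (pr_mem k x) := by
        rw [← mk1_mul hf (SetLike.algebraMap_mem_graded 𝒮 c) (pr_mem k x)]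
        apply HomogeneousLocalization.val_injective
        rw [val_mk1, val_mk1]
        congr 1
        exact Subtype.ext (by rw [zero_add])
      rw [h3]
      exact E.mul_mem (hA c) (hx k)
  rw [eq_top_iff]
  intro z _
  obtain ⟨n, a, ha, rfl⟩ := Away.mk_surjective 𝒮 hf z
  have ha' : a ∈ 𝒮 n := by rwa [smul_eq_mul, mul_one] at ha
  have h := hR a n
  rw [mk1_congr hf (pr_of_mem ha') (pr_mem n a) ha'] at h
  exact h

end mk1

end Groth.Agent.Helper28.ProjFrac

end
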