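import Mathlib
import Groth.Agent.Lib.Helper28.ProjFrac

/-!
# Charts of `Proj`: morphisms into `D₊(f)` (helper28)
-/

set_option autoImplicit false
universe u
open CategoryTheory CategoryTheory.Limits AlgebraicGeometry Opposite TopologicalSpace
open HomogeneousLocalization

noncomputable section

namespace Groth.Agent.Helper28.ProjChart

variable {A S : Type u} [CommRing A] [CommRing S] [Algebra A S] (𝒮 : ℕ → Submodule A S)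
  [GradedAlgebra 𝒮]

variable {f : S} {d : ℕ} (hf : f ∈ 𝒮 d) (hd : 0 < d)

/-- the morphism to `Proj` attached to a ring map out of `S_(f)`. -/
def chartMap {Y : Scheme.{u}} (ρ : Away 𝒮 f →+* Γ(Y, ⊤)) : Y ⟶ Proj 𝒮 :=
  Y.toSpecΓ ≫ Spec.map (CommRingCat.ofHom ρ) ≫ Proj.awayι 𝒮 f hf hd

lemma chartMap_preimage {Y : Scheme.{u}} (ρ : Away 𝒮 f →+* Γ(Y, ⊤)) :
    chartMap 𝒮 hf hd ρ ⁻¹ᵁ Proj.basicOpen 𝒮 f = ⊤ := by
  rw [eq_top_iff]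
  intro x _
  change (chartMap 𝒮 hf hd ρ) x ∈ Proj.basicOpen 𝒮 f
  rw [← Proj.opensRange_awayι 𝒮 f hf hd]
  exact ⟨(Y.toSpecΓ ≫ Spec.map (CommRingCat.ofHom ρ)) x, rfl⟩

/-- the ring map `S_(f) → Γ(Y, ⊤)` of a morphism landing in `D₊(f)`. -/
def θ {Y : Scheme.{u}} (t : Y ⟶ Proj 𝒮) (h : t ⁻¹ᵁ Proj.basicOpen 𝒮 f = ⊤) :
    Away 𝒮 f →+* Γ(Y, ⊤) :=
  (Proj.awayToSection 𝒮 f ≫ t.appLE (Proj.basicOpen 𝒮 f) ⊤ (by rw [h])).hom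

lemma eq_chartMap_aux {Y : Scheme.{u}} (t' : Y ⟶ (Proj.basicOpen 𝒮 f).toScheme)
    (h : (t' ≫ (Proj.basicOpen 𝒮 f).ι) ⁻¹ᵁ Proj.basicOpen 𝒮 f = ⊤) :
    t' ≫ (Proj.basicOpen 𝒮 f).ι = chartMap 𝒮 hf hd (θ 𝒮 (t' ≫ (Proj.basicOpen 𝒮 f).ι) h) := by
  unfold chartMap
  rw [← Proj.basicOpenIsoSpec_inv_ι 𝒮 f hf hd]
  simp only [← Category.assoc]
  congr 1
  rw [Iso.eq_comp_inv, Proj.basicOpenIsoSpec_hom, Proj.basicOpenToSpec, Scheme.Opens.toSpecΓ]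
  simp only [Category.assoc]
  rw [← Category.assoc, Scheme.toSpecΓ_naturality, Category.assoc, ← Spec.map_comp,
    ← Spec.map_comp]
  congr 2
  unfold θ
  rw [CommRingCat.ofHom_hom]
  simp only [Category.assoc]
  congr 1
  rw [Scheme.Hom.comp_appLE]
  have e1 : (Proj.basicOpen 𝒮 f).ι.app (Proj.basicOpen 𝒮 f) = (Proj.basicOpen 𝒮 f).topIso.inv ≫
      (Proj.basicOpen 𝒮 f).toScheme.presheaf.map (homOfLE le_top).op := by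
    rw [Scheme.Opens.ι_app, Scheme.Opens.topIso_inv, Scheme.Opens.toScheme_presheaf_map]
    exact (congrArg ((Proj 𝒮).presheaf.map) (Subsingleton.elim _ _)).trans
      ((Proj 𝒮).presheaf.map_comp _ _)
  rw [e1, Category.assoc, Scheme.Hom.map_appLE]
  simp [Scheme.Hom.appLE]

lemma eq_chartMap {Y : Scheme.{u}} (t : Y ⟶ Proj 𝒮) (h : t ⁻¹ᵁ Proj.basicOpen 𝒮 f = ⊤) :
    t = chartMap 𝒮 hf hd (θ 𝒮 t h) := by
  have hr : Set.range t ⊆ Set.range (Proj.basicOpen 𝒮 f).ι := by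
    rw [Scheme.Opens.range_ι]
    rintro _ ⟨y, rfl⟩
    have hy : y ∈ t ⁻¹ᵁ Proj.basicOpen 𝒮 f := by rw [h]; trivial
    exact hy
  have key : ∀ (t₀ : Y ⟶ Proj 𝒮),
      IsOpenImmersion.lift (Proj.basicOpen 𝒮 f).ι t hr ≫ (Proj.basicOpen 𝒮 f).ι = t₀ →
      ∀ h₀ : t₀ ⁻¹ᵁ Proj.basicOpen 𝒮 f = ⊤, t₀ = chartMap 𝒮 hf hd (θ 𝒮 t₀ h₀) := by
    rintro _ rfl h₀
    exact eq_chartMap_aux 𝒮 hf hd _ h₀
  exact key t (IsOpenImmersion.lift_fac _ _ _) h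

include hf hd in
/-- two morphisms landing in `D₊(f)` with the same ring map agree. -/
lemma ext_of_θ {Y : Scheme.{u}} (t₁ t₂ : Y ⟶ Proj 𝒮) (h₁ : t₁ ⁻¹ᵁ Proj.basicOpen 𝒮 f = ⊤)
    (h₂ : t₂ ⁻¹ᵁ Proj.basicOpen 𝒮 f = ⊤) (hθ : θ 𝒮 t₁ h₁ = θ 𝒮 t₂ h₂) : t₁ = t₂ := by
  rw [eq_chartMap 𝒮 hf hd t₁ h₁, eq_chartMap 𝒮 hf hd t₂ h₂, hθ]

lemma toSpecΓ_SpecMap_injective {Y : Scheme.{u}} {B : CommRingCat.{u}} (φ₁ φ₂ : B ⟶ Γ(Y, ⊤))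
    (h : Y.toSpecΓ ≫ Spec.map φ₁ = Y.toSpecΓ ≫ Spec.map φ₂) : φ₁ = φ₂ := by
  have h2 := congrArg Scheme.Hom.appTop h
  rw [Scheme.Hom.comp_appTop, Scheme.Hom.comp_appTop, Scheme.toSpecΓ_appTop,
    Scheme.ΓSpecIso_naturality, Scheme.ΓSpecIso_naturality] at h2
  exact (cancel_epi _).1 h2

lemma chartMap_injective {Y : Scheme.{u}} (ρ₁ ρ₂ : Away 𝒮 f →+* Γ(Y, ⊤))
    (h : chartMap 𝒮 hf hd ρ₁ = chartMap 𝒮 hf hd ρ₂) : ρ₁ = ρ₂ := by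
  unfold chartMap at h
  simp only [← Category.assoc] at h
  rw [cancel_mono] at h
  have h2 := toSpecΓ_SpecMap_injective _ _ h
  exact congrArg CommRingCat.Hom.hom h2

lemma θ_chartMap {Y : Scheme.{u}} (ρ : Away 𝒮 f →+* Γ(Y, ⊤)) :
    θ 𝒮 (chartMap 𝒮 hf hd ρ) (chartMap_preimage 𝒮 hf hd ρ) = ρ :=
  (chartMap_injective 𝒮 hf hd _ _ (eq_chartMap 𝒮 hf hd _ (chartMap_preimage 𝒮 hf hd ρ))).symm

/-- the ring map of `W.ι ≫ r` in terms of `r.appLE`. -/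
lemma θ_ι_comp {X : Scheme.{u}} (r : X ⟶ Proj 𝒮) (W : X.Opens)
    (hW : W ≤ r ⁻¹ᵁ Proj.basicOpen 𝒮 f) (h : (W.ι ≫ r) ⁻¹ᵁ Proj.basicOpen 𝒮 f = ⊤)
    (a : Away 𝒮 f) :
    θ 𝒮 (W.ι ≫ r) h a =
      W.topIso.inv.hom ((r.appLE (Proj.basicOpen 𝒮 f) W hW).hom
        ((Proj.awayToSection 𝒮 f).hom a)) := by
  have key : (W.ι ≫ r).appLE (Proj.basicOpen 𝒮 f) ⊤ (by rw [h]) =
      r.appLE (Proj.basicOpen 𝒮 f) W hW ≫ W.topIso.inv := by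
    rw [Scheme.Hom.comp_appLE, Scheme.Hom.appLE, Scheme.Hom.appLE, Scheme.Opens.ι_app,
      Scheme.Opens.topIso_inv, Scheme.Opens.toScheme_presheaf_map, Category.assoc]
    congr 1
    exact ((X.presheaf.map_comp _ _).symm.trans
      (congrArg X.presheaf.map (Subsingleton.elim _ _))).trans (X.presheaf.map_comp _ _)
  unfold θ
  rw [key]
  rfl

lemma preimage_ι_comp {X : Scheme.{u}} (r : X ⟶ Proj 𝒮) (W : X.Opens)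
    (hW : W ≤ r ⁻¹ᵁ Proj.basicOpen 𝒮 f) : (W.ι ≫ r) ⁻¹ᵁ Proj.basicOpen 𝒮 f = ⊤ := by
  rw [eq_top_iff]
  intro x _
  exact hW x.2

include hf hd in
/-- two morphisms to `Proj` agreeing (as ring maps out of `S_(f)`) on an open mapped to `D₊(f)`
by both agree on that open. -/
lemma ι_comp_ext {X : Scheme.{u}} (r r' : X ⟶ Proj 𝒮) (W : X.Opens)
    (hW : W ≤ r ⁻¹ᵁ Proj.basicOpen 𝒮 f) (hW' : W ≤ r' ⁻¹ᵁ Proj.basicOpen 𝒮 f)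
    (H : ∀ a : Away 𝒮 f, (r.appLE (Proj.basicOpen 𝒮 f) W hW).hom ((Proj.awayToSection 𝒮 f).hom a) =
      (r'.appLE (Proj.basicOpen 𝒮 f) W hW').hom ((Proj.awayToSection 𝒮 f).hom a)) :
    W.ι ≫ r = W.ι ≫ r' := by
  apply ext_of_θ 𝒮 hf hd _ _ (preimage_ι_comp 𝒮 r W hW) (preimage_ι_comp 𝒮 r' W hW')
  ext a
  rw [θ_ι_comp 𝒮 r W hW, θ_ι_comp 𝒮 r' W hW', H a]

/-- the chart map composed with the structure map to `Spec S₀`. -/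
lemma chartMap_toSpecZero {Y : Scheme.{u}} (ρ : Away 𝒮 f →+* Γ(Y, ⊤)) :
    chartMap 𝒮 hf hd ρ ≫ Proj.toSpecZero 𝒮 =
      Y.toSpecΓ ≫ Spec.map (CommRingCat.ofHom (ρ.comp (fromZeroRingHom 𝒮 _))) := by
  unfold chartMap
  rw [Category.assoc, Category.assoc, Proj.awayι_toSpecZero, ← Spec.map_comp]
  rfl

end Groth.Agent.Helper28.ProjChart
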