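import Mathlib
import Groth.Agent.Lib.Helper28.ProjFrac
import Groth.Agent.Lib.Helper28.PullSecBridge
import Groth.Agent.Lib.Helper28.TwistGen

/-!
# The sections `g/f` on `D₊(f)` and the identity `g = (g/f) · f` in `O(1)` (helper28)
-/

set_option autoImplicit false
universe u
open CategoryTheory CategoryTheory.Limits AlgebraicGeometry Opposite TopologicalSpace
open HomogeneousLocalization Groth.Agent.Helper13 Groth.Agent.Helper28.ProjFrac

noncomputable section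

namespace Groth.Agent.Helper28.ProjFracSec

variable {A S : Type u} [CommRing A] [CommRing S] [Algebra A S] (𝒮 : ℕ → Submodule A S)
  [GradedAlgebra 𝒮]

open Twist

lemma smul_val {n : ℤ} (V : (Proj 𝒮).Opens) (c : Γ(Proj 𝒮, V)) (s : Γ(Twist.twist 𝒮 n, V))
    (x : V) :
    (((show sectN (𝒜 := 𝒮) n (op V) from c • s)).1 x).1 =
      ((show O (𝒜 := 𝒮) (op V) from c).1 x).val *
        ((show sectN (𝒜 := 𝒮) n (op V) from s).1 x).1 :=
  Twist.coe_smul_val n x.1 _ _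

lemma res_val {n : ℤ} {U V : (Proj 𝒮).Opens} (i : V ⟶ U) (s : Γ(Twist.twist 𝒮 n, U)) (x : V) :
    (((show sectN (𝒜 := 𝒮) n (op V) from (Twist.twist 𝒮 n).presheaf.map i.op s)).1 x).1 =
      ((show sectN (𝒜 := 𝒮) n (op U) from s).1 ⟨x.1, i.le x.2⟩).1 := rfl

lemma sec_ext {n : ℤ} {V : (Proj 𝒮).Opens} (s t : Γ(Twist.twist 𝒮 n, V))
    (h : ∀ x : V, ((show sectN (𝒜 := 𝒮) n (op V) from s).1 x).1 =
      ((show sectN (𝒜 := 𝒮) n (op V) from t).1 x).1) : s = t := by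
  apply Subtype.ext
  funext x
  apply Subtype.ext
  exact h x

variable {f : S} (hf : f ∈ 𝒮 1)

/-- `g/f` as a section of the structure sheaf over `D₊(f)`. -/
def fracD (g : S) (hg : g ∈ 𝒮 1) : Γ(Proj 𝒮, Proj.basicOpen 𝒮 f) :=
  (Proj.awayToSection 𝒮 f).hom (mk1 hf 1 g hg)

lemma awayToSection_val (a : Away 𝒮 f) (x : Proj.basicOpen 𝒮 f) :
    ((show O (𝒜 := 𝒮) (op (Proj.basicOpen 𝒮 f)) from (Proj.awayToSection 𝒮 f).hom a).1 x).val =
      IsLocalization.map (M := Submonoid.powers f)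
        (T := x.1.asHomogeneousIdeal.toIdeal.primeCompl) _
        (RingHom.id _) (Submonoid.powers_le.mpr x.2) a.val :=
  ProjectiveSpectrum.Proj.awayToSection_apply (𝒜 := 𝒮) f a x

lemma fracD_val (g : S) (hg : g ∈ 𝒮 1) (x : Proj.basicOpen 𝒮 f) :
    ((show O (𝒜 := 𝒮) (op (Proj.basicOpen 𝒮 f)) from fracD 𝒮 hf g hg).1 x).val =
      Localization.mk g ⟨f, x.2⟩ := by
  unfold fracD
  rw [awayToSection_val, val_mk1, Localization.mk_eq_mk', IsLocalization.map_mk',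
    ← Localization.mk_eq_mk']
  simp only [RingHom.id_apply]
  congr 1
  exact Subtype.ext (pow_one f)

/-- **the identity `g = (g/f) · f`** in `O(1)` over `D₊(f)`. -/
lemma globalOf_res_eq (g : S) (hg : g ∈ 𝒮 1) :
    (Twist.twist 𝒮 1).presheaf.map (homOfLE (le_top : Proj.basicOpen 𝒮 f ≤ ⊤)).op
        (Twist.globalOf 𝒮 ⟨g, hg⟩) =
      fracD 𝒮 hf g hg •
        (Twist.twist 𝒮 1).presheaf.map (homOfLE (le_top : Proj.basicOpen 𝒮 f ≤ ⊤)).op
          (Twist.globalOf 𝒮 ⟨f, hf⟩) := by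
  apply sec_ext
  intro x
  rw [smul_val, res_val, res_val, fracD_val]
  change Localization.mk g ⟨1, _⟩ = Localization.mk g ⟨f, _⟩ * Localization.mk f ⟨1, _⟩
  rw [Localization.mk_mul, Localization.mk_eq_mk_iff, Localization.r_iff_exists]
  refine ⟨1, ?_⟩
  simp only [OneMemClass.coe_one, one_mul, Submonoid.coe_mul, mul_one]
  ring

variable (hcov : ∀ x : Proj 𝒮, ∃ k ∈ 𝒮 1, k ∉ x.asHomogeneousIdeal)

include hcov in
lemma isInvertible_twist_one : PicF.IsInvertible (Twist.twist 𝒮 1) :=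
  (TwistMul.twist_all_of_degree_one 𝒮 hcov).1 1

open Groth.Agent.Helper13.Inv in
include hcov in
/-- `r⁻¹(D₊(f))` is the locus where `r^* f` generates `r^* O(1)`. -/
theorem mem_preimage_basicOpen_iff {X : Scheme.{u}} (r : X ⟶ Proj 𝒮) (x : X) :
    r x ∈ Proj.basicOpen 𝒮 f ↔
      IsGen ((Scheme.Modules.pullback r).obj (Twist.twist 𝒮 1))
        (ProjUP.pullSec r (Twist.twist 𝒮 1) (Twist.globalOf 𝒮 ⟨f, hf⟩)) x trivial := by
  have h : (1 : ℤ) = 0 + ((1 : ℕ) : ℤ) := by norm_num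
  have h1 := TwistMul.genLocus_secHom_eq' 𝒮 hcov hf h
  have h2 := PullSecBridge.preimage_genLocus_iff r (Twist.twist 𝒮 1)
    (isInvertible_twist_one 𝒮 hcov) (TwistMul.secHom 𝒮 hf h) x
  rw [h1] at h2
  have h3 : GenLoc.sec (Twist.twist 𝒮 1) (TwistMul.secHom 𝒮 hf h) = Twist.globalOf 𝒮 ⟨f, hf⟩ :=
    TwistMul.secHom_app_top_one 𝒮 hf h
  rw [h3] at h2
  exact h2

/-- the pulled back identity `r^* g = r^♯(g/f) · r^* f` over `r⁻¹ D₊(f)`. -/
lemma pullSec_res_eq {X : Scheme.{u}} (r : X ⟶ Proj 𝒮) (g : S) (hg : g ∈ 𝒮 1) :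
    ((Scheme.Modules.pullback r).obj (Twist.twist 𝒮 1)).presheaf.map
        (homOfLE (le_top : r ⁻¹ᵁ Proj.basicOpen 𝒮 f ≤ ⊤)).op
        (ProjUP.pullSec r (Twist.twist 𝒮 1) (Twist.globalOf 𝒮 ⟨g, hg⟩)) =
      (r.app (Proj.basicOpen 𝒮 f)).hom (fracD 𝒮 hf g hg) •
        ((Scheme.Modules.pullback r).obj (Twist.twist 𝒮 1)).presheaf.map
          (homOfLE (le_top : r ⁻¹ᵁ Proj.basicOpen 𝒮 f ≤ ⊤)).op
          (ProjUP.pullSec r (Twist.twist 𝒮 1) (Twist.globalOf 𝒮 ⟨f, hf⟩)) := by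
  have h1 := congrArg (PbGen.ηsec r (Twist.twist 𝒮 1) (Proj.basicOpen 𝒮 f))
    (globalOf_res_eq 𝒮 hf g hg)
  rw [PbGen.ηsec_smul, PbGen.ηsec_res, PbGen.ηsec_res] at h1
  exact h1

end Groth.Agent.Helper28.ProjFracSec
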