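import Mathlib
import Groth.Agent.Lib.Helper28.ProjChart
import Groth.Agent.Lib.Helper28.ProjFracSec
import Groth.Agent.Lib.Helper18.AffHom

/-!
# Uniqueness in the universal property of `Proj` of an algebra generated in degree one (helper28)
-/

set_option autoImplicit false
universe u
open CategoryTheory CategoryTheory.Limits AlgebraicGeometry Opposite TopologicalSpace
open HomogeneousLocalization Groth.Agent.Helper13 Groth.Agent.Helper28.ProjFrac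
open Groth.Agent.Helper28.ProjChart Groth.Agent.Helper28.ProjFracSec
open Groth.Agent.Helper18.AffHom (res res_smul res_res app_res res_self)

noncomputable section

namespace Groth.Agent.Helper28.ProjSymUnique

variable {A S : Type u} [CommRing A] [CommRing S] [Algebra A S] (𝒮 : ℕ → Submodule A S)
  [GradedAlgebra 𝒮]

theorem adjoin_zero_eq_top {I : Type*} (g : I → S)
    (hgen : Algebra.adjoin A (Set.range g) = ⊤) :
    Algebra.adjoin (𝒮 0) (Set.range g) = ⊤ := by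
  rw [eq_top_iff]
  rintro a -
  have ha : a ∈ Algebra.adjoin A (Set.range g) := by rw [hgen]; trivial
  induction ha using Algebra.adjoin_induction with
  | mem x hx => exact Algebra.subset_adjoin hx
  | algebraMap r =>
    have : algebraMap A S r =
        algebraMap (𝒮 0) S ⟨algebraMap A S r, SetLike.algebraMap_mem_graded 𝒮 r⟩ := rfl
    rw [this]
    exact Subalgebra.algebraMap_mem _ _
  | add x y _ _ hx hy => exact Subalgebra.add_mem _ hx hy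
  | mul x y _ _ hx hy => exact Subalgebra.mul_mem _ hx hy

variable {I : Type*} (g : I → S) (hg : ∀ i, g i ∈ 𝒮 1)
  (hgen : Algebra.adjoin A (Set.range g) = ⊤)

include hg hgen in
theorem exists_nmem (x : Proj 𝒮) : ∃ i, g i ∉ x.asHomogeneousIdeal := by
  have hcov := Proj.iSup_basicOpen_eq_top' 𝒮 g (fun i => ⟨1, hg i⟩)
    (adjoin_zero_eq_top 𝒮 g hgen)
  have hx : x ∈ (⨆ i, Proj.basicOpen 𝒮 (g i)) := by rw [hcov]; trivial
  exact Opens.mem_iSup.mp hx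

include hg hgen in
theorem hcov (x : Proj 𝒮) : ∃ k ∈ 𝒮 1, k ∉ x.asHomogeneousIdeal := by
  obtain ⟨i, hi⟩ := exists_nmem 𝒮 g hg hgen x
  exact ⟨g i, hg i, hi⟩

/-- `r^* O(1)`. -/
abbrev PB {X : Scheme.{u}} (r : X ⟶ Proj 𝒮) : X.Modules :=
  (Scheme.Modules.pullback r).obj (Twist.twist 𝒮 1)

/-- `r^* k` for `k` of degree one. -/
def psec {X : Scheme.{u}} (r : X ⟶ Proj 𝒮) (k : S) (hk : k ∈ 𝒮 1) : Γ(PB 𝒮 r, ⊤) :=
  ProjUP.pullSec r (Twist.twist 𝒮 1) (Twist.globalOf 𝒮 ⟨k, hk⟩)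

/-- the pulled back identity `r^* g = r^♯(g/f) · r^* f` over an open mapped into `D₊(f)`. -/
lemma pullSec_res_eq' {f : S} (hf : f ∈ 𝒮 1) {X : Scheme.{u}} (r : X ⟶ Proj 𝒮) (W : X.Opens)
    (hW : W ≤ r ⁻¹ᵁ Proj.basicOpen 𝒮 f) (k : S) (hk : k ∈ 𝒮 1) :
    res (PB 𝒮 r) (le_top : W ≤ ⊤) (psec 𝒮 r k hk) =
      (r.appLE (Proj.basicOpen 𝒮 f) W hW).hom (fracD 𝒮 hf k hk) •
        res (PB 𝒮 r) (le_top : W ≤ ⊤) (psec 𝒮 r f hf) := by
  have h1 := congrArg (res (PB 𝒮 r) hW) (pullSec_res_eq 𝒮 hf r k hk)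
  rw [res_smul] at h1
  have e1 : ∀ σ : Γ(PB 𝒮 r, ⊤),
      res (PB 𝒮 r) hW ((PB 𝒮 r).presheaf.map
          (homOfLE (le_top : r ⁻¹ᵁ Proj.basicOpen 𝒮 f ≤ ⊤)).op σ) =
      res (PB 𝒮 r) (le_top : W ≤ ⊤) σ :=
    fun σ => res_res _ hW le_top σ
  rw [e1, e1] at h1
  exact h1

open Groth.Agent.Helper13.Inv in
lemma mem_iff (hc : ∀ x : Proj 𝒮, ∃ k ∈ 𝒮 1, k ∉ x.asHomogeneousIdeal) {f : S} (hf : f ∈ 𝒮 1)
    {X : Scheme.{u}} (r : X ⟶ Proj 𝒮) (x : X) :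
    r x ∈ Proj.basicOpen 𝒮 f ↔ IsGen (PB 𝒮 r) (psec 𝒮 r f hf) x trivial :=
  mem_preimage_basicOpen_iff 𝒮 hf hc r x

open Groth.Agent.Helper13.Inv in
include hg hgen in
/-- **uniqueness**: a morphism to `Proj S` over `A`, for `S` generated by degree one elements
`g i`, is determined by the pullbacks of the sections `g i` of `O(1)`. -/
theorem unique_of_gen {X : Scheme.{u}} (r r' : X ⟶ Proj 𝒮)
    (hrr' : r ≫ Proj.toSpecZero 𝒮 ≫ Spec.map (CommRingCat.ofHom (algebraMap A (𝒮 0))) =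
      r' ≫ Proj.toSpecZero 𝒮 ≫ Spec.map (CommRingCat.ofHom (algebraMap A (𝒮 0))))
    (τ : (Scheme.Modules.pullback r).obj (Twist.twist 𝒮 1) ≅
      (Scheme.Modules.pullback r').obj (Twist.twist 𝒮 1))
    (hτ : ∀ i, τ.hom.app ⊤ (ProjUP.pullSec r (Twist.twist 𝒮 1) (Twist.globalOf 𝒮 ⟨g i, hg i⟩)) =
      ProjUP.pullSec r' (Twist.twist 𝒮 1) (Twist.globalOf 𝒮 ⟨g i, hg i⟩)) : r = r' := by
  have hτ' : ∀ i, τ.hom.app ⊤ (psec 𝒮 r (g i) (hg i)) = psec 𝒮 r' (g i) (hg i) := hτ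
  have hc := hcov 𝒮 g hg hgen
  apply Scheme.hom_ext_of_forall
  intro x
  obtain ⟨i, hi⟩ := exists_nmem 𝒮 g hg hgen (r x)
  have hmem : ∀ y : X, r y ∈ Proj.basicOpen 𝒮 (g i) ↔ r' y ∈ Proj.basicOpen 𝒮 (g i) := by
    intro y
    rw [mem_iff 𝒮 hc (hg i) r y, mem_iff 𝒮 hc (hg i) r' y, ← hτ' i]
    exact (PullSecBridge.isGen_iso_iff τ (U := ⊤) _ y trivial).symm
  have hW : r ⁻¹ᵁ Proj.basicOpen 𝒮 (g i) ≤ r ⁻¹ᵁ Proj.basicOpen 𝒮 (g i) := le_rfl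
  have hW' : r ⁻¹ᵁ Proj.basicOpen 𝒮 (g i) ≤ r' ⁻¹ᵁ Proj.basicOpen 𝒮 (g i) :=
    fun y hy => (hmem y).1 hy
  refine ⟨r ⁻¹ᵁ Proj.basicOpen 𝒮 (g i), hi, ?_⟩
  have ht := preimage_ι_comp 𝒮 r _ hW
  have ht' := preimage_ι_comp 𝒮 r' _ hW'
  -- the generator on `W`
  have hgenW : ∀ (y : X) (hy : y ∈ r ⁻¹ᵁ Proj.basicOpen 𝒮 (g i)),
      IsGen (PB 𝒮 r') (res (PB 𝒮 r') (le_top : r ⁻¹ᵁ Proj.basicOpen 𝒮 (g i) ≤ ⊤)
        (psec 𝒮 r' (g i) (hg i))) y hy := by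
    intro y hy
    rw [isGen_res]
    exact (mem_iff 𝒮 hc (hg i) r' y).1 (hW' hy)
  have hfrac : ∀ j, (r.appLE (Proj.basicOpen 𝒮 (g i)) _ hW).hom (fracD 𝒮 (hg i) (g j) (hg j)) =
      (r'.appLE (Proj.basicOpen 𝒮 (g i)) _ hW').hom (fracD 𝒮 (hg i) (g j) (hg j)) := by
    intro j
    apply PullSecBridge.smul_cancel_of_isGen (PB 𝒮 r') _ hgenW
    have h1 := congrArg (τ.hom.app (r ⁻¹ᵁ Proj.basicOpen 𝒮 (g i)))
      (pullSec_res_eq' 𝒮 (hg i) r _ hW (g j) (hg j))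
    rw [Scheme.Modules.Hom.app_smul, app_res, app_res, hτ' i, hτ' j] at h1
    rw [← h1]
    exact pullSec_res_eq' 𝒮 (hg i) r' _ hW' (g j) (hg j)
  have hθ : θ 𝒮 ((r ⁻¹ᵁ Proj.basicOpen 𝒮 (g i)).ι ≫ r) ht =
      θ 𝒮 ((r ⁻¹ᵁ Proj.basicOpen 𝒮 (g i)).ι ≫ r') ht' := by
    let E : Subring (Away 𝒮 (g i)) := RingHom.eqLocus
      (θ 𝒮 ((r ⁻¹ᵁ Proj.basicOpen 𝒮 (g i)).ι ≫ r) ht)
      (θ 𝒮 ((r ⁻¹ᵁ Proj.basicOpen 𝒮 (g i)).ι ≫ r') ht')
    have hE : E = ⊤ := by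
      apply subring_eq_top (hg i) g hg hgen E
      · intro c
        change θ 𝒮 ((r ⁻¹ᵁ Proj.basicOpen 𝒮 (g i)).ι ≫ r) ht _ =
          θ 𝒮 ((r ⁻¹ᵁ Proj.basicOpen 𝒮 (g i)).ι ≫ r') ht' _
        have e1 : mk1 (hg i) 0 (algebraMap A S c) (SetLike.algebraMap_mem_graded 𝒮 c) =
            fromZeroRingHom 𝒮 _ (algebraMap A (𝒮 0) c) := by
          apply HomogeneousLocalization.val_injective
          rw [val_mk1]
          change _ = Localization.mk _ _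
          rw [Localization.mk_eq_mk_iff, Localization.r_iff_exists]
          exact ⟨1, by simp⟩
        rw [e1]
        have h2 : ((r ⁻¹ᵁ Proj.basicOpen 𝒮 (g i)).ι ≫ r) ≫ Proj.toSpecZero 𝒮 ≫
            Spec.map (CommRingCat.ofHom (algebraMap A (𝒮 0))) =
            ((r ⁻¹ᵁ Proj.basicOpen 𝒮 (g i)).ι ≫ r') ≫ Proj.toSpecZero 𝒮 ≫
            Spec.map (CommRingCat.ofHom (algebraMap A (𝒮 0))) := by
          rw [Category.assoc, Category.assoc, hrr']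
        rw [eq_chartMap 𝒮 (hg i) one_pos ((r ⁻¹ᵁ Proj.basicOpen 𝒮 (g i)).ι ≫ r) ht,
          eq_chartMap 𝒮 (hg i) one_pos ((r ⁻¹ᵁ Proj.basicOpen 𝒮 (g i)).ι ≫ r') ht',
          ← Category.assoc, ← Category.assoc,
          chartMap_toSpecZero, chartMap_toSpecZero, Category.assoc, Category.assoc,
          ← Spec.map_comp, ← Spec.map_comp] at h2
        have h3 := toSpecΓ_SpecMap_injective _ _ h2
        have h4 := congrArg (fun φ => φ.hom c) h3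
        exact h4
      · intro j
        change θ 𝒮 ((r ⁻¹ᵁ Proj.basicOpen 𝒮 (g i)).ι ≫ r) ht _ =
          θ 𝒮 ((r ⁻¹ᵁ Proj.basicOpen 𝒮 (g i)).ι ≫ r') ht' _
        rw [θ_ι_comp 𝒮 r _ hW ht, θ_ι_comp 𝒮 r' _ hW' ht']
        exact congrArg _ (hfrac j)
    ext a
    have ha : a ∈ E := by rw [hE]; trivial
    exact ha
  exact ext_of_θ 𝒮 (hg i) one_pos _ _ ht ht' hθ

end Groth.Agent.Helper28.ProjSymUnique
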