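import Mathlib
import Groth.Agent.Lib.Helper28.ProjSymUnique

/-!
# Two chart maps to `Proj` with compatible ring maps agree (helper28)
-/

set_option autoImplicit false
universe u
open CategoryTheory CategoryTheory.Limits AlgebraicGeometry Opposite TopologicalSpace
open HomogeneousLocalization Groth.Agent.Helper13 Groth.Agent.Helper28.ProjFrac
open Groth.Agent.Helper28.ProjChart Groth.Agent.Helper28.ProjFracSec
open Groth.Agent.Helper28.ProjSymUnique Groth.Agent.Helper13.Inv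
open Groth.Agent.Helper18.AffHom (res res_smul res_res app_res res_self)

noncomputable section

namespace Groth.Agent.Helper28.ProjChartGlue

variable {A S : Type u} [CommRing A] [CommRing S] [Algebra A S] (𝒮 : ℕ → Submodule A S)
  [GradedAlgebra 𝒮]

lemma mk1_zero_algebraMap {f : S} (hf : f ∈ 𝒮 1) (c : A) :
    mk1 hf 0 (algebraMap A S c) (SetLike.algebraMap_mem_graded 𝒮 c) =
      fromZeroRingHom 𝒮 _ (algebraMap A (𝒮 0) c) := by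
  apply HomogeneousLocalization.val_injective
  rw [val_mk1]
  change _ = Localization.mk _ _
  rw [Localization.mk_eq_mk_iff, Localization.r_iff_exists]
  exact ⟨1, by simp⟩

/-- the pulled back sections under a chart map. -/
lemma psec_chartMap {f : S} (hf : f ∈ 𝒮 1) {Y : Scheme.{u}} (ρ : Away 𝒮 f →+* Γ(Y, ⊤)) (k : S)
    (hk : k ∈ 𝒮 1) :
    psec 𝒮 (chartMap 𝒮 hf one_pos ρ) k hk =
      ρ (mk1 hf 1 k hk) • psec 𝒮 (chartMap 𝒮 hf one_pos ρ) f hf := by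
  have hW : (⊤ : Y.Opens) ≤ chartMap 𝒮 hf one_pos ρ ⁻¹ᵁ Proj.basicOpen 𝒮 f := by
    rw [chartMap_preimage]
  have h1 := pullSec_res_eq' 𝒮 hf (chartMap 𝒮 hf one_pos ρ) ⊤ hW k hk
  rw [res_self, res_self] at h1
  have h2 : ((chartMap 𝒮 hf one_pos ρ).appLE (Proj.basicOpen 𝒮 f) ⊤ hW).hom (fracD 𝒮 hf k hk) =
      θ 𝒮 (chartMap 𝒮 hf one_pos ρ) (chartMap_preimage 𝒮 hf one_pos ρ) (mk1 hf 1 k hk) := rfl
  rw [h2, θ_chartMap] at h1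
  exact h1

lemma isGen_psec_chartMap (hc : ∀ x : Proj 𝒮, ∃ k ∈ 𝒮 1, k ∉ x.asHomogeneousIdeal) {f : S}
    (hf : f ∈ 𝒮 1) {Y : Scheme.{u}} (ρ : Away 𝒮 f →+* Γ(Y, ⊤)) (y : Y) :
    IsGen (PB 𝒮 (chartMap 𝒮 hf one_pos ρ)) (psec 𝒮 (chartMap 𝒮 hf one_pos ρ) f hf) y trivial := by
  rw [← mem_iff 𝒮 hc hf]
  have hy : y ∈ chartMap 𝒮 hf one_pos ρ ⁻¹ᵁ Proj.basicOpen 𝒮 f := by
    rw [chartMap_preimage]; trivial
  exact hy

lemma inv_homOfSec_app {Y : Scheme.{u}} (N : Y.Modules) (a : Γ(N, ⊤))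
    [IsIso (LocFree.homOfSec N a)] :
    (inv (LocFree.homOfSec N a)).app ⊤ a = LocFree.toO ⊤ 1 := by
  have h1 : (LocFree.homOfSec N a).app ⊤ (LocFree.toO ⊤ 1) = a := by
    rw [LocFree.homOfSec_app_one]
    exact res_self N a
  have h2 := congrArg (fun ψ : Coh.structureModule Y ⟶ Coh.structureModule Y =>
    ψ.app ⊤ (LocFree.toO ⊤ 1)) (IsIso.hom_inv_id (LocFree.homOfSec N a))
  have h3 : (inv (LocFree.homOfSec N a)).app ⊤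
      ((LocFree.homOfSec N a).app ⊤ (LocFree.toO ⊤ 1)) = LocFree.toO ⊤ 1 := h2
  rw [h1] at h3
  exact h3

variable {I : Type*} (g : I → S) (hg : ∀ i, g i ∈ 𝒮 1)
  (hgen : Algebra.adjoin A (Set.range g) = ⊤)

include hg hgen in
/-- two chart maps whose ring maps agree on `A` and satisfy the cocycle relation agree. -/
theorem chartMap_eq_chartMap {f f' : S} (hf : f ∈ 𝒮 1) (hf' : f' ∈ 𝒮 1) {Y : Scheme.{u}}
    (ρ₁ : Away 𝒮 f →+* Γ(Y, ⊤)) (ρ₂ : Away 𝒮 f' →+* Γ(Y, ⊤))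
    (ha : ∀ c : A, ρ₁ (mk1 hf 0 (algebraMap A S c) (SetLike.algebraMap_mem_graded 𝒮 c)) =
      ρ₂ (mk1 hf' 0 (algebraMap A S c) (SetLike.algebraMap_mem_graded 𝒮 c)))
    (hb : ∀ j, ρ₂ (mk1 hf' 1 (g j) (hg j)) = ρ₁ (mk1 hf 1 (g j) (hg j)) * ρ₂ (mk1 hf' 1 f hf))
    (hu : IsUnit (ρ₂ (mk1 hf' 1 f hf))) :
    chartMap 𝒮 hf one_pos ρ₁ = chartMap 𝒮 hf' one_pos ρ₂ := by
  have hc := hcov 𝒮 g hg hgen
  have hbase : chartMap 𝒮 hf one_pos ρ₁ ≫ Proj.toSpecZero 𝒮 ≫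
      Spec.map (CommRingCat.ofHom (algebraMap A (𝒮 0))) =
      chartMap 𝒮 hf' one_pos ρ₂ ≫ Proj.toSpecZero 𝒮 ≫
      Spec.map (CommRingCat.ofHom (algebraMap A (𝒮 0))) := by
    rw [← Category.assoc, ← Category.assoc, chartMap_toSpecZero, chartMap_toSpecZero,
      Category.assoc, Category.assoc, ← Spec.map_comp, ← Spec.map_comp]
    congr 2
    ext c
    change ρ₁ (fromZeroRingHom 𝒮 _ (algebraMap A (𝒮 0) c)) =
      ρ₂ (fromZeroRingHom 𝒮 _ (algebraMap A (𝒮 0) c))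
    rw [← mk1_zero_algebraMap 𝒮 hf c, ← mk1_zero_algebraMap 𝒮 hf' c]
    exact ha c
  set t₁ := chartMap 𝒮 hf one_pos ρ₁ with ht₁
  set t₂ := chartMap 𝒮 hf' one_pos ρ₂ with ht₂
  set u := ρ₂ (mk1 hf' 1 f hf) with hu'
  have hgen₁ : ∀ y, IsGen (PB 𝒮 t₁) (psec 𝒮 t₁ f hf) y trivial :=
    fun y => isGen_psec_chartMap 𝒮 hc hf ρ₁ y
  have hgen₂ : ∀ y, IsGen (PB 𝒮 t₂) (u • psec 𝒮 t₂ f' hf') y trivial := by
    intro y
    rw [GenLoc.isGen_smul_iff (PB 𝒮 t₂) _ u y trivial (isGen_psec_chartMap 𝒮 hc hf' ρ₂ y),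
      Scheme.basicOpen_of_isUnit _ hu]
    trivial
  haveI i₁ : IsIso (LocFree.homOfSec (PB 𝒮 t₁) (psec 𝒮 t₁ f hf)) := isIso_homOfSec _ _ hgen₁
  haveI i₂ : IsIso (LocFree.homOfSec (PB 𝒮 t₂) (u • psec 𝒮 t₂ f' hf')) :=
    isIso_homOfSec _ _ hgen₂
  let τ : PB 𝒮 t₁ ≅ PB 𝒮 t₂ :=
    (asIso (LocFree.homOfSec (PB 𝒮 t₁) (psec 𝒮 t₁ f hf))).symm ≪≫
      asIso (LocFree.homOfSec (PB 𝒮 t₂) (u • psec 𝒮 t₂ f' hf'))
  have hτf : τ.hom.app ⊤ (psec 𝒮 t₁ f hf) = u • psec 𝒮 t₂ f' hf' := by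
    change (LocFree.homOfSec (PB 𝒮 t₂) (u • psec 𝒮 t₂ f' hf')).app ⊤
      ((inv (LocFree.homOfSec (PB 𝒮 t₁) (psec 𝒮 t₁ f hf))).app ⊤ (psec 𝒮 t₁ f hf)) = _
    rw [inv_homOfSec_app, LocFree.homOfSec_app_one]
    exact res_self _ _
  apply unique_of_gen 𝒮 g hg hgen t₁ t₂ hbase τ
  intro j
  change τ.hom.app ⊤ (psec 𝒮 t₁ (g j) (hg j)) = psec 𝒮 t₂ (g j) (hg j)
  have e₁ : psec 𝒮 t₁ (g j) (hg j) = ρ₁ (mk1 hf 1 (g j) (hg j)) • psec 𝒮 t₁ f hf :=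
    psec_chartMap 𝒮 hf ρ₁ (g j) (hg j)
  have e₂ : psec 𝒮 t₂ (g j) (hg j) = ρ₂ (mk1 hf' 1 (g j) (hg j)) • psec 𝒮 t₂ f' hf' :=
    psec_chartMap 𝒮 hf' ρ₂ (g j) (hg j)
  rw [e₁, Scheme.Modules.Hom.app_smul, hτf, e₂, hb j, mul_smul]

end Groth.Agent.Helper28.ProjChartGlue
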