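import Mathlib
import Groth.Agent.Lib.Helper28.ProjFrac

/-!
# Ring maps out of `S_(ι m)` for a symmetric algebra `S = Sym M` (helper28)
-/

set_option autoImplicit false
universe u
open HomogeneousLocalization Groth.Agent.Helper28.ProjFrac

noncomputable section

namespace Groth.Agent.Helper28.SymAwayLift

variable {A S : Type u} [CommRing A] [CommRing S] [Algebra A S] (𝒮 : ℕ → Submodule A S)
  [GradedAlgebra 𝒮]

/-- a ring map `φ : S → B` inverting `f` (of degree one) induces a ring map `S_(f) → B` with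
`a/f^k ↦ φ a · (φ f)^{-k}`; here we record the case `φ f = 1`. -/
theorem exists_away_of_ringHom {B : Type u} [CommRing B] (φ : S →+* B) {f : S} (hf : f ∈ 𝒮 1)
    (h1 : φ f = 1) :
    ∃ ρ : Away 𝒮 f →+* B, ∀ (k : ℕ) (a : S) (ha : a ∈ 𝒮 k), ρ (mk1 hf k a ha) = φ a := by
  have hu : IsUnit (φ f) := by rw [h1]; exact isUnit_one
  refine ⟨(IsLocalization.Away.lift (S := Localization.Away f) f hu).comp
    (algebraMap (Away 𝒮 f) (Localization.Away f)), fun k a ha => ?_⟩
  rw [RingHom.comp_apply, HomogeneousLocalization.algebraMap_apply, val_mk1,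
    Localization.mk_eq_mk', IsLocalization.Away.lift, IsLocalization.lift_mk'_spec]
  simp only [map_pow, h1, one_pow, one_mul]

variable {M : Type u} [AddCommGroup M] [Module A M] (ι : M →ₗ[A] S) (hι : ∀ m : M, ι m ∈ 𝒮 1)
  (hsym : IsSymmetricAlgebra ι)

include hsym in
/-- the ring map out of `S_(ι m)` attached to an `A`-semilinear map `h : M → B` with `h m = 1`. -/
theorem exists_away_lift {B : Type u} [CommRing B] (α : A →+* B) (h : M → B)
    (hadd : ∀ j j', h (j + j') = h j + h j') (hsmul : ∀ a j, h (a • j) = α a * h j) (m : M)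
    (hm : h m = 1) :
    ∃ ρ : Away 𝒮 (ι m) →+* B,
      (∀ c : A, ρ (mk1 (hι m) 0 (algebraMap A S c) (SetLike.algebraMap_mem_graded 𝒮 c)) = α c) ∧
      (∀ j, ρ (mk1 (hι m) 1 (ι j) (hι j)) = h j) := by
  letI : Algebra A B := α.toAlgebra
  let hlin : M →ₗ[A] B :=
    { toFun := h
      map_add' := hadd
      map_smul' := by
        intro a j
        rw [hsmul a j, RingHom.id_apply, Algebra.smul_def]
        rfl }
  let φ : S →ₐ[A] B := hsym.lift hlin
  have hφι : ∀ j, φ (ι j) = h j := fun j => hsym.lift_eq hlin j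
  have hφa : ∀ c : A, φ (algebraMap A S c) = α c := fun c => φ.commutes c
  obtain ⟨ρ, hρ⟩ := exists_away_of_ringHom 𝒮 (φ : S →+* B) (hι m) ((hφι m).trans hm)
  exact ⟨ρ, fun c => (hρ 0 _ _).trans (hφa c), fun j => (hρ 1 _ _).trans (hφι j)⟩

end Groth.Agent.Helper28.SymAwayLift
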