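import Mathlib
import Groth.Agent.Lib.Helper28.ProjChartGlue
import Groth.Agent.Lib.Helper28.GenCoef
import Groth.Agent.Lib.Helper28.SymAwayLift

/-!
# Existence in the universal property of `Proj (Sym M)`: the local data (helper28)
-/

set_option autoImplicit false
universe u
open CategoryTheory CategoryTheory.Limits AlgebraicGeometry Opposite TopologicalSpace
open HomogeneousLocalization Groth.Agent.Helper13 Groth.Agent.Helper28.ProjFrac
open Groth.Agent.Helper28.ProjChart Groth.Agent.Helper28.ProjFracSec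
open Groth.Agent.Helper28.ProjSymUnique Groth.Agent.Helper13.Inv Groth.Agent.Helper28.GenCoef
open Groth.Agent.Helper18.AffHom (res res_smul res_res app_res res_self)

noncomputable section

namespace Groth.Agent.Helper28.ProjSymExist

variable {A : Type u} [CommRing A] {M : Type u} [AddCommGroup M] [Module A M]
  {X : Scheme.{u}} (q : X ⟶ Spec (CommRingCat.of A)) (L : X.Modules)
  (v : M →+ ProjUP.Γm L)

/-- the open where `v m` generates `L`. -/
def Xm (m : M) : X.Opens := CohB1.genLocus L (LocFree.homOfSec L (v m))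

lemma mem_Xm (hL : PicF.IsInvertible L) (m : M) (x : X) :
    x ∈ Xm L v m ↔ IsGen L (v m) x trivial := by
  unfold Xm
  rw [GenLoc.mem_genLocus_iff_isGen L _ hL x, GenLoc.sec_homOfSec]

/-- `v m` restricted to `X_m`. -/
def em (m : M) : Γ(L, Xm L v m) := res L le_top (v m)

lemma isGen_em (hL : PicF.IsInvertible L) (m : M) (y : X) (hy : y ∈ Xm L v m) :
    IsGen L (em L v m) y hy := by
  unfold em
  rw [isGen_res]
  exact (mem_Xm L v hL m y).1 hy

lemma exists_mem_Xm (hL : PicF.IsInvertible L) (hgen : ProjUP.GeneratedBy L v) (x : X) :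
    ∃ m, x ∈ Xm L v m := by
  obtain ⟨U, hxU, e, he⟩ := (isInvertible_iff_exists_isGen L).1 hL x
  have hβ : Function.Bijective
      (fun r : X.presheaf.stalk x => r • L.presheaf.germ U x hxU e) := he x hxU
  by_contra hno
  push_neg at hno
  let β : X.presheaf.stalk x →ₗ[X.presheaf.stalk x] L.presheaf.stalk x :=
    LinearMap.toSpanSingleton _ _ (L.presheaf.germ U x hxU e)
  let P : Submodule (X.presheaf.stalk x) (L.presheaf.stalk x) :=
    Submodule.map β (IsLocalRing.maximalIdeal (X.presheaf.stalk x))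
  have hP : ∀ m, L.presheaf.germ ⊤ x trivial (v m) ∈ P := by
    intro m
    obtain ⟨a, ha⟩ := hβ.2 (L.presheaf.germ ⊤ x trivial (v m))
    refine ⟨a, ?_, ha⟩
    by_contra hna
    have hu : IsUnit a := by
      by_contra h
      exact hna ((IsLocalRing.mem_maximalIdeal a).2 h)
    apply hno m
    rw [mem_Xm L v hL]
    unfold IsGen
    have key : (fun r : X.presheaf.stalk x => r • L.presheaf.germ ⊤ x trivial (v m)) =
        (fun r : X.presheaf.stalk x => r • L.presheaf.germ U x hxU e) ∘
          (fun r : X.presheaf.stalk x => r * a) := by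
      funext r
      have ha' : a • L.presheaf.germ U x hxU e = L.presheaf.germ ⊤ x trivial (v m) := ha
      rw [Function.comp_apply, ← ha', mul_smul]
    rw [key]
    exact hβ.comp (IsUnit.isUnit_iff_mulRight_bijective.1 hu)
  have hspan := hgen x
  have hle : Submodule.span (X.presheaf.stalk x)
      (Set.range fun i => (L.presheaf.germ ⊤ x trivial).hom (v i)) ≤ P := by
    rw [Submodule.span_le]
    rintro _ ⟨m, rfl⟩
    exact hP m
  rw [hspan] at hle
  have hε : L.presheaf.germ U x hxU e ∈ P := hle trivial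
  obtain ⟨r, hr, hre⟩ := hε
  have hre' : r • L.presheaf.germ U x hxU e = (1 : X.presheaf.stalk x) • L.presheaf.germ U x hxU e := by
    rw [one_smul]; exact hre
  have h1 : r = 1 := hβ.1 hre'
  rw [h1] at hr
  exact (IsLocalRing.maximalIdeal (X.presheaf.stalk x)).ne_top_iff_one.1
    (IsLocalRing.maximalIdeal.isMaximal _).ne_top hr

variable (hL : PicF.IsInvertible L)

/-- the coefficient `v j / v m` on `X_m`. -/
def hh (m j : M) : Γ(X, Xm L v m) :=
  coef L (em L v m) (isGen_em L v hL m) (res L le_top (v j))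

lemma hh_smul_em (m j : M) : hh L v hL m j • em L v m = res L le_top (v j) :=
  coef_smul L _ _ _

lemma hh_eq (m j : M) (c : Γ(X, Xm L v m)) (h : c • em L v m = res L le_top (v j)) :
    hh L v hL m j = c :=
  coef_eq L _ _ _ c h

lemma hh_self (m : M) : hh L v hL m m = 1 :=
  hh_eq L v hL m m 1 (one_smul _ _)

lemma hh_add (m j j' : M) : hh L v hL m (j + j') = hh L v hL m j + hh L v hL m j' := by
  apply hh_eq
  rw [add_smul, hh_smul_em, hh_smul_em, map_add]
  exact (map_add _ _ _).symm

/-- the structure map `A → Γ(X, X_m)`. -/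
def αm (m : M) : A →+* Γ(X, Xm L v m) :=
  (X.presheaf.map (homOfLE (le_top : Xm L v m ≤ ⊤)).op).hom.comp (ProjUP.toGlobal q)

lemma hh_smul (hv : ∀ (a : A) (m : M), v (a • m) = ProjUP.toGlobal q a • v m) (m : M) (a : A)
    (j : M) : hh L v hL m (a • j) = αm q L v m a * hh L v hL m j := by
  apply hh_eq
  rw [mul_smul, hh_smul_em, hv a j]
  exact (res_smul L le_top (ProjUP.toGlobal q a) (v j)).symm

/-- the cocycle relation on `X_m ∩ X_m'`. -/
lemma cocycle (m m' j : M) :
    X.presheaf.map (homOfLE (inf_le_right : Xm L v m ⊓ Xm L v m' ≤ Xm L v m')).op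
        (hh L v hL m' j) =
      X.presheaf.map (homOfLE (inf_le_left : Xm L v m ⊓ Xm L v m' ≤ Xm L v m)).op
        (hh L v hL m j) *
      X.presheaf.map (homOfLE (inf_le_right : Xm L v m ⊓ Xm L v m' ≤ Xm L v m')).op
        (hh L v hL m' m) := by
  apply PullSecBridge.smul_cancel_of_isGen L
    (res L (inf_le_right : Xm L v m ⊓ Xm L v m' ≤ Xm L v m') (em L v m'))
    (isGen_res' L _ _ (isGen_em L v hL m'))
  have h1 := congrArg (res L (inf_le_right : Xm L v m ⊓ Xm L v m' ≤ Xm L v m'))
    (hh_smul_em L v hL m' j)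
  have h2 := congrArg (res L (inf_le_right : Xm L v m ⊓ Xm L v m' ≤ Xm L v m'))
    (hh_smul_em L v hL m' m)
  have h3 := congrArg (res L (inf_le_left : Xm L v m ⊓ Xm L v m' ≤ Xm L v m))
    (hh_smul_em L v hL m j)
  rw [res_smul, res_res] at h1 h2 h3
  rw [h1, mul_smul, h2]
  unfold em at h3
  rw [res_res] at h3
  exact h3.symm

end Groth.Agent.Helper28.ProjSymExist
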