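import Mathlib
import Groth.Agent.Lib.Helper28.ProjSymExist1

/-!
# Existence in the universal property of `Proj (Sym M)`: the morphism (helper28)
-/

set_option autoImplicit false
universe u
open CategoryTheory CategoryTheory.Limits AlgebraicGeometry Opposite TopologicalSpace
open HomogeneousLocalization Groth.Agent.Helper13 Groth.Agent.Helper28.ProjFrac
open Groth.Agent.Helper28.ProjChart Groth.Agent.Helper28.ProjFracSec
open Groth.Agent.Helper28.ProjSymUnique Groth.Agent.Helper13.Inv Groth.Agent.Helper28.GenCoef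
open Groth.Agent.Helper28.ProjChartGlue
open Groth.Agent.Helper18.AffHom (res res_smul res_res app_res res_self)

noncomputable section

namespace Groth.Agent.Helper28.ProjSymExist

section General

variable {A S : Type u} [CommRing A] [CommRing S] [Algebra A S] (𝒮 : ℕ → Submodule A S)
  [GradedAlgebra 𝒮]

lemma comp_chartMap {f : S} (hf : f ∈ 𝒮 1) {Y Y' : Scheme.{u}} (j : Y' ⟶ Y)
    (ρ : Away 𝒮 f →+* Γ(Y, ⊤)) :
    j ≫ chartMap 𝒮 hf one_pos ρ = chartMap 𝒮 hf one_pos (j.appTop.hom.comp ρ) := by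
  unfold chartMap
  rw [← Category.assoc, Scheme.toSpecΓ_naturality, Category.assoc, ← Spec.map_comp_assoc]
  rfl

lemma eq_toSpecΓ_SpecMap {Y : Scheme.{u}} {B : CommRingCat.{u}} (p : Y ⟶ Spec B) :
    p = Y.toSpecΓ ≫ Spec.map ((Scheme.ΓSpecIso B).inv ≫ p.appTop) := by
  rw [Spec.map_comp, ← Category.assoc, ← Scheme.toSpecΓ_naturality, Category.assoc,
    toSpecΓ_SpecMap_ΓSpecIso_inv, Category.comp_id]

lemma homOfLE_appTop_topIso_inv {X : Scheme.{u}} {U' U : X.Opens} (e : U' ≤ U) (c : Γ(X, U)) :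
    (X.homOfLE e).appTop.hom (U.topIso.inv.hom c) =
      U'.topIso.inv.hom ((X.presheaf.map (homOfLE e).op).hom c) := by
  have key : U.topIso.inv ≫ (X.homOfLE e).appTop =
      X.presheaf.map (homOfLE e).op ≫ U'.topIso.inv := by
    rw [Scheme.homOfLE_appTop, Scheme.Opens.topIso_inv, Scheme.Opens.topIso_inv]
    exact ((X.presheaf.map_comp _ _).symm.trans
      (congrArg X.presheaf.map (Subsingleton.elim _ _))).trans (X.presheaf.map_comp _ _)
  exact congrArg (fun φ => φ.hom c) key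

lemma ι_appTop_eq {X : Scheme.{u}} (U : X.Opens) (c : Γ(X, ⊤)) :
    U.ι.appTop.hom c = U.topIso.inv.hom ((X.presheaf.map (homOfLE (le_top : U ≤ ⊤)).op).hom c) := by
  have key : U.ι.appTop = X.presheaf.map (homOfLE (le_top : U ≤ ⊤)).op ≫ U.topIso.inv := by
    rw [Scheme.Opens.ι_appTop, Scheme.Opens.topIso_inv]
    exact (congrArg X.presheaf.map (Subsingleton.elim _ _)).trans (X.presheaf.map_comp _ _)
  exact congrArg (fun φ => φ.hom c) key

end General

variable {A S : Type u} [CommRing A] [CommRing S] [Algebra A S] (𝒮 : ℕ → Submodule A S)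
  [GradedAlgebra 𝒮] {M : Type u} [AddCommGroup M] [Module A M] (ι : M →ₗ[A] S)
  (hι : ∀ m : M, ι m ∈ 𝒮 1) (hsym : IsSymmetricAlgebra ι)
  {X : Scheme.{u}} (q : X ⟶ Spec (CommRingCat.of A)) (L : X.Modules)
  (hL : PicF.IsInvertible L) (v : M →+ ProjUP.Γm L)
  (hv : ∀ (a : A) (m : M), v (a • m) = ProjUP.toGlobal q a • v m)

include hsym in
lemma adjoin_range_ι : Algebra.adjoin A (Set.range fun m : M => ι m) = ⊤ := by
  rw [eq_top_iff]
  rintro a -
  refine hsym.induction (motive := fun a => a ∈ Algebra.adjoin A (Set.range fun m : M => ι m))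
    ?_ ?_ ?_ ?_ a
  · intro c
    exact Subalgebra.algebraMap_mem _ c
  · intro x
    exact Algebra.subset_adjoin ⟨x, rfl⟩
  · intro a b ha hb
    exact Subalgebra.mul_mem _ ha hb
  · intro a b ha hb
    exact Subalgebra.add_mem _ ha hb

include hsym hv in
lemma exists_ρo (m : M) :
    ∃ ρ : Away 𝒮 (ι m) →+* Γ(X, Xm L v m),
      (∀ c : A, ρ (mk1 (hι m) 0 (algebraMap A S c) (SetLike.algebraMap_mem_graded 𝒮 c)) =
        αm q L v m c) ∧
      (∀ j, ρ (mk1 (hι m) 1 (ι j) (hι j)) = hh L v hL m j) :=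
  SymAwayLift.exists_away_lift 𝒮 ι hι hsym (αm q L v m) (hh L v hL m) (hh_add L v hL m)
    (hh_smul q L v hL hv m) m (hh_self L v hL m)

/-- the ring map `S_(ι m) → Γ(X, X_m)`. -/
def ρo (m : M) : Away 𝒮 (ι m) →+* Γ(X, Xm L v m) :=
  (exists_ρo 𝒮 ι hι hsym q L hL v hv m).choose

lemma ρo_alg (m : M) (c : A) :
    ρo 𝒮 ι hι hsym q L hL v hv m
      (mk1 (hι m) 0 (algebraMap A S c) (SetLike.algebraMap_mem_graded 𝒮 c)) = αm q L v m c :=
  (exists_ρo 𝒮 ι hι hsym q L hL v hv m).choose_spec.1 c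

lemma ρo_frac (m j : M) :
    ρo 𝒮 ι hι hsym q L hL v hv m (mk1 (hι m) 1 (ι j) (hι j)) = hh L v hL m j :=
  (exists_ρo 𝒮 ι hι hsym q L hL v hv m).choose_spec.2 j

/-- the chart morphism `X_m ⟶ Proj S`. -/
def rm (m : M) : (Xm L v m).toScheme ⟶ Proj 𝒮 :=
  chartMap 𝒮 (hι m) one_pos ((Xm L v m).topIso.inv.hom.comp (ρo 𝒮 ι hι hsym q L hL v hv m))

/-- compatibility of the chart morphisms on overlaps. -/
lemma rm_compat (m m' : M) :
    X.homOfLE (inf_le_left : Xm L v m ⊓ Xm L v m' ≤ Xm L v m) ≫ rm 𝒮 ι hι hsym q L hL v hv m =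
      X.homOfLE (inf_le_right : Xm L v m ⊓ Xm L v m' ≤ Xm L v m') ≫
        rm 𝒮 ι hι hsym q L hL v hv m' := by
  unfold rm
  rw [comp_chartMap, comp_chartMap]
  have hunit : X.presheaf.map (homOfLE (inf_le_right : Xm L v m ⊓ Xm L v m' ≤ Xm L v m')).op
        (hh L v hL m' m) *
      X.presheaf.map (homOfLE (inf_le_left : Xm L v m ⊓ Xm L v m' ≤ Xm L v m)).op
        (hh L v hL m m') = 1 := by
    have h1 := cocycle L v hL m m' m'
    rw [hh_self, map_one] at h1
    rw [mul_comm]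
    exact h1.symm
  apply chartMap_eq_chartMap 𝒮 (fun j : M => ι j) hι (adjoin_range_ι ι hsym) (hι m) (hι m')
  · intro c
    simp only [RingHom.comp_apply]
    rw [ρo_alg, ρo_alg, homOfLE_appTop_topIso_inv, homOfLE_appTop_topIso_inv]
    congr 1
    unfold αm
    simp only [RingHom.comp_apply]
    rw [← CommRingCat.comp_apply, ← CommRingCat.comp_apply, ← Functor.map_comp,
      ← Functor.map_comp]
    rfl
  · intro j
    simp only [RingHom.comp_apply]
    rw [ρo_frac, ρo_frac, ρo_frac, homOfLE_appTop_topIso_inv, homOfLE_appTop_topIso_inv,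
      homOfLE_appTop_topIso_inv, ← map_mul]
    congr 1
    exact cocycle L v hL m m' j
  · simp only [RingHom.comp_apply]
    rw [ρo_frac, homOfLE_appTop_topIso_inv]
    exact (IsUnit.of_mul_eq_one _ hunit).map _

end Groth.Agent.Helper28.ProjSymExist
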