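import Mathlib
import Groth.Agent.Lib.Helper28.ProjSymExist2

/-!
# Existence in the universal property of `Proj (Sym M)`: gluing the morphism (helper28)
-/

set_option autoImplicit false
universe u
open CategoryTheory CategoryTheory.Limits AlgebraicGeometry Opposite TopologicalSpace
open HomogeneousLocalization Groth.Agent.Helper13 Groth.Agent.Helper28.ProjFrac
open Groth.Agent.Helper28.ProjChart Groth.Agent.Helper28.ProjFracSec
open Groth.Agent.Helper28.ProjSymUnique Groth.Agent.Helper13.Inv Groth.Agent.Helper28.GenCoef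
open Groth.Agent.Helper28.ProjChartGlue
open Groth.Agent.Helper18.AffHom (res res_smul res_res app_res res_self)

noncomputable section

namespace Groth.Agent.Helper28.ProjSymExist

variable {A S : Type u} [CommRing A] [CommRing S] [Algebra A S] (𝒮 : ℕ → Submodule A S)
  [GradedAlgebra 𝒮] {M : Type u} [AddCommGroup M] [Module A M] (ι : M →ₗ[A] S)
  (hι : ∀ m : M, ι m ∈ 𝒮 1) (hsym : IsSymmetricAlgebra ι)
  {X : Scheme.{u}} (q : X ⟶ Spec (CommRingCat.of A)) (L : X.Modules)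
  (hL : PicF.IsInvertible L) (v : M →+ ProjUP.Γm L)
  (hv : ∀ (a : A) (m : M), v (a • m) = ProjUP.toGlobal q a • v m)
  (hgen : ProjUP.GeneratedBy L v)

lemma θ_congr {f : S} {Y : Scheme.{u}} {t t' : Y ⟶ Proj 𝒮} (e : t = t')
    (h : t ⁻¹ᵁ Proj.basicOpen 𝒮 f = ⊤) (h' : t' ⁻¹ᵁ Proj.basicOpen 𝒮 f = ⊤) :
    θ 𝒮 t h = θ 𝒮 t' h' := by
  subst e
  rfl

include hL hgen in
lemma isOpenCover_Xm : TopologicalSpace.IsOpenCover (Xm L v) := by
  unfold TopologicalSpace.IsOpenCover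
  rw [eq_top_iff]
  intro x _
  obtain ⟨m, hm⟩ := exists_mem_Xm L v hL hgen x
  exact Opens.mem_iSup.2 ⟨m, hm⟩

/-- the cover of `X` by the `X_m`. -/
def cover : X.OpenCover := X.openCoverOfIsOpenCover (Xm L v) (isOpenCover_Xm L hL v hgen)

/-- the glued morphism `X ⟶ Proj S`. -/
def rr : X ⟶ Proj 𝒮 :=
  (cover L hL v hgen).glueMorphisms (fun m => rm 𝒮 ι hι hsym q L hL v hv m) (by
    intro m m'
    show pullback.fst (Xm L v m).ι (Xm L v m').ι ≫ rm 𝒮 ι hι hsym q L hL v hv m =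
      pullback.snd (Xm L v m).ι (Xm L v m').ι ≫ rm 𝒮 ι hι hsym q L hL v hv m'
    have hpb := isPullback_opens_inf (Xm L v m) (Xm L v m')
    rw [← cancel_epi hpb.isoPullback.hom, ← Category.assoc, ← Category.assoc,
      hpb.isoPullback_hom_fst, hpb.isoPullback_hom_snd]
    exact rm_compat 𝒮 ι hι hsym q L hL v hv m m')

lemma ι_rr (m : M) :
    (Xm L v m).ι ≫ rr 𝒮 ι hι hsym q L hL v hv hgen = rm 𝒮 ι hι hsym q L hL v hv m :=
  Scheme.Cover.ι_glueMorphisms (cover L hL v hgen) _ _ m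

lemma Xm_le_preimage (m : M) :
    Xm L v m ≤ rr 𝒮 ι hι hsym q L hL v hv hgen ⁻¹ᵁ Proj.basicOpen 𝒮 (ι m) := by
  intro x hx
  have h0 : (⟨x, hx⟩ : (Xm L v m).toScheme) ∈
      rm 𝒮 ι hι hsym q L hL v hv m ⁻¹ᵁ Proj.basicOpen 𝒮 (ι m) := by
    unfold rm
    rw [chartMap_preimage]
    trivial
  rw [← ι_rr 𝒮 ι hι hsym q L hL v hv hgen m] at h0
  exact h0

lemma rr_appLE (m : M) (a : Away 𝒮 (ι m)) :
    ((rr 𝒮 ι hι hsym q L hL v hv hgen).appLE (Proj.basicOpen 𝒮 (ι m)) (Xm L v m)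
        (Xm_le_preimage 𝒮 ι hι hsym q L hL v hv hgen m)).hom
      ((Proj.awayToSection 𝒮 (ι m)).hom a) = ρo 𝒮 ι hι hsym q L hL v hv m a := by
  have hW := Xm_le_preimage 𝒮 ι hι hsym q L hL v hv hgen m
  have h := preimage_ι_comp 𝒮 (rr 𝒮 ι hι hsym q L hL v hv hgen) (Xm L v m) hW
  have h1 := θ_ι_comp 𝒮 (rr 𝒮 ι hι hsym q L hL v hv hgen) (Xm L v m) hW h a
  have h2 : θ 𝒮 ((Xm L v m).ι ≫ rr 𝒮 ι hι hsym q L hL v hv hgen) h =
      (Xm L v m).topIso.inv.hom.comp (ρo 𝒮 ι hι hsym q L hL v hv m) := by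
    rw [θ_congr 𝒮 (ι_rr 𝒮 ι hι hsym q L hL v hv hgen m) h
      (chartMap_preimage 𝒮 (hι m) one_pos _)]
    exact θ_chartMap 𝒮 (hι m) one_pos _
  rw [h2] at h1
  have hinj : Function.Injective (Xm L v m).topIso.inv.hom :=
    (ConcreteCategory.bijective_of_isIso (Xm L v m).topIso.inv).1
  exact (hinj h1).symm

lemma rr_frac (m j : M) :
    ((rr 𝒮 ι hι hsym q L hL v hv hgen).appLE (Proj.basicOpen 𝒮 (ι m)) (Xm L v m)
        (Xm_le_preimage 𝒮 ι hι hsym q L hL v hv hgen m)).hom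
      (fracD 𝒮 (hι m) (ι j) (hι j)) = hh L v hL m j := by
  unfold fracD
  rw [rr_appLE, ρo_frac]

lemma rr_base :
    rr 𝒮 ι hι hsym q L hL v hv hgen ≫ Proj.toSpecZero 𝒮 ≫
      Spec.map (CommRingCat.ofHom (algebraMap A (𝒮 0))) = q := by
  apply Scheme.Cover.hom_ext (cover L hL v hgen)
  intro m
  show (Xm L v m).ι ≫ rr 𝒮 ι hι hsym q L hL v hv hgen ≫ Proj.toSpecZero 𝒮 ≫
      Spec.map (CommRingCat.ofHom (algebraMap A (𝒮 0))) = (Xm L v m).ι ≫ q
  rw [← Category.assoc, ι_rr]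
  unfold rm
  rw [← Category.assoc, chartMap_toSpecZero, Category.assoc, ← Spec.map_comp]
  conv_rhs => rw [eq_toSpecΓ_SpecMap ((Xm L v m).ι ≫ q)]
  congr 2
  ext c
  change (Xm L v m).topIso.inv.hom (ρo 𝒮 ι hι hsym q L hL v hv m
    (fromZeroRingHom 𝒮 _ (algebraMap A (𝒮 0) c))) =
    ((Xm L v m).ι ≫ q).appTop.hom ((Scheme.ΓSpecIso (CommRingCat.of A)).inv.hom c)
  rw [← mk1_zero_algebraMap 𝒮 (hι m) c, ρo_alg, Scheme.Hom.comp_appTop]
  change _ = (Xm L v m).ι.appTop.hom (q.appTop.hom ((Scheme.ΓSpecIso (CommRingCat.of A)).inv.hom c))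
  rw [ι_appTop_eq]
  rfl

end Groth.Agent.Helper28.ProjSymExist
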