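import Mathlib
import Groth.Agent.Lib.Helper28.ProjSymExist3

/-!
# A morphism `O(1) ⟶ r_* L` from sections satisfying the cocycle relations (helper28)
-/

set_option autoImplicit false
universe u
open CategoryTheory CategoryTheory.Limits AlgebraicGeometry Opposite TopologicalSpace
open HomogeneousLocalization Groth.Agent.Helper13 Groth.Agent.Helper28.ProjFrac
open Groth.Agent.Helper28.ProjChart Groth.Agent.Helper28.ProjFracSec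
open Groth.Agent.Helper28.ProjSymUnique Groth.Agent.Helper13.Inv Groth.Agent.Helper28.GenCoef
open Groth.Agent.Helper18.AffHom (res res_smul res_res app_res res_self)

noncomputable section

namespace Groth.Agent.Helper28.TwistHomGlue

section rs

variable {X Y : Scheme.{u}} (r : X ⟶ Y)

/-- `r^♯` from sections over `U` to sections over `Z ≤ r⁻¹ U`. -/
def rs (U : Y.Opens) (Z : X.Opens) (hZ : Z ≤ r ⁻¹ᵁ U) : Γ(Y, U) →+* Γ(X, Z) :=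
  (r.appLE U Z hZ).hom

lemma rs_res_left {U U' : Y.Opens} (hU : U' ≤ U) (Z : X.Opens) (hZ : Z ≤ r ⁻¹ᵁ U')
    (c : Γ(Y, U)) :
    rs r U' Z hZ (Y.presheaf.map (homOfLE hU).op c) =
      rs r U Z (hZ.trans (fun _ hx => hU hx)) c := by
  have h := Scheme.Hom.map_appLE r hZ (homOfLE hU).op
  exact congrArg (fun φ => φ.hom c) h

lemma rs_res_right (U : Y.Opens) {Z Z' : X.Opens} (hZ : Z ≤ r ⁻¹ᵁ U) (hZ' : Z' ≤ Z)
    (c : Γ(Y, U)) :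
    X.presheaf.map (homOfLE hZ').op (rs r U Z hZ c) = rs r U Z' (hZ'.trans hZ) c := by
  have h := Scheme.Hom.appLE_map r hZ (homOfLE hZ').op
  exact congrArg (fun φ => φ.hom c) h

lemma rs_self (U : Y.Opens) (c : Γ(Y, U)) : rs r U (r ⁻¹ᵁ U) le_rfl c = (r.app U).hom c := by
  unfold rs
  rw [Scheme.Hom.appLE_eq_app]

end rs

variable {A S : Type u} [CommRing A] [CommRing S] [Algebra A S] (𝒮 : ℕ → Submodule A S)
  [GradedAlgebra 𝒮]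
  (hcov : ∀ x : Proj 𝒮, ∃ k ∈ 𝒮 1, k ∉ x.asHomogeneousIdeal)

include hcov in
lemma isGen_globalOf {f : S} (hf : f ∈ 𝒮 1) (y : Proj 𝒮) (hy : y ∈ Proj.basicOpen 𝒮 f) :
    IsGen (Twist.twist 𝒮 1) (show Γ(Twist.twist 𝒮 1, ⊤) from Twist.globalOf 𝒮 ⟨f, hf⟩) y trivial := by
  have h : (1 : ℤ) = 0 + ((1 : ℕ) : ℤ) := by norm_num
  have h1 := TwistMul.genLocus_secHom_eq' 𝒮 hcov hf h
  have h3 : GenLoc.sec (Twist.twist 𝒮 1) (TwistMul.secHom 𝒮 hf h) = Twist.globalOf 𝒮 ⟨f, hf⟩ :=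
    TwistMul.secHom_app_top_one 𝒮 hf h
  have h2 := (GenLoc.mem_genLocus_iff_isGen (Twist.twist 𝒮 1) (TwistMul.secHom 𝒮 hf h)
    (isInvertible_twist_one 𝒮 hcov) y).1 (by rw [h1]; exact hy)
  rw [h3] at h2
  exact h2

variable {K : Type u} (g : K → S) (hg : ∀ k, g k ∈ 𝒮 1)

/-- `g_k` as a global section of `O(1)`. -/
def gsec (k : K) : Γ(Twist.twist 𝒮 1, ⊤) := Twist.globalOf 𝒮 ⟨g k, hg k⟩

/-- `g_k` restricted to `W ∩ D₊(g_k)`. -/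
def ek (k : K) (W : (Proj 𝒮).Opens) : Γ(Twist.twist 𝒮 1, W ⊓ Proj.basicOpen 𝒮 (g k)) :=
  res (Twist.twist 𝒮 1) le_top (gsec 𝒮 g hg k)

include hcov in
lemma isGen_ek (k : K) (W : (Proj 𝒮).Opens) (y : Proj 𝒮)
    (hy : y ∈ W ⊓ Proj.basicOpen 𝒮 (g k)) : IsGen (Twist.twist 𝒮 1) (ek 𝒮 g hg k W) y hy := by
  unfold ek
  rw [isGen_res]
  exact isGen_globalOf 𝒮 hcov (hg k) y hy.2

/-- the coefficient of `σ` against `g_k` on `W ∩ D₊(g_k)`. -/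
def ck (k : K) (W : (Proj 𝒮).Opens) (σ : Γ(Twist.twist 𝒮 1, W)) :
    Γ(Proj 𝒮, W ⊓ Proj.basicOpen 𝒮 (g k)) :=
  coef (Twist.twist 𝒮 1) (ek 𝒮 g hg k W) (isGen_ek 𝒮 hcov g hg k W)
    (res (Twist.twist 𝒮 1) inf_le_left σ)

lemma ck_spec (k : K) (W : (Proj 𝒮).Opens) (σ : Γ(Twist.twist 𝒮 1, W)) :
    ck 𝒮 hcov g hg k W σ • ek 𝒮 g hg k W = res (Twist.twist 𝒮 1) inf_le_left σ :=
  coef_smul _ _ _ _

lemma ck_eq (k : K) (W : (Proj 𝒮).Opens) (σ : Γ(Twist.twist 𝒮 1, W))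
    (c : Γ(Proj 𝒮, W ⊓ Proj.basicOpen 𝒮 (g k)))
    (h : c • ek 𝒮 g hg k W = res (Twist.twist 𝒮 1) inf_le_left σ) :
    ck 𝒮 hcov g hg k W σ = c :=
  coef_eq _ _ _ _ c h

lemma ck_add (k : K) (W : (Proj 𝒮).Opens) (σ σ' : Γ(Twist.twist 𝒮 1, W)) :
    ck 𝒮 hcov g hg k W (σ + σ') = ck 𝒮 hcov g hg k W σ + ck 𝒮 hcov g hg k W σ' := by
  apply ck_eq
  rw [add_smul, ck_spec, ck_spec]
  exact (map_add _ _ _).symm

lemma ck_smul (k : K) (W : (Proj 𝒮).Opens) (c : Γ(Proj 𝒮, W)) (σ : Γ(Twist.twist 𝒮 1, W)) :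
    ck 𝒮 hcov g hg k W (c • σ) =
      (Proj 𝒮).presheaf.map (homOfLE (inf_le_left : W ⊓ Proj.basicOpen 𝒮 (g k) ≤ W)).op c *
        ck 𝒮 hcov g hg k W σ := by
  apply ck_eq
  rw [mul_smul, ck_spec]
  exact (res_smul _ _ c σ).symm

lemma ek_res (k : K) {W W' : (Proj 𝒮).Opens} (h : W' ≤ W) :
    res (Twist.twist 𝒮 1) (inf_le_inf_right _ h) (ek 𝒮 g hg k W) = ek 𝒮 g hg k W' := by
  unfold ek
  rw [res_res]

lemma ck_res (k : K) {W W' : (Proj 𝒮).Opens} (h : W' ≤ W) (σ : Γ(Twist.twist 𝒮 1, W)) :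
    ck 𝒮 hcov g hg k W' (res (Twist.twist 𝒮 1) h σ) =
      (Proj 𝒮).presheaf.map (homOfLE (inf_le_inf_right (Proj.basicOpen 𝒮 (g k)) h)).op
        (ck 𝒮 hcov g hg k W σ) := by
  apply ck_eq
  have h1 := congrArg (res (Twist.twist 𝒮 1) (inf_le_inf_right (Proj.basicOpen 𝒮 (g k)) h))
    (ck_spec 𝒮 hcov g hg k W σ)
  rw [res_smul, ek_res 𝒮 g hg k h, res_res] at h1
  rw [h1, res_res]

/-- the identity `g_j = (g_j/g_k) g_k` over any open inside `D₊(g_k)`. -/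
lemma gsec_res_eq (k j : K) (V : (Proj 𝒮).Opens) (hV : V ≤ Proj.basicOpen 𝒮 (g k)) :
    res (Twist.twist 𝒮 1) (le_top : V ≤ ⊤) (gsec 𝒮 g hg j) =
      (Proj 𝒮).presheaf.map (homOfLE hV).op (fracD 𝒮 (hg k) (g j) (hg j)) •
        res (Twist.twist 𝒮 1) (le_top : V ≤ ⊤) (gsec 𝒮 g hg k) := by
  have h1 := congrArg (res (Twist.twist 𝒮 1) hV) (globalOf_res_eq 𝒮 (hg k) (g j) (hg j))
  rw [res_smul] at h1
  have e1 : ∀ σ : Γ(Twist.twist 𝒮 1, ⊤), res (Twist.twist 𝒮 1) hV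
      ((Twist.twist 𝒮 1).presheaf.map (homOfLE (le_top : Proj.basicOpen 𝒮 (g k) ≤ ⊤)).op σ) =
      res (Twist.twist 𝒮 1) (le_top : V ≤ ⊤) σ := fun σ => res_res _ hV le_top σ
  rw [e1, e1] at h1
  exact h1

lemma ck_gsec (k j : K) :
    ck 𝒮 hcov g hg k ⊤ (gsec 𝒮 g hg j) =
      (Proj 𝒮).presheaf.map (homOfLE (inf_le_right : ⊤ ⊓ Proj.basicOpen 𝒮 (g k) ≤ _)).op
        (fracD 𝒮 (hg k) (g j) (hg j)) := by
  apply ck_eq
  unfold ek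
  exact (gsec_res_eq 𝒮 g hg k j _ inf_le_right).symm

/-- the cocycle relation between the coefficients on `(W ∩ D_k) ∩ (W ∩ D_k')`. -/
lemma ck_cocycle (k k' : K) (W : (Proj 𝒮).Opens) (σ : Γ(Twist.twist 𝒮 1, W)) :
    (Proj 𝒮).presheaf.map (homOfLE (inf_le_left : (W ⊓ Proj.basicOpen 𝒮 (g k)) ⊓
        (W ⊓ Proj.basicOpen 𝒮 (g k')) ≤ W ⊓ Proj.basicOpen 𝒮 (g k))).op (ck 𝒮 hcov g hg k W σ) *
      (Proj 𝒮).presheaf.map (homOfLE ((inf_le_right.trans inf_le_right) :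
        (W ⊓ Proj.basicOpen 𝒮 (g k)) ⊓ (W ⊓ Proj.basicOpen 𝒮 (g k')) ≤
          Proj.basicOpen 𝒮 (g k'))).op (fracD 𝒮 (hg k') (g k) (hg k)) =
      (Proj 𝒮).presheaf.map (homOfLE (inf_le_right : (W ⊓ Proj.basicOpen 𝒮 (g k)) ⊓
        (W ⊓ Proj.basicOpen 𝒮 (g k')) ≤ W ⊓ Proj.basicOpen 𝒮 (g k'))).op
        (ck 𝒮 hcov g hg k' W σ) := by
  apply PullSecBridge.smul_cancel_of_isGen (Twist.twist 𝒮 1)
    (res (Twist.twist 𝒮 1) (inf_le_right : (W ⊓ Proj.basicOpen 𝒮 (g k)) ⊓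
        (W ⊓ Proj.basicOpen 𝒮 (g k')) ≤ W ⊓ Proj.basicOpen 𝒮 (g k')) (ek 𝒮 g hg k' W))
    (isGen_res' _ _ _ (isGen_ek 𝒮 hcov g hg k' W))
  have h1 := congrArg (res (Twist.twist 𝒮 1) (inf_le_left : (W ⊓ Proj.basicOpen 𝒮 (g k)) ⊓
        (W ⊓ Proj.basicOpen 𝒮 (g k')) ≤ W ⊓ Proj.basicOpen 𝒮 (g k))) (ck_spec 𝒮 hcov g hg k W σ)
  have h2 := congrArg (res (Twist.twist 𝒮 1) (inf_le_right : (W ⊓ Proj.basicOpen 𝒮 (g k)) ⊓
        (W ⊓ Proj.basicOpen 𝒮 (g k')) ≤ W ⊓ Proj.basicOpen 𝒮 (g k'))) (ck_spec 𝒮 hcov g hg k' W σ)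
  rw [res_smul, res_res] at h1 h2
  rw [h2, mul_smul]
  unfold ek at h1 ⊢
  rw [res_res] at h1 ⊢
  rw [← gsec_res_eq 𝒮 g hg k' k _ (inf_le_right.trans inf_le_right), h1]

end Groth.Agent.Helper28.TwistHomGlue
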