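import Mathlib
import Groth.Agent.Lib.Helper28.TwistHomGlue

/-!
# A morphism `O(1) ⟶ r_* L` from sections satisfying the cocycle relations, II (helper28)
-/

set_option autoImplicit false
universe u
open CategoryTheory CategoryTheory.Limits AlgebraicGeometry Opposite TopologicalSpace
open HomogeneousLocalization Groth.Agent.Helper13 Groth.Agent.Helper28.ProjFrac
open Groth.Agent.Helper28.ProjChart Groth.Agent.Helper28.ProjFracSec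
open Groth.Agent.Helper28.ProjSymUnique Groth.Agent.Helper13.Inv Groth.Agent.Helper28.GenCoef
open Groth.Agent.Helper18.AffHom (res res_smul res_res app_res res_self)

noncomputable section

namespace Groth.Agent.Helper28.TwistHomGlue

variable {A S : Type u} [CommRing A] [CommRing S] [Algebra A S] (𝒮 : ℕ → Submodule A S)
  [GradedAlgebra 𝒮]
  (hcov : ∀ x : Proj 𝒮, ∃ k ∈ 𝒮 1, k ∉ x.asHomogeneousIdeal)
  {K : Type u} (g : K → S) (hg : ∀ k, g k ∈ 𝒮 1)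
  {X : Scheme.{u}} (r : X ⟶ Proj 𝒮) (L : X.Modules) (w : K → Γ(L, ⊤)) (Xk : K → X.Opens)
  (hXcov : ∀ x : X, ∃ k, x ∈ Xk k)
  (hXk : ∀ k, Xk k ≤ r ⁻¹ᵁ Proj.basicOpen 𝒮 (g k))
  (H : ∀ k j, res L (le_top : Xk k ≤ ⊤) (w j) =
    rs r (Proj.basicOpen 𝒮 (g k)) (Xk k) (hXk k) (fracD 𝒮 (hg k) (g j) (hg j)) •
      res L (le_top : Xk k ≤ ⊤) (w k))

/-- the members of the cover of `r⁻¹ W`. -/
abbrev Vk (k : K) (W : (Proj 𝒮).Opens) : X.Opens := r ⁻¹ᵁ W ⊓ Xk k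

include hXk in
lemma hVk (k : K) (W : (Proj 𝒮).Opens) :
    Vk 𝒮 r Xk k W ≤ r ⁻¹ᵁ (W ⊓ Proj.basicOpen 𝒮 (g k)) :=
  fun _ hx => ⟨hx.1, hXk k hx.2⟩

/-- the local pieces of `ψ(σ)`. -/
def piece (k : K) (W : (Proj 𝒮).Opens) (σ : Γ(Twist.twist 𝒮 1, W)) : Γ(L, Vk 𝒮 r Xk k W) :=
  rs r (W ⊓ Proj.basicOpen 𝒮 (g k)) (Vk 𝒮 r Xk k W) (hVk 𝒮 g r Xk hXk k W)
    (ck 𝒮 hcov g hg k W σ) • res L le_top (w k)

include H in
lemma piece_compat (k k' : K) (W : (Proj 𝒮).Opens) (σ : Γ(Twist.twist 𝒮 1, W)) :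
    res L (inf_le_left : Vk 𝒮 r Xk k W ⊓ Vk 𝒮 r Xk k' W ≤ Vk 𝒮 r Xk k W)
        (piece 𝒮 hcov g hg r L w Xk hXk k W σ) =
      res L (inf_le_right : Vk 𝒮 r Xk k W ⊓ Vk 𝒮 r Xk k' W ≤ Vk 𝒮 r Xk k' W)
        (piece 𝒮 hcov g hg r L w Xk hXk k' W σ) := by
  have hZ'' : Vk 𝒮 r Xk k W ⊓ Vk 𝒮 r Xk k' W ≤
      r ⁻¹ᵁ ((W ⊓ Proj.basicOpen 𝒮 (g k)) ⊓ (W ⊓ Proj.basicOpen 𝒮 (g k'))) :=
    fun x hx => ⟨hVk 𝒮 g r Xk hXk k W hx.1, hVk 𝒮 g r Xk hXk k' W hx.2⟩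
  have hc := congrArg (rs r _ (Vk 𝒮 r Xk k W ⊓ Vk 𝒮 r Xk k' W) hZ'')
    (ck_cocycle 𝒮 hcov g hg k k' W σ)
  rw [map_mul, rs_res_left, rs_res_left, rs_res_left] at hc
  have hZk' : Vk 𝒮 r Xk k W ⊓ Vk 𝒮 r Xk k' W ≤ Xk k' := inf_le_right.trans inf_le_right
  have hw : res L (le_top : Vk 𝒮 r Xk k W ⊓ Vk 𝒮 r Xk k' W ≤ ⊤) (w k) =
      rs r (Proj.basicOpen 𝒮 (g k')) (Vk 𝒮 r Xk k W ⊓ Vk 𝒮 r Xk k' W) (hZk'.trans (hXk k'))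
        (fracD 𝒮 (hg k') (g k) (hg k)) •
        res L (le_top : Vk 𝒮 r Xk k W ⊓ Vk 𝒮 r Xk k' W ≤ ⊤) (w k') := by
    have h1 := congrArg (res L hZk') (H k' k)
    rw [res_smul, res_res, res_res, rs_res_right] at h1
    exact h1
  unfold piece
  rw [res_smul, res_smul, res_res, res_res, rs_res_right, rs_res_right, hw, ← mul_smul, hc]

include hXcov in
lemma cover_Vk (W : (Proj 𝒮).Opens) : r ⁻¹ᵁ W ≤ ⨆ k, Vk 𝒮 r Xk k W := by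
  intro x hx
  obtain ⟨k, hk⟩ := hXcov x
  exact Opens.mem_iSup.2 ⟨k, ⟨hx, hk⟩⟩

include hXcov H in
lemma exists_psi (W : (Proj 𝒮).Opens) (σ : Γ(Twist.twist 𝒮 1, W)) :
    ∃ t : Γ(L, r ⁻¹ᵁ W), ∀ k, res L (inf_le_left : Vk 𝒮 r Xk k W ≤ r ⁻¹ᵁ W) t =
      piece 𝒮 hcov g hg r L w Xk hXk k W σ :=
  exists_glue L (r ⁻¹ᵁ W) (fun k => Vk 𝒮 r Xk k W) (fun _ => inf_le_left)
    (cover_Vk 𝒮 r Xk hXcov W) (fun k => piece 𝒮 hcov g hg r L w Xk hXk k W σ)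
    (fun k k' => piece_compat 𝒮 hcov g hg r L w Xk hXk H k k' W σ)

/-- the value of `ψ` on sections over `W`. -/
def psiFun (W : (Proj 𝒮).Opens) (σ : Γ(Twist.twist 𝒮 1, W)) : Γ(L, r ⁻¹ᵁ W) :=
  (exists_psi 𝒮 hcov g hg r L w Xk hXcov hXk H W σ).choose

lemma psiFun_spec (W : (Proj 𝒮).Opens) (σ : Γ(Twist.twist 𝒮 1, W)) (k : K) :
    res L (inf_le_left : Vk 𝒮 r Xk k W ≤ r ⁻¹ᵁ W) (psiFun 𝒮 hcov g hg r L w Xk hXcov hXk H W σ) =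
      piece 𝒮 hcov g hg r L w Xk hXk k W σ :=
  (exists_psi 𝒮 hcov g hg r L w Xk hXcov hXk H W σ).choose_spec k

lemma psiFun_eq (W : (Proj 𝒮).Opens) (σ : Γ(Twist.twist 𝒮 1, W)) (t : Γ(L, r ⁻¹ᵁ W))
    (h : ∀ k, res L (inf_le_left : Vk 𝒮 r Xk k W ≤ r ⁻¹ᵁ W) t =
      piece 𝒮 hcov g hg r L w Xk hXk k W σ) :
    psiFun 𝒮 hcov g hg r L w Xk hXcov hXk H W σ = t := by
  apply sec_ext_cover L (r ⁻¹ᵁ W) (fun k => Vk 𝒮 r Xk k W) (fun _ => inf_le_left)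
    (cover_Vk 𝒮 r Xk hXcov W)
  intro k
  rw [psiFun_spec, h k]

lemma psiFun_add (W : (Proj 𝒮).Opens) (σ σ' : Γ(Twist.twist 𝒮 1, W)) :
    psiFun 𝒮 hcov g hg r L w Xk hXcov hXk H W (σ + σ') =
      psiFun 𝒮 hcov g hg r L w Xk hXcov hXk H W σ +
        psiFun 𝒮 hcov g hg r L w Xk hXcov hXk H W σ' := by
  apply psiFun_eq
  intro k
  have h1 : res L (inf_le_left : Vk 𝒮 r Xk k W ≤ r ⁻¹ᵁ W)
      (psiFun 𝒮 hcov g hg r L w Xk hXcov hXk H W σ +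
        psiFun 𝒮 hcov g hg r L w Xk hXcov hXk H W σ') =
      res L (inf_le_left : Vk 𝒮 r Xk k W ≤ r ⁻¹ᵁ W)
        (psiFun 𝒮 hcov g hg r L w Xk hXcov hXk H W σ) +
      res L (inf_le_left : Vk 𝒮 r Xk k W ≤ r ⁻¹ᵁ W)
        (psiFun 𝒮 hcov g hg r L w Xk hXcov hXk H W σ') := map_add _ _ _
  rw [h1, psiFun_spec, psiFun_spec]
  unfold piece
  rw [ck_add, map_add, add_smul]

lemma psiFun_smul (W : (Proj 𝒮).Opens) (c : Γ(Proj 𝒮, W)) (σ : Γ(Twist.twist 𝒮 1, W)) :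
    psiFun 𝒮 hcov g hg r L w Xk hXcov hXk H W (c • σ) =
      (r.app W).hom c • psiFun 𝒮 hcov g hg r L w Xk hXcov hXk H W σ := by
  apply psiFun_eq
  intro k
  rw [res_smul, psiFun_spec]
  unfold piece
  rw [ck_smul, map_mul, mul_smul, rs_res_left, ← rs_self, rs_res_right]

lemma psiFun_res {W W' : (Proj 𝒮).Opens} (h : W' ≤ W) (σ : Γ(Twist.twist 𝒮 1, W)) :
    psiFun 𝒮 hcov g hg r L w Xk hXcov hXk H W' (res (Twist.twist 𝒮 1) h σ) =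
      res L (fun _ hx => h hx : r ⁻¹ᵁ W' ≤ r ⁻¹ᵁ W)
        (psiFun 𝒮 hcov g hg r L w Xk hXcov hXk H W σ) := by
  apply psiFun_eq
  intro k
  have hVV : Vk 𝒮 r Xk k W' ≤ Vk 𝒮 r Xk k W := fun _ hx => ⟨h hx.1, hx.2⟩
  have h1 := congrArg (res L hVV) (psiFun_spec 𝒮 hcov g hg r L w Xk hXcov hXk H W σ k)
  rw [res_res] at h1
  rw [res_res, h1]
  unfold piece
  rw [res_smul, res_res, ck_res, rs_res_left, rs_res_right]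

lemma psiFun_gsec (j : K) :
    psiFun 𝒮 hcov g hg r L w Xk hXcov hXk H ⊤ (gsec 𝒮 g hg j) = w j := by
  apply psiFun_eq
  intro k
  have hVX : Vk 𝒮 r Xk k ⊤ ≤ Xk k := inf_le_right
  have h1 := congrArg (res L hVX) (H k j)
  rw [res_smul, res_res, res_res, rs_res_right] at h1
  unfold piece
  rw [ck_gsec, rs_res_left]
  exact h1

end Groth.Agent.Helper28.TwistHomGlue
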