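import Mathlib
import Groth.Agent.Lib.Helper28.TwistHomGlue2

/-!
# A morphism `O(1) ⟶ r_* L` from sections satisfying the cocycle relations, III (helper28)
-/

set_option autoImplicit false
universe u
open CategoryTheory CategoryTheory.Limits AlgebraicGeometry Opposite TopologicalSpace
open HomogeneousLocalization Groth.Agent.Helper13 Groth.Agent.Helper28.ProjFrac
open Groth.Agent.Helper28.ProjChart Groth.Agent.Helper28.ProjFracSec
open Groth.Agent.Helper28.ProjSymUnique Groth.Agent.Helper13.Inv Groth.Agent.Helper28.GenCoef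
open Groth.Agent.Helper18.AffHom (res res_smul res_res app_res res_self)

noncomputable section

namespace Groth.Agent.Helper28.TwistHomGlue

variable {A S : Type u} [CommRing A] [CommRing S] [Algebra A S] (𝒮 : ℕ → Submodule A S)
  [GradedAlgebra 𝒮]
  (hcov : ∀ x : Proj 𝒮, ∃ k ∈ 𝒮 1, k ∉ x.asHomogeneousIdeal)
  {K : Type u} (g : K → S) (hg : ∀ k, g k ∈ 𝒮 1)
  {X : Scheme.{u}} (r : X ⟶ Proj 𝒮) (L : X.Modules) (w : K → Γ(L, ⊤)) (Xk : K → X.Opens)
  (hXcov : ∀ x : X, ∃ k, x ∈ Xk k)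
  (hXk : ∀ k, Xk k ≤ r ⁻¹ᵁ Proj.basicOpen 𝒮 (g k))
  (H : ∀ k j, res L (le_top : Xk k ≤ ⊤) (w j) =
    rs r (Proj.basicOpen 𝒮 (g k)) (Xk k) (hXk k) (fracD 𝒮 (hg k) (g j) (hg j)) •
      res L (le_top : Xk k ≤ ⊤) (w k))

lemma psiFun_map {W W' : (Proj 𝒮).Opens} (i : W' ⟶ W) (σ : Γ(Twist.twist 𝒮 1, W)) :
    psiFun 𝒮 hcov g hg r L w Xk hXcov hXk H W' ((Twist.twist 𝒮 1).presheaf.map i.op σ) =
      L.presheaf.map ((Opens.map r.base).map i).op
        (psiFun 𝒮 hcov g hg r L w Xk hXcov hXk H W σ) :=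
  psiFun_res 𝒮 hcov g hg r L w Xk hXcov hXk H i.le σ

/-- the morphism `ψ : O(1) ⟶ r_* L`. -/
def psi : Twist.twist 𝒮 1 ⟶ (Scheme.Modules.pushforward r).obj L :=
  (⟨PresheafOfModules.homMk (M₁ := Twist.twistPMod 𝒮 1)
      (M₂ := ((Scheme.Modules.pushforward r).obj L).val)
    { app := fun U => AddCommGrpCat.ofHom
        (AddMonoidHom.mk' (psiFun 𝒮 hcov g hg r L w Xk hXcov hXk H U.unop)
          (psiFun_add 𝒮 hcov g hg r L w Xk hXcov hXk H U.unop))
      naturality := fun U V i => by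
        ext s
        exact psiFun_map 𝒮 hcov g hg r L w Xk hXcov hXk H i.unop s }
    (fun U c s => psiFun_smul 𝒮 hcov g hg r L w Xk hXcov hXk H U.unop c s)⟩ :
      SheafOfModules.Hom _ _)

lemma psi_app (W : (Proj 𝒮).Opens) (σ : Γ(Twist.twist 𝒮 1, W)) :
    (psi 𝒮 hcov g hg r L w Xk hXcov hXk H).app W σ =
      psiFun 𝒮 hcov g hg r L w Xk hXcov hXk H W σ := rfl

end Groth.Agent.Helper28.TwistHomGlue
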