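import Mathlib
import Groth.Agent.Lib.Helper28.TwistHomGlue3

/-!
# Existence in the universal property of `Proj (Sym M)` (helper28)
-/

set_option autoImplicit false
universe u
open CategoryTheory CategoryTheory.Limits AlgebraicGeometry Opposite TopologicalSpace
open HomogeneousLocalization Groth.Agent.Helper13 Groth.Agent.Helper28.ProjFrac
open Groth.Agent.Helper28.ProjChart Groth.Agent.Helper28.ProjFracSec
open Groth.Agent.Helper28.ProjSymUnique Groth.Agent.Helper13.Inv Groth.Agent.Helper28.GenCoef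
open Groth.Agent.Helper28.TwistHomGlue Groth.Agent.Helper13.QCoh
open Groth.Agent.Helper18.AffHom (res res_smul res_res app_res res_self)

noncomputable section

namespace Groth.Agent.Helper28.ProjSymExist

variable {A S : Type u} [CommRing A] [CommRing S] [Algebra A S] (𝒮 : ℕ → Submodule A S)
  [GradedAlgebra 𝒮] {M : Type u} [AddCommGroup M] [Module A M] (ι : M →ₗ[A] S)
  (hι : ∀ m : M, ι m ∈ 𝒮 1) (hsym : IsSymmetricAlgebra ι)
  {X : Scheme.{u}} (q : X ⟶ Spec (CommRingCat.of A)) (L : X.Modules)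
  (hL : PicF.IsInvertible L) (v : M →+ ProjUP.Γm L)
  (hv : ∀ (a : A) (m : M), v (a • m) = ProjUP.toGlobal q a • v m)
  (hgen : ProjUP.GeneratedBy L v)

/-- a morphism out of a pullback which matches generating sections at every point is an iso. -/
theorem isIso_of_isGen {N L : X.Modules} (τ : N ⟶ L)
    (h : ∀ x : X, ∃ (n : Γ(N, ⊤)), IsGen N n x trivial ∧ IsGen L (τ.app ⊤ n) x trivial) :
    IsIso τ := by
  apply LocFree.isIso_of_stalk_bijective
  intro x
  obtain ⟨n, hn, hl⟩ := h x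
  have key : (stalkMap τ x) ∘ (fun a : X.presheaf.stalk x => a • N.presheaf.germ ⊤ x trivial n) =
      (fun a : X.presheaf.stalk x => a • L.presheaf.germ ⊤ x trivial (τ.app ⊤ n)) := by
    funext a
    rw [Function.comp_apply, stalkMap_smul, stalkMap_germ]
  have h2 : Function.Bijective ((stalkMap τ x) ∘
      (fun a : X.presheaf.stalk x => a • N.presheaf.germ ⊤ x trivial n)) := by
    rw [key]; exact hl
  exact (Function.Bijective.of_comp_iff _ hn).1 h2

include hsym hL hv hgen in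
/-- **existence**: the universal property of `Proj (Sym M)` over an affine base. -/
theorem exists_of_sym :
    ∃ (r : X ⟶ Proj 𝒮)
      (_ : r ≫ Proj.toSpecZero 𝒮 ≫ Spec.map (CommRingCat.ofHom (algebraMap A (𝒮 0))) = q)
      (τ : (Scheme.Modules.pullback r).obj (Twist.twist 𝒮 1) ≅ L),
      ∀ m : M, τ.hom.app ⊤ (ProjUP.pullSec r (Twist.twist 𝒮 1)
        (Twist.globalOf 𝒮 ⟨ι m, hι m⟩)) = v m := by
  have hc := hcov 𝒮 (fun m : M => ι m) hι (adjoin_range_ι ι hsym)
  set r := rr 𝒮 ι hι hsym q L hL v hv hgen with hr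
  have hXk : ∀ k, Xm L v k ≤ r ⁻¹ᵁ Proj.basicOpen 𝒮 (ι k) :=
    Xm_le_preimage 𝒮 ι hι hsym q L hL v hv hgen
  have H : ∀ k j, res L (le_top : Xm L v k ≤ ⊤) (v j) =
      rs r (Proj.basicOpen 𝒮 (ι k)) (Xm L v k) (hXk k) (fracD 𝒮 (hι k) (ι j) (hι j)) •
        res L (le_top : Xm L v k ≤ ⊤) (v k) := by
    intro k j
    have h1 := rr_frac 𝒮 ι hι hsym q L hL v hv hgen k j
    have h2 := hh_smul_em L v hL k j
    unfold rs
    rw [h1]
    exact h2.symm
  let ψ := psi 𝒮 hc (fun m : M => ι m) hι r L (fun m => v m) (Xm L v)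
    (exists_mem_Xm L v hL hgen) hXk H
  let τ₀ : (Scheme.Modules.pullback r).obj (Twist.twist 𝒮 1) ⟶ L :=
    ((Scheme.Modules.pullbackPushforwardAdjunction r).homEquiv _ _).symm ψ
  have hτ₀ : ∀ m : M, τ₀.app ⊤ (psec 𝒮 r (ι m) (hι m)) = v m := by
    intro m
    have h1 := PbGen.homEquiv_app r (Twist.twist 𝒮 1) τ₀ ⊤ (gsec 𝒮 (fun m : M => ι m) hι m)
    have h2 : (Scheme.Modules.pullbackPushforwardAdjunction r).homEquiv _ _ τ₀ = ψ :=
      Equiv.apply_symm_apply _ _
    rw [h2] at h1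
    have h3 : ψ.app ⊤ (gsec 𝒮 (fun m : M => ι m) hι m) = v m :=
      psiFun_gsec 𝒮 hc (fun m : M => ι m) hι r L (fun m => v m) (Xm L v)
        (exists_mem_Xm L v hL hgen) hXk H m
    rw [h3] at h1
    exact h1.symm
  haveI : IsIso τ₀ := by
    apply isIso_of_isGen
    intro x
    obtain ⟨m, hm⟩ := exists_mem_Xm L v hL hgen x
    refine ⟨psec 𝒮 r (ι m) (hι m), ?_, ?_⟩
    · exact (mem_iff 𝒮 hc (hι m) r x).1 (hXk m hm)
    · rw [hτ₀ m]
      exact (mem_Xm L v hL m x).1 hm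
  exact ⟨r, rr_base 𝒮 ι hι hsym q L hL v hv hgen, asIso τ₀, hτ₀⟩

end Groth.Agent.Helper28.ProjSymExist
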