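import Mathlib
import Groth.Agent.Lib.Helper28.ProjSymExist4

/-!
# Existence in the universal property of projective space over an affine base (helper28)
-/

set_option autoImplicit false
universe u
open CategoryTheory CategoryTheory.Limits AlgebraicGeometry Opposite TopologicalSpace

noncomputable section

namespace Groth.Agent.Helper28.ProjSpaceExist

variable {R : Type u} [CommRing R] (n : ℕ)

/-- the linear map `R^{n+1} → R[T_0..T_n]`, `e_i ↦ T_i`. -/
def ιP : (Fin (n + 1) → R) →ₗ[R] MvPolynomial (Fin (n + 1)) R :=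
  (Pi.basisFun R (Fin (n + 1))).constr R
    (MvPolynomial.X : Fin (n + 1) → MvPolynomial (Fin (n + 1)) R)

lemma ιP_single (i : Fin (n + 1)) : ιP (R := R) n (Pi.single i 1) = MvPolynomial.X i := by
  unfold ιP
  rw [← Pi.basisFun_apply R (Fin (n + 1)) i, Module.Basis.constr_basis]

lemma ιP_mem (m : Fin (n + 1) → R) : ιP n m ∈ CohB1.polyGrading n R 1 := by
  unfold ιP
  rw [Module.Basis.constr_apply_fintype]
  exact Submodule.sum_mem _ (fun i _ => Submodule.smul_mem _ _ (MvPolynomial.isHomogeneous_X R i))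

lemma isSym : IsSymmetricAlgebra (ιP (R := R) n) :=
  SymmetricAlgebra.IsSymmetricAlgebra.mvPolynomial (Fin (n + 1)) (Pi.basisFun R (Fin (n + 1)))

variable {X : Scheme.{u}} (q : X ⟶ Spec (CommRingCat.of R)) (L : X.Modules)
  (s : Fin (n + 1) → ProjUP.Γm L)

/-- the additive map `R^{n+1} → Γ(X, L)`, `c ↦ Σ c_i s_i`. -/
def vP : (Fin (n + 1) → R) →+ ProjUP.Γm L :=
  AddMonoidHom.mk' (fun c => ∑ i, ProjUP.toGlobal q (c i) • s i) (by
    intro c c'
    simp only [Pi.add_apply, map_add, add_smul, Finset.sum_add_distrib])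

lemma vP_apply (c : Fin (n + 1) → R) : vP n q L s c = ∑ i, ProjUP.toGlobal q (c i) • s i := rfl

lemma vP_smul (a : R) (c : Fin (n + 1) → R) :
    vP n q L s (a • c) = ProjUP.toGlobal q a • vP n q L s c := by
  rw [vP_apply, vP_apply, Finset.smul_sum]
  refine Finset.sum_congr rfl (fun i _ => ?_)
  rw [Pi.smul_apply, smul_eq_mul, map_mul, mul_smul]

lemma vP_single (i : Fin (n + 1)) : vP n q L s (Pi.single i 1) = s i := by
  rw [vP_apply, Fintype.sum_eq_single i]
  · rw [Pi.single_eq_same, map_one, one_smul]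
  · intro j hj
    rw [Pi.single_eq_of_ne hj, map_zero, zero_smul]

lemma vP_gen (hs : ProjUP.GeneratedBy L s) : ProjUP.GeneratedBy L (vP n q L s) := by
  intro x
  rw [eq_top_iff, ← hs x]
  apply Submodule.span_mono
  rintro _ ⟨i, rfl⟩
  exact ⟨Pi.single i 1, by
    change (L.presheaf.germ ⊤ x trivial).hom (vP n q L s (Pi.single i 1)) = _
    rw [vP_single]⟩

theorem main (hL : PicF.IsInvertible L) (hs : ProjUP.GeneratedBy L s) :
    ∃ (r : X ⟶ CohB1.ProjSpace n R) (_ : r ≫ CohB1.ProjSpace.toSpec n R = q)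
      (τ : (Scheme.Modules.pullback r).obj (Twist.twistProjSpace n R 1) ≅ L),
      ∀ i, τ.hom.app ⊤ (ProjUP.pullSec r (Twist.twistProjSpace n R 1) (ProjUP.coord n R i)) =
        s i := by
  obtain ⟨r, hr, τ, hτ⟩ := Groth.Agent.Helper28.ProjSymExist.exists_of_sym
    (CohB1.polyGrading n R) (ιP n) (ιP_mem n) (isSym n) q L hL (vP n q L s) (vP_smul n q L s)
    (vP_gen n q L s hs)
  refine ⟨r, hr, τ, fun i => ?_⟩
  have h1 := hτ (Pi.single i 1)
  rw [vP_single] at h1
  have h2 : (⟨ιP n (Pi.single i 1), ιP_mem n (Pi.single i 1)⟩ : CohB1.polyGrading n R 1) =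
      ⟨MvPolynomial.X i, MvPolynomial.isHomogeneous_X R i⟩ := Subtype.ext (ιP_single n i)
  rw [h2] at h1
  exact h1

end Groth.Agent.Helper28.ProjSpaceExist
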