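import Mathlib
import Groth.Agent.Lib.Helper28.ProjSymUnique
import Groth.Agent.Lib.Helper28.GenCoef
import Groth.Agent.Lib.Helper13.InvQCoh
import Groth.Agent.Lib.Helper13.PbInv

/-!
# Sections of `Proj` over an affine base are determined by their relation modules (helper28)
-/

set_option autoImplicit false
universe u
open CategoryTheory CategoryTheory.Limits AlgebraicGeometry Opposite TopologicalSpace
open HomogeneousLocalization Groth.Agent.Helper13 Groth.Agent.Helper28.ProjFrac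
open Groth.Agent.Helper28.ProjChart Groth.Agent.Helper28.ProjFracSec
open Groth.Agent.Helper28.ProjSymUnique
open Groth.Agent.Helper18.AffHom (res res_smul res_res app_res res_self)

noncomputable section

namespace Groth.Agent.Helper28.SecKernel

section General

variable {X : Scheme.{u}}

open Groth.Agent.Helper13.Inv in
/-- if `c • e` generates freely at `y`, so does `e`. -/
lemma isGen_of_smul (L : X.Modules) {U : X.Opens} (s e : Γ(L, U)) (c : Γ(X, U))
    (h : s = c • e) (y : X) (hy : y ∈ U) (hs : IsGen L s y hy) : IsGen L e y hy := by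
  unfold IsGen at hs ⊢
  have h1 : L.presheaf.germ U y hy s =
      X.presheaf.germ U y hy c • L.presheaf.germ U y hy e := by
    rw [h, Tensor.germ_smul]
  obtain ⟨d, hd⟩ := hs.2 (L.presheaf.germ U y hy e)
  have hd' : d • L.presheaf.germ U y hy s = L.presheaf.germ U y hy e := hd
  have hcd : X.presheaf.germ U y hy c * d = 1 := by
    apply hs.1
    change (X.presheaf.germ U y hy c * d) • L.presheaf.germ U y hy s =
      (1 : X.presheaf.stalk y) • L.presheaf.germ U y hy s
    rw [one_smul, mul_smul, hd', ← h1]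
  constructor
  · intro a b hab
    have hab' : a • L.presheaf.germ U y hy e = b • L.presheaf.germ U y hy e := hab
    rw [← hd', smul_smul, smul_smul] at hab'
    have h3 : a * d = b * d := hs.1 hab'
    calc a = a * d * X.presheaf.germ U y hy c := by
            rw [mul_assoc, mul_comm d, hcd, mul_one]
      _ = b * d * X.presheaf.germ U y hy c := by rw [h3]
      _ = b := by rw [mul_assoc, mul_comm d, hcd, mul_one]
  · intro m
    obtain ⟨a, ha⟩ := hs.2 m
    have ha' : a • L.presheaf.germ U y hy s = m := ha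
    refine ⟨a * X.presheaf.germ U y hy c, ?_⟩
    change (a * X.presheaf.germ U y hy c) • L.presheaf.germ U y hy e = m
    rw [mul_smul, ← h1]
    exact ha'

lemma res_sub' (M : X.Modules) {U V : X.Opens} (h : U ≤ V) (a b : Γ(M, V)) :
    res M h (a - b) = res M h a - res M h b := map_sub _ _ _

lemma res_zero' (M : X.Modules) {U V : X.Opens} (h : U ≤ V) :
    res M h (0 : Γ(M, V)) = 0 := map_zero _

/-- transfer of a local relation `t_j = c t_i` on a basic open from one family of global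
sections to another, given an inclusion of the modules of global linear relations. -/
theorem transfer [IsAffine X] (L₁ L₂ : X.Modules) [L₁.IsQuasicoherent]
    {I : Type*} [Fintype I] (t₁ : I → Γ(L₁, ⊤)) (t₂ : I → Γ(L₂, ⊤))
    (hker : ∀ v : I → Γ(X, ⊤), (∑ l, v l • t₁ l = 0) → (∑ l, v l • t₂ l = 0))
    (h : Γ(X, ⊤)) (i j : I) (c : Γ(X, X.basicOpen h))
    (e1 : res L₁ (le_top : X.basicOpen h ≤ ⊤) (t₁ j) =
      c • res L₁ (le_top : X.basicOpen h ≤ ⊤) (t₁ i)) :
    res L₂ (le_top : X.basicOpen h ≤ ⊤) (t₂ j) =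
      c • res L₂ (le_top : X.basicOpen h ≤ ⊤) (t₂ i) := by
  classical
  have hD : X.basicOpen h ≤ ⊤ := le_top
  obtain ⟨⟨a, ⟨_, m, rfl⟩⟩, hc⟩ := IsLocalization.surj (Submonoid.powers h) c
  have hc' : X.presheaf.map (homOfLE hD).op (h ^ m) * c = X.presheaf.map (homOfLE hD).op a := by
    rw [mul_comm]; exact hc
  have z1 : res L₁ hD (h ^ m • t₁ j - a • t₁ i) = 0 := by
    rw [res_sub', res_smul, res_smul, e1, smul_smul, hc', sub_self]
  obtain ⟨N, hN⟩ := QCoh.exists_pow_smul_eq_zero L₁ (isAffineOpen_top X) h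
    (h ^ m • t₁ j - a • t₁ i) z1
  have hsum : ∀ (L : X.Modules) (t : I → Γ(L, ⊤)),
      ∑ l, (((if l = j then h ^ N * h ^ m else 0) - (if l = i then h ^ N * a else 0) :
        Γ(X, ⊤)) • t l) = h ^ N • (h ^ m • t j - a • t i) := by
    intro L t
    simp only [sub_smul, Finset.sum_sub_distrib, ite_smul, zero_smul, Finset.sum_ite_eq',
      Finset.mem_univ, if_true, smul_sub, smul_smul]
  have k2 := hker _ ((hsum L₁ t₁).trans hN)
  rw [hsum L₂ t₂] at k2
  have k3 := congrArg (res L₂ hD) k2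
  rw [res_smul, res_sub', res_smul, res_smul, res_zero'] at k3
  have hu : IsUnit (X.presheaf.map (homOfLE hD).op h) :=
    IsLocalization.map_units Γ(X, X.basicOpen h) (⟨h, Submonoid.mem_powers h⟩ : Submonoid.powers h)
  have hu1 : IsUnit (X.presheaf.map (homOfLE hD).op (h ^ N)) := by
    rw [map_pow]; exact hu.pow N
  have hu2 : IsUnit (X.presheaf.map (homOfLE hD).op (h ^ m)) := by
    rw [map_pow]; exact hu.pow m
  have k4 := (hu1.smul_eq_zero).1 k3
  rw [sub_eq_zero, ← hc', mul_smul] at k4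
  exact hu2.smul_left_cancel.1 k4

end General

variable {A S : Type u} [CommRing A] [CommRing S] [Algebra A S] (𝒮 : ℕ → Submodule A S)
  [GradedAlgebra 𝒮]

variable {I : Type*} (g : I → S) (hg : ∀ i, g i ∈ 𝒮 1)
  (hgen : Algebra.adjoin A (Set.range g) = ⊤)

include hg hgen in
/-- two morphisms to `Proj` over the base agree as soon as, locally, they land in a common
chart `D₊(g i)` and pull the coordinate functions `g j / g i` back to the same functions. -/
theorem unique_of_frac {X : Scheme.{u}} (r r' : X ⟶ Proj 𝒮)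
    (hrr' : r ≫ Proj.toSpecZero 𝒮 ≫ Spec.map (CommRingCat.ofHom (algebraMap A (𝒮 0))) =
      r' ≫ Proj.toSpecZero 𝒮 ≫ Spec.map (CommRingCat.ofHom (algebraMap A (𝒮 0))))
    (H : ∀ x : X, ∃ (i : I) (W : X.Opens) (_ : x ∈ W)
      (hW : W ≤ r ⁻¹ᵁ Proj.basicOpen 𝒮 (g i)) (hW' : W ≤ r' ⁻¹ᵁ Proj.basicOpen 𝒮 (g i)), ∀ j,
      (r.appLE (Proj.basicOpen 𝒮 (g i)) W hW).hom (fracD 𝒮 (hg i) (g j) (hg j)) =
      (r'.appLE (Proj.basicOpen 𝒮 (g i)) W hW').hom (fracD 𝒮 (hg i) (g j) (hg j))) :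
    r = r' := by
  apply Scheme.hom_ext_of_forall
  intro x
  obtain ⟨i, W, hxW, hW, hW', hfrac⟩ := H x
  refine ⟨W, hxW, ?_⟩
  have ht := preimage_ι_comp 𝒮 r W hW
  have ht' := preimage_ι_comp 𝒮 r' W hW'
  have hθ : θ 𝒮 (W.ι ≫ r) ht = θ 𝒮 (W.ι ≫ r') ht' := by
    let E : Subring (Away 𝒮 (g i)) := RingHom.eqLocus
      (θ 𝒮 (W.ι ≫ r) ht) (θ 𝒮 (W.ι ≫ r') ht')
    have hE : E = ⊤ := by
      apply subring_eq_top (hg i) g hg hgen E
      · intro c
        change θ 𝒮 (W.ι ≫ r) ht _ = θ 𝒮 (W.ι ≫ r') ht' _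
        have e1 : mk1 (hg i) 0 (algebraMap A S c) (SetLike.algebraMap_mem_graded 𝒮 c) =
            fromZeroRingHom 𝒮 _ (algebraMap A (𝒮 0) c) := by
          apply HomogeneousLocalization.val_injective
          rw [val_mk1]
          change _ = Localization.mk _ _
          rw [Localization.mk_eq_mk_iff, Localization.r_iff_exists]
          exact ⟨1, by simp⟩
        rw [e1]
        have h2 : (W.ι ≫ r) ≫ Proj.toSpecZero 𝒮 ≫
            Spec.map (CommRingCat.ofHom (algebraMap A (𝒮 0))) =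
            (W.ι ≫ r') ≫ Proj.toSpecZero 𝒮 ≫
            Spec.map (CommRingCat.ofHom (algebraMap A (𝒮 0))) := by
          rw [Category.assoc, Category.assoc, hrr']
        rw [eq_chartMap 𝒮 (hg i) one_pos (W.ι ≫ r) ht,
          eq_chartMap 𝒮 (hg i) one_pos (W.ι ≫ r') ht',
          ← Category.assoc, ← Category.assoc,
          chartMap_toSpecZero, chartMap_toSpecZero, Category.assoc, Category.assoc,
          ← Spec.map_comp, ← Spec.map_comp] at h2
        have h3 := toSpecΓ_SpecMap_injective _ _ h2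
        have h4 := congrArg (fun φ => φ.hom c) h3
        exact h4
      · intro j
        change θ 𝒮 (W.ι ≫ r) ht _ = θ 𝒮 (W.ι ≫ r') ht' _
        rw [θ_ι_comp 𝒮 r W hW ht, θ_ι_comp 𝒮 r' W hW' ht']
        exact congrArg _ (hfrac j)
    ext a
    have ha : a ∈ E := by rw [hE]; trivial
    exact ha
  exact ext_of_θ 𝒮 (hg i) one_pos _ _ ht ht' hθ

open Groth.Agent.Helper13.Inv in
include hg hgen in
/-- over an affine scheme, a morphism to `Proj` of an algebra generated in degree one is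
determined by the module of linear relations among the pulled back generators: already an
inclusion of the relation modules forces equality. -/
theorem eq_of_ker_le [Fintype I] {X : Scheme.{u}} [IsAffine X] (r r' : X ⟶ Proj 𝒮)
    (hrr' : r ≫ Proj.toSpecZero 𝒮 ≫ Spec.map (CommRingCat.ofHom (algebraMap A (𝒮 0))) =
      r' ≫ Proj.toSpecZero 𝒮 ≫ Spec.map (CommRingCat.ofHom (algebraMap A (𝒮 0))))
    (hker : ∀ v : I → Γ(X, ⊤), (∑ l, v l • psec 𝒮 r (g l) (hg l) = 0) →
      (∑ l, v l • psec 𝒮 r' (g l) (hg l) = 0)) : r = r' := by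
  have hc := hcov 𝒮 g hg hgen
  have hinv : PicF.IsInvertible (Twist.twist 𝒮 1) := isInvertible_twist_one 𝒮 hc
  haveI : (PB 𝒮 r).IsQuasicoherent :=
    Inv.isQuasicoherent_of_isInvertible _ (PbInv.isInvertible_pullback r _ hinv)
  apply unique_of_frac 𝒮 g hg hgen r r' hrr'
  intro x
  obtain ⟨i, hi⟩ := exists_nmem 𝒮 g hg hgen (r x)
  have hxW₀ : x ∈ r ⁻¹ᵁ Proj.basicOpen 𝒮 (g i) := hi
  obtain ⟨h, hle, hxh⟩ := (isAffineOpen_top X).exists_basicOpen_le
    (V := r ⁻¹ᵁ Proj.basicOpen 𝒮 (g i)) ⟨x, hxW₀⟩ trivial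
  have e2 : ∀ j, res (PB 𝒮 r') (le_top : X.basicOpen h ≤ ⊤) (psec 𝒮 r' (g j) (hg j)) =
      (r.appLE (Proj.basicOpen 𝒮 (g i)) (X.basicOpen h) hle).hom
          (fracD 𝒮 (hg i) (g j) (hg j)) •
        res (PB 𝒮 r') (le_top : X.basicOpen h ≤ ⊤) (psec 𝒮 r' (g i) (hg i)) := by
    intro j
    exact transfer (PB 𝒮 r) (PB 𝒮 r') (fun l => psec 𝒮 r (g l) (hg l))
      (fun l => psec 𝒮 r' (g l) (hg l)) hker h i j _
      (pullSec_res_eq' 𝒮 (hg i) r _ hle (g j) (hg j))
  have hgenD : ∀ (y : X) (hy : y ∈ X.basicOpen h),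
      IsGen (PB 𝒮 r') (res (PB 𝒮 r') (le_top : X.basicOpen h ≤ ⊤)
        (psec 𝒮 r' (g i) (hg i))) y hy := by
    intro y hy
    obtain ⟨l, hl⟩ := exists_nmem 𝒮 g hg hgen (r' y)
    have h1 : IsGen (PB 𝒮 r') (psec 𝒮 r' (g l) (hg l)) y trivial :=
      (mem_iff 𝒮 hc (hg l) r' y).1 hl
    have h2 : IsGen (PB 𝒮 r') (res (PB 𝒮 r') (le_top : X.basicOpen h ≤ ⊤)
        (psec 𝒮 r' (g l) (hg l))) y hy :=
      (isGen_res _ (homOfLE le_top) _ y hy).2 h1
    exact isGen_of_smul _ _ _ _ (e2 l) y hy h2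
  have hle' : X.basicOpen h ≤ r' ⁻¹ᵁ Proj.basicOpen 𝒮 (g i) := by
    intro y hy
    exact (mem_iff 𝒮 hc (hg i) r' y).2
      ((isGen_res _ (homOfLE le_top) _ y hy).1 (hgenD y hy))
  refine ⟨i, X.basicOpen h, hxh, hle, hle', fun j => ?_⟩
  apply PullSecBridge.smul_cancel_of_isGen (PB 𝒮 r') _ hgenD
  rw [← e2 j]
  exact pullSec_res_eq' 𝒮 (hg i) r' _ hle' (g j) (hg j)

/-- membership in the relation module of a section of projective space. -/
theorem mem_secKernel {R : Type u} [CommRing R] (n : ℕ)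
    (s : Spec (CommRingCat.of R) ⟶ CohB1.ProjSpace n R) (w : Fin (n + 1) → R) :
    w ∈ ProjUP.secKernel n R s ↔
      ∑ l, ((Scheme.ΓSpecIso (CommRingCat.of R)).inv.hom (w l)) •
        ProjUP.pullSec s (Twist.twistProjSpace n R 1) (ProjUP.coord n R l) = 0 := by
  exact Iff.rfl

/-- **injectivity of the correspondence**: a section of `P^n_R` is determined by its module of
relations; already an inclusion suffices. -/
theorem projSpace_section_eq_of_le {R : Type u} [CommRing R] (n : ℕ)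
    (s₁ s₂ : Spec (CommRingCat.of R) ⟶ CohB1.ProjSpace n R)
    (h₁₂ : s₁ ≫ CohB1.ProjSpace.toSpec n R = s₂ ≫ CohB1.ProjSpace.toSpec n R)
    (h : ProjUP.secKernel n R s₁ ≤ ProjUP.secKernel n R s₂) : s₁ = s₂ := by
  have hgen : Algebra.adjoin R (Set.range fun i : Fin (n + 1) =>
      (MvPolynomial.X i : MvPolynomial (Fin (n + 1)) R)) = ⊤ := MvPolynomial.adjoin_range_X
  refine eq_of_ker_le (CohB1.polyGrading n R)
    (fun i : Fin (n + 1) => (MvPolynomial.X i : MvPolynomial (Fin (n + 1)) R))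
    (fun i => MvPolynomial.isHomogeneous_X R i) hgen s₁ s₂ h₁₂ ?_
  intro v hv
  let w : Fin (n + 1) → R := fun l => (Scheme.ΓSpecIso (CommRingCat.of R)).hom.hom (v l)
  have hw : ∀ l, (Scheme.ΓSpecIso (CommRingCat.of R)).inv.hom (w l) = v l := by
    intro l
    exact congrArg (fun φ => φ.hom (v l)) (Scheme.ΓSpecIso (CommRingCat.of R)).hom_inv_id
  have m1 : w ∈ ProjUP.secKernel n R s₁ := by
    rw [mem_secKernel]
    simp only [hw]
    exact hv
  have m2 := (mem_secKernel n s₂ w).1 (h m1)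
  simp only [hw] at m2
  exact m2

end Groth.Agent.Helper28.SecKernel
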