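import Mathlib
import Groth.Agent.Lib.Helper28.ProjSpaceExist
import Groth.Agent.Lib.Helper28.SecKernel
import Groth.Agent.Lib.Helper28.PullSecBridge

/-!
# A criterion for relative very ampleness over an affine base (helper28)

Sections `σ_0, …, σ_m` of an invertible module `M` such that the loci `X_{σ_a}` for the "good"
indices `a` are affine, cover `X`, and on each of them the ratios `σ_j/σ_a` together with the
functions coming from the base generate the coordinate ring, define an immersion into `P^m_Y`.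
-/

set_option autoImplicit false
universe u
open CategoryTheory CategoryTheory.Limits AlgebraicGeometry Opposite TopologicalSpace
open Groth.Agent.Helper13 Groth.Agent.Helper28.ProjFrac
open Groth.Agent.Helper28.ProjChart Groth.Agent.Helper28.ProjFracSec
open Groth.Agent.Helper28.ProjSymUnique
open Groth.Agent.Helper28.PullSecBridge
open Groth.Agent.Helper18.AffHom (res res_smul res_res app_res res_self)
open Groth.Agent.Helper13.Inv (IsGen)

noncomputable section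

namespace Groth.Agent.Helper28.VeryAmpleCrit

lemma generatedBy_of_isGen {X : Scheme.{u}} (M : X.Modules) {ι : Type*} (σ : ι → Γ(M, ⊤))
    (h : ∀ x : X, ∃ a, IsGen M (σ a) x trivial) : ProjUP.GeneratedBy M σ := by
  intro x
  obtain ⟨a, ha⟩ := h x
  rw [eq_top_iff]
  rintro t -
  obtain ⟨r, hr⟩ := ha.2 t
  have hr' : r • M.presheaf.germ ⊤ x trivial (σ a) = t := hr
  rw [← hr']
  exact Submodule.smul_mem _ _ (Submodule.subset_span ⟨a, rfl⟩)

lemma comp_appLE_mem_range {X P Q : Scheme.{u}} (i : X ⟶ P) (g : P ⟶ Q) (U : Q.Opens)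
    (W : P.Opens) (hW : W ≤ g ⁻¹ᵁ U) (e : i ⁻¹ᵁ W ≤ (i ≫ g) ⁻¹ᵁ U) (y : Γ(Q, U)) :
    ((i ≫ g).appLE U (i ⁻¹ᵁ W) e).hom y ∈ (i.app W).hom.range := by
  have h1 : (i ≫ g).appLE U (i ⁻¹ᵁ W) e = g.appLE U W hW ≫ i.app W := by
    rw [Scheme.Hom.app_eq_appLE, Scheme.Hom.appLE_comp_appLE]
  rw [h1]
  exact ⟨(g.appLE U W hW).hom y, rfl⟩

/-- the first projection `P^m_Y ⟶ P^m_ℤ`. -/
abbrev fstP (m : ℕ) (Y : Scheme.{u}) :
    CohB1.ProjSpaceOver m Y ⟶ CohB1.ProjSpace m (ULift.{u} ℤ) :=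
  pullback.fst (CohB1.ProjSpace.toSpec m (ULift.{u} ℤ)) (specULiftZIsTerminal.from Y)

/-- the second projection `P^m_Y ⟶ Y`. -/
abbrev sndP (m : ℕ) (Y : Scheme.{u}) : CohB1.ProjSpaceOver m Y ⟶ Y :=
  pullback.snd (CohB1.ProjSpace.toSpec m (ULift.{u} ℤ)) (specULiftZIsTerminal.from Y)

set_option backward.isDefEq.respectTransparency.types false in
lemma isAffineHom_fstP (m : ℕ) (Y : Scheme.{u}) [IsAffine Y] : IsAffineHom (fstP m Y) := by
  haveI : IsAffineHom (specULiftZIsTerminal.from Y) := inferInstance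
  exact MorphismProperty.pullback_fst (P := @IsAffineHom) _ _ this

set_option maxHeartbeats 1600000 in
set_option backward.isDefEq.respectTransparency.types false in
theorem isImmersion_core {X Y : Scheme.{u}} [IsAffine Y] (m : ℕ)
    (i : X ⟶ CohB1.ProjSpaceOver m Y) (M : X.Modules) (σ : Fin (m + 1) → Γ(M, ⊤))
    (τ : (Scheme.Modules.pullback (i ≫ fstP m Y)).obj
      (Twist.twistProjSpace m (ULift.{u} ℤ) 1) ≅ M)
    (hτ : ∀ j, τ.hom.app ⊤ (ProjUP.pullSec (i ≫ fstP m Y)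
      (Twist.twistProjSpace m (ULift.{u} ℤ) 1) (ProjUP.coord m (ULift.{u} ℤ) j)) = σ j)
    (good : Fin (m + 1) → Prop)
    (hcovX : ∀ x : X, ∃ a, good a ∧ IsGen M (σ a) x trivial)
    (hgood : ∀ a, good a → ∀ V : X.Opens, (∀ z, z ∈ V ↔ IsGen M (σ a) z trivial) →
      IsAffineOpen V ∧ ∀ c : Fin (m + 1) → Γ(X, V),
        (∀ j, res M (le_top : V ≤ ⊤) (σ j) = c j • res M (le_top : V ≤ ⊤) (σ a)) →
        Subring.closure (Set.range ((i ≫ sndP m Y).appLE ⊤ V (fun _ _ => trivial)).hom ∪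
          Set.range c) = ⊤) :
    IsImmersion i := by
  classical
  let 𝒮 := CohB1.polyGrading m (ULift.{u} ℤ)
  let T : Fin (m + 1) → MvPolynomial (Fin (m + 1)) (ULift.{u} ℤ) := fun j => MvPolynomial.X j
  have hT : ∀ j, T j ∈ 𝒮 1 := fun j => MvPolynomial.isHomogeneous_X _ j
  have hgenT : Algebra.adjoin (ULift.{u} ℤ) (Set.range T) = ⊤ := MvPolynomial.adjoin_range_X
  have hc𝒮 := hcov 𝒮 T hT hgenT
  let r : X ⟶ Proj 𝒮 := i ≫ fstP m Y
  let τ' : PB 𝒮 r ≅ M := τ
  have hτ' : ∀ j, τ'.hom.app ⊤ (psec 𝒮 r (T j) (hT j)) = σ j := hτ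
  have hmem : ∀ (a : Fin (m + 1)) (z : X),
      z ∈ r ⁻¹ᵁ Proj.basicOpen 𝒮 (T a) ↔ IsGen M (σ a) z trivial := by
    intro a z
    have h1 := mem_iff 𝒮 hc𝒮 (hT a) r z
    have h2 := isGen_iso_iff τ' (psec 𝒮 r (T a) (hT a)) z trivial
    rw [hτ' a] at h2
    exact h1.trans h2.symm
  haveI : MorphismProperty.RespectsRight @IsImmersion @IsOpenImmersion :=
    ⟨fun g hg f hf => by haveI := hg; haveI := hf; infer_instance⟩
  let Wc : {a // good a} → (CohB1.ProjSpaceOver m Y).Opens :=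
    fun a => fstP m Y ⁻¹ᵁ Proj.basicOpen 𝒮 (T a.1)
  refine IsZariskiLocalAtTarget.of_range_subset_iSup (P := @IsImmersion) Wc ?_ ?_
  · rintro _ ⟨x, rfl⟩
    obtain ⟨a, ha, hx⟩ := hcovX x
    exact Opens.mem_iSup.mpr ⟨⟨a, ha⟩, (hmem a x).mpr hx⟩
  · rintro ⟨a, ha⟩
    let D := Proj.basicOpen 𝒮 (T a)
    let W : (CohB1.ProjSpaceOver m Y).Opens := fstP m Y ⁻¹ᵁ D
    let V : X.Opens := i ⁻¹ᵁ W
    have hV : ∀ z, z ∈ V ↔ IsGen M (σ a) z trivial := fun z => hmem a z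
    obtain ⟨hVaff, hclos⟩ := hgood a ha V hV
    have hDaff : IsAffineOpen D := Proj.isAffineOpen_basicOpen 𝒮 (T a) (hT a) one_pos
    haveI : IsAffineHom (fstP m Y) := isAffineHom_fstP m Y
    have hWaff : IsAffineOpen W :=
      @IsAffineOpen.preimage _ _ _ hDaff (fstP m Y) (isAffineHom_fstP m Y)
    have hVr : V ≤ r ⁻¹ᵁ D := fun z hz => hz
    let c : Fin (m + 1) → Γ(X, V) := fun j =>
      (r.appLE D V hVr).hom (fracD 𝒮 (hT a) (T j) (hT j))
    have hc : ∀ j, res M (le_top : V ≤ ⊤) (σ j) = c j • res M (le_top : V ≤ ⊤) (σ a) := by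
      intro j
      have h1 := pullSec_res_eq' 𝒮 (hT a) r V hVr (T j) (hT j)
      calc res M (le_top : V ≤ ⊤) (σ j)
          = τ'.hom.app V (res (PB 𝒮 r) (le_top : V ≤ ⊤) (psec 𝒮 r (T j) (hT j))) := by
            rw [app_res, hτ' j]
        _ = τ'.hom.app V (c j • res (PB 𝒮 r) (le_top : V ≤ ⊤) (psec 𝒮 r (T a) (hT a))) :=
            congrArg (τ'.hom.app V) h1
        _ = c j • τ'.hom.app V (res (PB 𝒮 r) (le_top : V ≤ ⊤) (psec 𝒮 r (T a) (hT a))) :=
            Scheme.Modules.Hom.app_smul τ'.hom (c j) _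
        _ = c j • res M (le_top : V ≤ ⊤) (σ a) := by rw [app_res, hτ' a]
    have hsurjW : Function.Surjective (i.app W).hom := by
      rw [← RingHom.range_eq_top, eq_top_iff, ← hclos c hc, Subring.closure_le]
      rintro _ (⟨y, rfl⟩ | ⟨j, rfl⟩)
      · exact comp_appLE_mem_range i (sndP m Y) ⊤ W (fun _ _ => trivial) _ y
      · exact comp_appLE_mem_range i (fstP m Y) D W le_rfl hVr
          (fracD 𝒮 (hT a) (T j) (hT j))
    have hsurj : ∀ W' : (CohB1.ProjSpaceOver m Y).Opens, W' = W →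
        Function.Surjective (i.app W').hom := by
      rintro _ rfl; exact hsurjW
    haveI : IsAffine ((i ⁻¹ᵁ W : X.Opens) : Scheme.{u}) := hVaff
    haveI : IsAffine (W : Scheme.{u}) := hWaff
    haveI : IsClosedImmersion (i ∣_ W) := by
      apply IsClosedImmersion.of_surjective_of_isAffine
      rw [morphismRestrict_appTop]
      have hφ : Function.Bijective
          (X.presheaf.map (eqToHom (image_morphismRestrict_preimage i W ⊤)).op) :=
        ConcreteCategory.bijective_of_isIso _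
      have h2 : Function.Surjective (i.app (W.ι ''ᵁ ⊤)).hom := hsurj _ (by simp)
      intro y
      obtain ⟨y1, hy1⟩ := hφ.surjective y
      obtain ⟨y2, hy2⟩ := h2 y1
      refine ⟨y2, ?_⟩
      change (X.presheaf.map (eqToHom (image_morphismRestrict_preimage i W ⊤)).op).hom
        ((i.app (W.ι ''ᵁ ⊤)).hom y2) = y
      rw [hy2]
      exact hy1
    change IsImmersion (i ∣_ W)
    infer_instance

theorem isImmersion_core' {X Y : Scheme.{u}} [IsAffine Y] (m : ℕ)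
    (i : X ⟶ CohB1.ProjSpaceOver m Y) (q : X ⟶ Y) (hq : i ≫ sndP m Y = q)
    (M : X.Modules) (σ : Fin (m + 1) → Γ(M, ⊤))
    (τ : (Scheme.Modules.pullback (i ≫ fstP m Y)).obj
      (Twist.twistProjSpace m (ULift.{u} ℤ) 1) ≅ M)
    (hτ : ∀ j, τ.hom.app ⊤ (ProjUP.pullSec (i ≫ fstP m Y)
      (Twist.twistProjSpace m (ULift.{u} ℤ) 1) (ProjUP.coord m (ULift.{u} ℤ) j)) = σ j)
    (good : Fin (m + 1) → Prop)
    (hcovX : ∀ x : X, ∃ a, good a ∧ IsGen M (σ a) x trivial)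
    (hgood : ∀ a, good a → ∀ V : X.Opens, (∀ z, z ∈ V ↔ IsGen M (σ a) z trivial) →
      IsAffineOpen V ∧ ∀ c : Fin (m + 1) → Γ(X, V),
        (∀ j, res M (le_top : V ≤ ⊤) (σ j) = c j • res M (le_top : V ≤ ⊤) (σ a)) →
        Subring.closure (Set.range (q.appLE ⊤ V (fun _ _ => trivial)).hom ∪
          Set.range c) = ⊤) :
    IsImmersion i := by
  subst hq
  exact isImmersion_core m i M σ τ hτ good hcovX hgood

/-- **Criterion for very ampleness**: sections `σ_0, …, σ_m` of an invertible module `M` whose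
"good" members have affine non-vanishing loci covering `X`, on each of which the ratios
`σ_j/σ_a` and the functions from the base generate the coordinate ring, give an immersion
`X ⟶ P^m_Y` over `Y` pulling `O(1)` back to `M`. -/
theorem isRelVeryAmplePn_of_sections {X Y : Scheme.{u}} [IsAffine Y] (q : X ⟶ Y)
    (M : X.Modules) (hM : PicF.IsInvertible M) (m : ℕ) (σ : Fin (m + 1) → Γ(M, ⊤))
    (good : Fin (m + 1) → Prop)
    (hcovX : ∀ x : X, ∃ a, good a ∧ IsGen M (σ a) x trivial)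
    (hgood : ∀ a, good a → ∀ V : X.Opens, (∀ z, z ∈ V ↔ IsGen M (σ a) z trivial) →
      IsAffineOpen V ∧ ∀ c : Fin (m + 1) → Γ(X, V),
        (∀ j, res M (le_top : V ≤ ⊤) (σ j) = c j • res M (le_top : V ≤ ⊤) (σ a)) →
        Subring.closure (Set.range (q.appLE ⊤ V (fun _ _ => trivial)).hom ∪
          Set.range c) = ⊤) :
    RelAmple.IsRelVeryAmplePn q M := by
  have hgenBy : ProjUP.GeneratedBy M σ := generatedBy_of_isGen M σ (fun x => by
    obtain ⟨a, -, h⟩ := hcovX x; exact ⟨a, h⟩)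
  obtain ⟨r₀, hr₀, τ, hτ⟩ := ProjSpaceExist.main (R := ULift.{u} ℤ) m
    (specULiftZIsTerminal.from X) M σ hM hgenBy
  let i : X ⟶ CohB1.ProjSpaceOver m Y :=
    pullback.lift r₀ q (specULiftZIsTerminal.hom_ext _ _)
  have hfst : i ≫ fstP m Y = r₀ := pullback.lift_fst _ _ _
  have hsnd : i ≫ sndP m Y = q := pullback.lift_snd _ _ _
  obtain ⟨τ₁, hτ₁⟩ : ∃ τ₁ : (Scheme.Modules.pullback (i ≫ fstP m Y)).obj
      (Twist.twistProjSpace m (ULift.{u} ℤ) 1) ≅ M,
      ∀ j, τ₁.hom.app ⊤ (ProjUP.pullSec (i ≫ fstP m Y)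
        (Twist.twistProjSpace m (ULift.{u} ℤ) 1) (ProjUP.coord m (ULift.{u} ℤ) j)) = σ j := by
    have : ∀ r' : X ⟶ CohB1.ProjSpace m (ULift.{u} ℤ), r' = r₀ →
        ∃ τ₁ : (Scheme.Modules.pullback r').obj (Twist.twistProjSpace m (ULift.{u} ℤ) 1) ≅ M,
        ∀ j, τ₁.hom.app ⊤ (ProjUP.pullSec r'
          (Twist.twistProjSpace m (ULift.{u} ℤ) 1) (ProjUP.coord m (ULift.{u} ℤ) j)) = σ j := by
      rintro _ rfl; exact ⟨τ, hτ⟩
    exact this _ hfst
  refine ⟨m, i, isImmersion_core' m i q hsnd M σ τ₁ hτ₁ good hcovX hgood, hsnd, ⟨?_⟩⟩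
  exact τ₁.symm ≪≫ ((Scheme.Modules.pullbackComp i (fstP m Y)).app _).symm

end Groth.Agent.Helper28.VeryAmpleCrit
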