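import Mathlib
import Groth.Agent.Lib.Helper28.VeryAmpleCrit
import Groth.Agent.Lib.Helper13.TwistExt
import Groth.Agent.Lib.Helper13.Ample
import Groth.Agent.Lib.Helper13.AmpleBasis
import Groth.Agent.Lib.Helper13.GenLocusTensor
import Groth.Agent.Lib.Helper13.InvQCoh

/-!
# Twisting by a high power of an invertible module with an affine cover of non-vanishing loci
gives a very ample module (helper28)
-/

set_option autoImplicit false
universe u
open CategoryTheory CategoryTheory.Limits AlgebraicGeometry Opposite TopologicalSpace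
open Groth.Agent.Helper13 Groth.Agent.Helper13.Tensor Groth.Agent.Helper13.Inv
open Groth.Agent.Helper13.GenLoc Groth.Agent.Helper13.Twist
open Groth.Agent.Helper28.PullSecBridge Groth.Agent.Helper28.VeryAmpleCrit
open Groth.Agent.Helper18.AffHom (res res_smul res_res app_res res_self)

noncomputable section

namespace Groth.Agent.Helper28.VeryAmpleTwist

variable {X : Scheme.{u}}

/-- extension of `t ⊗ s^k` for all large `k`, by sections which do not generate outside `X_s`. -/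
theorem exists_section [CompactSpace X] [QuasiSeparatedSpace X] (𝓛 : X.Modules)
    (h𝓛 : PicF.IsInvertible 𝓛) (F : X.Modules) (hF : PicF.IsInvertible F)
    (s : Coh.structureModule X ⟶ 𝓛) (t : Γ(F, CohB1.genLocus 𝓛 s)) :
    ∃ n₀ : ℕ, ∀ k, n₀ ≤ k → ∃ σ : Γ(CohB1.tensorMod F (CohB1.tensorPow 𝓛 k), ⊤),
      (∀ (W : X.Opens) (hW : W ≤ CohB1.genLocus 𝓛 s),
        res (CohB1.tensorMod F (CohB1.tensorPow 𝓛 k)) (le_top : W ≤ ⊤) σ =
          SecTwist.twist s k F W (res F hW t)) ∧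
      (∀ z : X, IsGen (CohB1.tensorMod F (CohB1.tensorPow 𝓛 k)) σ z trivial →
        z ∈ CohB1.genLocus 𝓛 s) := by
  haveI := isQuasicoherent_of_isInvertible F hF
  obtain ⟨n, u, hu⟩ := exists_twist_eq_res 𝓛 h𝓛 s F t ⊤ (by simpa using isCompact_univ)
  refine ⟨n + 1, fun k hk => ?_⟩
  obtain ⟨d, rfl⟩ : ∃ d, k = n + (d + 1) := ⟨k - n - 1, by omega⟩
  refine ⟨mu 𝓛 F s (d + 1) n u, fun W hW => ?_, fun z hz => ?_⟩
  · have h1 : res (CohB1.tensorMod F (CohB1.tensorPow 𝓛 (n + (d + 1)))) (le_top : W ≤ ⊤)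
        (mu 𝓛 F s (d + 1) n u) =
        mu 𝓛 F s (d + 1) n (res (CohB1.tensorMod F (CohB1.tensorPow 𝓛 n)) (le_top : W ≤ ⊤) u) :=
      mu_res 𝓛 F s (d + 1) (homOfLE (le_top : W ≤ ⊤)) n u
    have h2 : res (CohB1.tensorMod F (CohB1.tensorPow 𝓛 n)) (le_top : W ≤ ⊤) u =
        SecTwist.twist s n F W (res F hW t) := hu W le_top hW
    rw [h1, h2]
    exact mu_twist 𝓛 F s (d + 1) n _
  · have hz1 : IsGen (CohB1.tensorMod F (CohB1.tensorMod (CohB1.tensorPow 𝓛 (n + d)) 𝓛))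
        ((assoc F (CohB1.tensorPow 𝓛 (n + d)) 𝓛).hom.app ⊤
          (tmul (CohB1.tensorMod F (CohB1.tensorPow 𝓛 (n + d))) 𝓛 (mu 𝓛 F s d n u)
            (sec 𝓛 s))) z trivial := hz
    have hz2 := (isGen_iso_iff (assoc F (CohB1.tensorPow 𝓛 (n + d)) 𝓛)
      (tmul (CohB1.tensorMod F (CohB1.tensorPow 𝓛 (n + d))) 𝓛 (mu 𝓛 F s d n u)
        (sec 𝓛 s)) z trivial).1 hz1
    have hz3 := (isGen_tmul_iff (CohB1.tensorMod F (CohB1.tensorPow 𝓛 (n + d))) 𝓛
      (isInvertible_tensorMod _ _ hF (isInvertible_tensorPow 𝓛 h𝓛 _)) h𝓛 (U := ⊤)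
      (mu 𝓛 F s d n u) (sec 𝓛 s) z trivial).1 hz2
    exact (mem_genLocus_iff_isGen 𝓛 s h𝓛 z).2 hz3.2

theorem exists_finset_closure {Y : Scheme.{u}} [IsAffine Y] (q : X ⟶ Y) [LocallyOfFiniteType q]
    (U : X.Opens) (hU : IsAffineOpen U) :
    ∃ T : Finset Γ(X, U), Subring.closure
      (Set.range (q.appLE ⊤ U (fun _ _ => trivial)).hom ∪ (T : Set Γ(X, U))) = ⊤ := by
  have h1 : (q.appLE ⊤ U (fun _ _ => trivial)).hom.FiniteType :=
    q.finiteType_appLE (isAffineOpen_top Y) hU _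
  letI := (q.appLE ⊤ U (fun _ _ => trivial)).hom.toAlgebra
  obtain ⟨T, hT⟩ := (h1 : Algebra.FiniteType Γ(Y, ⊤) Γ(X, U)).out
  refine ⟨T, ?_⟩
  have h2 := Algebra.adjoin_eq_ring_closure (R := Γ(Y, ⊤)) (T : Set Γ(X, U))
  rw [hT, Algebra.top_toSubring] at h2
  exact h2.symm

lemma isGen_val_genLocus (𝓛 : X.Modules) (s : Coh.structureModule X ⟶ 𝓛) (y : X)
    (hy : y ∈ CohB1.genLocus 𝓛 s) :
    IsGen 𝓛 (SecTwist.val s (CohB1.genLocus 𝓛 s)) y hy := by
  have h1 := (isGen_res 𝓛 (homOfLE (le_top : CohB1.genLocus 𝓛 s ≤ ⊤)) (sec 𝓛 s) y hy).2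
    (isGen_of_mem_genLocus 𝓛 s hy)
  have h2 : 𝓛.presheaf.map (homOfLE (le_top : CohB1.genLocus 𝓛 s ≤ ⊤)).op (sec 𝓛 s) =
      SecTwist.val s (CohB1.genLocus 𝓛 s) := SecTwist.map_val s (homOfLE le_top)
  rw [h2] at h1
  exact h1

set_option maxHeartbeats 1600000 in
/-- **Theorem C**: twisting an invertible `F` by a high power of an invertible `𝓛` having
finitely many sections with affine non-vanishing loci covering `X`, over which `F` is trivial,
gives a module very ample relative to a morphism locally of finite type to an affine scheme. -/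
theorem veryAmple_twist {Y : Scheme.{u}} [IsAffine Y] (q : X ⟶ Y) [LocallyOfFiniteType q]
    [CompactSpace X] [QuasiSeparatedSpace X]
    (𝓛 : X.Modules) (h𝓛 : PicF.IsInvertible 𝓛) (F : X.Modules) (hF : PicF.IsInvertible F)
    {I : Type*} [Fintype I] (s : I → (Coh.structureModule X ⟶ 𝓛))
    (hU : ∀ i, IsAffineOpen (CohB1.genLocus 𝓛 (s i)))
    (hcov : ∀ x : X, ∃ i, x ∈ CohB1.genLocus 𝓛 (s i))
    (e : ∀ i, Γ(F, CohB1.genLocus 𝓛 (s i)))
    (he : ∀ i (y : X) (hy : y ∈ CohB1.genLocus 𝓛 (s i)), IsGen F (e i) y hy) :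
    ∃ k₀ : ℕ, ∀ k, k₀ ≤ k →
      RelAmple.IsRelVeryAmplePn q (CohB1.tensorMod F (CohB1.tensorPow 𝓛 k)) := by
  classical
  choose T hT using fun i => exists_finset_closure q (CohB1.genLocus 𝓛 (s i)) (hU i)
  let J := Σ i : I, Option {t // t ∈ T i}
  let fval : (j : J) → Γ(X, CohB1.genLocus 𝓛 (s j.1)) := fun j => j.2.elim 1 Subtype.val
  choose n₀ hn₀ using fun j : J => exists_section 𝓛 h𝓛 F hF (s j.1) (fval j • e j.1)
  refine ⟨Finset.univ.sup n₀, fun k hk => ?_⟩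
  have hk' : ∀ j, n₀ j ≤ k := fun j => (Finset.le_sup (Finset.mem_univ j)).trans hk
  choose σ hσ1 hσ2 using fun j => hn₀ j k (hk' j)
  let M := CohB1.tensorMod F (CohB1.tensorPow 𝓛 k)
  have hM : PicF.IsInvertible M :=
    isInvertible_tensorMod _ _ hF (isInvertible_tensorPow 𝓛 h𝓛 k)
  let g : ∀ i, Γ(M, CohB1.genLocus 𝓛 (s i)) := fun i =>
    tmul F (CohB1.tensorPow 𝓛 k) (e i) (SecTwist.pow (s i) k (CohB1.genLocus 𝓛 (s i)))
  have hg : ∀ i (y : X) (hy : y ∈ CohB1.genLocus 𝓛 (s i)), IsGen M (g i) y hy := by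
    intro i y hy
    refine isGen_tmul _ _ _ _ y hy (he i y hy) ?_
    rw [pow_eq_lpow]
    exact Ample.isGen_lpow 𝓛 _ y hy (isGen_val_genLocus 𝓛 (s i) y hy) k
  have hσg : ∀ j : J, res M (le_top : CohB1.genLocus 𝓛 (s j.1) ≤ ⊤) (σ j) =
      fval j • g j.1 := by
    intro j
    rw [hσ1 j _ le_rfl, res_self]
    exact tmul_smul_left F (CohB1.tensorPow 𝓛 k) (fval j) (e j.1) _
  have hgenσ : ∀ (i : I) (z : X), z ∈ CohB1.genLocus 𝓛 (s i) →
      IsGen M (σ ⟨i, none⟩) z trivial := by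
    intro i z hz
    have h1 := hσg ⟨i, none⟩
    have h2 : IsGen M (res M (le_top : CohB1.genLocus 𝓛 (s i) ≤ ⊤) (σ ⟨i, none⟩)) z hz := by
      rw [h1]
      change IsGen M ((1 : Γ(X, CohB1.genLocus 𝓛 (s i))) • g i) z hz
      rw [one_smul]
      exact hg i z hz
    exact (isGen_res M (homOfLE (le_top : CohB1.genLocus 𝓛 (s i) ≤ ⊤)) _ z hz).1 h2
  let m := Fintype.card J
  have hcard : Fintype.card (Option J) = m + 1 := Fintype.card_option
  let eqv : Option J ≃ Fin (m + 1) := Fintype.equivFinOfCardEq hcard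
  let σ' : Fin (m + 1) → Γ(M, ⊤) := fun a => (eqv.symm a).elim 0 σ
  let good : Fin (m + 1) → Prop := fun a => ∃ i, eqv.symm a = some ⟨i, none⟩
  have hσ'some : ∀ j, σ' (eqv (some j)) = σ j := fun j => by
    change (eqv.symm (eqv (some j))).elim 0 σ = σ j
    rw [Equiv.symm_apply_apply]
    rfl
  refine isRelVeryAmplePn_of_sections q M hM m σ' good ?_ ?_
  · intro x
    obtain ⟨i, hx⟩ := hcov x
    refine ⟨eqv (some ⟨i, none⟩), ⟨i, Equiv.symm_apply_apply _ _⟩, ?_⟩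
    rw [hσ'some]
    exact hgenσ i x hx
  · rintro a ⟨i, hai⟩ V hV
    obtain rfl : a = eqv (some ⟨i, none⟩) := by rw [← hai, Equiv.apply_symm_apply]
    have hVU : V = CohB1.genLocus 𝓛 (s i) := by
      apply Opens.ext
      ext z
      rw [SetLike.mem_coe, SetLike.mem_coe, hV z, hσ'some]
      exact ⟨hσ2 ⟨i, none⟩ z, hgenσ i z⟩
    subst hVU
    refine ⟨hU i, fun c hc => ?_⟩
    rw [eq_top_iff, ← hT i]
    apply Subring.closure_mono
    apply Set.union_subset_union_right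
    intro t ht
    refine ⟨eqv (some ⟨i, some ⟨t, ht⟩⟩), ?_⟩
    have h1 := hc (eqv (some ⟨i, some ⟨t, ht⟩⟩))
    rw [hσ'some, hσ'some, hσg ⟨i, some ⟨t, ht⟩⟩, hσg ⟨i, none⟩] at h1
    change t • g i = c _ • ((1 : Γ(X, CohB1.genLocus 𝓛 (s i))) • g i) at h1
    rw [one_smul] at h1
    exact (smul_cancel_of_isGen M (g i) (hg i) _ _ h1).symm

end Groth.Agent.Helper28.VeryAmpleTwist
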