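import Mathlib
import Groth.Agent.Lib.Helper28.VeryAmpleCritG
import Groth.Agent.Lib.Helper28.VeryAmpleTwist

/-!
# Theorem C over a general base (helper28)
-/

set_option autoImplicit false
universe u
open CategoryTheory CategoryTheory.Limits AlgebraicGeometry Opposite TopologicalSpace
open Groth.Agent.Helper13 Groth.Agent.Helper13.Tensor Groth.Agent.Helper13.Inv
open Groth.Agent.Helper13.GenLoc Groth.Agent.Helper13.Twist
open Groth.Agent.Helper28.PullSecBridge Groth.Agent.Helper28.VeryAmpleCritG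
open Groth.Agent.Helper28.VeryAmpleTwist
open Groth.Agent.Helper18.AffHom (res res_smul res_res app_res res_self)

noncomputable section

namespace Groth.Agent.Helper28.VeryAmpleTwistG

variable {X : Scheme.{u}}

theorem exists_finset_closureG {Y : Scheme.{u}} (q : X ⟶ Y) [LocallyOfFiniteType q]
    (U : X.Opens) (hU : IsAffineOpen U) (B : Y.Opens) (hB : IsAffineOpen B)
    (hUB : U ≤ q ⁻¹ᵁ B) :
    ∃ T : Finset Γ(X, U), Subring.closure
      (Set.range (q.appLE B U hUB).hom ∪ (T : Set Γ(X, U))) = ⊤ := by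
  have h1 : (q.appLE B U hUB).hom.FiniteType := q.finiteType_appLE hB hU _
  letI := (q.appLE B U hUB).hom.toAlgebra
  obtain ⟨T, hT⟩ := (h1 : Algebra.FiniteType Γ(Y, B) Γ(X, U)).out
  refine ⟨T, ?_⟩
  have h2 := Algebra.adjoin_eq_ring_closure (R := Γ(Y, B)) (T : Set Γ(X, U))
  rw [hT, Algebra.top_toSubring] at h2
  exact h2.symm

set_option maxHeartbeats 1600000 in
/-- **Theorem C, general base.** -/
theorem veryAmple_twistG {Y : Scheme.{u}} (q : X ⟶ Y) [LocallyOfFiniteType q]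
    [CompactSpace X] [QuasiSeparatedSpace X]
    (𝓛 : X.Modules) (h𝓛 : PicF.IsInvertible 𝓛) (F : X.Modules) (hF : PicF.IsInvertible F)
    {I : Type*} [Fintype I] (s : I → (Coh.structureModule X ⟶ 𝓛))
    (hU : ∀ i, IsAffineOpen (CohB1.genLocus 𝓛 (s i)))
    (hcov : ∀ x : X, ∃ i, x ∈ CohB1.genLocus 𝓛 (s i))
    (B : I → Y.Opens) (hB : ∀ i, IsAffineOpen (B i))
    (hUB : ∀ i, CohB1.genLocus 𝓛 (s i) ≤ q ⁻¹ᵁ B i)
    (e : ∀ i, Γ(F, CohB1.genLocus 𝓛 (s i)))
    (he : ∀ i (y : X) (hy : y ∈ CohB1.genLocus 𝓛 (s i)), IsGen F (e i) y hy) :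
    ∃ k₀ : ℕ, ∀ k, k₀ ≤ k →
      RelAmple.IsRelVeryAmplePn q (CohB1.tensorMod F (CohB1.tensorPow 𝓛 k)) := by
  classical
  choose T hT using fun i =>
    exists_finset_closureG q (CohB1.genLocus 𝓛 (s i)) (hU i) (B i) (hB i) (hUB i)
  let J := Σ i : I, Option {t // t ∈ T i}
  let fval : (j : J) → Γ(X, CohB1.genLocus 𝓛 (s j.1)) := fun j => j.2.elim 1 Subtype.val
  choose n₀ hn₀ using fun j : J => exists_section 𝓛 h𝓛 F hF (s j.1) (fval j • e j.1)
  refine ⟨Finset.univ.sup n₀, fun k hk => ?_⟩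
  have hk' : ∀ j, n₀ j ≤ k := fun j => (Finset.le_sup (Finset.mem_univ j)).trans hk
  choose σ hσ1 hσ2 using fun j => hn₀ j k (hk' j)
  let M := CohB1.tensorMod F (CohB1.tensorPow 𝓛 k)
  have hM : PicF.IsInvertible M :=
    isInvertible_tensorMod _ _ hF (isInvertible_tensorPow 𝓛 h𝓛 k)
  let g : ∀ i, Γ(M, CohB1.genLocus 𝓛 (s i)) := fun i =>
    tmul F (CohB1.tensorPow 𝓛 k) (e i) (SecTwist.pow (s i) k (CohB1.genLocus 𝓛 (s i)))
  have hg : ∀ i (y : X) (hy : y ∈ CohB1.genLocus 𝓛 (s i)), IsGen M (g i) y hy := by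
    intro i y hy
    refine isGen_tmul _ _ _ _ y hy (he i y hy) ?_
    rw [pow_eq_lpow]
    exact Ample.isGen_lpow 𝓛 _ y hy (isGen_val_genLocus 𝓛 (s i) y hy) k
  have hσg : ∀ j : J, res M (le_top : CohB1.genLocus 𝓛 (s j.1) ≤ ⊤) (σ j) =
      fval j • g j.1 := by
    intro j
    rw [hσ1 j _ le_rfl, res_self]
    exact tmul_smul_left F (CohB1.tensorPow 𝓛 k) (fval j) (e j.1) _
  have hgenσ : ∀ (i : I) (z : X), z ∈ CohB1.genLocus 𝓛 (s i) →
      IsGen M (σ ⟨i, none⟩) z trivial := by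
    intro i z hz
    have h1 := hσg ⟨i, none⟩
    have h2 : IsGen M (res M (le_top : CohB1.genLocus 𝓛 (s i) ≤ ⊤) (σ ⟨i, none⟩)) z hz := by
      rw [h1]
      change IsGen M ((1 : Γ(X, CohB1.genLocus 𝓛 (s i))) • g i) z hz
      rw [one_smul]
      exact hg i z hz
    exact (isGen_res M (homOfLE (le_top : CohB1.genLocus 𝓛 (s i) ≤ ⊤)) _ z hz).1 h2
  let m := Fintype.card J
  have hcard : Fintype.card (Option J) = m + 1 := Fintype.card_option
  let eqv : Option J ≃ Fin (m + 1) := Fintype.equivFinOfCardEq hcard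
  let σ' : Fin (m + 1) → Γ(M, ⊤) := fun a => (eqv.symm a).elim 0 σ
  let good : Fin (m + 1) → Prop := fun a => ∃ i, eqv.symm a = some ⟨i, none⟩
  have hσ'some : ∀ j, σ' (eqv (some j)) = σ j := fun j => by
    change (eqv.symm (eqv (some j))).elim 0 σ = σ j
    rw [Equiv.symm_apply_apply]
    rfl
  refine isRelVeryAmplePn_of_sectionsG q M hM m σ' good ?_ ?_
  · intro x
    obtain ⟨i, hx⟩ := hcov x
    refine ⟨eqv (some ⟨i, none⟩), ⟨i, Equiv.symm_apply_apply _ _⟩, ?_⟩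
    rw [hσ'some]
    exact hgenσ i x hx
  · rintro a ⟨i, hai⟩
    refine ⟨B i, hB i, fun V hV => ?_⟩
    obtain rfl : a = eqv (some ⟨i, none⟩) := by rw [← hai, Equiv.apply_symm_apply]
    have hVU : V = CohB1.genLocus 𝓛 (s i) := by
      apply Opens.ext
      ext z
      rw [SetLike.mem_coe, SetLike.mem_coe, hV z, hσ'some]
      exact ⟨hσ2 ⟨i, none⟩ z, hgenσ i z⟩
    subst hVU
    refine ⟨hU i, hUB i, fun c hc => ?_⟩
    rw [eq_top_iff, ← hT i]
    apply Subring.closure_mono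
    apply Set.union_subset_union_right
    intro t ht
    refine ⟨eqv (some ⟨i, some ⟨t, ht⟩⟩), ?_⟩
    have h1 := hc (eqv (some ⟨i, some ⟨t, ht⟩⟩))
    rw [hσ'some, hσ'some, hσg ⟨i, some ⟨t, ht⟩⟩, hσg ⟨i, none⟩] at h1
    change t • g i = c _ • ((1 : Γ(X, CohB1.genLocus 𝓛 (s i))) • g i) at h1
    rw [one_smul] at h1
    exact (smul_cancel_of_isGen M (g i) (hg i) _ _ h1).symm

end Groth.Agent.Helper28.VeryAmpleTwistG
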