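import Mathlib
import Groth.Agent.Lib.Helper28.VeryAmpleTwistG
import Groth.Agent.Lib.Helper28.VeryAmpleAmple

/-!
# High powers of an ample module twisted by an invertible module are very ample relative to
any morphism locally of finite type (general base) (helper28)
-/

set_option autoImplicit false
universe u
open CategoryTheory CategoryTheory.Limits AlgebraicGeometry Opposite TopologicalSpace
open Groth.Agent.Helper13 Groth.Agent.Helper13.Tensor Groth.Agent.Helper13.Inv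
open Groth.Agent.Helper13.GenLoc Groth.Agent.Helper13.Twist
open Groth.Agent.Helper28.VeryAmpleTwistG Groth.Agent.Helper28.VeryAmpleAmple
open Groth.Agent.Helper18.AffHom (res res_smul res_res app_res res_self)

noncomputable section

namespace Groth.Agent.Helper28.VeryAmpleAmpleG

variable {X : Scheme.{u}}

lemma exists_triv_genLocusG {Y : Scheme.{u}} (q : X ⟶ Y) (L L' : X.Modules)
    (hL : CohB1.IsAmple L) (hL' : PicF.IsInvertible L') (x : X) :
    ∃ (n : ℕ) (s : Coh.structureModule X ⟶ CohB1.tensorPow L (n + 1)),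
      x ∈ CohB1.genLocus _ s ∧ IsAffineOpen (CohB1.genLocus _ s) ∧
      (∃ B : Y.Opens, IsAffineOpen B ∧ CohB1.genLocus _ s ≤ q ⁻¹ᵁ B) ∧
      (∃ ℓ : Γ(L, CohB1.genLocus _ s),
        ∀ (y : X) (hy : y ∈ CohB1.genLocus _ s), IsGen L ℓ y hy) ∧
      (∃ ℓ' : Γ(L', CohB1.genLocus _ s),
        ∀ (y : X) (hy : y ∈ CohB1.genLocus _ s), IsGen L' ℓ' y hy) := by
  obtain ⟨U₁, hx₁, ℓ₁, hℓ₁⟩ := (isInvertible_iff_exists_isGen L).1 hL.1 x
  obtain ⟨U₂, hx₂, ℓ₂, hℓ₂⟩ := (isInvertible_iff_exists_isGen L').1 hL' x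
  obtain ⟨B, hB, hxB, -⟩ :=
    exists_isAffineOpen_mem_and_subset (show q x ∈ (⊤ : Y.Opens) from trivial)
  obtain ⟨A, hA, hxA, hAU⟩ :=
    exists_isAffineOpen_mem_and_subset (show x ∈ U₁ ⊓ U₂ ⊓ q ⁻¹ᵁ B from ⟨⟨hx₁, hx₂⟩, hxB⟩)
  have hBas := Ample.isBasis_genLocus_of_isAmple L hL
  rw [Opens.isBasis_iff_nbhd] at hBas
  obtain ⟨W, ⟨n, s, rfl⟩, hxW, hWA⟩ := hBas hxA
  have hAU' : A ≤ U₁ ⊓ U₂ ⊓ q ⁻¹ᵁ B := hAU
  have h1 : CohB1.genLocus _ s ≤ U₁ := hWA.trans (hAU'.trans (inf_le_left.trans inf_le_left))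
  have h2 : CohB1.genLocus _ s ≤ U₂ := hWA.trans (hAU'.trans (inf_le_left.trans inf_le_right))
  have h3 : CohB1.genLocus _ s ≤ q ⁻¹ᵁ B := hWA.trans (hAU'.trans inf_le_right)
  refine ⟨n, s, hxW,
    isAffineOpen_genLocus_of_le _ (isInvertible_tensorPow L hL.1 (n + 1)) s hA hWA,
    ⟨B, hB, h3⟩,
    ⟨L.presheaf.map (homOfLE h1).op ℓ₁, fun y hy =>
      (isGen_res L (homOfLE h1) ℓ₁ y hy).2 (hℓ₁ y (h1 hy))⟩,
    ⟨L'.presheaf.map (homOfLE h2).op ℓ₂, fun y hy =>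
      (isGen_res L' (homOfLE h2) ℓ₂ y hy).2 (hℓ₂ y (h2 hy))⟩⟩

set_option maxHeartbeats 1600000 in
/-- for `L` ample and `L'` invertible on `X` locally of finite type over any scheme `Y`,
`L^n ⊗ L'` is very ample (in the `P^m_Y` sense) for all large `n`. -/
theorem eventually_veryAmpleG {Y : Scheme.{u}} (q : X ⟶ Y) [LocallyOfFiniteType q]
    (L L' : X.Modules) (hL : CohB1.IsAmple L) (hL' : PicF.IsInvertible L') :
    ∃ n₀ : ℕ, ∀ n : ℕ, n₀ ≤ n →
      RelAmple.IsRelVeryAmplePn q (CohB1.tensorMod (CohB1.tensorPow L n) L') := by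
  classical
  haveI : CompactSpace X := hL.2.1
  haveI : QuasiSeparatedSpace X := Ample.quasiSeparatedSpace_of_isAmple L hL
  have hLi := hL.1
  choose n s hx haff hBex hℓ hℓ' using exists_triv_genLocusG q L L' hL hL'
  choose B hBaff hsB using hBex
  obtain ⟨t, ht⟩ := isCompact_univ.elim_finite_subcover
    (fun x : X => ((CohB1.genLocus _ (s x) : X.Opens) : Set X))
    (fun x => (CohB1.genLocus _ (s x)).isOpen)
    (fun x _ => Set.mem_iUnion.2 ⟨x, hx x⟩)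
  obtain ⟨N, hN⟩ : ∃ N : ℕ, N = ∏ x ∈ t, (n x + 1) := ⟨_, rfl⟩
  have hNpos : 0 < N := by rw [hN]; exact Finset.prod_pos (fun x _ => Nat.succ_pos _)
  have hdiv : ∀ i : {x // x ∈ t}, ∃ b, (n i.1 + 1) * (b + 1) = N := by
    intro i
    obtain ⟨b, hb⟩ := Finset.dvd_prod_of_mem (fun x => n x + 1) i.2
    rw [← hN] at hb
    have hb0 : b ≠ 0 := by
      rintro rfl
      rw [Nat.mul_zero] at hb
      exact hNpos.ne' hb
    exact ⟨b - 1, by rw [Nat.sub_add_cancel (Nat.pos_of_ne_zero hb0)]; exact hb.symm⟩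
  choose b hb using hdiv
  choose s' hs' using fun i : {x // x ∈ t} =>
    exists_pow_section L hLi (n i.1) (b i) (s i.1) N (hb i)
  have h𝓛 : PicF.IsInvertible (CohB1.tensorPow L N) := isInvertible_tensorPow L hLi N
  have hU : ∀ i, IsAffineOpen (CohB1.genLocus (CohB1.tensorPow L N) (s' i)) := fun i => by
    rw [hs' i]; exact haff _
  have hUB : ∀ i : {x // x ∈ t},
      CohB1.genLocus (CohB1.tensorPow L N) (s' i) ≤ q ⁻¹ᵁ B i.1 := fun i => by
    rw [hs' i]; exact hsB _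
  have hcov : ∀ x : X, ∃ i, x ∈ CohB1.genLocus (CohB1.tensorPow L N) (s' i) := by
    intro x
    have := ht (Set.mem_univ x)
    simp only [Set.mem_iUnion] at this
    obtain ⟨y, hy, hxy⟩ := this
    exact ⟨⟨y, hy⟩, by rw [hs' ⟨y, hy⟩]; exact hxy⟩
  have hC : ∀ ρ : ℕ, ∃ k₀ : ℕ, ∀ k, k₀ ≤ k → RelAmple.IsRelVeryAmplePn q
      (CohB1.tensorMod (CohB1.tensorMod (CohB1.tensorPow L ρ) L')
        (CohB1.tensorPow (CohB1.tensorPow L N) k)) := by
    intro ρ
    have hF : PicF.IsInvertible (CohB1.tensorMod (CohB1.tensorPow L ρ) L') :=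
      isInvertible_tensorMod _ _ (isInvertible_tensorPow L hLi ρ) hL'
    have hex : ∀ i, ∃ e : Γ(CohB1.tensorMod (CohB1.tensorPow L ρ) L',
        CohB1.genLocus (CohB1.tensorPow L N) (s' i)),
        ∀ (y : X) (hy : y ∈ CohB1.genLocus (CohB1.tensorPow L N) (s' i)),
          IsGen (CohB1.tensorMod (CohB1.tensorPow L ρ) L') e y hy := by
      intro i
      rw [hs' i]
      obtain ⟨ℓ, hℓi⟩ := hℓ i.1
      obtain ⟨ℓ', hℓ'i⟩ := hℓ' i.1
      exact ⟨tmul _ _ (lpow L ℓ ρ) ℓ', fun y hy =>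
        isGen_tmul _ _ _ _ y hy (Ample.isGen_lpow L ℓ y hy (hℓi y hy) ρ) (hℓ'i y hy)⟩
    choose e he using hex
    exact veryAmple_twistG q (CohB1.tensorPow L N) h𝓛 _ hF s' hU hcov
      (fun i => B i.1) (fun i => hBaff i.1) hUB e he
  choose k₀ hk₀ using hC
  refine ⟨N * (Finset.range N).sup k₀, fun m hm => ?_⟩
  have hρ : m % N < N := Nat.mod_lt _ hNpos
  have hk : (Finset.range N).sup k₀ ≤ m / N :=
    (Nat.le_div_iff_mul_le hNpos).2 (by rw [Nat.mul_comm]; exact hm)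
  have hk' : k₀ (m % N) ≤ m / N := (Finset.le_sup (Finset.mem_range.2 hρ)).trans hk
  have h1 := hk₀ (m % N) (m / N) hk'
  exact isRelVeryAmplePn_of_iso q (twistIso L L' (m % N) N (m / N) m
    (by rw [Nat.add_comm]; exact Nat.div_add_mod m N)) h1

/-- powers of an ample module are very ample relative to any morphism locally of finite type. -/
theorem eventually_veryAmple_pow {Y : Scheme.{u}} (q : X ⟶ Y) [LocallyOfFiniteType q]
    (L : X.Modules) (hL : CohB1.IsAmple L) :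
    ∃ d₀ : ℕ, 0 < d₀ ∧ ∀ d : ℕ, d₀ ≤ d →
      RelAmple.IsRelVeryAmplePn q (CohB1.tensorPow L d) := by
  obtain ⟨n₀, hn₀⟩ := eventually_veryAmpleG q L (Coh.structureModule X) hL
    isInvertible_structureModule
  exact ⟨n₀ + 1, Nat.succ_pos _, fun d hd =>
    isRelVeryAmplePn_of_iso q (rid (CohB1.tensorPow L d)) (hn₀ d ((Nat.le_succ _).trans hd))⟩

end Groth.Agent.Helper28.VeryAmpleAmpleG
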