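import Mathlib
import Groth.Agent.Lib.Helper28.VeryAmpleAmple
import Groth.Agent.Lib.Helper28.TwistGen
import Groth.Agent.Lib.Helper13.PbAmple
import Groth.Agent.Lib.Helper15.ProjSpaceProper

/-!
# Very ample (in the `P^m` sense) over an affine base implies ample; the ample/very ample
dictionary over an affine base (helper28)
-/

set_option autoImplicit false
universe u
open CategoryTheory CategoryTheory.Limits AlgebraicGeometry Opposite TopologicalSpace
open Groth.Agent.Helper13 Groth.Agent.Helper13.Tensor Groth.Agent.Helper13.Inv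
open Groth.Agent.Helper28.VeryAmpleCrit Groth.Agent.Helper28.VeryAmpleAmple

noncomputable section

namespace Groth.Agent.Helper28.VeryAmpleConv

variable {X Y : Scheme.{u}}

/-- `O(1)` is ample on `P^m_ℤ`. -/
theorem isAmple_twistProjSpace_one (m : ℕ) :
    CohB1.IsAmple (Twist.twistProjSpace m (ULift.{u} ℤ) 1) := by
  let 𝒮 := CohB1.polyGrading m (ULift.{u} ℤ)
  let T : Fin (m + 1) → MvPolynomial (Fin (m + 1)) (ULift.{u} ℤ) := fun j => MvPolynomial.X j
  have hT : ∀ j, T j ∈ 𝒮 1 := fun j => MvPolynomial.isHomogeneous_X _ j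
  have hgenT : Algebra.adjoin (ULift.{u} ℤ) (Set.range T) = ⊤ := MvPolynomial.adjoin_range_X
  have hc𝒮 := Groth.Agent.Helper28.ProjSymUnique.hcov 𝒮 T hT hgenT
  haveI hprop : IsProper (CohB1.ProjSpace.toSpec m (ULift.{u} ℤ)) :=
    Groth.Agent.Helper15.isProper_projSpace_toSpec m _
  haveI hqc : QuasiCompact (CohB1.ProjSpace.toSpec m (ULift.{u} ℤ)) := inferInstance
  haveI : CompactSpace (Proj 𝒮) :=
    @QuasiCompact.compactSpace_of_compactSpace _ _ (CohB1.ProjSpace.toSpec m (ULift.{u} ℤ)) hqc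
      inferInstance
  exact Groth.Agent.Helper28.TwistMul.twist_one_isAmple' 𝒮 hc𝒮

/-- a module very ample relative to a quasi-compact morphism to an affine scheme is ample. -/
theorem isAmple_of_veryAmple [IsAffine Y] (q : X ⟶ Y) [QuasiCompact q] (M : X.Modules)
    (h : RelAmple.IsRelVeryAmplePn q M) : CohB1.IsAmple M := by
  obtain ⟨m, i, hi, hq, ⟨τ⟩⟩ := h
  haveI : CompactSpace X := QuasiCompact.compactSpace_of_compactSpace q
  have h1 := isAmple_twistProjSpace_one.{u} m
  haveI := isAffineHom_fstP m Y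
  have h2 : CohB1.IsAmple (Twist.twistOver m Y 1) :=
    Groth.Agent.Helper13.PbAmple.isAmple_pullback_of_isAffineHom (fstP m Y) _ h1
  have h3 : CohB1.IsAmple ((Scheme.Modules.pullback i).obj (Twist.twistOver m Y 1)) :=
    Groth.Agent.Helper13.PbAmple.isAmple_pullback_of_isEmbedding i _ i.isEmbedding h2
  exact Groth.Agent.Helper13.Ample.isAmple_of_iso τ.symm h3

/-- the ample / very ample dictionary over an affine base. -/
theorem ample_iff [IsAffine Y] (q : X ⟶ Y) [QuasiCompact q] [LocallyOfFiniteType q]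
    (L : X.Modules) (hL : PicF.IsInvertible L) :
    (CohB1.IsAmple L ↔ ∃ n : ℕ, 0 < n ∧ RelAmple.IsRelVeryAmplePn q (CohB1.tensorPow L n)) ∧
      (CohB1.IsAmple L → ∃ n₀ : ℕ, ∀ n, n₀ ≤ n →
        RelAmple.IsRelVeryAmplePn q (CohB1.tensorPow L n)) := by
  have hA : CohB1.IsAmple L → ∃ n₀ : ℕ, ∀ n, n₀ ≤ n →
      RelAmple.IsRelVeryAmplePn q (CohB1.tensorPow L n) := by
    intro hamp
    obtain ⟨n₀, hn₀⟩ := eventually_veryAmple q L (Coh.structureModule X) hamp
      isInvertible_structureModule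
    exact ⟨n₀, fun n hn => isRelVeryAmplePn_of_iso q (rid (CohB1.tensorPow L n)) (hn₀ n hn)⟩
  refine ⟨⟨fun hamp => ?_, ?_⟩, hA⟩
  · obtain ⟨n₀, hn₀⟩ := hA hamp
    exact ⟨n₀ + 1, Nat.succ_pos _, hn₀ _ (Nat.le_succ _)⟩
  · rintro ⟨n, hn, hv⟩
    exact Groth.Agent.Helper13.Ample.isAmple_of_isAmple_tensorPow L hL n hn
      (isAmple_of_veryAmple q _ hv)

end Groth.Agent.Helper28.VeryAmpleConv
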