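import Mathlib
import Groth.Agent.Lib.Helper28.VeryAmpleAmpleG
import Groth.Agent.Lib.Helper28.VeryAmpleConv
import Groth.Agent.Lib.Helper13.AmpleQA
import Groth.Agent.S4381
import Groth.Agent.S2332
import Groth.Agent.S2359
import Groth.Agent.S4380
import Groth.Agent.S4387
import Groth.Agent.S2331

/-!
# Very ample (in the `P^n` sense) implies relatively ample; quasi-projectivity dictionaries
(helper28)
-/

set_option autoImplicit false
universe u
open CategoryTheory CategoryTheory.Limits AlgebraicGeometry Opposite TopologicalSpace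
open Groth.Agent.Helper13 Groth.Agent.Helper13.Tensor Groth.Agent.Helper13.Inv
open Groth.Agent.Helper28.VeryAmpleCrit Groth.Agent.Helper28.VeryAmpleAmple
open Groth.Agent.Helper28.VeryAmpleAmpleG Groth.Agent.Helper28.VeryAmpleConv

noncomputable section

namespace Groth.Agent.Helper28.VeryAmpleRel

variable {X S : Scheme.{u}}

lemma isRelAmple_of_iso (g : X ⟶ S) {M N : X.Modules} (e : M ≅ N)
    (h : RelAmple.IsRelAmple g M) : RelAmple.IsRelAmple g N :=
  ⟨h.1, fun V => Groth.Agent.Helper13.Ample.isAmple_of_iso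
    ((Scheme.Modules.restrictFunctor (g ⁻¹ᵁ V.1).ι).mapIso e) (h.2 V)⟩

lemma quasiCompact_of_comp_sndP (n : ℕ) (i : X ⟶ CohB1.ProjSpaceOver n S)
    (h : QuasiCompact (i ≫ sndP n S)) : QuasiCompact i := by
  haveI : IsProper (sndP n S) := Groth.Agent.Helper15.isProper_projSpaceOver_toBase n S
  haveI : QuasiSeparated (sndP n S) := inferInstance
  exact MorphismProperty.of_postcomp (W := @QuasiCompact) (W' := @QuasiSeparated) i (sndP n S)
    inferInstance h

/-- a module very ample (in the `P^n` sense) relative to a quasi-compact morphism is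
relatively ample. -/
theorem isRelAmple_of_veryAmple (g : X ⟶ S) [QuasiCompact g] (M : X.Modules)
    (h : RelAmple.IsRelVeryAmplePn g M) : RelAmple.IsRelAmple g M := by
  obtain ⟨n, i, hi, hg, ⟨τ⟩⟩ := h
  subst hg
  haveI hprop : IsProper (CohB1.ProjSpace.toSpec n (ULift.{u} ℤ)) :=
    Groth.Agent.Helper15.isProper_projSpace_toSpec n _
  haveI : QuasiCompact (CohB1.ProjSpace.toSpec n (ULift.{u} ℤ)) := inferInstance
  have h1 : RelAmple.IsRelAmple (CohB1.ProjSpace.toSpec n (ULift.{u} ℤ))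
      (Twist.twistProjSpace n (ULift.{u} ℤ) 1) :=
    (Groth.Agent.S4381.result _ _).2 (isAmple_twistProjSpace_one n)
  have h2 : RelAmple.IsRelAmple (sndP n S) (Twist.twistOver n S 1) :=
    Groth.Agent.S2332.result (CohB1.ProjSpace.toSpec n (ULift.{u} ℤ))
      (specULiftZIsTerminal.from S) _ h1
  haveI : IsProper (sndP n S) := Groth.Agent.Helper15.isProper_projSpaceOver_toBase n S
  haveI : QuasiCompact (sndP n S) := inferInstance
  haveI : QuasiCompact i := quasiCompact_of_comp_sndP n i inferInstance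
  have h3 := Groth.Agent.S2359.result (sndP n S) i i.isEmbedding (Twist.twistOver n S 1) h2
  exact isRelAmple_of_iso _ τ.symm h3

lemma isHQuasiProjective_of_arrowIso {X₁ S₁ X₂ S₂ : Scheme.{u}} (g₁ : X₁ ⟶ S₁) (g₂ : X₂ ⟶ S₂)
    (e : Arrow.mk g₁ ≅ Arrow.mk g₂) (h : RelProj.IsHQuasiProjective g₁) :
    RelProj.IsHQuasiProjective g₂ := by
  obtain ⟨n, i, himm, hqc, hcomp⟩ := h
  haveI := himm
  haveI := hqc
  let eX : X₁ ≅ X₂ := Arrow.leftFunc.mapIso e
  let eS : S₁ ≅ S₂ := Arrow.rightFunc.mapIso e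
  have hw : g₁ ≫ eS.hom = eX.hom ≫ g₂ := (Arrow.w e.hom).symm
  let φ : CohB1.ProjSpaceOver n S₁ ⟶ CohB1.ProjSpaceOver n S₂ :=
    pullback.map _ _ _ _ (𝟙 _) eS.hom (𝟙 _) (by simp) (specULiftZIsTerminal.hom_ext _ _)
  haveI : IsIso φ := by
    change IsIso (pullback.map _ _ _ _ (𝟙 _) eS.hom (𝟙 _) _ _)
    infer_instance
  have hφ : φ ≫ CohB1.ProjSpaceOver.toBase n S₂ = CohB1.ProjSpaceOver.toBase n S₁ ≫ eS.hom :=
    pullback.lift_snd _ _ _
  refine ⟨n, eX.inv ≫ i ≫ φ, inferInstance, inferInstance, ?_⟩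
  rw [Category.assoc, Category.assoc, hφ, ← Category.assoc i, hcomp, hw, Iso.inv_hom_id_assoc]

/-- S9695 -/
theorem relAmple_iff_locally_veryAmple (f : X ⟶ S) [LocallyOfFiniteType f] [QuasiCompact f]
    (L : X.Modules) (hLinv : PicF.IsInvertible L) :
    RelAmple.IsRelAmple f L ↔
      ∃ (ι : Type u) (V : ι → S.Opens), (⨆ j, V j) = ⊤ ∧
        ∀ j, ∃ d : ℕ, 0 < d ∧
          RelAmple.IsRelVeryAmplePn (f ∣_ V j)
            ((CohB1.tensorPow L d).restrict (f ⁻¹ᵁ V j).ι) := by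
  constructor
  · intro hL
    refine ⟨S.affineOpens, fun j => j.1, iSup_affineOpens_eq_top S, fun j => ?_⟩
    have hamp := hL.2 j
    obtain ⟨d₀, hd₀, h⟩ := eventually_veryAmple_pow (f ∣_ j.1) (L.restrict (f ⁻¹ᵁ j.1).ι) hamp
    exact ⟨d₀, hd₀, isRelVeryAmplePn_of_iso _ (powRestrict (f ⁻¹ᵁ j.1).ι L d₀).symm
      (h d₀ le_rfl)⟩
  · rintro ⟨ι, V, hV, h⟩
    rw [Groth.Agent.S4380.result f L V hV]
    intro j
    obtain ⟨d, hd, hva⟩ := h j
    have h1 := isRelAmple_of_veryAmple (f ∣_ V j) _ hva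
    have h2 := isRelAmple_of_iso _ (powRestrict (f ⁻¹ᵁ V j).ι L d) h1
    exact (Groth.Agent.S4387.result (f ∣_ V j) _ (isInvertible_restrict _ L hLinv) d hd).2 h2

/-- S9712 -/
theorem locally_quasiProjective_iff (f : X ⟶ S) :
    (∀ s : S, ∃ U : S.Opens, s ∈ U ∧ RelProj.IsQuasiProjective (f ∣_ U)) ↔
      (∀ s : S, ∃ U : S.Opens, s ∈ U ∧ RelProj.IsHQuasiProjective (f ∣_ U)) := by
  constructor
  · intro h s
    obtain ⟨U, hsU, hlft, hqc, L, hL⟩ := h s
    haveI := hlft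
    haveI := hqc
    obtain ⟨V'', hV'', hsV'', -⟩ := exists_isAffineOpen_mem_and_subset
      (X := (U : Scheme.{u})) (x := ⟨s, hsU⟩) (U := ⊤) trivial
    refine ⟨U.ι ''ᵁ V'', ⟨⟨s, hsU⟩, hsV'', rfl⟩, ?_⟩
    apply isHQuasiProjective_of_arrowIso _ _ (morphismRestrictRestrict f U V'')
    have hamp := hL.2 ⟨V'', hV''⟩
    obtain ⟨d₀, hd₀, h⟩ := eventually_veryAmple_pow ((f ∣_ U) ∣_ V'') _ hamp
    obtain ⟨n, i, himm, hcomp, -⟩ := h d₀ le_rfl
    exact ⟨n, i, himm, quasiCompact_of_comp_sndP n i (by rw [hcomp]; infer_instance), hcomp⟩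
  · intro h s
    obtain ⟨U, hsU, n, i, himm, hqc, hcomp⟩ := h s
    haveI := himm
    haveI := hqc
    haveI : IsProper (CohB1.ProjSpaceOver.toBase n (U : Scheme.{u})) :=
      Groth.Agent.Helper15.isProper_projSpaceOver_toBase n _
    have hlft : LocallyOfFiniteType (f ∣_ U) := by rw [← hcomp]; infer_instance
    have hqc' : QuasiCompact (f ∣_ U) := by rw [← hcomp]; infer_instance
    haveI := hqc'
    exact ⟨U, hsU, hlft, hqc', (Scheme.Modules.pullback i).obj (Twist.twistOver n _ 1),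
      isRelAmple_of_veryAmple (f ∣_ U) _ ⟨n, i, himm, hcomp, ⟨Iso.refl _⟩⟩⟩

set_option backward.isDefEq.respectTransparency.types false in
/-- S4414 -/
theorem quasiProjective_iff_of_ample {Y : Scheme.{u}} [CompactSpace Y]
    (hY : ∃ M : Y.Modules, CohB1.IsAmple M) (f : X ⟶ Y) :
    RelProj.IsQuasiProjective f ↔
      (LocallyOfFiniteType f ∧ QuasiCompact f ∧
        ∃ (r : ℕ) (i : X ⟶ CohB1.ProjSpaceOver r Y),
          IsImmersion i ∧ i ≫ CohB1.ProjSpaceOver.toBase r Y = f) := by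
  obtain ⟨M, hM⟩ := hY
  constructor
  · rintro ⟨hlft, hqc, L, hL⟩
    haveI := hlft
    haveI := hqc
    refine ⟨hlft, hqc, ?_⟩
    haveI : QuasiCompact (specULiftZIsTerminal.from Y) :=
      (HasAffineProperty.iff_of_isAffine (P := @QuasiCompact)).mpr ‹CompactSpace Y›
    have hK : RelAmple.IsRelAmple (specULiftZIsTerminal.from Y) M :=
      (Groth.Agent.S4381.result _ M).2 hM
    obtain ⟨n₀, -, hn⟩ := Groth.Agent.S2331.result f (specULiftZIsTerminal.from Y) L M hL hK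
    have hN := hn n₀ le_rfl
    have hNamp := (Groth.Agent.S4381.result (f ≫ specULiftZIsTerminal.from Y) _).1 hN
    obtain ⟨d₀, -, h⟩ := eventually_veryAmple_pow f _ hNamp
    obtain ⟨r, i, himm, hcomp, -⟩ := h d₀ le_rfl
    exact ⟨r, i, himm, hcomp⟩
  · rintro ⟨hlft, hqc, r, i, himm, hcomp⟩
    haveI := hqc
    exact ⟨hlft, hqc, _, isRelAmple_of_veryAmple f _ ⟨r, i, himm, hcomp, ⟨Iso.refl _⟩⟩⟩

end Groth.Agent.Helper28.VeryAmpleRel
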