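import Mathlib
import Groth.Agent.Lib.Helper28.VeryAmpleRel
import Groth.Agent.S2333

/-!
# Immersions into projective space over a base with an ample module (helper28)
-/

set_option autoImplicit false
universe u
open CategoryTheory CategoryTheory.Limits AlgebraicGeometry Opposite TopologicalSpace
open Groth.Agent.Helper13 Groth.Agent.Helper13.Tensor Groth.Agent.Helper13.Inv
open Groth.Agent.Helper28.VeryAmpleCrit Groth.Agent.Helper28.VeryAmpleAmple
open Groth.Agent.Helper28.VeryAmpleAmpleG Groth.Agent.Helper28.VeryAmpleConv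
open Groth.Agent.Helper28.VeryAmpleRel

noncomputable section

namespace Groth.Agent.Helper28.VeryAmpleRel2

variable {X S : Scheme.{u}}

set_option backward.isDefEq.respectTransparency.types false in
/-- a relatively ample module over a base with an ample module gives an ample module. -/
lemma exists_ample_of_relAmple (hS : ∃ N : S.Modules, CohB1.IsAmple N) (f : X ⟶ S)
    [QuasiCompact f] (L : X.Modules) (hL : RelAmple.IsRelAmple f L) :
    ∃ L' : X.Modules, CohB1.IsAmple L' := by
  obtain ⟨N, hN⟩ := hS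
  haveI : CompactSpace S := hN.2.1
  haveI : QuasiCompact (specULiftZIsTerminal.from S) :=
    (HasAffineProperty.iff_of_isAffine (P := @QuasiCompact)).mpr ‹CompactSpace S›
  have hK : RelAmple.IsRelAmple (specULiftZIsTerminal.from S) N :=
    (Groth.Agent.S4381.result _ N).2 hN
  obtain ⟨n₀, -, hn⟩ := Groth.Agent.S2331.result f (specULiftZIsTerminal.from S) L N hL hK
  exact ⟨_, (Groth.Agent.S4381.result (f ≫ specULiftZIsTerminal.from S) _).1 (hn n₀ le_rfl)⟩

set_option backward.isDefEq.respectTransparency.types false in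
/-- an ample module is ample relative to any quasi-compact morphism. -/
lemma isRelAmple_of_isAmple (f : X ⟶ S) [QuasiCompact f] (L : X.Modules)
    (hL : CohB1.IsAmple L) : RelAmple.IsRelAmple f L := by
  haveI : CompactSpace X := hL.2.1
  haveI : QuasiCompact (f ≫ specULiftZIsTerminal.from S) :=
    (HasAffineProperty.iff_of_isAffine (P := @QuasiCompact)).mpr ‹CompactSpace X›
  exact Groth.Agent.S2333.result f (specULiftZIsTerminal.from S) L
    ((Groth.Agent.S4381.result (f ≫ specULiftZIsTerminal.from S) L).2 hL)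

/-- S1497 -/
theorem immersion_iff (hS : ∃ N : S.Modules, CohB1.IsAmple N) (f : X ⟶ S) :
    (∃ (n : ℕ) (i : X ⟶ CohB1.ProjSpaceOver n S), IsImmersion i ∧ QuasiCompact i ∧
      i ≫ pullback.snd (CohB1.ProjSpace.toSpec n (ULift.{u} ℤ))
        (specULiftZIsTerminal.from S) = f) ↔
      (LocallyOfFiniteType f ∧ QuasiCompact f ∧ ∃ L : X.Modules, CohB1.IsAmple L) := by
  constructor
  · rintro ⟨n, i, himm, hqc, hcomp⟩
    haveI := himm
    haveI := hqc
    haveI : IsProper (sndP n S) := Groth.Agent.Helper15.isProper_projSpaceOver_toBase n S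
    have hlft : LocallyOfFiniteType f := by rw [← hcomp]; infer_instance
    have hqcf : QuasiCompact f := by rw [← hcomp]; infer_instance
    haveI := hqcf
    exact ⟨hlft, hqcf, exists_ample_of_relAmple hS f _
      (isRelAmple_of_veryAmple f _ ⟨n, i, himm, hcomp, ⟨Iso.refl _⟩⟩)⟩
  · rintro ⟨hlft, hqc, L, hL⟩
    haveI := hlft
    haveI := hqc
    obtain ⟨d₀, -, h⟩ := eventually_veryAmple_pow f L hL
    obtain ⟨n, i, himm, hcomp, -⟩ := h d₀ le_rfl
    exact ⟨n, i, himm, quasiCompact_of_comp_sndP n i (by rw [hcomp]; exact hqc), hcomp⟩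

/-- S1496 -/
theorem closedImmersion_iff (hS : ∃ N : S.Modules, CohB1.IsAmple N) (f : X ⟶ S) :
    ((∃ (n : ℕ) (i : X ⟶ CohB1.ProjSpaceOver n S), IsClosedImmersion i ∧
      i ≫ pullback.snd (CohB1.ProjSpace.toSpec n (ULift.{u} ℤ))
        (specULiftZIsTerminal.from S) = f) ↔
      (IsProper f ∧ ∃ L : X.Modules, CohB1.IsAmple L)) ∧
    ((IsProper f ∧ ∃ L : X.Modules, CohB1.IsAmple L) ↔
      (IsProper f ∧ ∃ L : X.Modules, RelAmple.IsRelAmple f L)) := by
  refine ⟨⟨?_, ?_⟩, ⟨?_, ?_⟩⟩
  · rintro ⟨n, i, hcl, hcomp⟩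
    haveI := hcl
    haveI : IsProper (sndP n S) := Groth.Agent.Helper15.isProper_projSpaceOver_toBase n S
    have hprop : IsProper f := by rw [← hcomp]; infer_instance
    haveI := hprop
    exact ⟨hprop, exists_ample_of_relAmple hS f _
      (isRelAmple_of_veryAmple f _ ⟨n, i, inferInstance, hcomp, ⟨Iso.refl _⟩⟩)⟩
  · rintro ⟨hprop, L, hL⟩
    haveI := hprop
    obtain ⟨d₀, -, h⟩ := eventually_veryAmple_pow f L hL
    obtain ⟨n, i, himm, hcomp, -⟩ := h d₀ le_rfl
    haveI := himm
    haveI : IsProper (sndP n S) := Groth.Agent.Helper15.isProper_projSpaceOver_toBase n S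
    haveI : IsProper (i ≫ sndP n S) := by rw [hcomp]; exact hprop
    haveI : IsProper i := IsProper.of_comp i (sndP n S)
    exact ⟨n, i, IsClosedImmersion.of_isPreimmersion i i.isClosedMap.isClosed_range, hcomp⟩
  · rintro ⟨hprop, L, hL⟩
    haveI := hprop
    exact ⟨hprop, L, isRelAmple_of_isAmple f L hL⟩
  · rintro ⟨hprop, L, hL⟩
    haveI := hprop
    exact ⟨hprop, exists_ample_of_relAmple hS f L hL⟩

end Groth.Agent.Helper28.VeryAmpleRel2
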