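import Mathlib
import Groth.Prelude.Def_AffAlg
import Groth.Prelude.Def_Coh
import Groth.Agent.Lib.Helper13.LocFree
import Groth.Agent.Lib.Helper13.QCohLoc
import Groth.Agent.Lib.Helper13.QCohPush

set_option autoImplicit false
universe u
open CategoryTheory CategoryTheory.Limits AlgebraicGeometry Opposite TopologicalSpace
open Groth.Agent.Helper13.QCoh Groth.Agent.Helper13.QCohLoc Groth.Agent.Helper13.LocFree

namespace Groth.Agent.Helper28.AffIso

/-- A morphism of quasi-coherent modules which is bijective on the sections over some affine open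
neighbourhood of every point is an isomorphism. -/
theorem isIso_of_app_bijective_affine {X : Scheme.{u}} {M N : X.Modules}
    [M.IsQuasicoherent] [N.IsQuasicoherent] (φ : M ⟶ N)
    (H : ∀ x : X, ∃ U : X.Opens, IsAffineOpen U ∧ x ∈ U ∧ Function.Bijective (φ.app U)) :
    IsIso φ := by
  apply isIso_of_stalk_bijective
  intro x
  obtain ⟨U, hU, hxU, hb⟩ := H x
  obtain ⟨x', rfl⟩ : ∃ x' : U, (x' : X) = x := ⟨⟨x, hxU⟩, rfl⟩
  letI := modStalk M x'
  letI := modStalk N x'
  haveI := isLocalizedModule_germ M hU x'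
  haveI := isLocalizedModule_germ N hU x'
  let sl : M.presheaf.stalk (x' : X) →ₗ[Γ(X, U)] N.presheaf.stalk (x' : X) :=
    { toFun := fun m => stalkMap φ (x' : X) m
      map_add' := fun a b => map_add _ a b
      map_smul' := fun r m =>
        stalkMap_smul φ (x' : X) (algebraMap Γ(X, U) (X.presheaf.stalk (x' : X)) r) m }
  have key : sl = IsLocalizedModule.map (hU.primeIdealOf x').asIdeal.primeCompl
      (germLin M x') (germLin N x') (appLinearMap φ U) := by
    apply IsLocalizedModule.ext (hU.primeIdealOf x').asIdeal.primeCompl (germLin M x')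
      (IsLocalizedModule.map_units (germLin N x'))
    rw [IsLocalizedModule.map_comp]
    refine LinearMap.ext fun t => ?_
    exact stalkMap_germ φ (x' : X) U x'.2 t
  have hinj := IsLocalizedModule.map_injective (hU.primeIdealOf x').asIdeal.primeCompl
    (germLin M x') (germLin N x') (appLinearMap φ U) hb.1
  have hsurj := IsLocalizedModule.map_surjective (hU.primeIdealOf x').asIdeal.primeCompl
    (germLin M x') (germLin N x') (appLinearMap φ U) hb.2
  rw [← key] at hinj hsurj
  exact ⟨hinj, hsurj⟩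

/-- For an affine morphism `g : X ⟶ S`, a morphism of quasi-coherent modules on `X` whose direct
image on `S` is an isomorphism is an isomorphism. -/
theorem isIso_of_isIso_pushforward {X S : Scheme.{u}} (gX : X ⟶ S) [IsAffineHom gX]
    {M N : X.Modules} [M.IsQuasicoherent] [N.IsQuasicoherent] (v : M ⟶ N)
    (hv : IsIso ((Scheme.Modules.pushforward gX).map v)) : IsIso v := by
  apply isIso_of_app_bijective_affine
  intro x
  obtain ⟨_, ⟨U, hU, rfl⟩, hxU, -⟩ :=
    S.isBasis_affineOpens.exists_subset_of_mem_open (Set.mem_univ (gX x)) isOpen_univ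
  refine ⟨gX ⁻¹ᵁ U, hU.preimage gX, hxU, ?_⟩
  have h1 : IsIso (((Scheme.Modules.pushforward gX).map v).app U) :=
    Scheme.Modules.Hom.isIso_iff_isIso_app.mp hv U
  rw [ConcreteCategory.isIso_iff_bijective] at h1
  exact h1

/-- An affine morphism `h : Y ⟶ X` of schemes affine over `S` is an isomorphism iff it induces
isomorphisms on sections over the preimages of all opens of `S`. -/
theorem isIso_iff_app {X Y S : Scheme.{u}} (gX : X ⟶ S) [IsAffineHom gX] (h : Y ⟶ X)
    [IsAffineHom h] :
    IsIso h ↔ ∀ U : S.Opens, IsIso (h.app (gX ⁻¹ᵁ U)) := by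
  constructor
  · intro _ U
    infer_instance
  · intro H
    have hcov : ⨆ U : S.affineOpens, gX ⁻¹ᵁ (U : S.Opens) = ⊤ := by
      rw [eq_top_iff]
      intro x _
      have hx : gX x ∈ (⊤ : S.Opens) := trivial
      rw [← iSup_affineOpens_eq_top S, Opens.mem_iSup] at hx
      obtain ⟨U, hU⟩ := hx
      exact Opens.mem_iSup.mpr ⟨U, hU⟩
    have key := (IsZariskiLocalAtTarget.iff_of_iSup_eq_top
      (P := MorphismProperty.isomorphisms Scheme) (f := h) _ hcov).mpr ?_
    · exact key
    · intro U
      exact (isIso_morphismRestrict_iff_isIso_app (f := h) (U.2.preimage gX)).mpr (H U)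

/-- The algebra homomorphism `A(h)` is an isomorphism iff `h` induces isomorphisms on sections over
the preimages of all opens of `S`. -/
theorem isIso_algHom_iff {X Y S : Scheme.{u}} (gX : X ⟶ S) (gY : Y ⟶ S) (h : Y ⟶ X)
    (hh : h ≫ gX = gY) :
    IsIso (AffAlg.algHom gX gY h hh) ↔ ∀ U : S.Opens, IsIso (h.app (gX ⁻¹ᵁ U)) := by
  subst hh
  rw [NatTrans.isIso_iff_isIso_app]
  have e : ∀ U : S.Opens, IsIso ((AffAlg.algHom gX (h ≫ gX) h rfl).app (op U)) ↔
      IsIso (h.app (gX ⁻¹ᵁ U)) := by
    intro U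
    unfold AffAlg.algHom
    rw [NatTrans.comp_app]
    exact isIso_comp_right_iff _ _
  constructor
  · intro H U
    exact (e U).mp (H (op U))
  · intro H U
    exact (e U.unop).mpr (H U.unop)

theorem main {X Y S : Scheme.{u}} (gX : X ⟶ S) [IsAffineHom gX]
    (gY : Y ⟶ S) [IsAffineHom gY] (h : Y ⟶ X) (hh : h ≫ gX = gY)
    (F : X.Modules) (G : Y.Modules) (hF : Coh.IsQCoh F) (hG : Coh.IsQCoh G)
    (v : F ⟶ (Scheme.Modules.pushforward h).obj G) :
    (IsIso h ∧ IsIso v) ↔
      (IsIso (AffAlg.algHom gX gY h hh) ∧ IsIso ((Scheme.Modules.pushforward gX).map v)) := by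
  haveI : IsAffineHom h := by
    haveI : IsAffineHom (h ≫ gX) := hh ▸ inferInstance
    exact IsAffineHom.of_comp h gX
  haveI : F.IsQuasicoherent := hF
  haveI : G.IsQuasicoherent := hG
  haveI : ((Scheme.Modules.pushforward h).obj G).IsQuasicoherent :=
    Groth.Agent.Helper13.QCohPush.isQuasicoherent_pushforward h G
  rw [isIso_algHom_iff, isIso_iff_app gX h]
  constructor
  · rintro ⟨h1, h2⟩
    exact ⟨h1, inferInstance⟩
  · rintro ⟨h1, h2⟩
    exact ⟨h1, isIso_of_isIso_pushforward gX v h2⟩

end Groth.Agent.Helper28.AffIso
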