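import Mathlib
import Groth.Prelude.Def_GrTwist
import Groth.Prelude.Def_Coh
import Groth.Prelude.Def_Pic

/-!
# Port of `Helper28/TwistMul`, `TwistZero`, `TwistMul2` to the general-grading twisting sheaves
`GrTwist.twist` (helper28)
-/

set_option autoImplicit false
universe u
open CategoryTheory AlgebraicGeometry Opposite TopologicalSpace TopCat

namespace Groth.Agent.Helper28.GrTwistMul

variable {A σ : Type u} [CommRing A] [SetLike σ A] [AddSubgroupClass σ A] (𝒜 : ℕ → σ)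
  [GradedRing 𝒜]

open GrTwist

/-! ### multiplication by a homogeneous element on the fibres -/

theorem mul_mem_twistAt {e : ℕ} {g : A} (hg : g ∈ 𝒜 e) {m m' : ℤ} (h : m' = m + e)
    (x : ProjectiveSpectrum 𝒜) {q : Loc 𝒜 x} (hq : q ∈ twistAt 𝒜 m x) :
    algebraMap A (Loc 𝒜 x) g * q ∈ twistAt 𝒜 m' x := by
  induction hq using Submodule.span_induction with
  | mem q hq =>
    obtain ⟨i, j, a, s, hs, hdeg, rfl⟩ := hq
    refine Submodule.subset_span ⟨e + i, j, ⟨g * a.1, SetLike.mul_mem_graded hg a.2⟩, s, hs, ?_, ?_⟩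
    · push_cast; omega
    · rw [← Localization.mk_one_eq_algebraMap, Localization.mk_mul, one_mul]
  | zero => rw [mul_zero]; exact Submodule.zero_mem _
  | add a b _ _ ha hb => rw [mul_add]; exact Submodule.add_mem _ ha hb
  | smul c q _ hq =>
    have h1 : algebraMap A (Loc 𝒜 x) g * (c • q) = c • (algebraMap A (Loc 𝒜 x) g * q) := by
      rw [Algebra.smul_def, Algebra.smul_def]
      exact mul_left_comm _ _ _
    rw [h1]
    exact Submodule.smul_mem _ c hq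

theorem inv_mul_mem_twistAt {e : ℕ} {g : A} (hg : g ∈ 𝒜 e) {m m' : ℤ} (h : m' = m + e)
    (x : ProjectiveSpectrum 𝒜) (hgx : g ∉ x.asHomogeneousIdeal) {q : Loc 𝒜 x}
    (hq : q ∈ twistAt 𝒜 m' x) :
    Localization.mk 1 ⟨g, hgx⟩ * q ∈ twistAt 𝒜 m x := by
  induction hq using Submodule.span_induction with
  | mem q hq =>
    obtain ⟨i, j, a, s, hs, hdeg, rfl⟩ := hq
    refine Submodule.subset_span ⟨i, e + j, a, ⟨g * s.1, SetLike.mul_mem_graded hg s.2⟩,
      fun hmem => (x.isPrime.mem_or_mem hmem).elim hgx hs, ?_, ?_⟩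
    · push_cast; omega
    · rw [Localization.mk_mul, one_mul]
      rfl
  | zero => rw [mul_zero]; exact Submodule.zero_mem _
  | add a b _ _ ha hb => rw [mul_add]; exact Submodule.add_mem _ ha hb
  | smul c q _ hq =>
    have h1 : Localization.mk 1 ⟨g, hgx⟩ * (c • q) = c • (Localization.mk 1 ⟨g, hgx⟩ * q) := by
      rw [Algebra.smul_def, Algebra.smul_def]
      exact mul_left_comm _ _ _
    rw [h1]
    exact Submodule.smul_mem _ c hq

/-! ### multiplication on sections -/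

variable {𝒜}

/-- multiplication by the homogeneous element `g` of degree `e`, on sections `O(m)(U) → O(m+e)(U)`. -/
def mulSec {e : ℕ} {g : A} (hg : g ∈ 𝒜 e) {m m' : ℤ} (h : m' = m + e)
    (U : (Opens (ProjectiveSpectrum.top 𝒜))ᵒᵖ) (s : sectN (𝒜 := 𝒜) m U) : sectN (𝒜 := 𝒜) m' U :=
  ⟨fun x => ⟨algebraMap A (Loc 𝒜 x.1) g * (s.1 x).1, mul_mem_twistAt 𝒜 hg h x.1 (s.1 x).2⟩, fun x => by
    have hs : (isLocFracN 𝒜 m).pred s.1 := s.2
    obtain ⟨V, hxV, iV, i', j, a, t, nin, hor, w⟩ := hs x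
    refine ⟨V, hxV, iV, e + i', j, ⟨g * a.1, SetLike.mul_mem_graded hg a.2⟩, t, nin, ?_, fun y => ?_⟩
    · rcases hor with hor | hor
      · left; push_cast; omega
      · right
        change g * a.1 = 0
        rw [hor, mul_zero]
    · change algebraMap A (Loc 𝒜 (iV y).1) g * (s.1 (iV y)).1 = Localization.mk (g * a.1) ⟨t.1, nin y⟩
      have hw : (s.1 (iV y)).1 = Localization.mk a.1 ⟨t.1, nin y⟩ := w y
      rw [hw, ← Localization.mk_one_eq_algebraMap, Localization.mk_mul, one_mul]⟩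

theorem mulSec_val {e : ℕ} {g : A} (hg : g ∈ 𝒜 e) {m m' : ℤ} (h : m' = m + e)
    (U : (Opens (ProjectiveSpectrum.top 𝒜))ᵒᵖ) (s : sectN (𝒜 := 𝒜) m U) (x : U.unop) :
    ((mulSec hg h U s).1 x).1 = algebraMap A (Loc 𝒜 x.1) g * (s.1 x).1 := rfl

theorem mulSec_add {e : ℕ} {g : A} (hg : g ∈ 𝒜 e) {m m' : ℤ} (h : m' = m + e)
    (U : (Opens (ProjectiveSpectrum.top 𝒜))ᵒᵖ) (s t : sectN (𝒜 := 𝒜) m U) :
    mulSec hg h U (s + t) = mulSec hg h U s + mulSec hg h U t := by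
  apply Subtype.ext
  funext x
  apply Subtype.ext
  exact mul_add _ _ _

theorem mulSec_smul {e : ℕ} {g : A} (hg : g ∈ 𝒜 e) {m m' : ℤ} (h : m' = m + e)
    (U : (Opens (ProjectiveSpectrum.top 𝒜))ᵒᵖ) (c : O U) (s : sectN (𝒜 := 𝒜) m U) :
    mulSec hg h U (c • s) = c • mulSec hg h U s := by
  apply Subtype.ext
  funext x
  apply Subtype.ext
  change algebraMap A (Loc 𝒜 x.1) g * ((c.1 x • s.1 x : twistAt 𝒜 m x.1) : Loc 𝒜 x.1) =
    ((c.1 x • (mulSec hg h U s).1 x : twistAt 𝒜 m' x.1) : Loc 𝒜 x.1)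
  rw [coe_smul_val, coe_smul_val, mulSec_val]
  exact mul_left_comm _ _ _

theorem mulSec_bijective {e : ℕ} {g : A} (hg : g ∈ 𝒜 e) {m m' : ℤ} (h : m' = m + e)
    (V : Opens (ProjectiveSpectrum.top 𝒜)) (hV : ∀ x : V, g ∉ x.1.asHomogeneousIdeal) :
    Function.Bijective (mulSec hg h (op V)) := by
  constructor
  · intro s t hst
    apply Subtype.ext
    funext x
    apply Subtype.ext
    have h1 : algebraMap A (Loc 𝒜 x.1) g * (s.1 x).1 = algebraMap A (Loc 𝒜 x.1) g * (t.1 x).1 :=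
      congrArg (fun r : sectN (𝒜 := 𝒜) m' (op V) => (r.1 x).1) hst
    have hu : IsUnit (algebraMap A (Loc 𝒜 x.1) g) :=
      IsLocalization.map_units (Loc 𝒜 x.1)
        (⟨g, hV x⟩ : x.1.asHomogeneousIdeal.toIdeal.primeCompl)
    exact hu.mul_left_cancel h1
  · intro t
    have ht : (isLocFracN 𝒜 m').pred t.1 := t.2
    refine ⟨⟨fun x => ⟨Localization.mk 1 ⟨g, hV x⟩ * (t.1 x).1,
      inv_mul_mem_twistAt 𝒜 hg h x.1 (hV x) (t.1 x).2⟩, fun x => ?_⟩, ?_⟩
    · obtain ⟨W, hxW, iW, i', j, a, b, nin, hor, w⟩ := ht x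
      refine ⟨W, hxW, iW, i', e + j, a, ⟨g * b.1, SetLike.mul_mem_graded hg b.2⟩,
        fun y hmem => ((iW y).1.isPrime.mem_or_mem hmem).elim (hV (iW y)) (nin y), ?_, fun y => ?_⟩
      · rcases hor with hor | hor
        · left; push_cast; omega
        · right; exact hor
      · change Localization.mk 1 ⟨g, hV (iW y)⟩ * (t.1 (iW y)).1 = Localization.mk a.1 ⟨g * b.1, _⟩
        have hw : (t.1 (iW y)).1 = Localization.mk a.1 ⟨b.1, nin y⟩ := w y
        rw [hw, Localization.mk_mul, one_mul]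
        rfl
    · apply Subtype.ext
      funext x
      apply Subtype.ext
      change algebraMap A (Loc 𝒜 x.1) g * (Localization.mk 1 ⟨g, hV x⟩ * (t.1 x).1) = (t.1 x).1
      have h2 : algebraMap A (Loc 𝒜 x.1) g * Localization.mk 1 ⟨g, hV x⟩ = 1 := by
        rw [← Localization.mk_one_eq_algebraMap, Localization.mk_mul, mul_one, one_mul]
        exact Localization.mk_self (⟨g, hV x⟩ : x.1.asHomogeneousIdeal.toIdeal.primeCompl)
      rw [← mul_assoc, h2, one_mul]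

variable (𝒜)

/-- multiplication by the homogeneous element `g` of degree `e`, as a morphism `O(m) ⟶ O(m + e)`. -/
noncomputable def mulHom {e : ℕ} {g : A} (hg : g ∈ 𝒜 e) {m m' : ℤ} (h : m' = m + e) :
    GrTwist.twist 𝒜 m ⟶ GrTwist.twist 𝒜 m' :=
  (⟨PresheafOfModules.homMk (M₁ := GrTwist.twistPMod 𝒜 m) (M₂ := GrTwist.twistPMod 𝒜 m')
    { app := fun U => AddCommGrpCat.ofHom
        { toFun := mulSec hg h U
          map_zero' := by
            have h0 := mulSec_add hg h U 0 0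
            rw [add_zero] at h0
            exact left_eq_add.mp h0
          map_add' := mulSec_add hg h U }
      naturality := fun U V i => by ext s; rfl }
    (fun U c s => mulSec_smul hg h U c s)⟩ : SheafOfModules.Hom _ _)

theorem mulHom_app {e : ℕ} {g : A} (hg : g ∈ 𝒜 e) {m m' : ℤ} (h : m' = m + e)
    (V : (Proj 𝒜).Opens) (s : Γ(GrTwist.twist 𝒜 m, V)) :
    (mulHom 𝒜 hg h).app V s = mulSec hg h (op V) s := rfl

/-- multiplication by `g` is an isomorphism after restriction to an open contained in `D_+(g)`. -/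
theorem isIso_restrict_mulHom {e : ℕ} {g : A} (hg : g ∈ 𝒜 e) {m m' : ℤ} (h : m' = m + e)
    (V : (Proj 𝒜).Opens) (hV : V ≤ Proj.basicOpen 𝒜 g) :
    IsIso ((Scheme.Modules.restrictFunctor V.ι).map (mulHom 𝒜 hg h)) := by
  rw [Scheme.Modules.Hom.isIso_iff_isIso_app]
  intro W
  rw [ConcreteCategory.isIso_iff_bijective]
  have hW : ∀ x : (V.ι ''ᵁ W : (Proj 𝒜).Opens), g ∉ x.1.asHomogeneousIdeal := by
    intro x
    have hx : x.1 ∈ Proj.basicOpen 𝒜 g := hV (V.ι_image_le W x.2)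
    exact (Proj.mem_basicOpen 𝒜 g x.1).mp hx
  exact mulSec_bijective hg h (V.ι ''ᵁ W) hW


theorem one_nmem (x : ProjectiveSpectrum 𝒜) : (1 : A) ∉ x.asHomogeneousIdeal :=
  fun h => x.isPrime.ne_top ((Ideal.eq_top_iff_one _).mpr h)

theorem one_mem_twistAt_zero (x : ProjectiveSpectrum 𝒜) : (1 : Loc 𝒜 x) ∈ twistAt 𝒜 0 x := by
  refine Submodule.subset_span ⟨0, 0, ⟨1, SetLike.GradedOne.one_mem⟩,
    ⟨1, SetLike.GradedOne.one_mem⟩, one_nmem 𝒜 x, by simp, ?_⟩
  exact Localization.mk_one.symm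

theorem exists_val_eq (x : ProjectiveSpectrum 𝒜) {q : Loc 𝒜 x} (hq : q ∈ twistAt 𝒜 0 x) :
    ∃ c : A0 𝒜 x, c.val = q := by
  induction hq using Submodule.span_induction with
  | mem q hq =>
    obtain ⟨i, j, a, s, hs, hdeg, rfl⟩ := hq
    have hij : i = j := by omega
    subst hij
    exact ⟨HomogeneousLocalization.mk ⟨i, a, s, hs⟩, HomogeneousLocalization.val_mk _⟩
  | zero => exact ⟨0, HomogeneousLocalization.val_zero⟩
  | add a b _ _ ha hb =>
    obtain ⟨ca, rfl⟩ := ha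
    obtain ⟨cb, rfl⟩ := hb
    exact ⟨ca + cb, HomogeneousLocalization.val_add _ _⟩
  | smul c q _ hq =>
    obtain ⟨cq, rfl⟩ := hq
    refine ⟨c * cq, ?_⟩
    rw [HomogeneousLocalization.val_mul, Algebra.smul_def, HomogeneousLocalization.algebraMap_apply]

variable {𝒜}

/-- the section `1` of `O(0)`. -/
def oneSec (U : (Opens (ProjectiveSpectrum.top 𝒜))ᵒᵖ) : sectN (𝒜 := 𝒜) 0 U :=
  ⟨fun x => ⟨1, one_mem_twistAt_zero 𝒜 x.1⟩, fun x =>
    ⟨U.unop, x.2, 𝟙 _, 0, 0, ⟨1, SetLike.GradedOne.one_mem⟩, ⟨1, SetLike.GradedOne.one_mem⟩,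
      fun y => one_nmem 𝒜 y.1, Or.inl (by simp), fun _ => Localization.mk_one.symm⟩⟩

theorem smul_oneSec_val (U : (Opens (ProjectiveSpectrum.top 𝒜))ᵒᵖ) (c : O U) (x : U.unop) :
    (((c • oneSec U : sectN (𝒜 := 𝒜) 0 U)).1 x).1 = (c.1 x).val := by
  change ((c.1 x • (oneSec U).1 x : twistAt 𝒜 0 x.1) : Loc 𝒜 x.1) = _
  rw [coe_smul_val]
  exact mul_one _

theorem smul_oneSec_bijective (U : (Opens (ProjectiveSpectrum.top 𝒜))ᵒᵖ) :
    Function.Bijective (fun c : O U => (c • oneSec U : sectN (𝒜 := 𝒜) 0 U)) := by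
  constructor
  · intro c d hcd
    apply Subtype.ext
    funext x
    apply HomogeneousLocalization.val_injective
    rw [← smul_oneSec_val U c x, ← smul_oneSec_val U d x]
    exact congrArg (fun r : sectN (𝒜 := 𝒜) 0 U => (r.1 x).1) hcd
  · intro t
    have ht : (isLocFracN 𝒜 0).pred t.1 := t.2
    have hex : ∀ x : U.unop, ∃ c : A0 𝒜 x.1, c.val = (t.1 x).1 :=
      fun x => exists_val_eq 𝒜 x.1 (t.1 x).2
    choose cf hcf using hex
    have hloc : (ProjectiveSpectrum.StructureSheaf.isLocallyFraction 𝒜).pred cf := by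
      intro x
      obtain ⟨V, hxV, iV, i', j, a, b, nin, hor, w⟩ := ht x
      rcases hor with hor | hor
      · have hij : i' = j := by omega
        subst hij
        refine ⟨V, hxV, iV, i', a, b, nin, fun y => ?_⟩
        apply HomogeneousLocalization.val_injective
        change (cf (iV y)).val = _
        rw [hcf, HomogeneousLocalization.val_mk]
        exact w y
      · refine ⟨V, hxV, iV, j, 0, b, nin, fun y => ?_⟩
        apply HomogeneousLocalization.val_injective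
        change (cf (iV y)).val = _
        rw [hcf, HomogeneousLocalization.val_mk]
        have hw : (t.1 (iV y)).1 = Localization.mk a.1 ⟨b.1, nin y⟩ := w y
        rw [hw, hor]
        rfl
    refine ⟨⟨cf, hloc⟩, ?_⟩
    apply Subtype.ext
    funext x
    apply Subtype.ext
    have h1 := smul_oneSec_val U (⟨cf, hloc⟩ : O U) x
    exact h1.trans (hcf x)

variable (𝒜)

/-- the morphism `O ⟶ O(0)` sending `1` to `1`. -/
noncomputable def zeroHom : Coh.structureModule (Proj 𝒜) ⟶ GrTwist.twist 𝒜 0 :=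
  (SheafOfModules.unitHomEquiv (GrTwist.twist 𝒜 0)).symm
    (PresheafOfModules.sectionsMk (M := GrTwist.twistPMod 𝒜 0) (fun U => oneSec U) (fun _ _ _ => rfl))

theorem zeroHom_app (V : (Proj 𝒜).Opens) (c : Γ(Coh.structureModule (Proj 𝒜), V)) :
    (zeroHom 𝒜).app V c = ((show O (𝒜 := 𝒜) (op V) from c) • oneSec (op V) : sectN (𝒜 := 𝒜) 0 (op V)) :=
  rfl

instance isIso_zeroHom : IsIso (zeroHom 𝒜) := by
  rw [Scheme.Modules.Hom.isIso_iff_isIso_app]
  intro V
  rw [ConcreteCategory.isIso_iff_bijective]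
  exact smul_oneSec_bijective (op V)

/-- `O ≅ O(0)`. -/
noncomputable def zeroIso : Coh.structureModule (Proj 𝒜) ≅ GrTwist.twist 𝒜 0 := asIso (zeroHom 𝒜)

/-- `O(nd)` is trivial on `D_+(f)` for `f` homogeneous of degree `d`. -/
theorem twist_restrict_iso (d : ℕ) (f : A) (hf : f ∈ 𝒜 d) (n : ℤ) :
    Nonempty ((GrTwist.twist 𝒜 (n * d)).restrict (Proj.basicOpen 𝒜 f).ι ≅
      Coh.structureModule ↑(Proj.basicOpen 𝒜 f)) := by
  have hg : f ^ n.natAbs ∈ 𝒜 (n.natAbs • d) := SetLike.pow_mem_graded _ hf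
  have hV : Proj.basicOpen 𝒜 f ≤ Proj.basicOpen 𝒜 (f ^ n.natAbs) := by
    intro x hx
    rw [Proj.mem_basicOpen] at hx ⊢
    exact fun hmem => hx (x.isPrime.mem_of_pow_mem _ hmem)
  have e0 : (GrTwist.twist 𝒜 0).restrict (Proj.basicOpen 𝒜 f).ι ≅
      Coh.structureModule ↑(Proj.basicOpen 𝒜 f) :=
    (Scheme.Modules.restrictFunctor (Proj.basicOpen 𝒜 f).ι).mapIso (zeroIso 𝒜).symm ≪≫
      Scheme.Modules.restrictUnitIso (Proj.basicOpen 𝒜 f).ι
  rcases le_total 0 n with hn | hn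
  · have h : n * d = 0 + ((n.natAbs • d : ℕ) : ℤ) := by
      rw [zero_add, smul_eq_mul, Nat.cast_mul, Int.natAbs_of_nonneg hn]
    haveI := isIso_restrict_mulHom 𝒜 hg h _ hV
    exact ⟨(asIso ((Scheme.Modules.restrictFunctor (Proj.basicOpen 𝒜 f).ι).map
      (mulHom 𝒜 hg h))).symm ≪≫ e0⟩
  · have h : (0 : ℤ) = n * d + ((n.natAbs • d : ℕ) : ℤ) := by
      rw [smul_eq_mul, Nat.cast_mul, Int.ofNat_natAbs_of_nonpos hn]
      ring
    haveI := isIso_restrict_mulHom 𝒜 hg h _ hV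
    exact ⟨asIso ((Scheme.Modules.restrictFunctor (Proj.basicOpen 𝒜 f).ι).map
      (mulHom 𝒜 hg h)) ≪≫ e0⟩


/-- restricted multiplication by `g`, as an isomorphism over an open of `D_+(g)`. -/
noncomputable def restrictMulIso {e : ℕ} {g : A} (hg : g ∈ 𝒜 e) {m m' : ℤ} (h : m' = m + e)
    (V : (Proj 𝒜).Opens) (hV : V ≤ Proj.basicOpen 𝒜 g) :
    (GrTwist.twist 𝒜 m).restrict V.ι ≅ (GrTwist.twist 𝒜 m').restrict V.ι :=
  haveI := isIso_restrict_mulHom 𝒜 hg h V hV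
  asIso ((Scheme.Modules.restrictFunctor V.ι).map (mulHom 𝒜 hg h))

/-- `O(0)|_V ≅ O_V`. -/
noncomputable def restrictZeroIso (V : (Proj 𝒜).Opens) :
    (GrTwist.twist 𝒜 0).restrict V.ι ≅ Coh.structureModule ↑V :=
  (Scheme.Modules.restrictFunctor V.ι).mapIso (zeroIso 𝒜).symm ≪≫
    Scheme.Modules.restrictUnitIso V.ι

theorem basicOpen_le_pow (f : A) (k : ℕ) : Proj.basicOpen 𝒜 f ≤ Proj.basicOpen 𝒜 (f ^ k) := by
  intro x hx
  rw [Proj.mem_basicOpen] at hx ⊢
  exact fun hmem => hx (x.isPrime.mem_of_pow_mem _ hmem)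

/-- variant of `twist_restrict_iso` with a free index. -/
theorem twist_restrict_iso' {e : ℕ} {f : A} (hf : f ∈ 𝒜 e) {m : ℤ} (k : ℤ) (hm : m = k * e) :
    Nonempty ((GrTwist.twist 𝒜 m).restrict (Proj.basicOpen 𝒜 f).ι ≅
      Coh.structureModule ↑(Proj.basicOpen 𝒜 f)) := by
  subst hm
  exact twist_restrict_iso 𝒜 e f hf k

/-- `O(nd)` is trivial on `D_+(ab)` for `deg a = deg b + d`. -/
theorem twist_restrict_iso_mul {d : ℕ} {i j : ℕ} {a b : A} (ha : a ∈ 𝒜 i) (hb : b ∈ 𝒜 j)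
    (hij : i = j + d) (n : ℤ) :
    Nonempty ((GrTwist.twist 𝒜 (n * d)).restrict (Proj.basicOpen 𝒜 (a * b)).ι ≅
      Coh.structureModule ↑(Proj.basicOpen 𝒜 (a * b))) := by
  have hak : a ^ n.natAbs ∈ 𝒜 (n.natAbs • i) := SetLike.pow_mem_graded _ ha
  have hbk : b ^ n.natAbs ∈ 𝒜 (n.natAbs • j) := SetLike.pow_mem_graded _ hb
  have hVa : Proj.basicOpen 𝒜 (a * b) ≤ Proj.basicOpen 𝒜 (a ^ n.natAbs) := by
    refine le_trans ?_ (basicOpen_le_pow 𝒜 a n.natAbs)
    rw [Proj.basicOpen_mul]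
    exact inf_le_left
  have hVb : Proj.basicOpen 𝒜 (a * b) ≤ Proj.basicOpen 𝒜 (b ^ n.natAbs) := by
    refine le_trans ?_ (basicOpen_le_pow 𝒜 b n.natAbs)
    rw [Proj.basicOpen_mul]
    exact inf_le_right
  rcases le_total 0 n with hn | hn
  · have hk : ((n.natAbs : ℕ) : ℤ) = n := Int.natAbs_of_nonneg hn
    have h1 : ((n.natAbs • i : ℕ) : ℤ) = 0 + ((n.natAbs • i : ℕ) : ℤ) := (zero_add _).symm
    have h2 : ((n.natAbs • i : ℕ) : ℤ) = n * d + ((n.natAbs • j : ℕ) : ℤ) := by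
      rw [hij]
      simp only [smul_eq_mul, Nat.cast_mul, Nat.cast_add, hk]
      ring
    exact ⟨restrictMulIso 𝒜 hbk h2 _ hVb ≪≫ (restrictMulIso 𝒜 hak h1 _ hVa).symm ≪≫
      restrictZeroIso 𝒜 _⟩
  · have hk : ((n.natAbs : ℕ) : ℤ) = -n := Int.ofNat_natAbs_of_nonpos hn
    have h1 : ((n.natAbs • j : ℕ) : ℤ) = 0 + ((n.natAbs • j : ℕ) : ℤ) := (zero_add _).symm
    have h2 : ((n.natAbs • j : ℕ) : ℤ) = n * d + ((n.natAbs • i : ℕ) : ℤ) := by
      rw [hij]
      simp only [smul_eq_mul, Nat.cast_mul, Nat.cast_add, hk]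
      ring
    exact ⟨restrictMulIso 𝒜 hak h2 _ hVa ≪≫ (restrictMulIso 𝒜 hbk h1 _ hVb).symm ≪≫
      restrictZeroIso 𝒜 _⟩


end Groth.Agent.Helper28.GrTwistMul
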