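import Mathlib
import Groth.Prelude.Def_RelProj2
import Groth.Prelude.Def_Pic
import Groth.Agent.Lib.Helper28.GrTwistMul
import Groth.Agent.Lib.Helper13.AmpleLocal
import Groth.Agent.Lib.Helper13.AmpleQA

/-!
# Twisting sheaves on a relative `Proj`: local triviality and invertibility (helper28)
-/

set_option autoImplicit false
universe u
open CategoryTheory AlgebraicGeometry Opposite TopologicalSpace TopCat
open Groth.Agent.Helper13

namespace Groth.Agent.Helper28.RelTwist

section General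

variable {X : Scheme.{u}}

/-- invertibility passes to smaller open immersions. -/
theorem isInvertible_restrict_of_range_subset (L : X.Modules) {V V' : Scheme.{u}} (l : V ⟶ X)
    [IsOpenImmersion l] (k : V' ⟶ X) [IsOpenImmersion k]
    (h : Set.range k ⊆ Set.range l) (hL : PicF.IsInvertible (L.restrict l)) :
    PicF.IsInvertible (L.restrict k) := by
  have hfac : IsOpenImmersion.lift l k h ≫ l = k := IsOpenImmersion.lift_fac l k h
  haveI : IsOpenImmersion (IsOpenImmersion.lift l k h ≫ l) := by rw [hfac]; infer_instance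
  haveI : IsOpenImmersion (IsOpenImmersion.lift l k h) := IsOpenImmersion.of_comp _ l
  have h2 := Inv.isInvertible_restrict (IsOpenImmersion.lift l k h) _ hL
  exact Inv.isInvertible_of_iso (Ample.restrictRestrictIso _ l k hfac L) h2

end General

section Proj

variable {A σ : Type u} [CommRing A] [SetLike σ A] [AddSubgroupClass σ A] (𝒜 : ℕ → σ)
  [GradedRing 𝒜]

/-- every point of `Proj` lies in some `D_+(f)` with `f` homogeneous of positive degree. -/
theorem exists_pos_nmem (x : Proj 𝒜) :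
    ∃ (m : ℕ) (f : A), 0 < m ∧ f ∈ 𝒜 m ∧ f ∉ x.asHomogeneousIdeal := by
  classical
  by_contra! H
  refine x.not_irrelevant_le (fun z hz => ?_)
  rw [← DirectSum.sum_support_decompose 𝒜 z]
  refine x.asHomogeneousIdeal.toIdeal.sum_mem (fun k _ => ?_)
  by_cases hk0 : k = 0
  · subst hk0
    have h0 : ((DirectSum.decompose 𝒜 z 0 : 𝒜 0) : A) = 0 :=
      (HomogeneousIdeal.mem_irrelevant_iff 𝒜 z).mp hz
    rw [h0]
    exact zero_mem _
  · exact H k _ (Nat.pos_of_ne_zero hk0) (SetLike.coe_mem _)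

/-- if `A` is generated by `A_0` and `A_1`, every point of `Proj` lies in some `D_+(f)`,
`deg f = 1`. -/
theorem exists_deg_one_nmem
    (hgen : Subring.closure ((𝒜 0 : Set A) ∪ (𝒜 1 : Set A)) = ⊤) (y : Proj 𝒜) :
    ∃ f ∈ 𝒜 1, f ∉ y.asHomogeneousIdeal := by
  have hadj : Algebra.adjoin (𝒜 0) (Set.range (fun f : 𝒜 1 => (f : A))) = ⊤ := by
    rw [eq_top_iff]
    rintro a -
    have ha : a ∈ Subring.closure ((𝒜 0 : Set A) ∪ (𝒜 1 : Set A)) := by rw [hgen]; trivial
    induction ha using Subring.closure_induction with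
    | mem x hx =>
      rcases hx with hx | hx
      · exact Subalgebra.algebraMap_mem _ (⟨x, hx⟩ : 𝒜 0)
      · exact Algebra.subset_adjoin ⟨⟨x, hx⟩, rfl⟩
    | zero => exact zero_mem _
    | one => exact one_mem _
    | add x y _ _ hx hy => exact add_mem hx hy
    | neg x _ hx => exact neg_mem hx
    | mul x y _ _ hx hy => exact mul_mem hx hy
  have hcov := Proj.iSup_basicOpen_eq_top' 𝒜 (fun f : 𝒜 1 => (f : A)) (fun f => ⟨1, f.2⟩) hadj
  have hy : y ∈ (⨆ f : 𝒜 1, Proj.basicOpen 𝒜 (f : A)) := by rw [hcov]; trivial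
  obtain ⟨f, hf⟩ := Opens.mem_iSup.mp hy
  exact ⟨f.1, f.2, hf⟩

end Proj

variable {S : Scheme.{u}} {𝒮 : RelProj.QCGrAlg S} {P : Scheme.{u}} (p : P ⟶ S)
  (chart : ∀ (U : S.Opens) (hU : IsAffineOpen U),
    (((p ⁻¹ᵁ U : P.Opens) : Scheme.{u}) ≅ Proj (𝒮.deg U hU)))

theorem opensRange_emb (U : S.Opens) (hU : IsAffineOpen U) :
    (RelProj.emb p chart U hU).opensRange = p ⁻¹ᵁ U := by
  unfold RelProj.emb
  rw [Scheme.Hom.opensRange_comp_of_isIso]
  exact Scheme.Opens.opensRange_ι _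

theorem image_emb_le (U : S.Opens) (hU : IsAffineOpen U) (V : (Proj (𝒮.deg U hU)).Opens) :
    (RelProj.emb p chart U hU) ''ᵁ V ≤ p ⁻¹ᵁ U := by
  rw [← opensRange_emb p chart U hU]
  exact Scheme.Hom.image_le_opensRange _ _

variable {p chart}
variable {n : ℤ} {L : P.Modules}
  {lam : ∀ (U : S.Opens) (hU : IsAffineOpen U),
    L ⟶ (Scheme.Modules.pushforward (RelProj.emb p chart U hU)).obj
      (GrTwist.twist (𝒮.deg U hU) n)}

theorem isIso_restrict_lam (hL : RelProj.IsRelTwist 𝒮 p chart n L lam) (U : S.Opens)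
    (hU : IsAffineOpen U) :
    IsIso ((Scheme.Modules.restrictFunctor (RelProj.emb p chart U hU)).map (lam U hU)) := by
  rw [Scheme.Modules.Hom.isIso_iff_isIso_app]
  intro W
  rw [ConcreteCategory.isIso_iff_bijective]
  exact hL.bijective U hU _ (image_emb_le p chart U hU W)

/-- the chartwise identification `L|_{p⁻¹U} ≅ O(n)`. -/
noncomputable def restrictIso (hL : RelProj.IsRelTwist 𝒮 p chart n L lam) (U : S.Opens)
    (hU : IsAffineOpen U) :
    L.restrict (RelProj.emb p chart U hU) ≅ GrTwist.twist (𝒮.deg U hU) n :=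
  haveI := isIso_restrict_lam hL U hU
  asIso ((Scheme.Modules.restrictFunctor (RelProj.emb p chart U hU)).map (lam U hU)) ≪≫
    (Scheme.Modules.restrictFunctorAdjCounitIso (RelProj.emb p chart U hU)).app _

/-- `O_P(n)` is trivial on the image of `D_+(g)`, `deg g = m`, when `m ∣ n`. -/
theorem nonempty_restrict_iso (hL : RelProj.IsRelTwist 𝒮 p chart n L lam) (U : S.Opens)
    (hU : IsAffineOpen U) {m : ℕ} {g : 𝒮.presheaf.obj (op U)} (hg : g ∈ 𝒮.deg U hU m) (c : ℤ)
    (hn : n = c * m) :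
    Nonempty (L.restrict ((Proj.basicOpen (𝒮.deg U hU) g).ι ≫ RelProj.emb p chart U hU) ≅
      Coh.structureModule ↑(Proj.basicOpen (𝒮.deg U hU) g)) := by
  obtain ⟨ε⟩ := GrTwistMul.twist_restrict_iso' (𝒮.deg U hU) hg c hn
  have e1 := (Ample.restrictRestrictIso (Proj.basicOpen (𝒮.deg U hU) g).ι
    (RelProj.emb p chart U hU) _ rfl L).symm
  have e2 := (Scheme.Modules.restrictFunctor (Proj.basicOpen (𝒮.deg U hU) g).ι).mapIso
    (restrictIso hL U hU)
  exact ⟨e1 ≪≫ e2 ≪≫ ε⟩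

/-- every point of `P` lies in the image of some `D_+(g)`, `g` of positive degree over an affine
open. -/
theorem exists_chart_basicOpen (x : P) :
    ∃ (U : S.Opens) (hU : IsAffineOpen U) (m : ℕ) (g : 𝒮.presheaf.obj (op U)), 0 < m ∧
      g ∈ 𝒮.deg U hU m ∧
      x ∈ Set.range ((Proj.basicOpen (𝒮.deg U hU) g).ι ≫ RelProj.emb p chart U hU) := by
  obtain ⟨_, ⟨U, hU, rfl⟩, hxU, -⟩ :=
    S.isBasis_affineOpens.exists_subset_of_mem_open (Set.mem_univ (p x)) isOpen_univ
  have hU' : IsAffineOpen U := hU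
  have hx : x ∈ (RelProj.emb p chart U hU').opensRange := by
    rw [opensRange_emb]; exact hxU
  obtain ⟨y, rfl⟩ := hx
  obtain ⟨m, g, hm, hg, hgy⟩ := exists_pos_nmem (𝒮.deg U hU') y
  exact ⟨U, hU', m, g, hm, hg, ⟨⟨y, hgy⟩, rfl⟩⟩

/-- if `𝒮` is generated in degree one, the twisting sheaves of the relative `Proj` are
invertible. -/
theorem isInvertible_of_isRelTwist (hgen : 𝒮.IsGenDegOne)
    (hL : RelProj.IsRelTwist 𝒮 p chart n L lam) : PicF.IsInvertible L := by
  apply Ample.isInvertible_of_forall_exists_restrict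
  intro x
  obtain ⟨_, ⟨U, hU, rfl⟩, hxU, -⟩ :=
    S.isBasis_affineOpens.exists_subset_of_mem_open (Set.mem_univ (p x)) isOpen_univ
  have hU' : IsAffineOpen U := hU
  have hx : x ∈ (RelProj.emb p chart U hU').opensRange := by
    rw [opensRange_emb]; exact hxU
  obtain ⟨y, rfl⟩ := hx
  obtain ⟨f, hf, hfy⟩ := exists_deg_one_nmem (𝒮.deg U hU') (hgen U hU') y
  refine ⟨↑(Proj.basicOpen (𝒮.deg U hU') f),
    (Proj.basicOpen (𝒮.deg U hU') f).ι ≫ RelProj.emb p chart U hU', inferInstance,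
    ⟨⟨y, hfy⟩, rfl⟩, ?_⟩
  obtain ⟨ε⟩ := nonempty_restrict_iso hL U hU' hf n (by simp)
  exact Inv.isInvertible_of_iso ε.symm Inv.isInvertible_structureModule

/-- on a quasi-compact open of a relative `Proj`, `O(n)` is invertible for `n` divisible by a
suitable `d > 0`. -/
theorem exists_d_invertible (U : P.Opens) (hU : IsCompact (U : Set P)) :
    ∃ d : ℕ, 0 < d ∧ ∀ (n : ℤ), (d : ℤ) ∣ n →
      ∀ (L : P.Modules)
        (lam : ∀ (V : S.Opens) (hV : IsAffineOpen V),
          L ⟶ (Scheme.Modules.pushforward (RelProj.emb p chart V hV)).obj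
            (GrTwist.twist (𝒮.deg V hV) n)),
        RelProj.IsRelTwist 𝒮 p chart n L lam → PicF.IsInvertible (L.restrict U.ι) := by
  classical
  choose V hV m g hm hg hx using fun x : P => exists_chart_basicOpen (p := p) (chart := chart) x
  obtain ⟨t0, -, ht0⟩ := hU.elim_nhds_subcover
    (fun x => Set.range ((Proj.basicOpen (𝒮.deg (V x) (hV x)) (g x)).ι ≫
      RelProj.emb p chart (V x) (hV x)))
    (fun x _ => (Scheme.Hom.isOpenEmbedding _).isOpen_range.mem_nhds (hx x))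
  refine ⟨∏ x ∈ t0, m x, Finset.prod_pos (fun x _ => hm x), ?_⟩
  rintro n ⟨c, rfl⟩ L lam hL
  apply Ample.isInvertible_of_forall_exists_restrict
  intro u
  obtain ⟨z, hz, hu⟩ := Set.mem_iUnion₂.mp (ht0 u.2)
  obtain ⟨q, hq⟩ : m z ∣ ∏ x ∈ t0, m x := Finset.dvd_prod_of_mem m hz
  obtain ⟨ε⟩ := nonempty_restrict_iso hL (V z) (hV z) (hg z) (c * q) (by
    rw [hq]; push_cast; ring)
  have h1 : PicF.IsInvertible (L.restrict ((Proj.basicOpen (𝒮.deg (V z) (hV z)) (g z)).ι ≫
      RelProj.emb p chart (V z) (hV z))) :=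
    Inv.isInvertible_of_iso ε.symm Inv.isInvertible_structureModule
  let R : P.Opens := ((Proj.basicOpen (𝒮.deg (V z) (hV z)) (g z)).ι ≫
      RelProj.emb p chart (V z) (hV z)).opensRange
  refine ⟨↑(U.ι ⁻¹ᵁ R), (U.ι ⁻¹ᵁ R).ι, inferInstance, ⟨⟨u, hu⟩, rfl⟩, ?_⟩
  have h2 : PicF.IsInvertible (L.restrict ((U.ι ⁻¹ᵁ R).ι ≫ U.ι)) := by
    refine isInvertible_restrict_of_range_subset L _ _ ?_ h1
    rintro _ ⟨w, rfl⟩
    exact w.2
  exact Inv.isInvertible_of_iso (Ample.restrictRestrictIso (U.ι ⁻¹ᵁ R).ι U.ι _ rfl L).symm h2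

end Groth.Agent.Helper28.RelTwist
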