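import Mathlib
import Groth.Prelude.Def_GrTwist
import Groth.Prelude.Def_GrMod3
import Groth.Prelude.Def_Coh
import Groth.Agent.Lib.Helper6.GrModFracA
import Groth.Agent.Lib.Helper6.QcohLocal
import Groth.Agent.Lib.Helper28.RelTwist

/-!
# Port of `Helper6/QcohProj`, `QcohProj2`, `TwistTilde` to the general-grading modules
`GrMod.tilde`, `GrTwist.twist` (helper28): quasi-coherence of `M(n)~` and `O(n)`
-/

set_option autoImplicit false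
universe u
open DirectSum CategoryTheory CategoryTheory.Limits AlgebraicGeometry Opposite TopologicalSpace

namespace Groth.Agent.Helper28.GrModQcoh

variable {A σ : Type u} [CommRing A] [SetLike σ A] [AddSubgroupClass σ A] (𝒜 : ℕ → σ)
  [GradedRing 𝒜]

/-- every section of the structure sheaf over `D₊(f)` is one fraction `g'/f^k`. -/
theorem exists_frac_structure {d : ℕ} (hd : 0 < d) {f : A} (hf : f ∈ 𝒜 d)
    (r : Γ(Proj 𝒜, Proj.basicOpen 𝒜 f)) :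
    ∃ (e k : ℕ) (g : A), g ∈ 𝒜 e ∧ f ^ k ∈ 𝒜 e ∧
      ∀ (x : ProjectiveSpectrum 𝒜) (hx : f ∉ x.asHomogeneousIdeal),
        ((r.1 ⟨x, (ProjectiveSpectrum.mem_basicOpen 𝒜 f x).2 hx⟩ : GrTwist.A0 𝒜 x)).val =
          (Localization.mk g ⟨f ^ k, fun h => hx (x.isPrime.mem_of_pow_mem k h)⟩ : GrTwist.Loc 𝒜 x) := by
  have h1 : r = (Proj.awayToSection 𝒜 f) ((Proj.basicOpenIsoAway 𝒜 f hf hd).inv r) := by
    have := (Proj.basicOpenIsoAway 𝒜 f hf hd).inv_hom_id_apply r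
    rw [Proj.basicOpenIsoAway_hom] at this
    exact this.symm
  obtain ⟨⟨e, ⟨g, hg⟩, ⟨s, hs⟩, ⟨k, hk⟩⟩, hz⟩ :=
    HomogeneousLocalization.mk_surjective ((Proj.basicOpenIsoAway 𝒜 f hf hd).inv r)
  dsimp only at hk
  subst hk
  refine ⟨e, k, g, hg, hs, fun x hx => ?_⟩
  rw [h1, ← hz]
  rfl

theorem mem_basicOpen_iff {f : A} (r : Γ(Proj 𝒜, Proj.basicOpen 𝒜 f)) (x : ProjectiveSpectrum 𝒜)
    (hx : f ∉ x.asHomogeneousIdeal) {g s : A} (hs : s ∉ x.asHomogeneousIdeal)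
    (hr : ((r.1 ⟨x, (ProjectiveSpectrum.mem_basicOpen 𝒜 f x).2 hx⟩ : GrTwist.A0 𝒜 x)).val =
          (Localization.mk g ⟨s, hs⟩ : GrTwist.Loc 𝒜 x)) :
    (x : ↥(Proj 𝒜)) ∈ (Proj 𝒜).basicOpen r ↔ g ∉ x.asHomogeneousIdeal := by
  have hxU : (x : ↥(Proj 𝒜)) ∈ Proj.basicOpen 𝒜 f := (ProjectiveSpectrum.mem_basicOpen 𝒜 f x).2 hx
  refine (Scheme.mem_basicOpen (Proj 𝒜) r (x : ↥(Proj 𝒜)) hxU).trans ?_
  have h1 : IsUnit ((Proj 𝒜).presheaf.germ (Proj.basicOpen 𝒜 f) x hxU r) ↔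
      IsUnit (r.1 ⟨x, hxU⟩ : GrTwist.A0 𝒜 x) := by
    have := Proj.stalkIso'_germ 𝒜 (Proj.basicOpen 𝒜 f) x hxU r
    rw [← this]
    exact (MulEquiv.isUnit_map (Proj.stalkIso' 𝒜 x)).symm
  rw [h1, ← HomogeneousLocalization.isUnit_iff_isUnit_val, hr, Localization.mk_eq_mk']
  rw [IsLocalization.AtPrime.isUnit_mk'_iff _ x.asHomogeneousIdeal.toIdeal]
  rfl

variable {M τ : Type u} [AddCommGroup M] [Module A M] [SetLike τ M] [AddSubgroupClass τ M]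
  (ℳ : ℕ → τ) [DirectSum.Decomposition ℳ] [SetLike.GradedSMul 𝒜 ℳ]

omit [DirectSum.Decomposition ℳ] in
/-- the section `m/s` over an open on which `s` is invertible. -/
def fracOn (n : ℤ) {i j : ℕ} (m : ℳ i) (s : 𝒜 j) (hij : (i : ℤ) = j + n)
    (V : Opens (ProjectiveSpectrum.top 𝒜)) (hV : ∀ x : V, s.1 ∉ x.1.asHomogeneousIdeal) :
    GrMod.sect 𝒜 ℳ n (op V) :=
  ⟨fun x => ⟨LocalizedModule.mk m.1 ⟨s.1, hV x⟩, Submodule.subset_span ⟨i, j, m, s, _, hij, rfl⟩⟩,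
   fun x => ⟨V, x.2, 𝟙 _, i, j, m, s, hV, Or.inl hij, fun _ => rfl⟩⟩

theorem exists_global_frac' (n : ℤ) {d : ℕ} (hd : 0 < d) {f : A} (hf : f ∈ 𝒜 d)
    (W : Opens (ProjectiveSpectrum.top 𝒜))
    (hW : ∀ x : ProjectiveSpectrum 𝒜, x ∈ W ↔ f ∉ x.asHomogeneousIdeal)
    (s : GrMod.sect 𝒜 ℳ n (op W)) :
    ∃ (L q : ℕ) (m : M), m ∈ ℳ q ∧ (q : ℤ) = L * d + n ∧
      ∀ (y : ProjectiveSpectrum 𝒜) (hy : y ∈ W),
        ((s.1 ⟨y, hy⟩).1 : GrMod.LocMod 𝒜 (M := M) y) =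
          (LocalizedModule.mk m ⟨f ^ L, fun h => (hW y).1 hy (y.isPrime.mem_of_pow_mem L h)⟩ :
            GrMod.LocMod 𝒜 (M := M) y) := by
  obtain rfl : W = ProjectiveSpectrum.basicOpen 𝒜 f :=
    Opens.ext (Set.ext fun x => (hW x).trans (ProjectiveSpectrum.mem_basicOpen 𝒜 f x).symm)
  obtain ⟨L, q, m, hm, hq, hval⟩ := Groth.Agent.Helper6.GrModFrac.exists_global_frac 𝒜 ℳ n hd hf s
  exact ⟨L, q, m, hm, hq, fun y hy => hval y ((hW y).1 hy)⟩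


theorem mem_W_iff {f : A}
    (r : Γ(Proj 𝒜, Proj.basicOpen 𝒜 f)) (W : (Proj 𝒜).Opens)
    (hWr : W = (Proj 𝒜).basicOpen r) {k : ℕ} {g : A}
    (hr : ∀ (x : ProjectiveSpectrum 𝒜) (hx : f ∉ x.asHomogeneousIdeal),
        ((r.1 ⟨x, (ProjectiveSpectrum.mem_basicOpen 𝒜 f x).2 hx⟩ : GrTwist.A0 𝒜 x)).val =
          (Localization.mk g ⟨f ^ k, fun h => hx (x.isPrime.mem_of_pow_mem k h)⟩ : GrTwist.Loc 𝒜 x))
    (x : ProjectiveSpectrum 𝒜) :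
    (x : ↥(Proj 𝒜)) ∈ W ↔ (f * g) ∉ x.asHomogeneousIdeal := by
  rw [hWr]
  constructor
  · intro hx
    have hxf : f ∉ x.asHomogeneousIdeal :=
      (ProjectiveSpectrum.mem_basicOpen 𝒜 f x).1 (Scheme.basicOpen_le _ _ hx)
    have := (mem_basicOpen_iff 𝒜 r x hxf _ (hr x hxf)).1 hx
    exact fun h => (x.isPrime.mem_or_mem h).elim hxf this
  · intro hx
    have hxf : f ∉ x.asHomogeneousIdeal := fun h => hx (Ideal.mul_mem_right _ _ h)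
    have hxg : g ∉ x.asHomogeneousIdeal := fun h => hx (Ideal.mul_mem_left _ _ h)
    exact (mem_basicOpen_iff 𝒜 r x hxf _ (hr x hxf)).2 hxg

theorem tilde_hE (n : ℤ) {d : ℕ} (hd : 0 < d) {f : A} (hf : f ∈ 𝒜 d)
    (r : Γ(Proj 𝒜, Proj.basicOpen 𝒜 f)) (W U' : (Proj 𝒜).Opens)
    (hU' : U' = Proj.basicOpen 𝒜 f) (hW : W ≤ U')
    (hWr : W = (Proj 𝒜).basicOpen r) (s : Γ(GrMod.tilde 𝒜 ℳ n, W)) :
    ∃ (N : ℕ) (t : Γ(GrMod.tilde 𝒜 ℳ n, U')),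
      ((Proj 𝒜).presheaf.map (homOfLE (hW.trans hU'.le)).op r) ^ N • s =
        (GrMod.tilde 𝒜 ℳ n).presheaf.map (homOfLE hW).op t := by
  subst hU'
  obtain ⟨e, k, g, hg, hfk, hr⟩ := exists_frac_structure 𝒜 hd hf r
  have hmem := mem_W_iff 𝒜 r W hWr hr
  have hfg : f * g ∈ 𝒜 (d + e) := SetLike.mul_mem_graded hf hg
  obtain ⟨L, q, m₀, hm₀, hq, hval⟩ :=
    exists_global_frac' 𝒜 ℳ n (Nat.add_pos_left hd e) hfg W hmem s
  have hden : f ^ L * (f ^ k) ^ L ∈ 𝒜 (L * d + L * e) := by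
    refine SetLike.mul_mem_graded ?_ ?_
    · simpa [smul_eq_mul] using SetLike.pow_mem_graded L hf
    · simpa [smul_eq_mul] using SetLike.pow_mem_graded L hfk
  have hdenx : ∀ x : (Proj.basicOpen 𝒜 f : Opens (ProjectiveSpectrum.top 𝒜)),
      f ^ L * (f ^ k) ^ L ∉ x.1.asHomogeneousIdeal := by
    intro x h
    have hx := (ProjectiveSpectrum.mem_basicOpen 𝒜 f x.1).1 x.2
    rcases x.1.isPrime.mem_or_mem h with h | h
    · exact hx (x.1.isPrime.mem_of_pow_mem L h)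
    · exact hx (x.1.isPrime.mem_of_pow_mem k (x.1.isPrime.mem_of_pow_mem L h))
  refine ⟨L, fracOn 𝒜 ℳ n ⟨m₀, hm₀⟩ ⟨_, hden⟩ (by push_cast at hq ⊢; linarith) _ hdenx, ?_⟩
  apply Subtype.ext
  funext x
  apply Subtype.ext
  have hx := (hmem x.1).1 x.2
  have hxf : f ∉ x.1.asHomogeneousIdeal := fun h => hx (Ideal.mul_mem_right _ _ h)
  have e1 := hval x.1 x.2
  have e2 := hr x.1 hxf
  change ((((((Proj 𝒜).presheaf.map (homOfLE (hW.trans le_rfl)).op r) ^ L).1 x • s.1 x :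
    GrMod.tildeAt 𝒜 ℳ n x.1)) : GrMod.LocMod 𝒜 (M := M) x.1) =
    LocalizedModule.mk m₀ ⟨f ^ L * (f ^ k) ^ L, hdenx ⟨x.1, hW x.2⟩⟩
  rw [GrMod.coe_smul_val]
  have e3 : (((Proj 𝒜).presheaf.map (homOfLE (hW.trans le_rfl)).op r) ^ L).1 x =
      (r.1 ⟨x.1, hW x.2⟩) ^ L := rfl
  rw [e3, HomogeneousLocalization.val_pow, e2, Localization.mk_pow]
  rw [show ((s.1 x).1 : GrMod.LocMod 𝒜 (M := M) x.1) = _ from e1]
  rw [LocalizedModule.mk_smul_mk, LocalizedModule.mk_eq]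
  refine ⟨1, ?_⟩
  simp only [one_smul, Submonoid.smul_def, Submonoid.coe_mul, SubmonoidClass.coe_pow, smul_smul]
  congr 1
  ring

theorem tilde_hU (n : ℤ) {d : ℕ} (hd : 0 < d) {f : A} (hf : f ∈ 𝒜 d)
    (r : Γ(Proj 𝒜, Proj.basicOpen 𝒜 f)) (W U' : (Proj 𝒜).Opens)
    (hU' : U' = Proj.basicOpen 𝒜 f) (hW : W ≤ U')
    (hWr : W = (Proj 𝒜).basicOpen r) (t : Γ(GrMod.tilde 𝒜 ℳ n, U'))
    (ht : (GrMod.tilde 𝒜 ℳ n).presheaf.map (homOfLE hW).op t = 0) :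
    ∃ N : ℕ, ((Proj 𝒜).presheaf.map (homOfLE hU'.le).op r) ^ N • t = 0 := by
  subst hU'
  obtain ⟨e, k, g, hg, hfk, hr⟩ := exists_frac_structure 𝒜 hd hf r
  have hmem := mem_W_iff 𝒜 r W hWr hr
  have hfg : f * g ∈ 𝒜 (d + e) := SetLike.mul_mem_graded hf hg
  obtain ⟨L, q, m₀, hm₀, hq, hval⟩ :=
    exists_global_frac' 𝒜 ℳ n hd hf (Proj.basicOpen 𝒜 f)
      (fun x => ProjectiveSpectrum.mem_basicOpen 𝒜 f x) t
  obtain ⟨N, hN⟩ : ∃ N : ℕ, (f * g) ^ N • m₀ = 0 := by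
    refine Groth.Agent.Helper6.GrModFrac.exists_pow_smul_eq_zero 𝒜 ℳ (Nat.add_pos_left hd e) hfg hm₀ (fun x hx => ?_)
    have hxW : (x : ↥(Proj 𝒜)) ∈ W := (hmem x).2 hx
    have h0 : ((t.1 ⟨x, hW hxW⟩).1 : GrMod.LocMod 𝒜 (M := M) x) = 0 := by
      have := congrArg (fun σ : GrMod.sect 𝒜 ℳ n (op W) =>
        ((σ.1 ⟨x, hxW⟩).1 : GrMod.LocMod 𝒜 (M := M) x)) ht
      exact this
    rw [hval x (hW hxW)] at h0
    rw [← LocalizedModule.zero_mk (1 : x.asHomogeneousIdeal.toIdeal.primeCompl),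
      LocalizedModule.mk_eq] at h0
    obtain ⟨u, hu⟩ := h0
    refine ⟨u.1, u.2, ?_⟩
    simpa [Submonoid.smul_def] using hu
  refine ⟨N, ?_⟩
  apply Subtype.ext
  funext x
  apply Subtype.ext
  have hxf : f ∉ x.1.asHomogeneousIdeal := (ProjectiveSpectrum.mem_basicOpen 𝒜 f x.1).1 x.2
  have e1 := hval x.1 x.2
  have e2 := hr x.1 hxf
  change ((((((Proj 𝒜).presheaf.map (homOfLE (le_refl (Proj.basicOpen 𝒜 f))).op r) ^ N).1 x • t.1 x :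
    GrMod.tildeAt 𝒜 ℳ n x.1)) : GrMod.LocMod 𝒜 (M := M) x.1) = 0
  rw [GrMod.coe_smul_val]
  have e3 : (((Proj 𝒜).presheaf.map (homOfLE (le_refl (Proj.basicOpen 𝒜 f))).op r) ^ N).1 x =
      (r.1 ⟨x.1, x.2⟩) ^ N := rfl
  rw [e3, HomogeneousLocalization.val_pow, e2, Localization.mk_pow]
  rw [show ((t.1 x).1 : GrMod.LocMod 𝒜 (M := M) x.1) = _ from e1]
  rw [LocalizedModule.mk_smul_mk]
  rw [← LocalizedModule.zero_mk (1 : x.1.asHomogeneousIdeal.toIdeal.primeCompl),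
    LocalizedModule.mk_eq]
  refine ⟨⟨f ^ N, fun h => hxf (x.1.isPrime.mem_of_pow_mem N h)⟩, ?_⟩
  simp only [one_smul, smul_zero, Submonoid.smul_def, smul_smul]
  rw [← mul_pow]
  exact hN

/-- `M(n)~` is quasi-coherent. -/
theorem tilde_isQuasicoherent (n : ℤ) : (GrMod.tilde 𝒜 ℳ n).IsQuasicoherent := by
  refine Groth.Agent.Helper6.QcohLocal.isQuasicoherent_of_affineOpens (X := Proj 𝒜) (GrMod.tilde 𝒜 ℳ n)
    (ι := Σ d : ℕ, {f : A // 0 < d ∧ f ∈ 𝒜 d})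
    (fun i => Proj.basicOpen 𝒜 i.2.1)
    (fun i => Proj.isAffineOpen_basicOpen 𝒜 i.2.1 i.2.2.2 i.2.2.1)
    (fun x => ?_)
    (fun i r W U' hU' hW hWr s => tilde_hE 𝒜 ℳ n i.2.2.1 i.2.2.2 r W U' hU' hW hWr s)
    (fun i r W U' hU' hW hWr t ht => tilde_hU 𝒜 ℳ n i.2.2.1 i.2.2.2 r W U' hU' hW hWr t ht)
  obtain ⟨d, f, hd, hf, hfx⟩ := Groth.Agent.Helper28.RelTwist.exists_pos_nmem 𝒜 x
  exact ⟨⟨d, f, hd, hf⟩, (ProjectiveSpectrum.mem_basicOpen 𝒜 f x).2 hfx⟩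


/-- `LocalizedModule S A ≃ Localization S`. -/
noncomputable def φ (x : ProjectiveSpectrum 𝒜) :
    GrMod.LocMod 𝒜 (M := A) x ≃ₗ[A] GrTwist.Loc 𝒜 x :=
  IsLocalizedModule.iso x.asHomogeneousIdeal.toIdeal.primeCompl
    (Algebra.linearMap A (GrTwist.Loc 𝒜 x))

theorem φ_mk (x : ProjectiveSpectrum 𝒜) (a : A) (s : x.asHomogeneousIdeal.toIdeal.primeCompl) :
    φ 𝒜 x (LocalizedModule.mk a s) = Localization.mk a s := by
  rw [Localization.mk_eq_mk', IsLocalization.mk'_eq_mk']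
  rfl

theorem φ_symm_mk (x : ProjectiveSpectrum 𝒜) (a : A) (s : x.asHomogeneousIdeal.toIdeal.primeCompl) :
    (φ 𝒜 x).symm (Localization.mk a s) = LocalizedModule.mk a s := by
  rw [LinearEquiv.symm_apply_eq, φ_mk]

theorem φ_smul (x : ProjectiveSpectrum 𝒜) (c : GrTwist.Loc 𝒜 x) (q : GrMod.LocMod 𝒜 (M := A) x) :
    φ 𝒜 x (c • q) = c * φ 𝒜 x q := by
  induction q using LocalizedModule.induction_on with
  | h m s =>
    induction c using Localization.induction_on with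
    | H y =>
      obtain ⟨a, t⟩ := y
      rw [LocalizedModule.mk_smul_mk, φ_mk, φ_mk, Localization.mk_mul, smul_eq_mul]

theorem φ_symm_mul (x : ProjectiveSpectrum 𝒜) (c q : GrTwist.Loc 𝒜 x) :
    (φ 𝒜 x).symm (c * q) = c • (φ 𝒜 x).symm q := by
  rw [LinearEquiv.symm_apply_eq, φ_smul, LinearEquiv.apply_symm_apply]

theorem φ_mem (n : ℤ) (x : ProjectiveSpectrum 𝒜) (q : GrMod.LocMod 𝒜 (M := A) x)
    (hq : q ∈ GrMod.tildeAt 𝒜 𝒜 n x) : φ 𝒜 x q ∈ GrTwist.twistAt 𝒜 n x := by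
  induction hq using Submodule.span_induction with
  | mem q hq =>
    obtain ⟨i, j, m, s, hs, hij, rfl⟩ := hq
    rw [φ_mk]
    exact Submodule.subset_span ⟨i, j, m, s, hs, hij, rfl⟩
  | zero => rw [map_zero]; exact zero_mem _
  | add x y _ _ hx hy => rw [map_add]; exact add_mem hx hy
  | smul c q _ hq =>
    rw [GrMod.a0_smul_def, φ_smul]
    have := Submodule.smul_mem _ c hq
    rwa [Algebra.smul_def, HomogeneousLocalization.algebraMap_apply] at this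

theorem φ_symm_mem (n : ℤ) (x : ProjectiveSpectrum 𝒜) (q : GrTwist.Loc 𝒜 x)
    (hq : q ∈ GrTwist.twistAt 𝒜 n x) : (φ 𝒜 x).symm q ∈ GrMod.tildeAt 𝒜 𝒜 n x := by
  induction hq using Submodule.span_induction with
  | mem q hq =>
    obtain ⟨i, j, m, s, hs, hij, rfl⟩ := hq
    rw [φ_symm_mk]
    exact Submodule.subset_span ⟨i, j, m, s, hs, hij, rfl⟩
  | zero => rw [map_zero]; exact zero_mem _
  | add x y _ _ hx hy => rw [map_add]; exact add_mem hx hy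
  | smul c q _ hq =>
    rw [Algebra.smul_def, HomogeneousLocalization.algebraMap_apply, φ_symm_mul]
    have := Submodule.smul_mem _ c hq
    rwa [GrMod.a0_smul_def] at this

/-- sections of `A(n)~` to sections of `O(n)`. -/
noncomputable def toTwist (n : ℤ) (U : (Opens (ProjectiveSpectrum.top 𝒜))ᵒᵖ)
    (s : GrMod.sect 𝒜 𝒜 n U) : GrTwist.sectN (𝒜 := 𝒜) n U :=
  ⟨fun x => ⟨φ 𝒜 x.1 (s.1 x).1, φ_mem 𝒜 n x.1 _ (s.1 x).2⟩, fun x => by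
    obtain ⟨V, hxV, i, a, b, m, t, nin, hor, w⟩ := s.2 x
    refine ⟨V, hxV, i, a, b, m, t, nin, hor, fun y => ?_⟩
    change φ 𝒜 _ (s.1 (i y)).1 = _
    rw [w y, φ_mk]⟩

/-- sections of `O(n)` to sections of `A(n)~`. -/
noncomputable def ofTwist (n : ℤ) (U : (Opens (ProjectiveSpectrum.top 𝒜))ᵒᵖ)
    (s : GrTwist.sectN (𝒜 := 𝒜) n U) : GrMod.sect 𝒜 𝒜 n U :=
  ⟨fun x => ⟨(φ 𝒜 x.1).symm (s.1 x).1, φ_symm_mem 𝒜 n x.1 _ (s.1 x).2⟩, fun x => by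
    obtain ⟨V, hxV, i, a, b, m, t, nin, hor, w⟩ := s.2 x
    refine ⟨V, hxV, i, a, b, m, t, nin, hor, fun y => ?_⟩
    change (φ 𝒜 _).symm (s.1 (i y)).1 = _
    rw [w y, φ_symm_mk]⟩

theorem ofTwist_toTwist (n : ℤ) (U : (Opens (ProjectiveSpectrum.top 𝒜))ᵒᵖ)
    (s : GrMod.sect 𝒜 𝒜 n U) : ofTwist 𝒜 n U (toTwist 𝒜 n U s) = s := by
  apply Subtype.ext
  funext x
  apply Subtype.ext
  exact (φ 𝒜 x.1).symm_apply_apply _

theorem toTwist_ofTwist (n : ℤ) (U : (Opens (ProjectiveSpectrum.top 𝒜))ᵒᵖ)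
    (s : GrTwist.sectN (𝒜 := 𝒜) n U) : toTwist 𝒜 n U (ofTwist 𝒜 n U s) = s := by
  apply Subtype.ext
  funext x
  apply Subtype.ext
  exact (φ 𝒜 x.1).apply_symm_apply _

theorem toTwist_add (n : ℤ) (U : (Opens (ProjectiveSpectrum.top 𝒜))ᵒᵖ)
    (s t : GrMod.sect 𝒜 𝒜 n U) : toTwist 𝒜 n U (s + t) = toTwist 𝒜 n U s + toTwist 𝒜 n U t := by
  apply Subtype.ext
  funext x
  apply Subtype.ext
  exact (φ 𝒜 x.1).map_add _ _

theorem toTwist_smul (n : ℤ) (U : (Opens (ProjectiveSpectrum.top 𝒜))ᵒᵖ) (c : GrTwist.O (𝒜 := 𝒜) U)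
    (s : GrMod.sect 𝒜 𝒜 n U) : toTwist 𝒜 n U (c • s) = c • toTwist 𝒜 n U s := by
  apply Subtype.ext
  funext x
  apply Subtype.ext
  change φ 𝒜 x.1 ((c.1 x • s.1 x : GrMod.tildeAt 𝒜 𝒜 n x.1) : GrMod.LocMod 𝒜 (M := A) x.1) =
    ((c.1 x • (toTwist 𝒜 n U s).1 x : GrTwist.twistAt 𝒜 n x.1) : GrTwist.Loc 𝒜 x.1)
  rw [GrMod.coe_smul_val, GrTwist.coe_smul_val, φ_smul]
  rfl

theorem ofTwist_add (n : ℤ) (U : (Opens (ProjectiveSpectrum.top 𝒜))ᵒᵖ)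
    (s t : GrTwist.sectN (𝒜 := 𝒜) n U) : ofTwist 𝒜 n U (s + t) = ofTwist 𝒜 n U s + ofTwist 𝒜 n U t := by
  apply Subtype.ext
  funext x
  apply Subtype.ext
  exact (φ 𝒜 x.1).symm.map_add _ _

theorem ofTwist_smul (n : ℤ) (U : (Opens (ProjectiveSpectrum.top 𝒜))ᵒᵖ) (c : GrTwist.O (𝒜 := 𝒜) U)
    (s : GrTwist.sectN (𝒜 := 𝒜) n U) : ofTwist 𝒜 n U (c • s) = c • ofTwist 𝒜 n U s := by
  have := toTwist_smul 𝒜 n U c (ofTwist 𝒜 n U s)
  rw [toTwist_ofTwist] at this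
  rw [← this, ofTwist_toTwist]

/-- the morphism `A(n)~ ⟶ O(n)`. -/
noncomputable def homToTwist (n : ℤ) : GrMod.tilde 𝒜 𝒜 n ⟶ GrTwist.twist 𝒜 n :=
  (⟨PresheafOfModules.homMk (M₁ := GrMod.tildePMod 𝒜 𝒜 n) (M₂ := GrTwist.twistPMod 𝒜 n)
    { app := fun U => AddCommGrpCat.ofHom
        { toFun := toTwist 𝒜 n U
          map_zero' := by
            have := toTwist_add 𝒜 n U 0 0
            rw [add_zero] at this
            exact left_eq_add.mp this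
          map_add' := toTwist_add 𝒜 n U }
      naturality := fun U V i => by ext s; rfl }
    (fun U c s => toTwist_smul 𝒜 n U c s)⟩ : SheafOfModules.Hom _ _)

/-- the morphism `O(n) ⟶ A(n)~`. -/
noncomputable def homOfTwist (n : ℤ) : GrTwist.twist 𝒜 n ⟶ GrMod.tilde 𝒜 𝒜 n :=
  (⟨PresheafOfModules.homMk (M₁ := GrTwist.twistPMod 𝒜 n) (M₂ := GrMod.tildePMod 𝒜 𝒜 n)
    { app := fun U => AddCommGrpCat.ofHom
        { toFun := ofTwist 𝒜 n U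
          map_zero' := by
            have := ofTwist_add 𝒜 n U 0 0
            rw [add_zero] at this
            exact left_eq_add.mp this
          map_add' := ofTwist_add 𝒜 n U }
      naturality := fun U V i => by ext s; rfl }
    (fun U c s => ofTwist_smul 𝒜 n U c s)⟩ : SheafOfModules.Hom _ _)

/-- `A(n)~ ≅ O(n)`. -/
noncomputable def tildeIsoTwist (n : ℤ) : GrMod.tilde 𝒜 𝒜 n ≅ GrTwist.twist 𝒜 n where
  hom := homToTwist 𝒜 n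
  inv := homOfTwist 𝒜 n
  hom_inv_id := by
    apply SheafOfModules.hom_ext
    apply PresheafOfModules.hom_ext
    intro U
    apply ModuleCat.hom_ext
    apply LinearMap.ext
    intro s
    exact ofTwist_toTwist 𝒜 n U s
  inv_hom_id := by
    apply SheafOfModules.hom_ext
    apply PresheafOfModules.hom_ext
    intro U
    apply ModuleCat.hom_ext
    apply LinearMap.ext
    intro s
    exact toTwist_ofTwist 𝒜 n U s

theorem twist_isQuasicoherent (n : ℤ) : (GrTwist.twist 𝒜 n).IsQuasicoherent :=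
  (SheafOfModules.isQuasicoherent (Proj 𝒜).ringCatSheaf).prop_of_iso (tildeIsoTwist 𝒜 n)
    (tilde_isQuasicoherent 𝒜 𝒜 n)


end Groth.Agent.Helper28.GrModQcoh
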