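import Mathlib
import Groth.Agent.Lib.Helper13.PbInv
import Groth.Agent.Lib.Helper13.PullbackEpi
import Groth.Agent.Lib.Helper13.GenLocus
import Groth.Agent.Lib.Helper13.FinAffine2
import Groth.Agent.Lib.Helper13.QCohKer
import Groth.Agent.Lib.Helper13.InvTensor
import Groth.Agent.Lib.Helper28.CohSub

set_option autoImplicit false
universe u
open CategoryTheory CategoryTheory.Limits AlgebraicGeometry Opposite TopologicalSpace TensorProduct
open Groth.Agent.Helper13.QCoh Groth.Agent.Helper13.FinType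

namespace Groth.Agent.Helper28.FormalVanish

section Alg

lemma mem_ker_smul_top_of_tmul_eq_zero {R S : Type*} [CommRing R] [CommRing S] [Algebra R S]
    (hS : Function.Surjective (algebraMap R S)) {M : Type*} [AddCommGroup M] [Module R M] (m : M)
    (h : (1 : S) ⊗ₜ[R] m = 0) :
    m ∈ (RingHom.ker (algebraMap R S)) • (⊤ : Submodule R M) := by
  have hS' : Function.Surjective (Algebra.ofId R S) := hS
  have hker : RingHom.ker (Algebra.ofId R S) = RingHom.ker (algebraMap R S) :=
    Ideal.ext fun r => Iff.rfl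
  rw [← hker]
  let e := (Ideal.quotientKerAlgEquivOfSurjective hS').symm
  have h1 : (e.toLinearMap.rTensor M) ((1 : S) ⊗ₜ[R] m) = 0 := by rw [h, map_zero]
  rw [LinearMap.rTensor_tmul] at h1
  have h2 : e.toLinearMap (1 : S) = Ideal.Quotient.mk _ 1 := by
    change e 1 = _
    rw [map_one]
    rfl
  rw [h2] at h1
  have h3 := congrArg (TensorProduct.quotTensorEquivQuotSMul M (RingHom.ker (Algebra.ofId R S))) h1
  rw [TensorProduct.quotTensorEquivQuotSMul_mk_tmul, map_zero, one_smul] at h3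
  exact (Submodule.Quotient.mk_eq_zero _).1 h3

lemma injective_of_surjective_of_equiv {S : Type*} [CommRing S] {A B : Type*} [AddCommGroup A]
    [AddCommGroup B] [Module S A] [Module S B] [Module.Finite S A] (p : A →ₗ[S] B)
    (hp : Function.Surjective p) (e : B ≃ₗ[S] A) : Function.Injective p := by
  have h1 : Function.Surjective (e.toLinearMap ∘ₗ p) := e.surjective.comp hp
  have h2 := OrzechProperty.injective_of_surjective_endomorphism _ h1
  exact Function.Injective.of_comp (f := e) h2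

end Alg

variable {X : Scheme.{u}}

lemma ker_stalkMap_le (J : X.IdealSheafData) (n : ℕ)
    (z : ((J ^ (n + 1)).subscheme : Scheme.{u})) :
    RingHom.ker ((J ^ (n + 1)).subschemeι.stalkMap z).hom ≤
      (IsLocalRing.maximalIdeal (X.presheaf.stalk ((J ^ (n + 1)).subschemeι z))) ^ (n + 1) := by
  obtain ⟨_, ⟨U, hU, rfl⟩, hxU, -⟩ := X.isBasis_affineOpens.exists_subset_of_mem_open
    (Set.mem_univ ((J ^ (n + 1)).subschemeι z)) isOpen_univ
  have hxJ : (J ^ (n + 1)).subschemeι z ∈ J.support := by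
    have h1 : (J ^ (n + 1)).subschemeι z ∈ Set.range (J ^ (n + 1)).subschemeι := ⟨z, rfl⟩
    rw [Scheme.IdealSheafData.range_subschemeι] at h1
    exact h1
  intro r hr
  have hr' : (J ^ (n + 1)).subschemeι.stalkMap z r = 0 := hr
  obtain ⟨g₀, b, hxg₀, hgb⟩ := exists_germ_mul_eq hU _ hxU r
  have hV : IsAffineOpen ((J ^ (n + 1)).subschemeι ⁻¹ᵁ U) := hU.preimage _
  have hzV : z ∈ (J ^ (n + 1)).subschemeι ⁻¹ᵁ U := hxU
  have h1 : ((J ^ (n + 1)).subscheme : Scheme.{u}).presheaf.germ _ z hzV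
      ((J ^ (n + 1)).subschemeι.app U b) = 0 := by
    rw [← Scheme.Hom.germ_stalkMap_apply, ← hgb, map_mul, hr', mul_zero]
  letI := TopCat.Presheaf.algebra_section_stalk ((J ^ (n + 1)).subscheme : Scheme.{u}).presheaf
    ⟨z, hzV⟩
  have hloc := hV.isLocalization_stalk ⟨z, hzV⟩
  obtain ⟨m, hm⟩ := (IsLocalization.map_eq_zero_iff
    (hV.primeIdealOf ⟨z, hzV⟩).asIdeal.primeCompl
    (((J ^ (n + 1)).subscheme : Scheme.{u}).presheaf.stalk z)
    ((J ^ (n + 1)).subschemeι.app U b)).1 h1
  have hzm : z ∈ ((J ^ (n + 1)).subscheme : Scheme.{u}).basicOpen m.1 :=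
    (mem_basicOpen_iff_notMem_primeIdealOf hV z hzV m.1).2 m.2
  obtain ⟨g, hg⟩ := (J ^ (n + 1)).subschemeι_app_surjective ⟨U, hU⟩ m.1
  have hgb' : g * b ∈ (J.ideal ⟨U, hU⟩) ^ (n + 1) := by
    have h2 : g * b ∈ RingHom.ker ((J ^ (n + 1)).subschemeι.app U).hom := by
      rw [RingHom.mem_ker]
      change (J ^ (n + 1)).subschemeι.app U (g * b) = 0
      rw [map_mul, hg]
      exact hm
    have h3 := (J ^ (n + 1)).ker_subschemeι_app ⟨U, hU⟩
    rw [h3] at h2
    exact h2
  have hxg : (J ^ (n + 1)).subschemeι z ∈ X.basicOpen g := by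
    rw [← hg, ← Scheme.preimage_basicOpen] at hzm
    exact hzm
  -- germs of `J.ideal U` lie in the maximal ideal
  have hI : (J.ideal ⟨U, hU⟩).map (X.presheaf.germ U _ hxU).hom ≤
      IsLocalRing.maximalIdeal (X.presheaf.stalk ((J ^ (n + 1)).subschemeι z)) := by
    rw [Ideal.map_le_iff_le_comap]
    intro c hc
    rw [Ideal.mem_comap, IsLocalRing.mem_maximalIdeal, mem_nonunits_iff]
    intro hunit
    have h4 : (J ^ (n + 1)).subschemeι z ∈ X.basicOpen c := (X.mem_basicOpen c _ hxU).2 hunit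
    have h5 := (Scheme.IdealSheafData.mem_support_iff_of_mem (I := J) (U := ⟨U, hU⟩) hxU).1 hxJ
    rw [Scheme.mem_zeroLocus_iff] at h5
    exact h5 c hc h4
  have h6 : X.presheaf.germ U _ hxU (g * b) ∈
      (IsLocalRing.maximalIdeal (X.presheaf.stalk ((J ^ (n + 1)).subschemeι z))) ^ (n + 1) := by
    have h7 : X.presheaf.germ U _ hxU (g * b) ∈
        ((J.ideal ⟨U, hU⟩) ^ (n + 1)).map (X.presheaf.germ U _ hxU).hom :=
      Ideal.mem_map_of_mem _ hgb'
    rw [Ideal.map_pow] at h7
    exact Ideal.pow_right_mono hI _ h7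
  have hu : IsUnit (X.presheaf.germ U _ hxU g * X.presheaf.germ U _ hxU g₀) :=
    ((X.mem_basicOpen g _ hxU).1 hxg).mul ((X.mem_basicOpen g₀ _ hxU).1 hxg₀)
  rw [← Ideal.unit_mul_mem_iff_mem _ hu, mul_assoc, hgb, ← map_mul]
  exact h6


section General

variable {Z : Scheme.{u}} (i : Z ⟶ X) [SurjectiveOnStalks i] {K G : X.Modules}
  [K.IsQuasicoherent] [G.IsQuasicoherent] [SheafOfModules.IsFiniteType (R := X.ringCatSheaf) G]

/-- If the pullback of `ι : K ⟶ G` along a morphism `i` surjective on stalks vanishes, then on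
stalks the image of `ι` lies in `ker(O_{X,i z} → O_{Z,z}) • G_{i z}`. -/
theorem stalkMap_mem_ker_smul_top (ι : K ⟶ G)
    (h : (Scheme.Modules.pullback i).map ι = 0) (z : Z) (k : K.presheaf.stalk (i z)) :
    (stalkMap ι (i z) k : G.presheaf.stalk (i z)) ∈
      (RingHom.ker (i.stalkMap z).hom) •
        (⊤ : Submodule (X.presheaf.stalk (i z)) (G.presheaf.stalk (i z))) := by
  letI alg : Algebra (X.presheaf.stalk (i z)) (Z.presheaf.stalk z) :=
    (i.stalkMap z).hom.toAlgebra
  have hsurj : Function.Surjective (algebraMap (X.presheaf.stalk (i z)) (Z.presheaf.stalk z)) :=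
    i.stalkMap_surjective z
  haveI hQqc : (cokernel ι).IsQuasicoherent :=
    Groth.Agent.Helper13.QCohLocal.isQuasicoherent_cokernel ι
  obtain ⟨eG⟩ := Groth.Agent.Helper13.Pullback.exists_stalk_pullback_equiv i G z
  obtain ⟨eQ⟩ := Groth.Agent.Helper13.Pullback.exists_stalk_pullback_equiv i (cokernel ι) z
  let e0 : (Scheme.Modules.pullback i).obj (cokernel ι) ≅ (Scheme.Modules.pullback i).obj G :=
    PreservesCokernel.iso (Scheme.Modules.pullback i) ι ≪≫ cokernelIsoOfEq h ≪≫
      cokernelZeroIsoTarget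
  let e1 := Groth.Agent.Helper13.Inv.stalkLinearEquiv e0 z
  haveI : Module.Finite (X.presheaf.stalk (i z)) (G.presheaf.stalk (i z)) :=
    Groth.Agent.Helper13.LocFree.finite_stalk_of_isFiniteType G (i z)
  let π := stalkLinearMap (cokernel.π ι) (i z)
  have hπ : Function.Surjective π := stalkMap_surjective_of_epi (cokernel.π ι) (i z)
  let p : (Z.presheaf.stalk z) ⊗[X.presheaf.stalk (i z)] (G.presheaf.stalk (i z))
      →ₗ[Z.presheaf.stalk z]
      (Z.presheaf.stalk z) ⊗[X.presheaf.stalk (i z)]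
        ((cokernel ι : X.Modules).presheaf.stalk (i z)) :=
    π.baseChange (Z.presheaf.stalk z)
  have hp : Function.Surjective p := by
    change Function.Surjective (π.lTensor (Z.presheaf.stalk z))
    exact LinearMap.lTensor_surjective _ hπ
  have hpinj : Function.Injective p :=
    injective_of_surjective_of_equiv p hp (eQ.symm ≪≫ₗ e1 ≪≫ₗ eG)
  have hπ0 : π (stalkMap ι (i z) k) = 0 := by
    change stalkMap (cokernel.π ι) (i z) (stalkMap ι (i z) k) = 0
    rw [← Groth.Agent.Helper13.PbInv.stalkMap_comp, cokernel.condition,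
      Groth.Agent.Helper13.PbInv.stalkMap_zero]
  have h0 : p ((1 : Z.presheaf.stalk z) ⊗ₜ[X.presheaf.stalk (i z)]
      (stalkMap ι (i z) k : G.presheaf.stalk (i z))) = 0 := by
    change (1 : Z.presheaf.stalk z) ⊗ₜ[X.presheaf.stalk (i z)] (π (stalkMap ι (i z) k)) = 0
    rw [hπ0, TensorProduct.tmul_zero]
  have h1 : (1 : Z.presheaf.stalk z) ⊗ₜ[X.presheaf.stalk (i z)]
      (stalkMap ι (i z) k : G.presheaf.stalk (i z)) = 0 :=
    hpinj (by rw [h0, map_zero])
  exact mem_ker_smul_top_of_tmul_eq_zero hsurj _ h1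

end General

section Core

variable [IsLocallyNoetherian X] {K G : X.Modules} [K.IsQuasicoherent] [G.IsQuasicoherent]
  [SheafOfModules.IsFiniteType (R := X.ringCatSheaf) G]

theorem stalkMap_mem_pow_smul_top (ι : K ⟶ G) (J : X.IdealSheafData) (n : ℕ)
    (h : (Scheme.Modules.pullback (J ^ (n + 1)).subschemeι).map ι = 0)
    (x : X) (hx : x ∈ J.support) (k : K.presheaf.stalk x) :
    (stalkMap ι x k : G.presheaf.stalk x) ∈
      ((IsLocalRing.maximalIdeal (X.presheaf.stalk x)) ^ (n + 1)) •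
        (⊤ : Submodule (X.presheaf.stalk x) (G.presheaf.stalk x)) := by
  have hx' : x ∈ Set.range (J ^ (n + 1)).subschemeι := by
    rw [Scheme.IdealSheafData.range_subschemeι]
    exact hx
  obtain ⟨z, rfl⟩ := hx'
  exact Submodule.smul_mono_left (ker_stalkMap_le J n z)
    (stalkMap_mem_ker_smul_top (J ^ (n + 1)).subschemeι ι h z k)

/-- **Core**: a quasi-coherent submodule `K` of a coherent module whose inclusion pulls back to
zero on all thickenings of `V(J)` has vanishing stalks along `V(J)`. -/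
theorem subsingleton_stalk_of_pullback_eq_zero (ι : K ⟶ G) [Mono ι] (J : X.IdealSheafData)
    (h : ∀ n : ℕ, (Scheme.Modules.pullback (J ^ (n + 1)).subschemeι).map ι = 0)
    (x : X) (hx : x ∈ J.support) : Subsingleton (K.presheaf.stalk x) := by
  haveI : Module.Finite (X.presheaf.stalk x) (G.presheaf.stalk x) :=
    Groth.Agent.Helper13.LocFree.finite_stalk_of_isFiniteType G x
  have hι : Function.Injective (stalkMap ι x) := (mono_iff_stalk_injective ι).1 inferInstance x
  have key : ∀ k : K.presheaf.stalk x, (stalkMap ι x k : G.presheaf.stalk x) = 0 := by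
    intro k
    have hmem : (stalkMap ι x k : G.presheaf.stalk x) ∈
        (⨅ i : ℕ, (IsLocalRing.maximalIdeal (X.presheaf.stalk x)) ^ i •
          (⊤ : Submodule (X.presheaf.stalk x) (G.presheaf.stalk x))) := by
      rw [Submodule.mem_iInf]
      intro i
      cases i with
      | zero =>
        rw [pow_zero, Ideal.one_eq_top, Submodule.top_smul]
        trivial
      | succ n => exact stalkMap_mem_pow_smul_top ι J n (h n) x hx k
    rw [Ideal.iInf_pow_smul_eq_bot_of_isLocalRing _
      (IsLocalRing.maximalIdeal.isMaximal _).ne_top] at hmem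
    exact (Submodule.mem_bot _).1 hmem
  refine ⟨fun a b => hι ?_⟩
  rw [key a, key b]

theorem exists_nhd (ι : K ⟶ G) [Mono ι] (J : X.IdealSheafData)
    (h : ∀ n : ℕ, (Scheme.Modules.pullback (J ^ (n + 1)).subschemeι).map ι = 0) :
    ∃ U : X.Opens, (J.support : Set X) ⊆ U ∧ ∀ y ∈ U, Subsingleton (K.presheaf.stalk y) := by
  haveI : SheafOfModules.IsFiniteType (R := X.ringCatSheaf) K :=
    Groth.Agent.Helper28.CohSub.isFiniteType_of_mono ι
  have hW : ∀ x : J.support, ∃ W : X.Opens, (x : X) ∈ W ∧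
      Disjoint (W : Set X) (CohB1.support K) := by
    intro x
    apply Groth.Agent.Helper13.PbInv.exists_open_disjoint_support K x
    intro hmem
    exact hmem (subsingleton_stalk_of_pullback_eq_zero ι J h x x.2)
  choose W hxW hWd using hW
  refine ⟨⨆ x, W x, ?_, ?_⟩
  · intro x hx
    exact Opens.mem_iSup.2 ⟨⟨x, hx⟩, hxW ⟨x, hx⟩⟩
  · intro y hy
    obtain ⟨x, hyx⟩ := Opens.mem_iSup.1 hy
    by_contra hne
    exact Set.disjoint_left.1 (hWd x) hyx hne

end Core

open Groth.Agent.Helper13.GenLoc Groth.Agent.Helper13.Inv in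
/-- **S2302**. -/
theorem eq_zero_on_nhd (X : Scheme.{u}) [IsLocallyNoetherian X] (F G : X.Modules)
    (hF : Coh.IsCoh F) (hG : Coh.IsCoh G) (u : F ⟶ G) (J : X.IdealSheafData)
    (h : ∀ n : ℕ, (Scheme.Modules.pullback (J ^ (n + 1)).subschemeι).map u = 0) :
    ∃ U : X.Opens, (J.support : Set X) ⊆ U ∧ (Scheme.Modules.restrictFunctor U.ι).map u = 0 := by
  haveI := hF.1
  haveI := hG.1
  haveI := hG.2
  haveI : (cokernel u).IsQuasicoherent :=
    Groth.Agent.Helper13.QCohLocal.isQuasicoherent_cokernel u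
  haveI : (Abelian.image u).IsQuasicoherent :=
    Groth.Agent.Helper13.QCohLocal.isQuasicoherent_kernel (cokernel.π u)
  have hι : ∀ n : ℕ, (Scheme.Modules.pullback (J ^ (n + 1)).subschemeι).map
      (Abelian.image.ι u) = 0 := by
    intro n
    haveI : Epi ((Scheme.Modules.pullback (J ^ (n + 1)).subschemeι).map
        (Abelian.factorThruImage u)) := inferInstance
    rw [← cancel_epi ((Scheme.Modules.pullback (J ^ (n + 1)).subschemeι).map
      (Abelian.factorThruImage u)), ← Functor.map_comp, Abelian.image.fac, h n, comp_zero]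
  obtain ⟨U, hJU, hU⟩ := exists_nhd (Abelian.image.ι u) J hι
  refine ⟨U, hJU, ?_⟩
  apply hom_ext_stalk
  intro y m
  apply (τ U.ι G y).injective
  rw [τ_stalkMap, Groth.Agent.Helper13.PbInv.stalkMap_zero, map_zero]
  have h1 : stalkMap u (U.ι y) (τ U.ι F y m) =
      stalkMap (Abelian.image.ι u) (U.ι y)
        (stalkMap (Abelian.factorThruImage u) (U.ι y) (τ U.ι F y m)) := by
    rw [← Groth.Agent.Helper13.PbInv.stalkMap_comp, Abelian.image.fac]
  rw [h1]
  haveI := hU (U.ι y) y.2
  rw [Subsingleton.elim (stalkMap (Abelian.factorThruImage u) (U.ι y) (τ U.ι F y m)) 0, map_zero]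

/-- **S2303**. -/
theorem mono_on_nhd (X : Scheme.{u}) [IsLocallyNoetherian X] (F G : X.Modules)
    (hF : Coh.IsCoh F) (hG : Coh.IsCoh G) (u : F ⟶ G) (J : X.IdealSheafData)
    (h : ∀ n : ℕ, (Scheme.Modules.pullback (J ^ (n + 1)).subschemeι).map (kernel.ι u) = 0) :
    ∃ U : X.Opens, (J.support : Set X) ⊆ U ∧
      Mono ((Scheme.Modules.restrictFunctor U.ι).map u) := by
  haveI := hF.1
  haveI := hF.2
  haveI := hG.1
  haveI : (kernel u).IsQuasicoherent :=
    Groth.Agent.Helper13.QCohLocal.isQuasicoherent_kernel u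
  obtain ⟨U, hJU, hU⟩ := exists_nhd (kernel.ι u) J h
  refine ⟨U, hJU, ?_⟩
  have hz : IsZero ((Scheme.Modules.restrictFunctor U.ι).obj (kernel u)) := by
    rw [isZero_iff_sections]
    intro V
    change Subsingleton Γ(kernel u, U.ι ''ᵁ V)
    refine ⟨fun s t => ?_⟩
    refine TopCat.Presheaf.section_ext ⟨(kernel u).presheaf, (kernel u).isSheaf⟩
      (U.ι ''ᵁ V) s t (fun x hx => ?_)
    obtain ⟨y, -, rfl⟩ := hx
    exact @Subsingleton.elim _ (hU (U.ι y) y.2) _ _
  have e := PreservesKernel.iso (Scheme.Modules.restrictFunctor U.ι) u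
  have hz' : IsZero (kernel ((Scheme.Modules.restrictFunctor U.ι).map u)) := hz.of_iso e.symm
  exact Preadditive.mono_of_kernel_zero (hz'.eq_of_src _ _)

end Groth.Agent.Helper28.FormalVanish
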