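import Mathlib
import Groth.Agent.Lib.Helper13.EpiStalk
import Groth.Agent.Lib.Helper13.FinAffine
import Groth.Agent.Lib.Helper13.PullbackLocal
import Groth.Agent.Lib.Helper13.QCohLoc
import Groth.Agent.Lib.Helper13.QCoh

set_option autoImplicit false
universe u
open CategoryTheory CategoryTheory.Limits AlgebraicGeometry Opposite TopologicalSpace
open Groth.Agent.Helper13.QCoh Groth.Agent.Helper13.FinType

namespace Groth.Agent.Helper28.UnitGen

variable {X Y : Scheme.{u}} (f : X ⟶ Y) (G : Y.Modules)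

/-- the pullback module -/
noncomputable abbrev pb : X.Modules := (Scheme.Modules.pullback f).obj G

/-- the unit of the pullback-pushforward adjunction -/
noncomputable abbrev η : G ⟶ (Scheme.Modules.pushforward f).obj (pb f G) :=
  (Scheme.Modules.pullbackPushforwardAdjunction f).unit.app G

/-- the unit on sections -/
noncomputable def ηsec (V : Y.Opens) (m : Γ(G, V)) : Γ(pb f G, f ⁻¹ᵁ V) := (η f G).app V m

lemma ηsec_add (V : Y.Opens) (m m' : Γ(G, V)) :
    ηsec f G V (m + m') = ηsec f G V m + ηsec f G V m' := map_add _ _ _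

lemma ηsec_zero (V : Y.Opens) : ηsec f G V 0 = 0 := map_zero _

lemma ηsec_smul (V : Y.Opens) (r : Γ(Y, V)) (m : Γ(G, V)) :
    ηsec f G V (r • m) = (f.app V r) • ηsec f G V m := by
  unfold ηsec
  rw [Scheme.Modules.Hom.app_smul]
  rfl

lemma ηsec_res {V W : Y.Opens} (h : W ≤ V) (m : Γ(G, V)) :
    ηsec f G W (G.presheaf.map (homOfLE h).op m) =
      (pb f G).presheaf.map (homOfLE (show f ⁻¹ᵁ W ≤ f ⁻¹ᵁ V from fun _ hx => h hx)).op
        (ηsec f G V m) := by
  have := ConcreteCategory.congr_hom ((η f G).mapPresheaf.naturality (homOfLE h).op) m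
  exact this

/-- generators of the stalk of the pullback coming from the unit -/
def genSet (x : X) : Set ((pb f G).presheaf.stalk x) :=
  {z | ∃ (V : Y.Opens) (hV : f x ∈ V) (m : Γ(G, V)),
    (pb f G).presheaf.germ (f ⁻¹ᵁ V) x hV (ηsec f G V m) = z}

/-- the submodule of the stalk generated by the image of the unit -/
noncomputable def genSpan (x : X) :
    Submodule (X.presheaf.stalk x) ((pb f G).presheaf.stalk x) :=
  Submodule.span _ (genSet f G x)

/-- sections of `f^* G` whose germs lie in the span of the image of the unit. -/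
noncomputable def genSub : PresheafOfModules.Submodule (pb f G).val where
  obj V :=
    { carrier := {t | ∀ (y : X) (hy : y ∈ V.unop),
        (pb f G).presheaf.germ V.unop y hy t ∈ genSpan f G y}
      add_mem' := by
        intro a b ha hb y hy
        have := Submodule.add_mem _ (ha y hy) (hb y hy)
        rw [← map_add] at this
        exact this
      zero_mem' := by
        intro y hy
        have : (pb f G).presheaf.germ V.unop y hy 0 = 0 := map_zero _
        exact Eq.mpr (congrArg (fun z => z ∈ genSpan f G y) this) (Submodule.zero_mem _)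
      smul_mem' := by
        intro r a ha y hy
        have := germ_smul (F := pb f G) V.unop y hy r a
        exact Eq.mpr (congrArg (fun z => z ∈ genSpan f G y) this)
          (Submodule.smul_mem _ _ (ha y hy)) }
  map := by
    intro V W g t ht y hy
    have hyV : y ∈ V.unop := g.unop.le hy
    have := TopCat.Presheaf.germ_res_apply (pb f G).presheaf g.unop y hy t
    exact Eq.mpr (congrArg (fun z => z ∈ genSpan f G y) this) (ht y hyV)

lemma isLocalSub_genSub : IsLocalSub (pb f G) (genSub f G) := by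
  intro V t h y hy
  obtain ⟨W, hW, hyW, hm⟩ := h y hy
  have := hm y hyW
  rwa [TopCat.Presheaf.germ_res_apply] at this

/-- **(Gen)**: the stalks of `f^* G` are generated by the image of the unit. -/
theorem genSpan_eq_top (x : X) : genSpan f G x = ⊤ := by
  have hloc := isLocalSub_genSub f G
  let ι := subsheafι (pb f G) (genSub f G) hloc
  have hzero : η f G ≫ (Scheme.Modules.pushforward f).map (cokernel.π ι) = 0 := by
    apply Scheme.Modules.hom_ext
    intro V
    ext m
    change (cokernel.π ι).app (f ⁻¹ᵁ V) (ηsec f G V m) = 0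
    have hmem : ηsec f G V m ∈ (genSub f G).obj (op (f ⁻¹ᵁ V)) :=
      fun y hy => Submodule.subset_span ⟨V, hy, m, rfl⟩
    let p : Γ(subsheaf (pb f G) (genSub f G) hloc, f ⁻¹ᵁ V) :=
      (⟨ηsec f G V m, hmem⟩ : (genSub f G).obj (op (f ⁻¹ᵁ V)))
    have hp : ι.app (f ⁻¹ᵁ V) p = ηsec f G V m := rfl
    rw [← hp]
    have h2 : (ι ≫ cokernel.π ι).app (f ⁻¹ᵁ V) p = 0 := by
      rw [cokernel.condition]
      rfl
    exact h2
  have hπ : cokernel.π ι = 0 := by
    apply ((Scheme.Modules.pullbackPushforwardAdjunction f).homEquiv G _).injective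
    rw [Adjunction.homEquiv_unit, Adjunction.homEquiv_unit, Functor.map_zero, comp_zero]
    exact hzero
  haveI : Epi ι := Abelian.epi_of_cokernel_π_eq_zero _ hπ
  haveI : IsIso ι := isIso_of_mono_of_epi ι
  rw [eq_top_iff]
  intro z _
  obtain ⟨W, hxW, t, rfl⟩ := TopCat.Presheaf.exists_germ_eq (pb f G).presheaf z
  have hsurj : Function.Surjective (ι.app W) :=
    ((ConcreteCategory.isIso_iff_bijective (ι.app W)).1 inferInstance).2
  obtain ⟨t', rfl⟩ := hsurj t
  exact subsheafι_app_mem (pb f G) (genSub f G) hloc W t' x hxW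

section QCoh

variable [G.IsQuasicoherent]

/-- **Step 2**: over affine opens `U ≤ f⁻¹ V`, the sections of `f^* G` over `U` are generated
stalkwise by the images of the sections of `G` over `V`. -/
theorem genOn_res {V : Y.Opens} (hV : IsAffineOpen V) {U : X.Opens} (e : U ≤ f ⁻¹ᵁ V) :
    GenOn (pb f G) U
      (fun m : Γ(G, V) => (pb f G).presheaf.map (homOfLE e).op (ηsec f G V m)) := by
  intro x hx
  rw [eq_top_iff, ← genSpan_eq_top f G x]
  apply Submodule.span_le.2
  rintro z ⟨V', hV', m', rfl⟩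
  have hy : f x ∈ V := e hx
  obtain ⟨a, haV, hya⟩ := hV.exists_basicOpen_le (V := V' ⊓ V) ⟨f x, ⟨hV', hy⟩⟩ hy
  have ha' : Y.basicOpen a ≤ V' := haV.trans inf_le_left
  have haV' : Y.basicOpen a ≤ V := Y.basicOpen_le a
  obtain ⟨n, t, ht⟩ := exists_pow_smul_eq_res G hV a (G.presheaf.map (homOfLE ha').op m')
  have h1 := congrArg (ηsec f G (Y.basicOpen a)) ht
  rw [ηsec_res, ηsec_smul, ηsec_res] at h1
  have hxa : x ∈ f ⁻¹ᵁ (Y.basicOpen a) := hya
  have h2 := congrArg ((pb f G).presheaf.germ (f ⁻¹ᵁ (Y.basicOpen a)) x hxa) h1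
  rw [TopCat.Presheaf.germ_res_apply, germ_smul, TopCat.Presheaf.germ_res_apply] at h2
  -- the unit
  have hu : IsUnit (X.presheaf.germ (f ⁻¹ᵁ (Y.basicOpen a)) x hxa
      (f.app (Y.basicOpen a) ((Y.presheaf.map (homOfLE (Y.basicOpen_le a)).op a) ^ n))) := by
    have h0 : IsUnit (Y.presheaf.map (homOfLE (Y.basicOpen_le a)).op a) :=
      Y.toRingedSpace.isUnit_res_basicOpen a
    exact ((h0.pow n).map (f.app (Y.basicOpen a)).hom).map
      (X.presheaf.germ (f ⁻¹ᵁ (Y.basicOpen a)) x hxa).hom
  have h3 : (pb f G).presheaf.germ (f ⁻¹ᵁ V') x hV' (ηsec f G V' m') =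
      ((hu.unit⁻¹ : (X.presheaf.stalk x)ˣ) : X.presheaf.stalk x) •
        (pb f G).presheaf.germ (f ⁻¹ᵁ V) x hy (ηsec f G V t) := by
    rw [h2, smul_smul, IsUnit.val_inv_mul, one_smul]
  rw [SetLike.mem_coe, h3]
  refine Submodule.smul_mem _ _ (Submodule.subset_span ⟨t, ?_⟩)
  exact TopCat.Presheaf.germ_res_apply (pb f G).presheaf (homOfLE e) x hx _

/-- **Step 2'**: over affine opens `U ≤ f⁻¹ V`, `Γ(f^* G, U)` is generated as a `Γ(X, U)`-module
by the image of `Γ(G, V)` under the unit. -/
theorem span_range_res_eq_top {V : Y.Opens} (hV : IsAffineOpen V) {U : X.Opens}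
    (hU : IsAffineOpen U) (e : U ≤ f ⁻¹ᵁ V) :
    Submodule.span Γ(X, U) (Set.range
      (fun m : Γ(G, V) => (pb f G).presheaf.map (homOfLE e).op (ηsec f G V m))) = ⊤ := by
  haveI : (pb f G).IsQuasicoherent := Groth.Agent.Helper13.Pullback.isQuasicoherent_pullback f G
  exact span_eq_top_of_genOn (pb f G) hU _ (genOn_res f G hV e)

end QCoh

end Groth.Agent.Helper28.UnitGen
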