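import Mathlib
import Groth.Agent.Lib.Helper28.UnitGen
import Groth.Agent.Lib.Helper28.FormalVanish
import Groth.Agent.Lib.Helper13.PullbackSections
import Groth.Agent.Lib.Helper13.LocFree
import Groth.Agent.Lib.Helper13.FinAffine2
import Groth.Agent.Lib.Helper13.FittPullback

set_option autoImplicit false
universe u
open CategoryTheory CategoryTheory.Limits AlgebraicGeometry Opposite TopologicalSpace TensorProduct
open Groth.Agent.Helper13.QCoh Groth.Agent.Helper13.FinType
open Groth.Agent.Helper28.UnitGen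

namespace Groth.Agent.Helper28.UnitClosed

section Closed

variable {Z X : Scheme.{u}} (i : Z ⟶ X) [IsClosedImmersion i] (G : X.Modules) [G.IsQuasicoherent]

/-- For a closed immersion, the unit `G ⟶ i_* i^* G` is surjective on sections over affine
opens. -/
theorem ηsec_surjective {U : X.Opens} (hU : IsAffineOpen U) :
    Function.Surjective (ηsec i G U) := by
  have hW : IsAffineOpen (i ⁻¹ᵁ U) := hU.preimage i
  have hspan := span_range_res_eq_top i G hU hW le_rfl
  intro t
  have ht : t ∈ Submodule.span Γ(Z, i ⁻¹ᵁ U) (Set.range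
      (fun m : Γ(G, U) => (pb i G).presheaf.map (homOfLE (le_refl (i ⁻¹ᵁ U))).op
        (ηsec i G U m))) := by
    rw [hspan]
    trivial
  induction ht using Submodule.span_induction with
  | mem z hz =>
    obtain ⟨m, rfl⟩ := hz
    exact ⟨m, (map_id_apply' _ _ _).symm⟩
  | zero => exact ⟨0, ηsec_zero i G U⟩
  | add a b _ _ ha hb =>
    obtain ⟨ma, rfl⟩ := ha
    obtain ⟨mb, rfl⟩ := hb
    exact ⟨ma + mb, ηsec_add i G U ma mb⟩
  | smul r a _ ha =>
    obtain ⟨m, rfl⟩ := ha
    obtain ⟨r', rfl⟩ := i.app_surjective U hU r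
    exact ⟨r' • m, ηsec_smul i G U r' m⟩

/-- For a closed immersion and a quasi-coherent module of finite type killed by the kernel of
`Γ(X, U) ⟶ Γ(Z, i⁻¹ U)`, the unit is bijective on sections over the affine open `U`. -/
theorem ηsec_bijective [SheafOfModules.IsFiniteType (R := X.ringCatSheaf) G] {U : X.Opens}
    (hU : IsAffineOpen U)
    (hk : ∀ a : Γ(X, U), a ∈ RingHom.ker (i.app U).hom → ∀ m : Γ(G, U), a • m = 0) :
    Function.Bijective (ηsec i G U) := by
  refine ⟨?_, ηsec_surjective i G hU⟩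
  have hW : IsAffineOpen (i ⁻¹ᵁ U) := hU.preimage i
  letI alg : Algebra Γ(X, U) Γ(Z, i ⁻¹ᵁ U) := (i.appLE U (i ⁻¹ᵁ U) le_rfl).hom.toAlgebra
  have halg : ∀ a : Γ(X, U), algebraMap Γ(X, U) Γ(Z, i ⁻¹ᵁ U) a = i.app U a := by
    intro a
    change (i.appLE U (i ⁻¹ᵁ U) le_rfl) a = _
    rw [← Scheme.Hom.app_eq_appLE]
  have hsurjA : Function.Surjective (algebraMap Γ(X, U) Γ(Z, i ⁻¹ᵁ U)) := by
    intro b
    obtain ⟨a, rfl⟩ := i.app_surjective U hU b
    exact ⟨a, halg a⟩
  let e := Groth.Agent.Helper13.Pullback.sectionsPullbackEquiv i G hW hU le_rfl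
  haveI : Module.Finite Γ(X, U) Γ(G, U) := finite_sections_of_isFiniteType G hU
  let ψ : Γ(G, U) →ₗ[Γ(X, U)] (Γ(Z, i ⁻¹ᵁ U) ⊗[Γ(X, U)] Γ(G, U)) :=
    TensorProduct.mk Γ(X, U) Γ(Z, i ⁻¹ᵁ U) Γ(G, U) 1
  have hψinj : Function.Injective ψ := by
    rw [injective_iff_map_eq_zero]
    intro m hm
    have h1 := Groth.Agent.Helper28.FormalVanish.mem_ker_smul_top_of_tmul_eq_zero hsurjA m hm
    have h2 : (RingHom.ker (algebraMap Γ(X, U) Γ(Z, i ⁻¹ᵁ U))) •
        (⊤ : Submodule Γ(X, U) Γ(G, U)) = ⊥ := by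
      rw [eq_bot_iff, Submodule.smul_le]
      intro a ha m' _
      rw [Submodule.mem_bot]
      apply hk a _ m'
      rw [RingHom.mem_ker] at ha ⊢
      rw [halg] at ha
      exact ha
    rw [h2] at h1
    exact (Submodule.mem_bot _).1 h1
  have hψsurj : Function.Surjective ψ := by
    intro t
    induction t using TensorProduct.induction_on with
    | zero => exact ⟨0, map_zero _⟩
    | tmul b m =>
      obtain ⟨a, rfl⟩ := hsurjA b
      refine ⟨a • m, ?_⟩
      change (1 : Γ(Z, i ⁻¹ᵁ U)) ⊗ₜ[Γ(X, U)] (a • m) = algebraMap Γ(X, U) Γ(Z, i ⁻¹ᵁ U) a ⊗ₜ m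
      rw [TensorProduct.tmul_smul, TensorProduct.smul_tmul', Algebra.smul_def, mul_one]
    | add x y hx hy =>
      obtain ⟨mx, rfl⟩ := hx
      obtain ⟨my, rfl⟩ := hy
      exact ⟨mx + my, map_add _ _ _⟩
  let ψe := LinearEquiv.ofBijective ψ ⟨hψinj, hψsurj⟩
  let θ : Γ(G, U) →ₗ[Γ(X, U)] Γ(G, U) :=
    { toFun := fun m => ψe.symm (e (ηsec i G U m))
      map_add' := by
        intro a b
        rw [ηsec_add, map_add, map_add]
      map_smul' := by
        intro a m
        rw [RingHom.id_apply, ηsec_smul, ← halg a, map_smul, algebraMap_smul, map_smul] }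
  have hθ : Function.Surjective θ := by
    intro m
    obtain ⟨t, ht⟩ := e.surjective (ψe m)
    obtain ⟨m', rfl⟩ := ηsec_surjective i G hU t
    refine ⟨m', ?_⟩
    change ψe.symm (e (ηsec i G U m')) = m
    rw [ht, LinearEquiv.symm_apply_apply]
  have hθinj := OrzechProperty.injective_of_surjective_endomorphism θ hθ
  intro m m' hmm
  apply hθinj
  change ψe.symm (e (ηsec i G U m)) = ψe.symm (e (ηsec i G U m'))
  rw [hmm]

/-- **Step 4**: the unit is an isomorphism when the module is of finite type and killed by the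
ideal of the closed immersion. -/
theorem isIso_unit [SheafOfModules.IsFiniteType (R := X.ringCatSheaf) G]
    (hk : ∀ (U : X.affineOpens) (a : Γ(X, U.1)), a ∈ RingHom.ker (i.app U.1).hom →
      ∀ m : Γ(G, U.1), a • m = 0) :
    IsIso ((Scheme.Modules.pullbackPushforwardAdjunction i).unit.app G) := by
  apply Groth.Agent.Helper13.LocFree.isIso_of_app_bijective_of_isBasis _ X.isBasis_affineOpens
  intro V hV
  exact ηsec_bijective i G hV (hk ⟨V, hV⟩)

omit [G.IsQuasicoherent] in
/-- conversely, if the unit is injective on sections over `U`, the kernel of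
`Γ(X, U) ⟶ Γ(Z, i⁻¹ U)` kills `Γ(G, U)`. -/
theorem smul_eq_zero_of_ηsec_injective {U : X.Opens} (h : Function.Injective (ηsec i G U))
    (a : Γ(X, U)) (ha : a ∈ RingHom.ker (i.app U).hom) (m : Γ(G, U)) : a • m = 0 := by
  apply h
  rw [ηsec_smul, ηsec_zero]
  have : i.app U a = 0 := ha
  rw [this, zero_smul]

end Closed

end Groth.Agent.Helper28.UnitClosed
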