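import Mathlib
import Groth.Agent.Lib.Helper28.UnitClosed
import Groth.Prelude.Def_CohB1
import Groth.Prelude.Def_ClSub2

set_option autoImplicit false
universe u
open CategoryTheory CategoryTheory.Limits AlgebraicGeometry Opposite TopologicalSpace
open Groth.Agent.Helper13.QCoh Groth.Agent.Helper13.FinType
open Groth.Agent.Helper28.UnitGen Groth.Agent.Helper28.UnitClosed

namespace Groth.Agent.Helper28.SchSupport

variable {X : Scheme.{u}} (F : X.Modules)

section Ann

variable [F.IsQuasicoherent] [SheafOfModules.IsFiniteType (R := X.ringCatSheaf) F]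

/-- The annihilator of the sections of a quasi-coherent module of finite type over an affine open
localizes to the annihilator over a basic open. -/
theorem map_annihilator_basicOpen {U : X.Opens} (hU : IsAffineOpen U) (s : Γ(X, U)) :
    (Module.annihilator Γ(X, U) Γ(F, U)).map
        (X.presheaf.map (homOfLE <| X.basicOpen_le s).op).hom =
      Module.annihilator Γ(X, X.basicOpen s) Γ(F, X.basicOpen s) := by
  classical
  set ρ := (X.presheaf.map (homOfLE <| X.basicOpen_le s).op).hom with hρ
  have hunit : IsUnit (ρ s) := X.toRingedSpace.isUnit_res_basicOpen s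
  have hres : ∀ (a : Γ(X, U)) (t : Γ(F, U)),
      F.presheaf.map (homOfLE (X.basicOpen_le s)).op (a • t) =
        ρ a • F.presheaf.map (homOfLE (X.basicOpen_le s)).op t := fun a t =>
    Scheme.Modules.map_smul F (homOfLE (X.basicOpen_le s)) a t
  apply le_antisymm
  · rw [Ideal.map_le_iff_le_comap]
    intro a ha
    rw [Ideal.mem_comap, Module.mem_annihilator]
    intro m'
    obtain ⟨n, t, ht⟩ := exists_pow_smul_eq_res F hU s m'
    have h1 : ρ a • ((ρ s) ^ n • m') = 0 := by
      have ht' : F.presheaf.map (homOfLE (X.basicOpen_le s)).op t = (ρ s) ^ n • m' := ht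
      rw [← ht', ← hres, (Module.mem_annihilator.1 ha) t, map_zero]
    rw [smul_comm] at h1
    obtain ⟨u, hu⟩ := hunit.pow n
    rw [← hu] at h1
    have := congrArg (fun z => (↑u⁻¹ : Γ(X, X.basicOpen s)) • z) h1
    simpa [smul_smul] using this
  · intro b hb
    haveI := hU.isLocalization_basicOpen s
    obtain ⟨⟨a, ⟨_, k, rfl⟩⟩, hab⟩ := IsLocalization.surj (Submonoid.powers s) b
    have hab' : b * ρ (s ^ k) = ρ a := hab
    haveI : Module.Finite Γ(X, U) Γ(F, U) := finite_sections_of_isFiniteType F hU
    obtain ⟨T, hT⟩ := (Module.Finite.fg_top : (⊤ : Submodule Γ(X, U) Γ(F, U)).FG)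
    have hkill : ∀ t ∈ T, ∃ n : ℕ, s ^ n • (a • t) = 0 := by
      intro t _
      apply exists_pow_smul_eq_zero F hU s
      rw [hres, ← hab', mul_comm, mul_smul, (Module.mem_annihilator.1 hb) _, smul_zero]
    choose! n hn using hkill
    set N := T.sup n with hN
    have hmem : s ^ N * a ∈ Module.annihilator Γ(X, U) Γ(F, U) := by
      rw [Module.mem_annihilator]
      intro m
      have hm : m ∈ Submodule.span Γ(X, U) (T : Set Γ(F, U)) := by rw [hT]; trivial
      induction hm using Submodule.span_induction with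
      | mem t ht =>
        have hle : n t ≤ N := Finset.le_sup ht
        rw [mul_smul, ← Nat.sub_add_cancel hle, pow_add, mul_smul, hn t ht, smul_zero]
      | zero => rw [smul_zero]
      | add x y _ _ hx hy => rw [smul_add, hx, hy, add_zero]
      | smul r x _ hx => rw [smul_comm, hx, smul_zero]
    have h2 : ρ (s ^ N * a) ∈ (Module.annihilator Γ(X, U) Γ(F, U)).map ρ :=
      Ideal.mem_map_of_mem ρ hmem
    rw [map_mul, ← hab', map_pow, map_pow] at h2
    have h3 : ρ s ^ N * (b * ρ s ^ k) = (ρ s ^ N * ρ s ^ k) * b := by ring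
    rw [h3] at h2
    exact (Ideal.unit_mul_mem_iff_mem _ ((hunit.pow N).mul (hunit.pow k))).1 h2

/-- The annihilator ideal sheaf of a quasi-coherent module of finite type. -/
noncomputable def annIdeal : X.IdealSheafData where
  ideal U := Module.annihilator Γ(X, U.1) Γ(F, U.1)
  map_ideal_basicOpen U s := map_annihilator_basicOpen F U.2 s

@[simp] lemma annIdeal_ideal (U : X.affineOpens) :
    (annIdeal F).ideal U = Module.annihilator Γ(X, U.1) Γ(F, U.1) := rfl

/-- The support of the annihilator ideal sheaf is the support of the module. -/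
theorem support_annIdeal :
    ((annIdeal F).support : Set X) = {x | ¬ Subsingleton (F.presheaf.stalk x)} := by
  classical
  ext x
  obtain ⟨_, ⟨U, hU, rfl⟩, hxU, -⟩ :=
    X.isBasis_affineOpens.exists_subset_of_mem_open (Set.mem_univ x) isOpen_univ
  have hU' : IsAffineOpen U := hU
  rw [SetLike.mem_coe, Scheme.IdealSheafData.mem_support_iff_of_mem (U := ⟨U, hU⟩) hxU,
    Scheme.mem_zeroLocus_iff, Set.mem_setOf_eq]
  haveI : Module.Finite Γ(X, U) Γ(F, U) := finite_sections_of_isFiniteType F hU'
  constructor
  · intro h hsub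
    haveI := hsub
    obtain ⟨T, hT⟩ := (Module.Finite.fg_top : (⊤ : Submodule Γ(X, U) Γ(F, U)).FG)
    have hkill : ∀ t ∈ T, ∃ g : Γ(X, U), x ∈ X.basicOpen g ∧ g • t = 0 := by
      intro t _
      exact exists_smul_eq_zero_of_germ_eq_zero F hU' x hxU t (Subsingleton.elim _ _)
    choose! g hxg hg using hkill
    set G : Γ(X, U) := ∏ t ∈ T, g t with hG
    have hxG : x ∈ X.basicOpen G := by
      rw [X.mem_basicOpen G x hxU, hG, map_prod]
      exact IsUnit.prod_iff.2 (fun t ht => (X.mem_basicOpen (g t) x hxU).1 (hxg t ht))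
    refine h G ?_ hxG
    change G ∈ Module.annihilator Γ(X, U) Γ(F, U)
    rw [Module.mem_annihilator]
    intro m
    have hm : m ∈ Submodule.span Γ(X, U) (T : Set Γ(F, U)) := by rw [hT]; trivial
    induction hm using Submodule.span_induction with
    | mem t ht =>
      rw [hG, ← Finset.mul_prod_erase T g ht, mul_comm, mul_smul, hg t ht, smul_zero]
    | zero => rw [smul_zero]
    | add a b _ _ ha hb => rw [smul_add, ha, hb, add_zero]
    | smul r a _ ha => rw [smul_comm, ha, smul_zero]
  · intro hns f hf hxf
    apply hns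
    have hf' : f ∈ Module.annihilator Γ(X, U) Γ(F, U) := hf
    have hfu : IsUnit (X.presheaf.germ U x hxU f) := (X.mem_basicOpen f x hxU).1 hxf
    suffices h0 : ∀ z : F.presheaf.stalk x, z = 0 from ⟨fun z w => by rw [h0 z, h0 w]⟩
    intro z
    obtain ⟨g, hxg, t, hgt⟩ := exists_germ_smul_eq F hU' x hxU z
    have hgu : IsUnit (X.presheaf.germ U x hxU g) := (X.mem_basicOpen g x hxU).1 hxg
    have h1 : X.presheaf.germ U x hxU f • (X.presheaf.germ U x hxU g • z) = 0 := by
      rw [hgt, ← germ_smul, Module.mem_annihilator.1 hf' t, map_zero]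
    rw [smul_smul] at h1
    obtain ⟨u, hu⟩ := hfu.mul hgu
    rw [← hu] at h1
    have := congrArg (fun y => (↑u⁻¹ : X.presheaf.stalk x) • y) h1
    simpa [smul_smul] using this

/-- The unit `F ⟶ j_* j^* F` is an isomorphism for the closed subscheme cut out by the
annihilator ideal sheaf. -/
theorem isIso_unit_annIdeal :
    IsIso ((Scheme.Modules.pullbackPushforwardAdjunction (annIdeal F).subschemeι).unit.app F) := by
  apply isIso_unit
  intro U a ha m
  rw [Scheme.IdealSheafData.ker_subschemeι_app] at ha
  exact Module.mem_annihilator.1 ha m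

omit [F.IsQuasicoherent] in
/-- maximality of the annihilator ideal sheaf -/
theorem le_annIdeal [F.IsQuasicoherent] (J' : X.IdealSheafData)
    (h : IsIso ((Scheme.Modules.pullbackPushforwardAdjunction J'.subschemeι).unit.app F)) :
    J' ≤ annIdeal F := by
  rw [Scheme.IdealSheafData.le_def]
  intro U a ha
  change a ∈ Module.annihilator Γ(X, U.1) Γ(F, U.1)
  rw [Module.mem_annihilator]
  intro m
  refine smul_eq_zero_of_ηsec_injective J'.subschemeι F (U := U.1) ?_ a ?_ m
  · have h2 : (η J'.subschemeι F).app U.1 ≫ (inv (η J'.subschemeι F)).app U.1 = 𝟙 _ := by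
      rw [← Scheme.Modules.Hom.comp_app, IsIso.hom_inv_id]
      rfl
    have h1 : ∀ z : Γ(F, U.1),
        (inv (η J'.subschemeι F)).app U.1 ((η J'.subschemeι F).app U.1 z) = z := by
      intro z
      have := ConcreteCategory.congr_hom h2 z
      exact this
    intro m₁ m₂ hmm
    rw [← h1 m₁, ← h1 m₂]
    exact congrArg _ hmm
  · rw [Scheme.IdealSheafData.ker_subschemeι_app]
    exact ha

/-- **Scheme-theoretic support** of a quasi-coherent module of finite type. -/
theorem exists_schemeTheoreticSupport :
    ∃ J : X.IdealSheafData,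
      (∀ U : X.affineOpens, J.ideal U = Module.annihilator Γ(X, U.1) Γ(F, U.1)) ∧
        IsIso ((Scheme.Modules.pullbackPushforwardAdjunction J.subschemeι).unit.app F) ∧
          (∀ J' : X.IdealSheafData,
            IsIso ((Scheme.Modules.pullbackPushforwardAdjunction J'.subschemeι).unit.app F) →
              J' ≤ J) ∧
            (J.support : Set ↑X) = CohB1.support F :=
  ⟨annIdeal F, fun _ => rfl, isIso_unit_annIdeal F, le_annIdeal F, support_annIdeal F⟩

end Ann

/-- essential surjectivity of `i_*` onto coherent modules killed by the ideal of `i` -/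
theorem exists_pushforward_iso {Z : Scheme.{u}} (i : Z ⟶ X) [IsClosedImmersion i]
    [F.IsQuasicoherent] [SheafOfModules.IsFiniteType (R := X.ringCatSheaf) F]
    (hk : ClSub.KilledByIdeal i.ker F) :
    ∃ G : Z.Modules, (G.IsQuasicoherent ∧ SheafOfModules.IsFiniteType (R := Z.ringCatSheaf) G) ∧
      Nonempty ((Scheme.Modules.pushforward i).obj G ≅ F) := by
  haveI : IsIso ((Scheme.Modules.pullbackPushforwardAdjunction i).unit.app F) := by
    apply isIso_unit
    intro U a ha m
    exact hk U a (by rw [Scheme.Hom.ker_apply]; exact ha) m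
  exact ⟨(Scheme.Modules.pullback i).obj F, ⟨inferInstance, inferInstance⟩,
    ⟨(asIso ((Scheme.Modules.pullbackPushforwardAdjunction i).unit.app F)).symm⟩⟩

end Groth.Agent.Helper28.SchSupport
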