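import Mathlib
import Groth.Prelude.Def_Coh
import Groth.Agent.Lib.Helper28.AffIso
import Groth.Agent.Lib.Helper13.PbGen
import Groth.Agent.Lib.Helper13.PullbackSections
import Groth.Agent.Lib.Helper18.RecPull

set_option autoImplicit false
set_option maxRecDepth 8000
universe u
open CategoryTheory AlgebraicGeometry Opposite TopologicalSpace TensorProduct
open Groth.Agent.Helper13.QCoh Groth.Agent.Helper13.Pullback Groth.Agent.Helper18.PbCompat

namespace Groth.Agent.Helper28.AffBC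

section Alg

variable {A A' B B' : Type u} [CommRing A] [CommRing A'] [CommRing B] [CommRing B']
  [Algebra A A'] [Algebra A B] [Algebra B B'] [Algebra A' B'] [Algebra A B']
  [IsScalarTower A A' B'] [IsScalarTower A B B'] [Algebra.IsPushout A A' B B']
  {M₁ M₂ P Q : Type u} [AddCommGroup M₁] [Module A M₁] [AddCommGroup M₂] [Module B M₂]
  [AddCommGroup P] [Module A' P] [AddCommGroup Q] [Module B' Q]

/-- The abstract form of affine base change: a semilinear map `P → Q` which under identifications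
`P ≃ A' ⊗[A] M` and `Q ≃ B' ⊗[B] M` (with `B' = A' ⊗[A] B`) sends `1 ⊗ t` to `1 ⊗ t` is bijective. -/
theorem bijective_of_tensor
    (θ : M₁ ≃+ M₂) (hθ : ∀ (a : A) (m : M₁), θ (a • m) = algebraMap A B a • θ m)
    (E1 : P ≃ₗ[A'] A' ⊗[A] M₁) (E2 : Q ≃ₗ[B'] B' ⊗[B] M₂)
    (φ : P →+ Q) (hφ : ∀ (a : A') (p : P), φ (a • p) = algebraMap A' B' a • φ p)
    (hone : ∀ t : M₁, φ (E1.symm ((1 : A') ⊗ₜ[A] t)) = E2.symm ((1 : B') ⊗ₜ[B] θ t)) :
    Function.Bijective φ := by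
  letI : Module A M₂ := Module.compHom M₂ (algebraMap A B)
  haveI : IsScalarTower A B M₂ := IsScalarTower.of_algebraMap_smul (fun _ _ => rfl)
  let θ' : M₁ ≃ₗ[A] M₂ := { θ with map_smul' := fun a m => hθ a m }
  let c : B' ⊗[B] M₂ ≃ₗ[A'] A' ⊗[A] M₂ := Algebra.IsPushout.cancelBaseChange A A' B B' M₂
  let T : A' ⊗[A] M₁ ≃ₗ[A] A' ⊗[A] M₂ := TensorProduct.congr (LinearEquiv.refl A A') θ'
  have key : ∀ z : A' ⊗[A] M₁, φ (E1.symm z) = E2.symm (c.symm (T z)) := by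
    intro z
    induction z using TensorProduct.induction_on with
    | zero => simp only [map_zero]
    | tmul a t =>
      have h1 : a ⊗ₜ[A] t = a • ((1 : A') ⊗ₜ[A] t) := by
        rw [TensorProduct.smul_tmul', smul_eq_mul, mul_one]
      have h2 : c.symm (a ⊗ₜ[A] (θ t)) = algebraMap A' B' a ⊗ₜ[B] θ t :=
        Algebra.IsPushout.cancelBaseChange_symm_tmul A A' B B' M₂ a (θ t)
      have h3 : algebraMap A' B' a ⊗ₜ[B] θ t = algebraMap A' B' a • ((1 : B') ⊗ₜ[B] θ t) := by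
        rw [TensorProduct.smul_tmul', smul_eq_mul, mul_one]
      have h4 : T (a ⊗ₜ[A] t) = a ⊗ₜ[A] (θ t) := by
        change TensorProduct.congr (LinearEquiv.refl A A') θ' (a ⊗ₜ[A] t) = _
        rw [TensorProduct.congr_tmul]
        rfl
      calc φ (E1.symm (a ⊗ₜ[A] t)) = φ (a • E1.symm ((1 : A') ⊗ₜ[A] t)) := by
            rw [h1, map_smul]
        _ = algebraMap A' B' a • E2.symm ((1 : B') ⊗ₜ[B] θ t) := by rw [hφ, hone]
        _ = E2.symm (algebraMap A' B' a ⊗ₜ[B] θ t) := by rw [h3, map_smul]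
        _ = E2.symm (c.symm (T (a ⊗ₜ[A] t))) := by rw [h4, h2]
    | add x y hx hy => simp only [map_add, hx, hy]
  have hφeq : ∀ p, φ p = E2.symm (c.symm (T (E1 p))) := by
    intro p
    have h := key (E1 p)
    rwa [LinearEquiv.symm_apply_apply] at h
  have hfun : (φ : P → Q) = (E2.symm ∘ c.symm ∘ T ∘ E1) := funext hφeq
  rw [hfun]
  exact E2.symm.bijective.comp (c.symm.bijective.comp (T.bijective.comp E1.bijective))

end Alg

variable {X S X' S' : Scheme.{u}} (f : X ⟶ S) (g : S' ⟶ S) (g' : X' ⟶ X) (f' : X' ⟶ S')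
  (h : IsPullback g' f' f g) (F : X.Modules)

/-- the morphism `f_* F ⟶ g_* f'_* g'^* F` whose adjoint is the base change map. -/
noncomputable def bcArg : (Scheme.Modules.pushforward f).obj F ⟶
    (Scheme.Modules.pushforward g).obj ((Scheme.Modules.pushforward f').obj
      ((Scheme.Modules.pullback g').obj F)) :=
  (Scheme.Modules.pushforward f).map ((Scheme.Modules.pullbackPushforwardAdjunction g').unit.app F) ≫
    (Scheme.Modules.pushforwardComp g' f).hom.app ((Scheme.Modules.pullback g').obj F) ≫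
    (Scheme.Modules.pushforwardCongr h.w).hom.app ((Scheme.Modules.pullback g').obj F) ≫
    (Scheme.Modules.pushforwardComp f' g).inv.app ((Scheme.Modules.pullback g').obj F)

/-- the base change map `g^* f_* F ⟶ f'_* g'^* F`. -/
noncomputable def bcMap : (Scheme.Modules.pullback g).obj ((Scheme.Modules.pushforward f).obj F) ⟶
    (Scheme.Modules.pushforward f').obj ((Scheme.Modules.pullback g').obj F) :=
  ((Scheme.Modules.pullbackPushforwardAdjunction g).homEquiv ((Scheme.Modules.pushforward f).obj F)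
    ((Scheme.Modules.pushforward f').obj ((Scheme.Modules.pullback g').obj F))).symm
    (bcArg f g g' f' h F)

include h in
theorem preimage_eq (V : S.Opens) : f' ⁻¹ᵁ (g ⁻¹ᵁ V) = g' ⁻¹ᵁ (f ⁻¹ᵁ V) := by
  ext y
  change g (f' y) ∈ V ↔ f (g' y) ∈ V
  have h2 : f (g' y) = g (f' y) := by
    rw [← Scheme.Hom.comp_apply, ← Scheme.Hom.comp_apply, h.w]
  rw [h2]

theorem bcArg_app (V : S.Opens) (t : Γ(F, f ⁻¹ᵁ V)) :
    (bcArg f g g' f' h F).app V t =
      ((Scheme.Modules.pullback g').obj F).presheaf.map (eqToHom (preimage_eq f g g' f' h V)).op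
        (OmegaSh.pullSect g' F (f ⁻¹ᵁ V) t) := by
  rfl

theorem bcMap_app_pullRes {V : S.Opens} {V' : S'.Opens} (e : V' ≤ g ⁻¹ᵁ V)
    (e' : f' ⁻¹ᵁ V' ≤ g' ⁻¹ᵁ (f ⁻¹ᵁ V)) (t : Γ(F, f ⁻¹ᵁ V)) :
    (bcMap f g g' f' h F).app V'
      (((Scheme.Modules.pullback g).obj ((Scheme.Modules.pushforward f).obj F)).presheaf.map
        (homOfLE e).op (OmegaSh.pullSect g ((Scheme.Modules.pushforward f).obj F) V t)) =
    ((Scheme.Modules.pullback g').obj F).presheaf.map (homOfLE e').op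
      (OmegaSh.pullSect g' F (f ⁻¹ᵁ V) t) := by
  have h1 := hom_naturality (bcMap f g g' f' h F) (homOfLE e).op
    (OmegaSh.pullSect g ((Scheme.Modules.pushforward f).obj F) V t)
  rw [h1]
  have h2 : (bcMap f g g' f' h F).app (g ⁻¹ᵁ V)
      (OmegaSh.pullSect g ((Scheme.Modules.pushforward f).obj F) V t) =
      (bcArg f g g' f' h F).app V t := by
    have h3 := Groth.Agent.Helper13.PbGen.homEquiv_app g ((Scheme.Modules.pushforward f).obj F)
      (bcMap f g g' f' h F) V t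
    have h4 : (Scheme.Modules.pullbackPushforwardAdjunction g).homEquiv
        ((Scheme.Modules.pushforward f).obj F)
        ((Scheme.Modules.pushforward f').obj ((Scheme.Modules.pullback g').obj F))
        (bcMap f g g' f' h F) = bcArg f g g' f' h F := Equiv.apply_symm_apply _ _
    rw [h4] at h3
    exact h3.symm
  rw [h2, bcArg_app]
  exact map_map_eq ((Scheme.Modules.pullback g').obj F) _
    ((Opens.map f'.base).map (homOfLE e)).op (homOfLE e').op _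

theorem bijective_app [IsAffineHom f] [F.IsQuasicoherent] {V : S.Opens} (hV : IsAffineOpen V)
    {V' : S'.Opens} (hV' : IsAffineOpen V') (e : V' ≤ g ⁻¹ᵁ V) :
    Function.Bijective ((bcMap f g g' f' h F).app V') := by
  haveI : IsAffineHom f' := MorphismProperty.of_isPullback (P := @IsAffineHom) h inferInstance
  have hW : IsAffineOpen (f ⁻¹ᵁ V) := hV.preimage f
  have hW' : IsAffineOpen (f' ⁻¹ᵁ V') := hV'.preimage f'
  have e' : f' ⁻¹ᵁ V' ≤ g' ⁻¹ᵁ (f ⁻¹ᵁ V) := by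
    rw [← preimage_eq f g g' f' h V]
    exact f'.preimage_mono e
  haveI : ((Scheme.Modules.pushforward f).obj F).IsQuasicoherent :=
    Groth.Agent.Helper13.QCohPush.isQuasicoherent_pushforward f F
  letI algAA' : Algebra Γ(S, V) Γ(S', V') := (g.appLE V V' e).hom.toAlgebra
  letI algAB : Algebra Γ(S, V) Γ(X, f ⁻¹ᵁ V) := (f.appLE V (f ⁻¹ᵁ V) le_rfl).hom.toAlgebra
  letI algBB' : Algebra Γ(X, f ⁻¹ᵁ V) Γ(X', f' ⁻¹ᵁ V') :=
    (g'.appLE (f ⁻¹ᵁ V) (f' ⁻¹ᵁ V') e').hom.toAlgebra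
  letI algA'B' : Algebra Γ(S', V') Γ(X', f' ⁻¹ᵁ V') :=
    (f'.appLE V' (f' ⁻¹ᵁ V') le_rfl).hom.toAlgebra
  letI algAB' : Algebra Γ(S, V) Γ(X', f' ⁻¹ᵁ V') :=
    ((f.appLE V (f ⁻¹ᵁ V) le_rfl) ≫ (g'.appLE (f ⁻¹ᵁ V) (f' ⁻¹ᵁ V') e')).hom.toAlgebra
  have hcomm : f.appLE V (f ⁻¹ᵁ V) le_rfl ≫ g'.appLE (f ⁻¹ᵁ V) (f' ⁻¹ᵁ V') e' =
      g.appLE V V' e ≫ f'.appLE V' (f' ⁻¹ᵁ V') le_rfl := by
    simp only [Scheme.Hom.appLE_comp_appLE, h.w]
  haveI t1 : IsScalarTower Γ(S, V) Γ(X, f ⁻¹ᵁ V) Γ(X', f' ⁻¹ᵁ V') :=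
    IsScalarTower.of_algebraMap_eq (fun _ => rfl)
  haveI t2 : IsScalarTower Γ(S, V) Γ(S', V') Γ(X', f' ⁻¹ᵁ V') :=
    IsScalarTower.of_algebraMap_eq (fun a => congrArg (fun φ => φ.hom a) hcomm)
  have hUY : f' ⁻¹ᵁ V' = g' ⁻¹ᵁ (f ⁻¹ᵁ V) ⊓ f' ⁻¹ᵁ V' := (inf_eq_right.mpr e').symm
  have hpo : IsPushout (f.appLE V (f ⁻¹ᵁ V) le_rfl) (g.appLE V V' e)
      (g'.appLE (f ⁻¹ᵁ V) (f' ⁻¹ᵁ V') e') (f'.appLE V' (f' ⁻¹ᵁ V') le_rfl) :=
    (AlgebraicGeometry.isIso_pushoutSection_iff h e le_rfl hUY).mp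
      (AlgebraicGeometry.isIso_pushoutSection_of_isAffineOpen h e le_rfl hUY hV hV' hW)
  have hpo1 : Algebra.IsPushout Γ(S, V) Γ(X, f ⁻¹ᵁ V) Γ(S', V') Γ(X', f' ⁻¹ᵁ V') :=
    CommRingCat.isPushout_iff_isPushout.mp hpo
  haveI hpo2 : Algebra.IsPushout Γ(S, V) Γ(S', V') Γ(X, f ⁻¹ᵁ V) Γ(X', f' ⁻¹ᵁ V') :=
    Algebra.IsPushout.symm hpo1
  let θ : Γ((Scheme.Modules.pushforward f).obj F, V) ≃+ Γ(F, f ⁻¹ᵁ V) := AddEquiv.refl _
  have hθ : ∀ (a : Γ(S, V)) (m : Γ((Scheme.Modules.pushforward f).obj F, V)),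
      θ (a • m) = algebraMap Γ(S, V) Γ(X, f ⁻¹ᵁ V) a • θ m := by
    intro a m
    change (a • m : Γ((Scheme.Modules.pushforward f).obj F, V)) =
      (f.appLE V (f ⁻¹ᵁ V) le_rfl).hom a • (show Γ(F, f ⁻¹ᵁ V) from m)
    rw [← Scheme.Hom.app_eq_appLE]
    rfl
  let E1 := sectionsPullbackEquiv g ((Scheme.Modules.pushforward f).obj F) hV' hV e
  let E2 := sectionsPullbackEquiv g' F hW' hW e'
  let φ : Γ((Scheme.Modules.pullback g).obj ((Scheme.Modules.pushforward f).obj F), V') →+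
      Γ((Scheme.Modules.pullback g').obj F, f' ⁻¹ᵁ V') := ((bcMap f g g' f' h F).app V').hom
  have hφ : ∀ (a : Γ(S', V'))
      (p : Γ((Scheme.Modules.pullback g).obj ((Scheme.Modules.pushforward f).obj F), V')),
      φ (a • p) = algebraMap Γ(S', V') Γ(X', f' ⁻¹ᵁ V') a • φ p := by
    intro a p
    have h1 := Scheme.Modules.Hom.app_smul (bcMap f g g' f' h F) a p
    change (bcMap f g g' f' h F).app V' (a • p) =
      (f'.appLE V' (f' ⁻¹ᵁ V') le_rfl).hom a •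
        (show Γ((Scheme.Modules.pullback g').obj F, f' ⁻¹ᵁ V') from (bcMap f g g' f' h F).app V' p)
    rw [h1, ← Scheme.Hom.app_eq_appLE]
    rfl
  have hone : ∀ t : Γ((Scheme.Modules.pushforward f).obj F, V),
      φ (E1.symm ((1 : Γ(S', V')) ⊗ₜ[Γ(S, V)] t)) =
        E2.symm ((1 : Γ(X', f' ⁻¹ᵁ V')) ⊗ₜ[Γ(X, f ⁻¹ᵁ V)] θ t) := by
    intro t
    have q1 := sectionsPullbackEquiv_pullSect g ((Scheme.Modules.pushforward f).obj F) hV' hV e t
    have q2 := sectionsPullbackEquiv_pullSect g' F hW' hW e' t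
    have r1 : E1.symm ((1 : Γ(S', V')) ⊗ₜ[Γ(S, V)] t) = _ :=
      (LinearEquiv.symm_apply_eq E1).mpr q1.symm
    have r2 : E2.symm ((1 : Γ(X', f' ⁻¹ᵁ V')) ⊗ₜ[Γ(X, f ⁻¹ᵁ V)] θ t) = _ :=
      (LinearEquiv.symm_apply_eq E2).mpr q2.symm
    exact (congrArg φ r1).trans ((bcMap_app_pullRes f g g' f' h F e e' t).trans r2.symm)
  exact bijective_of_tensor θ hθ E1 E2 φ hφ hone

theorem isIso_bcMap [IsAffineHom f] [F.IsQuasicoherent] : IsIso (bcMap f g g' f' h F) := by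
  haveI : IsAffineHom f' := MorphismProperty.of_isPullback (P := @IsAffineHom) h inferInstance
  haveI : ((Scheme.Modules.pushforward f).obj F).IsQuasicoherent :=
    Groth.Agent.Helper13.QCohPush.isQuasicoherent_pushforward f F
  haveI : ((Scheme.Modules.pushforward f').obj ((Scheme.Modules.pullback g').obj F)).IsQuasicoherent :=
    Groth.Agent.Helper13.QCohPush.isQuasicoherent_pushforward f' _
  apply Groth.Agent.Helper28.AffIso.isIso_of_app_bijective_affine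
  intro x
  obtain ⟨_, ⟨V, hV, rfl⟩, hxV, -⟩ :=
    S.isBasis_affineOpens.exists_subset_of_mem_open (Set.mem_univ (g x)) isOpen_univ
  obtain ⟨_, ⟨V', hV', rfl⟩, hxV', hV'V⟩ :=
    S'.isBasis_affineOpens.exists_subset_of_mem_open (show x ∈ g ⁻¹ᵁ V from hxV) (g ⁻¹ᵁ V).isOpen
  exact ⟨V', hV', hxV', bijective_app f g g' f' h F hV hV' hV'V⟩

end Groth.Agent.Helper28.AffBC
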