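import Mathlib
import Groth.Agent.Lib.Helper28.CohSub
import Groth.Agent.Lib.Helper13.LocFree

set_option autoImplicit false
universe u
open CategoryTheory CategoryTheory.Limits AlgebraicGeometry Opposite TopologicalSpace
open Groth.Agent.Helper13.QCoh Groth.Agent.Helper13.FinType

namespace Groth.Agent.Helper28.CohACC

variable {X : Scheme.{u}}

/-- the map on sections over `U` as a linear map -/
noncomputable def appLin {A B : X.Modules} (φ : A ⟶ B) (U : X.Opens) :
    Γ(A, U) →ₗ[Γ(X, U)] Γ(B, U) :=
  { toFun := fun m => φ.app U m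
    map_add' := fun a b => map_add _ a b
    map_smul' := fun r m => Scheme.Modules.Hom.app_smul φ r m }

lemma appLin_apply {A B : X.Modules} (φ : A ⟶ B) (U : X.Opens) (m : Γ(A, U)) :
    appLin φ U m = φ.app U m := rfl

/-- A morphism of quasi-coherent modules which is surjective on sections over an affine open `U`
is surjective on stalks at the points of `U`. -/
theorem stalkMap_surjective_of_app_surjective {A B : X.Modules} [B.IsQuasicoherent] (φ : A ⟶ B)
    {U : X.Opens} (hU : IsAffineOpen U) (h : Function.Surjective (φ.app U)) (x : X) (hx : x ∈ U) :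
    Function.Surjective (stalkMap φ x) := by
  intro g
  obtain ⟨r, hxr, t, hrt⟩ := exists_germ_smul_eq B hU x hx g
  obtain ⟨t', rfl⟩ := h t
  have ur : IsUnit (X.presheaf.germ U x hx r) := (X.mem_basicOpen r x hx).1 hxr
  obtain ⟨v, hv⟩ := ur
  refine ⟨((v⁻¹ : (X.presheaf.stalk x)ˣ) : X.presheaf.stalk x) • A.presheaf.germ U x hx t', ?_⟩
  rw [stalkMap_smul, stalkMap_germ, ← hrt, ← hv, smul_smul, Units.inv_mul, one_smul]

/-- ACC for quasi-coherent subobjects of a coherent module on a Noetherian scheme. -/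
theorem acc (X : Scheme.{u}) [IsNoetherian X] (M : X.Modules) (hM : Coh.IsCoh M)
    (F : ℕ →o Subobject M) (hF : ∀ n, Coh.IsQCoh ((F n : Subobject M) : X.Modules)) :
    ∃ n : ℕ, ∀ m : ℕ, n ≤ m → F m = F n := by
  classical
  obtain ⟨hM1, hM2⟩ := hM
  haveI : M.IsQuasicoherent := hM1
  haveI : SheafOfModules.IsFiniteType (R := X.ringCatSheaf) M := hM2
  haveI hFq : ∀ n, ((F n : Subobject M) : X.Modules).IsQuasicoherent := hF
  -- the submodules of sections
  let Nn : ∀ (U : X.affineOpens), ℕ →o Submodule Γ(X, U.1) Γ(M, U.1) := fun U =>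
    { toFun := fun n => LinearMap.range (appLin (F n).arrow U.1)
      monotone' := by
        intro n m hnm
        rintro _ ⟨a, rfl⟩
        refine ⟨(Subobject.ofLE (F n) (F m) (F.monotone hnm)).app U.1 a, ?_⟩
        rw [appLin_apply, appLin_apply]
        have h1 := Subobject.ofLE_arrow (F.monotone hnm)
        have h2 : ((Subobject.ofLE (F n) (F m) (F.monotone hnm)) ≫ (F m).arrow).app U.1 a =
            (F n).arrow.app U.1 a := by rw [h1]
        exact h2 }
  have hstab : ∀ U : X.affineOpens, ∃ n, ∀ m, n ≤ m → Nn U n = Nn U m := by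
    intro U
    haveI : IsNoetherianRing Γ(X, U.1) := IsLocallyNoetherian.component_noetherian U
    haveI : Module.Finite Γ(X, U.1) Γ(M, U.1) := finite_sections_of_isFiniteType M U.2
    haveI : IsNoetherian Γ(X, U.1) Γ(M, U.1) := isNoetherian_of_isNoetherianRing_of_finite _ _
    exact (monotone_stabilizes_iff_noetherian.2 inferInstance) (Nn U)
  choose nU hnU using hstab
  -- finite affine cover
  have hcov : ∀ x : X, ∃ U : X.affineOpens, x ∈ U.1 := fun x => by
    obtain ⟨_, ⟨V, hV, rfl⟩, hxV, -⟩ :=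
      X.isBasis_affineOpens.exists_subset_of_mem_open (Set.mem_univ x) isOpen_univ
    exact ⟨⟨V, hV⟩, hxV⟩
  choose W hW using hcov
  obtain ⟨T, hT⟩ := isCompact_univ.elim_finite_subcover (fun x : X => ((W x).1 : Set X))
    (fun x => (W x).1.2) (fun x _ => Set.mem_iUnion.2 ⟨x, hW x⟩)
  refine ⟨T.sup (fun x => nU (W x)), fun m hm => ?_⟩
  set n := T.sup (fun x => nU (W x)) with hn
  have hle : F n ≤ F m := F.monotone hm
  refine le_antisymm ?_ hle
  let ι := Subobject.ofLE (F n) (F m) hle
  have hιarrow : ι ≫ (F m).arrow = (F n).arrow := Subobject.ofLE_arrow hle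
  haveI : Mono ι := inferInstance
  have hiso : IsIso ι := by
    apply Groth.Agent.Helper13.LocFree.isIso_of_stalk_bijective
    intro y
    refine ⟨(mono_iff_stalk_injective ι).1 inferInstance y, ?_⟩
    obtain ⟨x, hxT, hyx⟩ := Set.mem_iUnion₂.1 (hT (Set.mem_univ y))
    have hnx : nU (W x) ≤ n := Finset.le_sup (f := fun x => nU (W x)) hxT
    have heq : Nn (W x) n = Nn (W x) m :=
      (hnU (W x) n hnx).symm.trans (hnU (W x) m (hnx.trans hm))
    apply stalkMap_surjective_of_app_surjective ι (W x).2 _ y hyx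
    intro t
    have ht : appLin (F m).arrow (W x).1 t ∈ Nn (W x) m := ⟨t, rfl⟩
    rw [← heq] at ht
    obtain ⟨t', ht'⟩ := ht
    refine ⟨t', ?_⟩
    have hinj : Function.Injective ((F m).arrow.app (W x).1) :=
      (mono_iff_app_injective (F m).arrow).1 inferInstance (W x).1
    apply hinj
    rw [appLin_apply, appLin_apply] at ht'
    rw [← ht']
    have h2 : (ι ≫ (F m).arrow).app (W x).1 t' = (F n).arrow.app (W x).1 t' := by rw [hιarrow]
    exact h2
  exact Subobject.le_of_comm (inv ι) (by rw [IsIso.inv_comp_eq, hιarrow])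

end Groth.Agent.Helper28.CohACC
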