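import Mathlib
import Groth.Agent.Lib.Helper13.FinPresAffine
import Groth.Agent.Lib.Helper13.PullbackSections
import Groth.Agent.Lib.Helper13.PullbackStalk
import Groth.Agent.Lib.Helper13.PullbackLocal
import Groth.Agent.Lib.Helper13.LocFree2
import Groth.Agent.Lib.Helper28.CohACC

set_option autoImplicit false
universe u
open CategoryTheory CategoryTheory.Limits AlgebraicGeometry Opposite TopologicalSpace TensorProduct
open Groth.Agent.Helper13.QCoh Groth.Agent.Helper13.FinType

namespace Groth.Agent.Helper28.FpqcDescent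

section Alg

variable {R : Type*} [CommRing R] (T : Type*) [CommRing T] [Algebra R T]

/-- finite presentation of modules descends along faithfully flat ring maps. -/
lemma finitePresentation_of_faithfullyFlat {M : Type*} [AddCommGroup M] [Module R M]
    [Module.FaithfullyFlat R T] [Module.FinitePresentation T (T ⊗[R] M)] :
    Module.FinitePresentation R M := by
  haveI : Module.Finite R M := Module.Finite.of_finite_tensorProduct_of_faithfullyFlat T
  obtain ⟨n, f, hf⟩ := Module.Finite.exists_fin' R M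
  have hfT : Function.Surjective (AlgebraTensorModule.lTensor T T f) :=
    LinearMap.lTensor_surjective T hf
  have hker : (LinearMap.ker (AlgebraTensorModule.lTensor T T f)).FG :=
    Module.FinitePresentation.fg_ker _ hfT
  rw [Module.Flat.ker_lTensor_eq] at hker
  have hinj : Function.Injective (AlgebraTensorModule.lTensor T T (LinearMap.ker f).subtype) :=
    Module.Flat.lTensor_preserves_injective_linearMap _ (Submodule.injective_subtype _)
  haveI : Module.Finite T (T ⊗[R] (LinearMap.ker f)) := by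
    have e := LinearEquiv.ofInjective _ hinj
    rw [Module.Finite.equiv_iff e, Module.Finite.iff_fg]
    exact hker
  haveI : Module.Finite R (LinearMap.ker f) :=
    Module.Finite.of_finite_tensorProduct_of_faithfullyFlat T
  exact Module.finitePresentation_of_surjective f hf (Module.Finite.iff_fg.1 inferInstance)

end Alg

section Sections

variable {X : Scheme.{u}}

/-- the linear equivalence on sections induced by an isomorphism of modules. -/
noncomputable def appLinEquiv {A B : X.Modules} (e : A ≅ B) (U : X.Opens) :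
    Γ(A, U) ≃ₗ[Γ(X, U)] Γ(B, U) :=
  LinearEquiv.ofLinearMap (Groth.Agent.Helper28.CohACC.appLin e.hom U)
    (Groth.Agent.Helper28.CohACC.appLin e.inv U)
    (by
      ext m
      exact congrArg (fun φ : B ⟶ B => φ.app U m) e.inv_hom_id)
    (by
      ext m
      exact congrArg (fun φ : A ⟶ A => φ.app U m) e.hom_inv_id)

/-- The pullback of a finitely presented module is finitely presented (as in Helper9.PrinPart4). -/
theorem isFinitePresentation_pullback {Y : Scheme.{u}} (f : X ⟶ Y) (G : Y.Modules)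
    [hG : SheafOfModules.IsFinitePresentation (R := Y.ringCatSheaf) G] :
    SheafOfModules.IsFinitePresentation (R := X.ringCatSheaf)
      ((Scheme.Modules.pullback f).obj G) := by
  have : G.IsQuasicoherent :=
    inferInstanceAs (SheafOfModules.IsQuasicoherent (R := Y.ringCatSheaf) G)
  apply Groth.Agent.Helper13.LocFree.isFinitePresentation_of_finitePresentation_sections
  intro x
  obtain ⟨_, ⟨V, hV, rfl⟩, hxV, -⟩ := Y.isBasis_affineOpens.exists_subset_of_mem_open
    (Set.mem_univ (f x)) isOpen_univ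
  obtain ⟨_, ⟨U, hU, rfl⟩, hxU, hUV⟩ := X.isBasis_affineOpens.exists_subset_of_mem_open
    (show x ∈ ((f ⁻¹ᵁ V : X.Opens) : Set X) from hxV) (f ⁻¹ᵁ V).2
  refine ⟨U, hU, hxU, ?_⟩
  letI := (f.appLE V U hUV).hom.toAlgebra
  haveI : Module.FinitePresentation Γ(Y, V) Γ(G, V) :=
    Groth.Agent.Helper13.LocFree.finitePresentation_sections_of_isFinitePresentation G hV
  exact Module.FinitePresentation.of_equiv
    (Groth.Agent.Helper13.Pullback.sectionsPullbackEquiv f G hU hV hUV).symm

end Sections

section Descent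

variable {S S' : Scheme.{u}} (g : S' ⟶ S) [Flat g] [Surjective g] [QuasiCompact g]

/-- For `g` fpqc and `U ⊆ S` affine there is an affine scheme `V` with a morphism `k : V ⟶ S'`
such that `k ≫ g` factors through `U` and `Γ(S, U) ⟶ Γ(V, ⊤)` is faithfully flat. -/
theorem exists_affine_faithfullyFlat {U : S.Opens} (hU : IsAffineOpen U) :
    ∃ (V : Scheme.{u}) (_ : IsAffine V) (k : V ⟶ S') (e : (⊤ : V.Opens) ≤ (k ≫ g) ⁻¹ᵁ U),
      ((k ≫ g).appLE U ⊤ e).hom.FaithfullyFlat := by
  have hc : IsCompact ((g ⁻¹ᵁ U : S'.Opens) : Set S') := g.isCompact_preimage hU.isCompact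
  obtain ⟨s, hs, hsU⟩ := isCompact_iff_finite_and_eq_biUnion_affineOpens.1 hc
  haveI : Finite s := hs
  let Vf : s → Scheme.{u} := fun j => ((j.1.1 : S'.Opens) : Scheme.{u})
  haveI : ∀ j, IsAffine (Vf j) := fun j => j.1.2
  let k : (∐ Vf) ⟶ S' := Sigma.desc (fun j => (j.1.1 : S'.Opens).ι)
  have hk : ∀ (j : s) (w : Vf j), k (Sigma.ι Vf j w) = (j.1.1 : S'.Opens).ι w := by
    intro j w
    rw [← Scheme.Hom.comp_apply, Sigma.ι_desc]
  haveI : Flat k := IsZariskiLocalAtSource.sigmaDesc (fun j => inferInstance)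
  have hmem : ∀ (j : s) (w : Vf j), (j.1.1 : S'.Opens).ι w ∈ g ⁻¹ᵁ U := by
    intro j w
    rw [hsU]
    exact Opens.mem_iSup.2 ⟨j.1, Opens.mem_iSup.2 ⟨j.2, w.2⟩⟩
  have e : (⊤ : (∐ Vf : Scheme.{u}).Opens) ≤ (k ≫ g) ⁻¹ᵁ U := by
    intro v _
    obtain ⟨⟨j, w⟩, rfl⟩ := (sigmaMk Vf).surjective v
    rw [sigmaMk_mk]
    change g (k (Sigma.ι Vf j w)) ∈ U
    rw [hk]
    exact hmem j w
  refine ⟨∐ Vf, inferInstance, k, e, ?_⟩
  rw [RingHom.FaithfullyFlat.iff_flat_and_comap_surjective]
  refine ⟨HasRingHomProperty.appLE (P := @Flat) (k ≫ g) inferInstance ⟨U, hU⟩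
    ⟨⊤, isAffineOpen_top _⟩ e, ?_⟩
  intro p
  -- the point of `U` corresponding to `p`
  have hu : hU.fromSpec p ∈ U := by
    have : hU.fromSpec p ∈ Set.range hU.fromSpec := ⟨p, rfl⟩
    rw [hU.range_fromSpec] at this
    exact this
  obtain ⟨s', hs'⟩ := ‹Surjective g›.surj (hU.fromSpec p)
  have hs'U : s' ∈ g ⁻¹ᵁ U := by
    change g s' ∈ U
    rw [hs']
    exact hu
  rw [hsU] at hs'U
  obtain ⟨j, hj⟩ := Opens.mem_iSup.1 hs'U
  obtain ⟨hjs, hj'⟩ := Opens.mem_iSup.1 hj
  let v : (∐ Vf : Scheme.{u}) := Sigma.ι Vf ⟨j, hjs⟩ ⟨s', hj'⟩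
  have hv : (k ≫ g) v = hU.fromSpec p := by
    change g (k (Sigma.ι Vf ⟨j, hjs⟩ ⟨s', hj'⟩)) = _
    rw [hk]
    exact hs'
  have hVtop := isAffineOpen_top (∐ Vf : Scheme.{u})
  obtain ⟨q, hq⟩ : v ∈ Set.range hVtop.fromSpec := by
    rw [hVtop.range_fromSpec]
    trivial
  refine ⟨q, ?_⟩
  have hsq := IsAffineOpen.SpecMap_appLE_fromSpec (k ≫ g) hU hVtop e
  have h1 : hU.fromSpec ((Spec.map ((k ≫ g).appLE U ⊤ e)) q) = hU.fromSpec p := by
    rw [← Scheme.Hom.comp_apply, hsq, Scheme.Hom.comp_apply, hq]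
    exact hv
  exact hU.fromSpec.isOpenEmbedding.injective h1

/-- **fpqc descent of finite presentation** for quasi-coherent modules. -/
theorem isFinitePresentation_of_pullback (F : S.Modules) [F.IsQuasicoherent]
    (h : SheafOfModules.IsFinitePresentation (R := S'.ringCatSheaf)
      ((Scheme.Modules.pullback g).obj F)) :
    SheafOfModules.IsFinitePresentation (R := S.ringCatSheaf) F := by
  rw [Groth.Agent.Helper13.LocFree.isFinitePresentation_iff_finitePresentation_sections]
  intro U hU
  obtain ⟨V, hV, k, e, hff⟩ := exists_affine_faithfullyFlat g hU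
  letI alg : Algebra Γ(S, U) Γ(V, ⊤) := ((k ≫ g).appLE U ⊤ e).hom.toAlgebra
  haveI : Module.FaithfullyFlat Γ(S, U) Γ(V, ⊤) := hff
  haveI h1 : SheafOfModules.IsFinitePresentation (R := V.ringCatSheaf)
      ((Scheme.Modules.pullback k).obj ((Scheme.Modules.pullback g).obj F)) :=
    isFinitePresentation_pullback k _
  haveI h2 : Module.FinitePresentation Γ(V, ⊤)
      Γ((Scheme.Modules.pullback k).obj ((Scheme.Modules.pullback g).obj F), ⊤) :=
    Groth.Agent.Helper13.LocFree.finitePresentation_sections_of_isFinitePresentation _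
      (isAffineOpen_top V)
  have e0 : (Scheme.Modules.pullback k).obj ((Scheme.Modules.pullback g).obj F) ≅
      (Scheme.Modules.pullback (k ≫ g)).obj F := (Scheme.Modules.pullbackComp k g).app F
  haveI h3 : Module.FinitePresentation Γ(V, ⊤) Γ((Scheme.Modules.pullback (k ≫ g)).obj F, ⊤) :=
    Module.FinitePresentation.of_equiv (appLinEquiv e0 ⊤)
  haveI h4 : Module.FinitePresentation Γ(V, ⊤) (Γ(V, ⊤) ⊗[Γ(S, U)] Γ(F, U)) :=
    Module.FinitePresentation.of_equiv
      (Groth.Agent.Helper13.Pullback.sectionsPullbackEquiv (k ≫ g) F (isAffineOpen_top V) hU e)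
  exact finitePresentation_of_faithfullyFlat Γ(V, ⊤)

omit [QuasiCompact g] in
/-- **descent of flatness** of quasi-coherent modules along flat surjective morphisms. -/
theorem isFlat_of_pullback (F : S.Modules) [F.IsQuasicoherent]
    (h : FlatMod.IsFlat ((Scheme.Modules.pullback g).obj F)) : FlatMod.IsFlat F := by
  intro x
  obtain ⟨x', rfl⟩ := ‹Surjective g›.surj x
  letI alg : Algebra (S.presheaf.stalk (g x')) (S'.presheaf.stalk x') :=
    (g.stalkMap x').hom.toAlgebra
  obtain ⟨e⟩ := Groth.Agent.Helper13.Pullback.exists_stalk_pullback_equiv g F x'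
  haveI : Module.Flat (S.presheaf.stalk (g x')) (S'.presheaf.stalk x') := Flat.stalkMap g x'
  haveI : IsLocalHom (algebraMap (S.presheaf.stalk (g x')) (S'.presheaf.stalk x')) := by
    change IsLocalHom (g.stalkMap x').hom
    infer_instance
  haveI : Module.FaithfullyFlat (S.presheaf.stalk (g x')) (S'.presheaf.stalk x') :=
    Module.FaithfullyFlat.of_flat_of_isLocalHom
  haveI : Module.Flat (S'.presheaf.stalk x')
      ((S'.presheaf.stalk x') ⊗[S.presheaf.stalk (g x')] (F.presheaf.stalk (g x'))) :=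
    haveI h0 : Module.Flat (S'.presheaf.stalk x')
        (((Scheme.Modules.pullback g).obj F).presheaf.stalk x') := h x'
    Module.Flat.of_linearEquiv e.symm
  exact Module.Flat.of_flat_tensorProduct _ _ (S'.presheaf.stalk x')

/-- **S1177**: fpqc descent of finite local freeness for quasi-coherent modules. -/
theorem isFinLocFree_of_pullback (F : S.Modules) [F.IsQuasicoherent]
    (h : FlatMod.IsFinLocFree ((Scheme.Modules.pullback g).obj F)) : FlatMod.IsFinLocFree F := by
  rw [Groth.Agent.Helper13.LocFree.isFinLocFree_iff_isFinitePresentation_and_isFlat] at h ⊢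
  exact ⟨isFinitePresentation_of_pullback g F h.1, isFlat_of_pullback g F h.2⟩

end Descent

end Groth.Agent.Helper28.FpqcDescent
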