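import Mathlib

/-!
# Geometric irreducibility from a cover by pairwise meeting geometrically irreducible opens
(helper28)
-/
set_option autoImplicit false
universe u
open CategoryTheory CategoryTheory.Limits AlgebraicGeometry

namespace Groth.Agent.Helper28.GeomIrredCover

lemma irreducibleSpace_of_cover {Z : Type*} [TopologicalSpace Z] {ι : Type*} [hι : Nonempty ι]
    (V : ι → Set Z) (hV : ∀ i, IsIrreducible (V i)) (hopen : ∀ i, IsOpen (V i))
    (hcov : ⋃ i, V i = Set.univ) (hmeet : ∀ i j, (V i ∩ V j).Nonempty) : IrreducibleSpace Z := by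
  obtain ⟨i₀⟩ := hι
  have hne : Nonempty Z := (hV i₀).nonempty.to_type
  have hpre : IsPreirreducible (Set.univ : Set Z) := by
    rintro A B hA hB ⟨a, _, haA⟩ ⟨b, _, hbB⟩
    obtain ⟨i, hai⟩ := Set.mem_iUnion.mp (hcov ▸ Set.mem_univ a)
    obtain ⟨j, hbj⟩ := Set.mem_iUnion.mp (hcov ▸ Set.mem_univ b)
    have h1 : (V i ∩ (A ∩ V j)).Nonempty :=
      (hV i).isPreirreducible A (V j) hA (hopen j) ⟨a, hai, haA⟩ (hmeet i j)
    obtain ⟨c, hci, hcA, hcj⟩ := h1
    have h2 : (V j ∩ (A ∩ B)).Nonempty :=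
      (hV j).isPreirreducible A B hA hB ⟨c, hcj, hcA⟩ ⟨b, hbj, hbB⟩
    obtain ⟨d, _, hd⟩ := h2
    exact ⟨d, Set.mem_univ d, hd⟩
  exact { isPreirreducible_univ := hpre, toNonempty := hne }

theorem main (k : Type u) [Field k] (X : Scheme.{u}) [X.Over (Spec (CommRingCat.of k))]
    (ι : Type u) (U : ι → X.Opens) (hne : Nonempty ι) (hcov : (⨆ i, U i) = ⊤)
    (hmeet : ∀ i j, ((U i : Set X) ∩ (U j : Set X)).Nonempty)
    (hU : ∀ i, GeometricallyIrreducible ((U i).ι ≫ (X ↘ (Spec (CommRingCat.of k))))) :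
    GeometricallyIrreducible (X ↘ (Spec (CommRingCat.of k))) := by
  constructor
  intro K _ y Z fst snd h
  show IrreducibleSpace Z
  haveI : Surjective y := by
    refine ⟨fun s => ?_⟩
    haveI : Subsingleton (Spec (CommRingCat.of k)) :=
      show Subsingleton (PrimeSpectrum k) from inferInstance
    haveI : Nonempty (Spec (CommRingCat.of K)) :=
      show Nonempty (PrimeSpectrum K) from inferInstance
    exact ⟨Classical.arbitrary _, Subsingleton.elim _ _⟩
  haveI : Surjective fst := MorphismProperty.of_isPullback (P := @Surjective) h.flip ‹_›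
  refine irreducibleSpace_of_cover (fun i => ((fst ⁻¹ᵁ U i : Z.Opens) : Set Z)) ?_ ?_ ?_ ?_
  · intro i
    have sq := (isPullback_morphismRestrict fst (U i)).paste_vert h
    haveI : IrreducibleSpace ↥(fst ⁻¹ᵁ U i).toScheme :=
      (hU i).geometrically_irreducibleSpace y _ _ sq
    rw [← Scheme.Opens.range_ι, ← Set.image_univ]
    exact (IrreducibleSpace.isIrreducible_univ _).image _
      (fst ⁻¹ᵁ U i).ι.continuous.continuousOn
  · intro i
    exact (fst ⁻¹ᵁ U i).isOpen
  · rw [Set.eq_univ_iff_forall]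
    intro z
    have hz : fst.base z ∈ (⨆ i, U i : X.Opens) := by rw [hcov]; trivial
    obtain ⟨i, hi⟩ := TopologicalSpace.Opens.mem_iSup.mp hz
    exact Set.mem_iUnion.mpr ⟨i, hi⟩
  · intro i j
    obtain ⟨x, hxi, hxj⟩ := hmeet i j
    obtain ⟨z, rfl⟩ := fst.surjective x
    exact ⟨z, hxi, hxj⟩

end Groth.Agent.Helper28.GeomIrredCover
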