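import Mathlib
import Groth.Agent.Lib.Helper28.SchSupport
import Groth.Agent.Lib.Helper2.ProperOver
import Groth.Agent.Lib.Helper13.EpiStalk
import Groth.Agent.Lib.Helper13.QCohStalk

set_option autoImplicit false
universe u
open CategoryTheory CategoryTheory.Limits AlgebraicGeometry Opposite TopologicalSpace
open Groth.Agent.Helper13.QCoh Groth.Agent.Helper13.FinType
open Groth.Agent.Helper28.SchSupport

namespace Groth.Agent.Helper28.SuppProper

/-- The support of `i_* G` is contained in the range of the closed immersion `i`. -/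
theorem support_subset_range {Z X : Scheme.{u}} (i : Z ⟶ X) [IsClosedImmersion i] (G : Z.Modules)
    (F : X.Modules) (e : (Scheme.Modules.pushforward i).obj G ≅ F) :
    CohB1.support F ⊆ Set.range i := by
  intro x hx
  by_contra hxr
  apply hx
  let V : X.Opens := ⟨(Set.range i)ᶜ, i.isClosedEmbedding.isClosed_range.isOpen_compl⟩
  have hxV : x ∈ V := hxr
  have hsubG : ∀ W : X.Opens, W ≤ V →
      Subsingleton Γ((Scheme.Modules.pushforward i).obj G, W) := by
    intro W hW
    refine ⟨fun a b => ?_⟩
    refine TopCat.Presheaf.section_ext ⟨G.presheaf, G.isSheaf⟩ (i ⁻¹ᵁ W) a b ?_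
    intro z hz
    exact absurd ⟨z, rfl⟩ (hW hz : i z ∉ Set.range i)
  have hsubF : ∀ W : X.Opens, W ≤ V → ∀ s : Γ(F, W), s = 0 := by
    intro W hW s
    have h2 : e.inv.app W ≫ e.hom.app W = 𝟙 _ := by
      rw [← Scheme.Modules.Hom.comp_app, e.inv_hom_id]
      rfl
    have h3 : e.hom.app W (e.inv.app W s) = s := ConcreteCategory.congr_hom h2 s
    haveI := hsubG W hW
    rw [← h3, Subsingleton.elim (e.inv.app W s) 0, map_zero]
  suffices h0 : ∀ z : F.presheaf.stalk x, z = 0 from ⟨fun a b => by rw [h0 a, h0 b]⟩
  intro z
  obtain ⟨U, hxU, s, rfl⟩ := TopCat.Presheaf.exists_germ_eq F.presheaf z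
  have hxUV : x ∈ U ⊓ V := ⟨hxU, hxV⟩
  have h5 := TopCat.Presheaf.germ_res_apply F.presheaf (homOfLE (inf_le_left : U ⊓ V ≤ U)) x
    hxUV s
  rw [← h5, hsubF (U ⊓ V) inf_le_right
    (F.presheaf.map (homOfLE (inf_le_left : U ⊓ V ≤ U)).op s), map_zero]

/-- The support of a quasi-coherent module of finite type is closed. -/
theorem isClosed_support {X : Scheme.{u}} (F : X.Modules) [F.IsQuasicoherent]
    [SheafOfModules.IsFiniteType (R := X.ringCatSheaf) F] : IsClosed (CohB1.support F) := by
  have h : CohB1.support F = ((annIdeal F).support : Set X) := (support_annIdeal F).symm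
  rw [h]
  exact (annIdeal F).support.isClosed

open Scheme.IdealSheafData in
/-- A closed subset of a set proper over the base is proper over the base. -/
theorem isProperOver_of_subset {X S : Scheme.{u}} (f : X ⟶ S) (Z Z' : Set X)
    (hZ : ClSub.IsProperOver f Z) (hZ' : IsClosed Z') (hsub : Z' ⊆ Z) :
    ClSub.IsProperOver f Z' := by
  obtain ⟨h, hp⟩ := hZ
  obtain ⟨j, hj⟩ := Groth.Agent.Helper2.exists_red_lift
    (vanishingIdeal ⟨Z, h⟩).subschemeι Z' hZ'
    (by rw [Groth.Agent.Helper2.range_red]; exact hsub)
  refine ⟨hZ', ?_⟩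
  haveI : IsClosedImmersion j := by
    haveI : IsClosedImmersion (j ≫ (vanishingIdeal ⟨Z, h⟩).subschemeι) := by
      rw [hj]; infer_instance
    exact IsClosedImmersion.of_comp j (vanishingIdeal ⟨Z, h⟩).subschemeι
  rw [← hj, Category.assoc]
  infer_instance

/-- The support of a finite type quasi-coherent module is proper over the base iff the module is
the pushforward of a finite type quasi-coherent module from a closed subscheme proper over the
base. -/
theorem isProperOver_support_iff {X S : Scheme.{u}} (f : X ⟶ S) [LocallyOfFiniteType f]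
    (F : X.Modules) [F.IsQuasicoherent] [SheafOfModules.IsFiniteType (R := X.ringCatSheaf) F] :
    ClSub.IsProperOver f (CohB1.support F) ↔
      ∃ (Z : Scheme.{u}) (i : Z ⟶ X), IsClosedImmersion i ∧ IsProper (i ≫ f) ∧
        ∃ G : Z.Modules, Coh.IsQCoh G ∧ CohB1.IsFT G ∧
          Nonempty ((Scheme.Modules.pushforward i).obj G ≅ F) := by
  constructor
  · intro h
    have hr : Set.range (annIdeal F).subschemeι = CohB1.support F := by
      rw [Scheme.IdealSheafData.range_subschemeι]
      exact support_annIdeal F
    haveI := isIso_unit_annIdeal F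
    exact ⟨(annIdeal F).subscheme, (annIdeal F).subschemeι, inferInstance,
      (Groth.Agent.Helper2.isProperOver_iff_of_closedImmersion f _ _ hr).1 h,
      (Scheme.Modules.pullback (annIdeal F).subschemeι).obj F, inferInstance, inferInstance,
      ⟨(asIso ((Scheme.Modules.pullbackPushforwardAdjunction
        (annIdeal F).subschemeι).unit.app F)).symm⟩⟩
  · rintro ⟨Z, i, hi, hp, G, -, -, ⟨e⟩⟩
    have hcl : IsClosed (CohB1.support F) := isClosed_support F
    have hsub := support_subset_range i G F e
    obtain ⟨j, hj⟩ := Groth.Agent.Helper2.exists_red_lift i _ hcl hsub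
    refine ⟨hcl, ?_⟩
    haveI : IsClosedImmersion j := by
      haveI : IsClosedImmersion (j ≫ i) := by rw [hj]; infer_instance
      exact IsClosedImmersion.of_comp j i
    rw [← hj, Category.assoc]
    infer_instance

/-- The support of the middle term of a short exact sequence is the union of the outer
supports. -/
theorem support_shortExact {X : Scheme.{u}} (E : ShortComplex X.Modules) (hE : E.ShortExact) :
    CohB1.support E.X₂ = CohB1.support E.X₁ ∪ CohB1.support E.X₃ := by
  haveI := hE.mono_f
  haveI := hE.epi_g
  ext x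
  simp only [CohB1.support, Set.mem_union, Set.mem_setOf_eq]
  constructor
  · intro h2
    by_contra hcon
    rw [not_or, not_not, not_not] at hcon
    obtain ⟨h1, h3⟩ := hcon
    apply h2
    suffices h0 : ∀ z : E.X₂.presheaf.stalk x, z = 0 from ⟨fun a b => by rw [h0 a, h0 b]⟩
    intro z
    have hz : stalkMap E.g x z = 0 := h3.elim _ _
    obtain ⟨a1, ha1⟩ := stalk_exact_of_exact_of_mono E hE.exact x z hz
    rw [← ha1, h1.elim a1 0, map_zero]
  · rintro (h1 | h3) h2
    all_goals haveI := h2
    · apply h1
      have hinj := (mono_iff_stalk_injective E.f).1 inferInstance x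
      exact ⟨fun a b => hinj (h2.elim _ _)⟩
    · apply h3
      have hsurj := stalkMap_surjective_of_epi E.g x
      refine ⟨fun a b => ?_⟩
      obtain ⟨a', rfl⟩ := hsurj a
      obtain ⟨b', rfl⟩ := hsurj b
      rw [h2.elim a' b']

/-- For a short exact sequence of coherent modules, the support of the middle term is proper
over the base iff the supports of the outer terms are. -/
theorem isProperOver_support_shortExact {X S : Scheme.{u}} (f : X ⟶ S) [LocallyOfFiniteType f]
    (E : ShortComplex X.Modules) (hE : E.ShortExact)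
    [E.X₁.IsQuasicoherent] [SheafOfModules.IsFiniteType (R := X.ringCatSheaf) E.X₁]
    [E.X₃.IsQuasicoherent] [SheafOfModules.IsFiniteType (R := X.ringCatSheaf) E.X₃] :
    ClSub.IsProperOver f (CohB1.support E.X₂) ↔
      ClSub.IsProperOver f (CohB1.support E.X₁) ∧ ClSub.IsProperOver f (CohB1.support E.X₃) := by
  have hs := support_shortExact E hE
  constructor
  · intro h
    exact ⟨isProperOver_of_subset f _ _ h (isClosed_support E.X₁)
        (by rw [hs]; exact Set.subset_union_left),
      isProperOver_of_subset f _ _ h (isClosed_support E.X₃)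
        (by rw [hs]; exact Set.subset_union_right)⟩
  · rintro ⟨h1, h3⟩
    rw [hs, Set.union_eq_iUnion]
    apply Groth.Agent.Helper2.isProperOver_iUnion f Bool
    intro b
    cases b
    · exact h3
    · exact h1

end Groth.Agent.Helper28.SuppProper
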