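import Mathlib
import Groth.Agent.Lib.Helper28.SuppProper
import Groth.Agent.Lib.Helper13.GlobGen

/-!
# Coherent modules with zero-dimensional support are globally generated
-/

set_option autoImplicit false
universe u
open CategoryTheory CategoryTheory.Limits AlgebraicGeometry Opposite TopologicalSpace
open Groth.Agent.Helper13.QCoh Groth.Agent.Helper13.FinType

namespace Groth.Agent.Helper28.ZeroDimGG

/-- In a Noetherian `T0` space, every subset of a closed subset of dimension `≤ 0` is closed. -/
theorem isClosed_of_subset_of_dim_zero {X : Type*} [TopologicalSpace X] [NoetherianSpace X]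
    [T0Space X] (T : Set X) (hT : IsClosed T) (hdim : topologicalKrullDim T ≤ 0) (A : Set X)
    (hA : A ⊆ T) : IsClosed A := by
  have hmin : ∀ B : IrreducibleCloseds T, IsMin B :=
    Order.krullDim_nonpos_iff_forall_isMin.1 hdim
  have hT1 : ∀ c : T, closure ({c} : Set T) = {c} := by
    intro c
    refine Set.Subset.antisymm ?_ subset_closure
    intro w hw
    let Ac : IrreducibleCloseds T :=
      ⟨closure {c}, isIrreducible_singleton.closure, isClosed_closure⟩
    let Aw : IrreducibleCloseds T :=
      ⟨closure {w}, isIrreducible_singleton.closure, isClosed_closure⟩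
    have hle : Aw ≤ Ac := fun z hz =>
      (closure_minimal (Set.singleton_subset_iff.2 hw) isClosed_closure) hz
    have hge : Ac ≤ Aw := hmin Ac hle
    have hc : c ∈ closure ({w} : Set T) := hge (subset_closure (Set.mem_singleton c))
    have h1 : c ⤳ w := specializes_iff_mem_closure.2 hw
    have h2 : w ⤳ c := specializes_iff_mem_closure.2 hc
    exact (h2.antisymm h1).eq
  have hfin : Finite T := by
    obtain ⟨S, hSfin, hScl, hSirr, hSU⟩ :=
      NoetherianSpace.exists_finite_set_isClosed_irreducible
        (isClosed_univ : IsClosed (Set.univ : Set T))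
    have hu : (Set.univ : Set T).Finite := by
      rw [hSU]
      apply Set.Finite.sUnion hSfin
      intro t ht
      have hsub : t.Subsingleton := by
        intro c1 hc1 c2 hc2
        let B : IrreducibleCloseds T := ⟨t, hSirr t ht, hScl t ht⟩
        let A1 : IrreducibleCloseds T :=
          ⟨closure {c1}, isIrreducible_singleton.closure, isClosed_closure⟩
        have hle : A1 ≤ B := fun z hz =>
          (closure_minimal (Set.singleton_subset_iff.2 hc1) (hScl t ht)) hz
        have hge : B ≤ A1 := hmin B hle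
        have h3 : c2 ∈ closure ({c1} : Set T) := hge hc2
        rw [hT1 c1] at h3
        exact h3.symm
      exact hsub.finite
    exact Set.finite_univ_iff.1 hu
  have hA' : IsClosed (Subtype.val ⁻¹' A : Set T) := by
    have h4 : (Subtype.val ⁻¹' A : Set T) = ⋃ c ∈ (Subtype.val ⁻¹' A : Set T), {c} :=
      (Set.biUnion_of_singleton _).symm
    rw [h4]
    exact Set.Finite.isClosed_biUnion (Set.toFinite _)
      (fun c _ => by rw [← hT1 c]; exact isClosed_closure)
  have h5 := hT.isClosedEmbedding_subtypeVal.isClosedMap _ hA'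
  rwa [Subtype.image_preimage_coe, Set.inter_eq_right.2 hA] at h5

variable {X : Scheme.{u}}

lemma subsingleton_sections_of_stalks (F : X.Modules) (W : X.Opens)
    (h : ∀ z ∈ W, Subsingleton (F.presheaf.stalk z)) : Subsingleton Γ(F, W) :=
  ⟨fun a b => TopCat.Presheaf.section_ext ⟨F.presheaf, F.isSheaf⟩ W a b
    (fun z hz => (h z hz).elim _ _)⟩

/-- gluing a section over `U` with zero over `V` when the overlap carries no sections -/
lemma exists_glue_of_subsingleton (F : X.Modules) (U V : X.Opens)
    (hcov : (⊤ : X.Opens) ≤ U ⊔ V)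
    (hsub : ∀ W : X.Opens, W ≤ U ⊓ V → Subsingleton Γ(F, W)) (a : Γ(F, U)) :
    ∃ t : Γ(F, ⊤), F.presheaf.map (homOfLE (le_top : U ≤ ⊤)).op t = a := by
  classical
  let Fs : TopCat.Sheaf Ab.{u} X := ⟨F.presheaf, F.isSheaf⟩
  let Uf : Bool → X.Opens := fun i => if i then U else V
  let sf : ∀ i : Bool, Γ(F, Uf i) := fun i => by
    cases i
    · exact (0 : Γ(F, V))
    · exact a
  have hcompat : TopCat.Presheaf.IsCompatible F.presheaf Uf sf := by
    intro i j
    cases i <;> cases j
    · rfl
    · haveI := hsub (Uf false ⊓ Uf true) (inf_comm _ _).le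
      exact Subsingleton.elim _ _
    · haveI := hsub (Uf true ⊓ Uf false) le_rfl
      exact Subsingleton.elim _ _
    · rfl
  have hle : ∀ i : Bool, Uf i ≤ ⊤ := fun i => le_top
  have hcov' : (⊤ : X.Opens) ≤ iSup Uf := by
    refine hcov.trans ?_
    rw [sup_le_iff]
    exact ⟨le_iSup Uf true, le_iSup Uf false⟩
  obtain ⟨t, ht, -⟩ := TopCat.Sheaf.existsUnique_gluing' Fs Uf ⊤
    (fun i => homOfLE (hle i)) hcov' sf hcompat
  exact ⟨t, ht true⟩

/-- On a proper scheme over a field, a coherent module with zero-dimensional support is globally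
generated. -/
theorem isGloballyGenerated_of_dim_zero (k : Type u) [Field k] (X : Scheme.{u})
    [X.Over (Spec (CommRingCat.of k))] [IsProper (X ↘ (Spec (CommRingCat.of k)))]
    (F : X.Modules) [F.IsQuasicoherent] [SheafOfModules.IsFiniteType (R := X.ringCatSheaf) F]
    (hsupp : topologicalKrullDim (CohB1.support F) ≤ 0) :
    Curv2.IsGloballyGenerated F := by
  haveI : IsLocallyNoetherian X :=
    LocallyOfFiniteType.isLocallyNoetherian (X ↘ (Spec (CommRingCat.of k)))
  haveI : CompactSpace X :=
    QuasiCompact.compactSpace_of_compactSpace (X ↘ (Spec (CommRingCat.of k)))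
  haveI : IsNoetherian X := { }
  have hT : IsClosed (CohB1.support F) := Groth.Agent.Helper28.SuppProper.isClosed_support F
  have hclosed := isClosed_of_subset_of_dim_zero (CohB1.support F) hT hsupp
  rw [Groth.Agent.Helper13.GlobGen.isGloballyGenerated_iff]
  intro y
  unfold Groth.Agent.Helper13.GlobGen.GGAt
  rw [eq_top_iff]
  intro z₀ _
  by_cases hy : y ∈ CohB1.support F
  · apply Submodule.subset_span
    obtain ⟨W, hyW, s, rfl⟩ := TopCat.Presheaf.exists_germ_eq F.presheaf z₀
    let V : X.Opens := ⟨{y}ᶜ, (hclosed {y} (Set.singleton_subset_iff.2 hy)).isOpen_compl⟩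
    let U₁ : X.Opens := ⟨(CohB1.support F \ {y})ᶜ, (hclosed _ Set.sdiff_subset).isOpen_compl⟩
    have hyU₁ : y ∈ U₁ := fun h => h.2 rfl
    let U : X.Opens := W ⊓ U₁
    have hyU : y ∈ U := ⟨hyW, hyU₁⟩
    have hcov : (⊤ : X.Opens) ≤ U ⊔ V := by
      intro z _
      by_cases hzy : z = y
      · exact Or.inl (hzy ▸ hyU)
      · exact Or.inr hzy
    have hsub : ∀ W' : X.Opens, W' ≤ U ⊓ V → Subsingleton Γ(F, W') := by
      intro W' hW'
      apply subsingleton_sections_of_stalks
      intro z hz
      have hz' := hW' hz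
      by_contra hns
      exact hz'.1.2 ⟨hns, hz'.2⟩
    obtain ⟨t, ht⟩ := exists_glue_of_subsingleton F U V hcov hsub
      (F.presheaf.map (homOfLE (inf_le_left : U ≤ W)).op s)
    refine ⟨t, ?_⟩
    change F.presheaf.germ ⊤ y trivial t = F.presheaf.germ W y hyW s
    have h1 := TopCat.Presheaf.germ_res_apply F.presheaf (homOfLE (le_top : U ≤ ⊤)) y hyU t
    have h2 := TopCat.Presheaf.germ_res_apply F.presheaf (homOfLE (inf_le_left : U ≤ W)) y hyU s
    rw [← h1, ht, h2]
  · have hss : Subsingleton (F.presheaf.stalk y) := not_not.1 hy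
    rw [hss.elim z₀ 0]
    exact Submodule.zero_mem _

end Groth.Agent.Helper28.ZeroDimGG
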