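import Mathlib
import Groth.Prelude.Def_Coh
import Groth.Prelude.Def_CohB1
import Groth.Prelude.Def_FlatMod2
import Groth.Agent.Lib.Helper13.DimLemma
import Groth.Agent.Lib.Helper3.CohLen
import Groth.Agent.Lib.Helper28.SuppProper

/-!
# A generic point of a top-dimensional component of the support with finite nonzero length
-/

set_option autoImplicit false
universe u
open CategoryTheory CategoryTheory.Limits AlgebraicGeometry TopologicalSpace

namespace Groth.Agent.Helper28.GenPtDim

open Groth.Agent.Helper13.DimLemma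

/-- (topology) a closed subset `S` of dimension `d : ℕ` of a quasi-sober `T0` space contains a point `ξ`
whose closure has dimension `d`; such a point has no proper generization in `S`. -/
theorem exists_point_dim_closure_eq {X : Type*} [TopologicalSpace X] [QuasiSober X] [T0Space X]
    (S : Set X) (hS : IsClosed S) (d : ℕ) (hd : topologicalKrullDim ↥S = (d : WithBot ℕ∞)) :
    ∃ ξ : X, ξ ∈ S ∧ topologicalKrullDim ↥(closure ({ξ} : Set X)) = (d : WithBot ℕ∞) ∧
      ∀ y : X, y ∈ S → y ⤳ ξ → y = ξ := by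
  classical
  have hle : ((d : ℕ∞) : WithBot ℕ∞) ≤ Order.krullDim (IrreducibleCloseds ↥S) := by
    have : topologicalKrullDim ↥S = Order.krullDim (IrreducibleCloseds ↥S) := rfl
    rw [← this, hd]
    rfl
  obtain ⟨p, hp⟩ := (Order.le_krullDim_iff (α := IrreducibleCloseds ↥S) (n := d)).1 (by exact_mod_cast hle)
  -- the images in X
  let A : Fin (p.length + 1) → Set X := fun i => Subtype.val '' ((p i : IrreducibleCloseds ↥S) : Set ↥S)
  have hAcl : ∀ i, IsClosed (A i) := fun i =>
    (hS.isClosedEmbedding_subtypeVal.isClosedMap _ (p i).isClosed)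
  have hAirr : ∀ i, IsIrreducible (A i) := fun i =>
    (p i).isIrreducible.image _ continuous_subtype_val.continuousOn
  have hAS : ∀ i, A i ⊆ S := by
    rintro i _ ⟨z, -, rfl⟩
    exact z.2
  have hAmono : ∀ i j, i < j → A i ⊆ A j ∧ A i ≠ A j := by
    intro i j hij
    have hlt : p i < p j := p.strictMono hij
    refine ⟨Set.image_mono (show ((p i : IrreducibleCloseds ↥S) : Set ↥S) ⊆ (p j : Set ↥S) from le_of_lt hlt), ?_⟩
    intro heq
    have h1 : ((p i : IrreducibleCloseds ↥S) : Set ↥S) = (p j : Set ↥S) :=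
      Subtype.val_injective.image_injective heq
    exact (ne_of_lt hlt) (IrreducibleCloseds.ext h1)
  -- dimension of the `i`-th member is at least `i`
  have hdim : ∀ (i : ℕ) (hi : i < p.length + 1),
      ((i : ℕ) : WithBot ℕ∞) ≤ topologicalKrullDim ↥(A ⟨i, hi⟩) := by
    intro i
    induction i with
    | zero =>
      intro hi
      haveI : IrreducibleSpace ↥(A ⟨0, hi⟩) := Subtype.irreducibleSpace (hAirr _)
      haveI : Nonempty (IrreducibleCloseds ↥(A ⟨0, hi⟩)) :=
        ⟨{ carrier := Set.univ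
           isIrreducible' := IrreducibleSpace.isIrreducible_univ _
           isClosed' := isClosed_univ }⟩
      have := Order.krullDim_nonneg (α := IrreducibleCloseds ↥(A ⟨0, hi⟩))
      exact_mod_cast this
    | succ i ih =>
      intro hi
      have hi' : i < p.length + 1 := Nat.lt_of_succ_lt hi
      have h1 := ih hi'
      have hlt : (⟨i, hi'⟩ : Fin (p.length + 1)) < ⟨i + 1, hi⟩ := by
        simp [Fin.lt_def]
      obtain ⟨hsub, hne⟩ := hAmono _ _ hlt
      have h2 := topologicalKrullDim_add_one_le (hAcl ⟨i, hi'⟩) hsub hne (hAirr ⟨i + 1, hi⟩)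
      calc (((i + 1 : ℕ) : ℕ) : WithBot ℕ∞) = ((i : ℕ) : WithBot ℕ∞) + 1 := by push_cast; rfl
        _ ≤ topologicalKrullDim ↥(A ⟨i, hi'⟩) + 1 := by gcongr
        _ ≤ _ := h2
  have hlast : d < p.length + 1 := by omega
  set T := A ⟨d, hlast⟩ with hT
  have hTd : topologicalKrullDim ↥T = (d : WithBot ℕ∞) := by
    apply le_antisymm
    · rw [← hd]
      exact dim_subset_le (hAS _)
    · exact hdim d hlast
  let ξ : X := (hAirr ⟨d, hlast⟩).genericPoint
  have hξ : closure ({ξ} : Set X) = T :=
    ((hAirr ⟨d, hlast⟩).isGenericPoint_genericPoint (hAcl _)).def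
  have hξS : ξ ∈ S := hAS ⟨d, hlast⟩ (by rw [← hT, ← hξ]; exact subset_closure rfl)
  refine ⟨ξ, hξS, by rw [hξ]; exact hTd, ?_⟩
  intro y hy hyξ
  by_contra hne
  have hcl : closure ({ξ} : Set X) ≠ closure {y} := by
    intro h
    exact hne ((inseparable_iff_closure_eq.2 h).eq).symm
  have h1 := dim_closure_add_one_le hyξ hcl
  have h2 : topologicalKrullDim ↥(closure ({y} : Set X)) ≤ (d : WithBot ℕ∞) := by
    rw [← hd]
    exact dim_subset_le (closure_minimal (Set.singleton_subset_iff.2 hy) hS)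
  rw [hξ, hTd] at h1
  have h3 := lt_of_add_one_le_coe (h1.trans h2)
  exact lt_irrefl _ h3

/-- (GENPT') a coherent module whose support has dimension `d : ℕ` has a point `ξ` with
`dim closure {ξ} = d` at which the stalk has finite nonzero length. -/
theorem exists_point_dim_length_ne_zero {X : Scheme.{u}} [IsLocallyNoetherian X]
    (F : X.Modules) (hF : Coh.IsCoh F) (d : ℕ)
    (hd : topologicalKrullDim (CohB1.support F) = d) :
    ∃ ξ : X, ξ ∈ CohB1.support F ∧
      topologicalKrullDim (closure ({ξ} : Set X)) = (d : WithBot ℕ∞) ∧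
      (∀ y : X, y ∈ CohB1.support F → y ⤳ ξ → y = ξ) ∧
      Module.length (X.presheaf.stalk ξ) (F.presheaf.stalk ξ) < ⊤ ∧
      (Module.length (X.presheaf.stalk ξ) (F.presheaf.stalk ξ)).toNat ≠ 0 := by
  obtain ⟨hqc, hft⟩ := hF
  haveI : F.IsQuasicoherent := hqc
  haveI : SheafOfModules.IsFiniteType (R := X.ringCatSheaf) F := hft
  have hcl : IsClosed (CohB1.support F) := Groth.Agent.Helper28.SuppProper.isClosed_support F
  obtain ⟨ξ, hξS, hξd, hmax⟩ := exists_point_dim_closure_eq (CohB1.support F) hcl d hd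
  have hnt : Nontrivial (F.presheaf.stalk ξ) := not_subsingleton_iff_nontrivial.1 hξS
  have hlt : Module.length (X.presheaf.stalk ξ) (F.presheaf.stalk ξ) < ⊤ :=
    Groth.Agent.Helper3.CohLen.length_stalk_lt_top F ξ
      (fun z hz hzξ => hmax z (not_subsingleton_iff_nontrivial.2 hz) hzξ)
  have hne : Module.length (X.presheaf.stalk ξ) (F.presheaf.stalk ξ) ≠ 0 := by
    rw [Ne, Module.length_eq_zero_iff]
    exact not_subsingleton_iff_nontrivial.2 hnt
  refine ⟨ξ, hξS, hξd, hmax, hlt, ?_⟩
  intro h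
  rcases ENat.toNat_eq_zero.1 h with h | h
  · exact hne h
  · exact (ne_of_lt hlt) h

/-- (D) GENPT', exact form requested by helper6 (project SP). -/
theorem exists_point_length_ne_zero_of_dim {X : Scheme.{u}} [IsNoetherian X] (G : X.Modules)
    (hG : Coh.IsCoh G) (d : ℕ)
    (hd : topologicalKrullDim ↥(CohB1.support G) = (d : WithBot ℕ∞)) :
    ∃ ξ : X, topologicalKrullDim ↥(closure ({ξ} : Set X)) = (d : WithBot ℕ∞) ∧
      (Module.length (X.presheaf.stalk ξ) (G.presheaf.stalk ξ)).toNat ≠ 0 := by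
  obtain ⟨ξ, -, h1, -, -, h2⟩ := exists_point_dim_length_ne_zero G hG d hd
  exact ⟨ξ, h1, h2⟩

end Groth.Agent.Helper28.GenPtDim
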