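import Mathlib
import Groth.Prelude.Def_FinCov
import Groth.Agent.Lib.Helper13.PushFinLocFree

/-!
# The rank of a finite flat morphism at a point, read on an affine open of the target
-/

set_option autoImplicit false
universe u
open CategoryTheory CategoryTheory.Limits AlgebraicGeometry Opposite TopologicalSpace
open Module

namespace Groth.Agent.Helper28.FinrankKey

open Groth.Agent.Helper13.PushFinite Groth.Agent.Helper13.PushFinLocFree
open Groth.Agent.Helper13.LocFree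

variable {X Y : Scheme.{u}}

lemma finrank_eq_rankAtStalk (π : X ⟶ Y) [IsFinite π] [Flat π] {W : Y.Opens}
    (hW : IsAffineOpen W) (y : Y) (hy : y ∈ W) :
    letI := algApp π W
    π.finrank y = Module.rankAtStalk (R := Γ(Y, W)) Γ(X, π ⁻¹ᵁ W) (hW.primeIdealOf ⟨y, hy⟩) := by
  letI := algApp π W
  have hπW : IsAffineOpen (π ⁻¹ᵁ W) := hW.preimage π
  haveI hfin : Module.Finite Γ(Y, W) Γ(X, π ⁻¹ᵁ W) := π.finite_app W hW
  haveI hflat : Module.Flat Γ(Y, W) Γ(X, π ⁻¹ᵁ W) := by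
    have h := π.flat_appLE hW hπW le_rfl
    rw [← Scheme.Hom.app_eq_appLE] at h
    exact h
  have hcomm : hπW.fromSpec ≫ π = Spec.map (π.app W) ≫ hW.fromSpec := by
    rw [Scheme.Hom.app_eq_appLE, IsAffineOpen.SpecMap_appLE_fromSpec]
  have hpb : IsPullback hπW.fromSpec (Spec.map (π.app W)) π hW.fromSpec :=
    (IsOpenImmersion.isPullback (Spec.map (π.app W)) hπW.fromSpec hW.fromSpec π hcomm
      (by rw [hW.opensRange_fromSpec, hπW.opensRange_fromSpec])).flip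
  have h1 := Scheme.Hom.finrank_of_isPullback _ _ _ _ hpb (hW.primeIdealOf ⟨y, hy⟩)
  have h2 : hW.fromSpec (hW.primeIdealOf ⟨y, hy⟩) = y := hW.fromSpec_primeIdealOf ⟨y, hy⟩
  exact (congrArg π.finrank h2.symm).trans (h1.symm.trans
    (Scheme.Hom.finrank_SpecMap_algebraMap Γ(Y, W) Γ(X, π ⁻¹ᵁ W) _))

lemma finrank_eq_of_basis (π : X ⟶ Y) [IsFinite π] [Flat π] {W : Y.Opens}
    (hW : IsAffineOpen W) (y : Y) (hy : y ∈ W) {n : ℕ}
    (b : letI := algApp π W; Basis (Fin n) Γ(Y, W) Γ(X, π ⁻¹ᵁ W)) : π.finrank y = n := by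
  letI := algApp π W
  rw [finrank_eq_rankAtStalk π hW y hy]
  haveI : Module.Free Γ(Y, W) Γ(X, π ⁻¹ᵁ W) := Module.Free.of_basis b
  haveI : Nontrivial Γ(Y, W) := (hW.primeIdealOf ⟨y, hy⟩).nontrivial
  rw [Module.rankAtStalk_eq_finrank_of_free, Pi.natCast_apply, Nat.cast_id,
    Module.finrank_eq_card_basis b, Fintype.card_fin]

theorem isCover_iff (f : X ⟶ Y) (d : ℕ) :
    FinCov.IsCover f d ↔
      IsAffineHom f ∧ FlatMod.IsFinLocFreeOfRank d
        ((Scheme.Modules.pushforward f).obj (Coh.structureModule X)) := by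
  constructor
  · rintro ⟨⟨h1, h2, h3⟩, h4⟩
    haveI := h1
    haveI := h2
    obtain ⟨hA, hN⟩ := (affine_finLocFree_iff f).2 ⟨h1, h2, h3⟩
    refine ⟨hA, fun y => ?_⟩
    obtain ⟨W, n, hyW, ⟨e⟩⟩ := hN y
    obtain ⟨_, ⟨V, hV, rfl⟩, hyV, hVW⟩ :=
      Y.isBasis_affineOpens.exists_subset_of_mem_open hyW W.2
    obtain ⟨b⟩ := nonempty_basis_of_restrict_iso _ e (fun z hz => hVW hz)
    letI := algApp f V
    have hn : f.finrank y = n := finrank_eq_of_basis f hV y hyV (b.map (pushUnitEquiv f V))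
    rw [h4 y] at hn
    subst hn
    exact ⟨W, hyW, ⟨e⟩⟩
  · rintro ⟨hA, hN⟩
    have hN' : FlatMod.IsFinLocFree
        ((Scheme.Modules.pushforward f).obj (Coh.structureModule X)) := fun y => by
      obtain ⟨W, hyW, he⟩ := hN y
      exact ⟨W, d, hyW, he⟩
    obtain ⟨h1, h2, h3⟩ := (affine_finLocFree_iff f).1 ⟨hA, hN'⟩
    haveI := h1
    haveI := h2
    refine ⟨⟨h1, h2, h3⟩, fun y => ?_⟩
    obtain ⟨W, hyW, ⟨e⟩⟩ := hN y
    obtain ⟨_, ⟨V, hV, rfl⟩, hyV, hVW⟩ :=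
      Y.isBasis_affineOpens.exists_subset_of_mem_open hyW W.2
    obtain ⟨b⟩ := nonempty_basis_of_restrict_iso _ e (fun z hz => hVW hz)
    letI := algApp f V
    exact finrank_eq_of_basis f hV y hyV (b.map (pushUnitEquiv f V))

end Groth.Agent.Helper28.FinrankKey
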