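import Mathlib
import Groth.Agent.Lib.Helper13.LocFree3
import Groth.Agent.Lib.Helper13.LocFree
import Groth.Agent.Lib.Helper5.FPC1

/-!
# Freeness of a locally free module of constant rank near a finite set of points of an affine open

Algebra: a finite projective module whose rank at finitely many primes is `r` becomes free of rank
`r` after inverting one element outside all these primes (via the semilocal ring obtained by
inverting the complement of the union of the primes, and Mathlib's freeness over semilocal rings).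
-/

set_option autoImplicit false
universe u
open CategoryTheory CategoryTheory.Limits AlgebraicGeometry Opposite TopologicalSpace
open Module TensorProduct

namespace Groth.Agent.Helper28.SemilocalFree

section Algebra

variable {A : Type*} [CommRing A] {M : Type*} [AddCommGroup M] [Module A M]

/-- rank at a prime from a free localization away from an element outside the prime. -/
lemma rankAtStalk_eq_of_basis_away [Module.Finite A M] [Module.Flat A M] (p : PrimeSpectrum A)
    (f : A) (hf : f ∉ p.asIdeal)
    {Af Mf : Type*} [CommRing Af] [Algebra A Af] [IsLocalization (Submonoid.powers f) Af]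
    [AddCommGroup Mf] [Module A Mf] [Module Af Mf] [IsScalarTower A Af Mf]
    (g : M →ₗ[A] Mf) [IsLocalizedModule (Submonoid.powers f) g] {r : ℕ}
    (b : Basis (Fin r) Af Mf) : rankAtStalk M p = r := by
  have hd : Disjoint (Submonoid.powers f : Set A) (p.asIdeal : Set A) := by
    rw [Set.disjoint_left]
    rintro _ ⟨n, rfl⟩ hn
    exact hf (p.2.mem_of_pow_mem n hn)
  let p' : PrimeSpectrum Af := ⟨Ideal.map (algebraMap A Af) p.asIdeal,
    IsLocalization.isPrime_of_isPrime_disjoint (Submonoid.powers f) Af p.asIdeal p.2 hd⟩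
  have hp' : p'.comap (algebraMap A Af) = p := by
    apply PrimeSpectrum.ext
    exact IsLocalization.under_map_of_isPrime_disjoint (Submonoid.powers f) Af p.2 hd
  have hbc : IsBaseChange Af g := IsLocalizedModule.isBaseChange (Submonoid.powers f) Af g
  have h1 := rankAtStalk_isBaseChange hbc p'
  rw [hp'] at h1
  haveI : Nontrivial Af := p'.nontrivial
  haveI : Module.Free Af Mf := Module.Free.of_basis b
  have h2 := congrFun (rankAtStalk_eq_finrank_of_free (R := Af) (M := Mf)) p'
  rw [← h1, h2]
  simp [Module.finrank_eq_card_basis b]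

/-- **Freeness near finitely many primes.** -/
theorem exists_basis_away_of_finite_primes [Module.Finite A M] [Module.Projective A M]
    (P : Set (PrimeSpectrum A)) (hP : P.Finite) (r : ℕ)
    (hr : ∀ p ∈ P, rankAtStalk M p = r) :
    ∃ s : A, (∀ p ∈ P, s ∉ p.asIdeal) ∧
      Nonempty (Basis (Fin r) (Localization (Submonoid.powers s))
        (LocalizedModule (Submonoid.powers s) M)) := by
  classical
  haveI : Module.FinitePresentation A M := Module.finitePresentation_of_projective A M
  let S : Submonoid A := ⨅ p ∈ P, p.asIdeal.primeCompl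
  have hS : ∀ a : A, a ∈ S ↔ ∀ p ∈ P, a ∉ p.asIdeal := by
    intro a
    simp only [S, Submonoid.mem_iInf]
    rfl
  let R' := Localization S
  let M' := LocalizedModule S M
  have key : ∀ q : Ideal A, q.IsPrime → Disjoint (S : Set A) (q : Set A) →
      ∃ p ∈ P, q ≤ p.asIdeal := by
    intro q hq hd
    have hsub : (q : Set A) ⊆ ⋃ p ∈ P, (p.asIdeal : Set A) := by
      intro a ha
      by_contra hcon
      have : a ∈ S := (hS a).2 (fun p hp hap => hcon (Set.mem_biUnion hp hap))
      exact Set.disjoint_left.1 hd this ha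
    exact (Ideal.subset_union_prime_finite hP (f := fun p : PrimeSpectrum A => p.asIdeal)
      ⟨q, hq⟩ ⟨q, hq⟩ (fun i _ _ _ => i.2)).1 hsub
  have hdisj : ∀ p ∈ P, Disjoint (S : Set A) (p.asIdeal : Set A) := by
    intro p hpP
    rw [Set.disjoint_left]
    intro a ha hap
    exact (hS a).1 ha p hpP hap
  haveI : Finite (MaximalSpectrum R') := by
    have hmax : ∀ m : MaximalSpectrum R', ∃ p ∈ P,
        m.asIdeal = Ideal.map (algebraMap A R') p.asIdeal := by
      intro m
      have hmp : m.asIdeal.IsPrime := m.isMaximal.isPrime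
      obtain ⟨hq, hd⟩ := (IsLocalization.isPrime_iff_isPrime_disjoint S R' m.asIdeal).1 hmp
      obtain ⟨p, hpP, hle⟩ := key _ hq hd
      refine ⟨p, hpP, ?_⟩
      have hne : Ideal.map (algebraMap A R') p.asIdeal ≠ ⊤ :=
        (IsLocalization.isPrime_of_isPrime_disjoint S R' p.asIdeal p.2 (hdisj p hpP)).ne_top
      have hle' : m.asIdeal ≤ Ideal.map (algebraMap A R') p.asIdeal := by
        rw [← IsLocalization.map_under S R' m.asIdeal]
        exact Ideal.map_mono hle
      exact m.isMaximal.eq_of_le hne hle'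
    choose φ hφP hφ using hmax
    haveI : Finite P := hP.to_subtype
    refine Finite.of_injective (fun m => (⟨φ m, hφP m⟩ : P)) ?_
    intro m₁ m₂ h
    have h' : φ m₁ = φ m₂ := congrArg Subtype.val h
    apply MaximalSpectrum.ext
    rw [hφ m₁, hφ m₂, h']
  have rk : ∀ m : MaximalSpectrum R',
      finrank (R' ⧸ m.asIdeal) ((R' ⧸ m.asIdeal) ⊗[R'] M') = r := by
    intro m
    let pm : PrimeSpectrum R' := ⟨m.asIdeal, m.isMaximal.isPrime⟩
    have h1 : rankAtStalk M' pm = r := by
      have hbc : IsBaseChange R' (LocalizedModule.mkLinearMap S M) :=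
        IsLocalizedModule.isBaseChange S R' _
      rw [rankAtStalk_isBaseChange hbc pm]
      obtain ⟨hq, hd⟩ := (IsLocalization.isPrime_iff_isPrime_disjoint S R' m.asIdeal).1 pm.2
      obtain ⟨p, hpP, hle⟩ := key _ hq hd
      rw [← hr p hpP]
      exact rankAtStalk_eq_of_le_of_finite_of_flat M
        (p := pm.comap (algebraMap A R')) (q := p) hle
    letI : Field (R' ⧸ m.asIdeal) := Ideal.Quotient.field m.asIdeal
    have h2 := rankAtStalk_eq (M := M') pm
    let e : pm.asIdeal.ResidueField ⊗[R' ⧸ m.asIdeal] ((R' ⧸ m.asIdeal) ⊗[R'] M')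
        ≃ₗ[pm.asIdeal.ResidueField] pm.asIdeal.ResidueField ⊗[R'] M' :=
      AlgebraTensorModule.cancelBaseChange _ _ _ _ _
    have h3 := e.finrank_eq
    rw [Module.finrank_baseChange] at h3
    rw [h3, ← h1, h2]
  obtain ⟨b⟩ := Module.nonempty_basis_of_flat_of_finrank_eq R' M' r rk
  obtain ⟨s, hs, b', -⟩ := Module.FinitePresentation.exists_basis_localizedModule_powers S
    (LocalizedModule.mkLinearMap S M) R' b
  exact ⟨s, (hS s).1 hs, ⟨b'⟩⟩

end Algebra

section Geometry

open Groth.Agent.Helper13.QCoh Groth.Agent.Helper13.FinType Groth.Agent.Helper13.QCohLocal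
open Groth.Agent.Helper13.QCohLoc Groth.Agent.Helper13.LocTransfer Groth.Agent.Helper13.LocFree

/-- A locally free module of rank `r` is free of rank `r` on a neighbourhood, inside a given affine
open, of any finite set of points of that affine open. -/
theorem exists_free_nhd_of_finite {Y : Scheme.{u}} (r : ℕ) (E : Y.Modules)
    (hE : FlatMod.IsFinLocFreeOfRank r E)
    (Z : Set Y) (hZ : Z.Finite) (V : Y.Opens) (hV : IsAffineOpen V) (hZV : Z ⊆ V) :
    ∃ U : Y.Opens, Z ⊆ U ∧ U ≤ V ∧
      Nonempty (E.restrict U.ι ≅ FlatMod.freeMod (U : Scheme.{u}) r) := by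
  have hE' : FlatMod.IsFinLocFree E := fun x => by
    obtain ⟨U, hx, e⟩ := hE x
    exact ⟨U, r, hx, e⟩
  haveI : E.IsQuasicoherent := Groth.Agent.Helper5.FPC.isQuasicoherent_of_isFinLocFree E hE'
  obtain ⟨hfin, hproj⟩ := projective_sections_of_isFinLocFree E hE' hV
  haveI := hfin
  haveI := hproj
  let P : Set (PrimeSpectrum Γ(Y, V)) :=
    {p | ∃ (x : Y) (hx : x ∈ Z), hV.primeIdealOf ⟨x, hZV hx⟩ = p}
  have hP : P.Finite := hZ.dependent_image (fun x hx => hV.primeIdealOf ⟨x, hZV hx⟩)
  have hr : ∀ p ∈ P, Module.rankAtStalk Γ(E, V) p = r := by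
    rintro _ ⟨x, hx, rfl⟩
    obtain ⟨U, hxU, ⟨e⟩⟩ := hE x
    obtain ⟨f, hfle, hxf⟩ := hV.exists_basicOpen_le (V := U ⊓ V) ⟨x, hxU, hZV hx⟩ (hZV hx)
    obtain ⟨b⟩ := nonempty_basis_of_restrict_iso E e (hfle.trans inf_le_left)
    letI := modBasicOpen E f
    haveI := isScalarTower_basicOpen E f
    haveI := isLocalizedModule_basicOpen E hV f
    haveI : IsLocalization (Submonoid.powers f) Γ(Y, Y.basicOpen f) :=
      hV.isLocalization_basicOpen f
    exact rankAtStalk_eq_of_basis_away _ f
      ((Groth.Agent.Helper13.QCoh.mem_basicOpen_iff_notMem_primeIdealOf hV x (hZV hx) f).1 hxf)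
      (resBasicOpen E f) b
  obtain ⟨s, hsP, ⟨b⟩⟩ := exists_basis_away_of_finite_primes P hP r hr
  refine ⟨Y.basicOpen s, ?_, Y.basicOpen_le s, ?_⟩
  · intro x hx
    exact (Groth.Agent.Helper13.QCoh.mem_basicOpen_iff_notMem_primeIdealOf hV x
      (hZV hx) s).2 (hsP _ ⟨x, hx, rfl⟩)
  · letI := modBasicOpen E s
    haveI := isScalarTower_basicOpen E s
    haveI := isLocalizedModule_basicOpen E hV s
    haveI : IsLocalization (Submonoid.powers s) Γ(Y, Y.basicOpen s) :=
      hV.isLocalization_basicOpen s
    obtain ⟨b'⟩ := nonempty_basis_of_isLocalizedModule (Rₛ := Γ(Y, Y.basicOpen s))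
      (Submonoid.powers s) (resBasicOpen E s) b
    exact restrict_iso_freeMod_of_basis E (hV.basicOpen s) b'

end Geometry

end Groth.Agent.Helper28.SemilocalFree
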