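import Mathlib
import Groth.Prelude.Def_FinCov
import Groth.Agent.Lib.Helper28.SemilocalFree
import Groth.Agent.Lib.Helper13.KerSec
import Groth.Agent.Lib.Helper13.QCohKer
import Groth.Agent.Lib.Helper13.EpiGen
import Groth.Agent.Lib.Helper13.PushFinLocFree

/-!
# The trace of a finite locally free algebra of rank `d`: `str ≫ τ = d`, and splitting when `d` is
invertible
-/

set_option autoImplicit false
universe u
open CategoryTheory CategoryTheory.Limits AlgebraicGeometry Opposite TopologicalSpace
open Module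

namespace Groth.Agent.Helper28.TraceSplit

section Algebra

variable {R M : Type*} [CommRing R] [AddCommGroup M] [Module R M]

/-- a module with a split surjection onto the ring is the product of the kernel and the ring. -/
noncomputable def splitEquiv (f : M →ₗ[R] R) (g : R →ₗ[R] M) (h : ∀ r, f (g r) = r) :
    M ≃ₗ[R] (LinearMap.ker f) × R where
  toFun a := (⟨a - g (f a), by rw [LinearMap.mem_ker, map_sub, h, sub_self]⟩, f a)
  map_add' a a' := by
    ext
    · simp only [map_add, Prod.mk_add_mk, Submodule.coe_add]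
      abel
    · simp
  map_smul' c a := by
    ext
    · simp only [map_smul, smul_eq_mul, RingHom.id_apply, Prod.smul_mk, SetLike.mk_smul_mk,
        smul_sub]
      rw [← smul_eq_mul, map_smul]
    · simp
  invFun p := p.1.1 + g p.2
  left_inv a := by simp
  right_inv p := by
    have hp : f p.1.1 = 0 := p.1.2
    ext
    · simp [hp, h]
    · simp [hp, h]

lemma ker_props (f : M →ₗ[R] R) (g : R →ₗ[R] M) (h : ∀ r, f (g r) = r) {d : ℕ}
    (b : Basis (Fin d) R M) :
    Module.Finite R (LinearMap.ker f) ∧ Module.Projective R (LinearMap.ker f) ∧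
      ∀ p : PrimeSpectrum R, rankAtStalk (LinearMap.ker f) p = d - 1 := by
  let e := splitEquiv f g h
  haveI : Module.Free R M := Module.Free.of_basis b
  haveI : Module.Finite R M := Module.Finite.of_basis b
  haveI hproj2 : Module.Projective R ((LinearMap.ker f) × R) := Module.Projective.of_equiv e
  have hfin : Module.Finite R (LinearMap.ker f) :=
    Module.Finite.of_surjective ((LinearMap.fst R (LinearMap.ker f) R).comp e.toLinearMap)
      (by
        intro k
        obtain ⟨a, ha⟩ := e.surjective (k, 0)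
        exact ⟨a, by simp [ha]⟩)
  have hcomp : (LinearMap.fst R (LinearMap.ker f) R).comp (LinearMap.inl R (LinearMap.ker f) R) =
      LinearMap.id := by
    ext
    simp
  have hproj : Module.Projective R (LinearMap.ker f) := Module.Projective.of_split _ _ hcomp
  refine ⟨hfin, hproj, fun p => ?_⟩
  haveI := hfin
  haveI := hproj
  haveI : Nontrivial R := p.nontrivial
  have h1 : rankAtStalk M p = rankAtStalk ((LinearMap.ker f) × R) p :=
    congrFun (rankAtStalk_eq_of_equiv e) p
  have h2 := congrFun (rankAtStalk_prod (LinearMap.ker f) R) p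
  have h3 := congrFun (rankAtStalk_self (R := R)) p
  have h4 := congrFun (rankAtStalk_eq_finrank_of_free (R := R) (M := M)) p
  have h5 : Module.finrank R M = d := by
    rw [Module.finrank_eq_card_basis b, Fintype.card_fin]
  simp only [Pi.add_apply, Pi.one_apply] at h2 h3
  simp only [Pi.natCast_apply, Nat.cast_id] at h4
  rw [h4, h5] at h1
  omega

end Algebra

section Geometry

open Groth.Agent.Helper13.QCoh Groth.Agent.Helper13.FinType Groth.Agent.Helper13.QCohLocal
open Groth.Agent.Helper13.QCohLoc Groth.Agent.Helper13.LocTransfer Groth.Agent.Helper13.LocFree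

variable {X : Scheme.{u}}

lemma hom_ext_of_isBasis {M N : X.Modules} (φ ψ : M ⟶ N) {B : Set X.Opens} (hB : Opens.IsBasis B)
    (h : ∀ V ∈ B, ∀ m : Γ(M, V), φ.app V m = ψ.app V m) : φ = ψ := by
  apply hom_ext_stalk
  intro x m
  obtain ⟨V, hxV, hV, t, rfl⟩ := TopCat.Presheaf.exists_mem_germ_eq_of_isBasis hB M.presheaf x m
  rw [stalkMap_germ, stalkMap_germ, h V hV t]

lemma nsmul_app_apply {M N : X.Modules} (φ : M ⟶ N) (d : ℕ) (U : X.Opens) (m : Γ(M, U)) :
    (d • φ).app U m = d • φ.app U m := by
  induction d with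
  | zero =>
    rw [zero_nsmul, zero_nsmul, Scheme.Modules.Hom.zero_app]
    rfl
  | succ k ih =>
    rw [succ_nsmul, succ_nsmul, Scheme.Modules.Hom.add_app, ← ih]
    rfl

/-- the affine opens over which `A` has a basis of `d` elements. -/
def goodOpens (A : RelSpec.QCAlg X) (d : ℕ) : Set X.Opens :=
  {V | IsAffineOpen V ∧ Nonempty (Basis (Fin d) Γ(X, V) Γ(A.toModule, V))}

lemma isBasis_goodOpens (A : RelSpec.QCAlg X) (d : ℕ)
    (hA : FlatMod.IsFinLocFreeOfRank d A.toModule) : Opens.IsBasis (goodOpens A d) := by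
  rw [Opens.isBasis_iff_nbhd]
  intro U x hxU
  obtain ⟨W, hxW, ⟨e⟩⟩ := hA x
  obtain ⟨_, ⟨V, hV, rfl⟩, hxV, hVUW⟩ := X.isBasis_affineOpens.exists_subset_of_mem_open
    (show x ∈ ((U ⊓ W : X.Opens) : Set X) from ⟨hxU, hxW⟩) (U ⊓ W).2
  have hVU : V ≤ U := fun y hy => (hVUW hy).1
  have hVW : V ≤ W := fun y hy => (hVUW hy).2
  exact ⟨V, ⟨hV, nonempty_basis_of_restrict_iso A.toModule e hVW⟩, hxV, hVU⟩

lemma trace_str_app (A : RelSpec.QCAlg X) (τ : A.toModule ⟶ Coh.structureModule X)
    (hτ : FinCov.IsTrace A τ) {V : X.Opens} (hV : IsAffineOpen V) {d : ℕ}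
    (b : Basis (Fin d) Γ(X, V) Γ(A.toModule, V)) (r : Γ(X, V)) :
    ofO V (τ.app V ((FinCov.strMod A).app V (toO V r))) = d • r := by
  letI : Algebra Γ(X, V) (A.presheaf.obj (op V)) := (A.str.app (op V)).hom.toAlgebra
  let b' : Basis (Fin d) Γ(X, V) (A.presheaf.obj (op V)) := b
  have h := hτ V hV (Module.Free.of_basis b') (Module.Finite.of_basis b')
    ((A.str.app (op V)).hom r)
  have h2 : Algebra.trace Γ(X, V) (A.presheaf.obj (op V)) ((A.str.app (op V)).hom r) = d • r := by
    have := Algebra.trace_algebraMap_of_basis b' r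
    rw [Fintype.card_fin] at this
    exact this
  exact h.trans h2

theorem str_comp_trace (A : RelSpec.QCAlg X) (d : ℕ)
    (hA : FlatMod.IsFinLocFreeOfRank d A.toModule)
    (τ : A.toModule ⟶ Coh.structureModule X) (hτ : FinCov.IsTrace A τ) :
    FinCov.strMod A ≫ τ = d • 𝟙 (Coh.structureModule X) := by
  apply hom_ext_of_isBasis _ _ (isBasis_goodOpens A d hA)
  rintro V ⟨hV, ⟨b⟩⟩ m
  rw [nsmul_app_apply]
  exact trace_str_app A τ hτ hV b (ofO V m)

end Geometry

end Groth.Agent.Helper28.TraceSplit
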