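import Mathlib
import Groth.Prelude.Def_FinCov
import Groth.Agent.Lib.Helper28.TraceSplit

/-!
# Gluing maps `A → O_X` from their values on the affine opens over which `A` is finite free

For a quasi-coherent algebra `A` we glue a family of maps `A(U) → O(U)` given on the "good" affine
opens (those over which `A` is finite free) and compatible with restriction to basic opens, into a
natural family defined on all opens.  Applied to the trace (existence and uniqueness of the trace
of a finite locally free algebra) and to the norm.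
-/

set_option autoImplicit false
universe u
open CategoryTheory CategoryTheory.Limits AlgebraicGeometry Opposite TopologicalSpace
open Module

namespace Groth.Agent.Helper28.GlueGood

section Alg

variable {R S Rₘ Sₘ : Type*} [CommRing R] [CommRing S] [CommRing Rₘ] [CommRing Sₘ]

/-- localization away from an element of a finite free algebra: freeness, trace and norm. -/
lemma loc_setup (str : R →+* S) (strm : Rₘ →+* Sₘ) (resR : R →+* Rₘ) (resS : S →+* Sₘ)
    (comm : ∀ r, strm (resR r) = resS (str r)) (f : R)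
    (hR : letI := resR.toAlgebra; IsLocalization.Away f Rₘ)
    (hS : letI := resS.toAlgebra; IsLocalization.Away (str f) Sₘ)
    (hfree : letI := str.toAlgebra; Module.Free R S)
    (hfin : letI := str.toAlgebra; Module.Finite R S) :
    letI := str.toAlgebra
    letI := strm.toAlgebra
    (Module.Free Rₘ Sₘ ∧ Module.Finite Rₘ Sₘ) ∧
    (∀ a : S, Algebra.trace Rₘ Sₘ (resS a) = resR (Algebra.trace R S a)) ∧
    (∀ a : S, Algebra.norm Rₘ (resS a) = resR (Algebra.norm R a)) := by
  letI := str.toAlgebra
  letI := strm.toAlgebra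
  letI := resR.toAlgebra
  letI := resS.toAlgebra
  letI : Algebra R Sₘ := (resS.comp str).toAlgebra
  haveI : IsScalarTower R S Sₘ := IsScalarTower.of_algebraMap_eq (fun r => rfl)
  haveI : IsScalarTower R Rₘ Sₘ := IsScalarTower.of_algebraMap_eq (fun r => (comm r).symm)
  haveI : Module.Free R S := hfree
  haveI : Module.Finite R S := hfin
  haveI : IsLocalization (Submonoid.powers f) Rₘ := hR
  haveI : IsLocalization (Algebra.algebraMapSubmonoid S (Submonoid.powers f)) Sₘ := by
    rw [Algebra.algebraMapSubmonoid_powers]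
    exact hS
  refine ⟨?_, fun a => Algebra.trace_localization R (Submonoid.powers f) a,
    fun a => Algebra.norm_localization R (Submonoid.powers f) a⟩
  let b := Module.Free.chooseBasis R S
  let b' := b.localizationLocalization Rₘ (Submonoid.powers f) Sₘ
  exact ⟨Module.Free.of_basis b', Module.Finite.of_basis b'⟩

/-- an element of a finite free algebra whose norm is a unit is a unit. -/
lemma isUnit_of_isUnit_norm [Algebra R S] [Module.Free R S] [Module.Finite R S] (a : S)
    (h : IsUnit (Algebra.norm R a)) : IsUnit a := by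
  rw [Algebra.norm_apply] at h
  have h2 : IsUnit (Algebra.lmul R S a) := (LinearMap.isUnit_iff_isUnit_det _).2 h
  obtain ⟨g, hg⟩ := h2.exists_right_inv
  have h3 : a * g 1 = 1 := by
    have := congrArg (fun e : Module.End R S => e 1) hg
    simpa using this
  exact IsUnit.of_mul_eq_one _ h3

end Alg

section Geometry

variable {X : Scheme.{u}}

lemma sec_ext_local {V : X.Opens} (s t : Γ(X, V))
    (h : ∀ x ∈ V, ∃ (D : X.Opens) (hDV : D ≤ V), x ∈ D ∧
      X.presheaf.map (homOfLE hDV).op s = X.presheaf.map (homOfLE hDV).op t) : s = t := by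
  apply TopCat.Presheaf.section_ext X.sheaf
  intro x hx
  obtain ⟨D, hDV, hxD, e⟩ := h x hx
  have e1 := TopCat.Presheaf.germ_res_apply X.presheaf (homOfLE hDV) x hxD s
  have e2 := TopCat.Presheaf.germ_res_apply X.presheaf (homOfLE hDV) x hxD t
  exact e1.symm.trans ((congrArg _ e).trans e2)

lemma sec_eq_of_isBasis {B : Set X.Opens} (hB : Opens.IsBasis B) {U : X.Opens} (s t : Γ(X, U))
    (h : ∀ W ∈ B, ∀ i : W ⟶ U, X.presheaf.map i.op s = X.presheaf.map i.op t) : s = t := by
  apply sec_ext_local
  intro x hx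
  obtain ⟨W, hWB, hxW, hWU⟩ := Opens.isBasis_iff_nbhd.1 hB hx
  exact ⟨W, hWU, hxW, h W hWB (homOfLE hWU)⟩

lemma resO_resO {U V W : X.Opens} (i : V ⟶ U) (j : W ⟶ V) (k : W ⟶ U) (s : Γ(X, U)) :
    X.presheaf.map j.op (X.presheaf.map i.op s) = X.presheaf.map k.op s := by
  rw [show k = j ≫ i from Subsingleton.elim _ _, op_comp, Functor.map_comp,
    CommRingCat.comp_apply]

lemma resO_id {U : X.Opens} (i : U ⟶ U) (s : Γ(X, U)) : X.presheaf.map i.op s = s := by
  rw [show i = 𝟙 U from Subsingleton.elim _ _, op_id, CategoryTheory.Functor.map_id]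
  rfl

lemma resA_resA (A : RelSpec.QCAlg X) {U V W : X.Opens} (i : V ⟶ U) (j : W ⟶ V) (k : W ⟶ U)
    (a : A.presheaf.obj (op U)) :
    A.presheaf.map j.op (A.presheaf.map i.op a) = A.presheaf.map k.op a := by
  rw [show k = j ≫ i from Subsingleton.elim _ _, op_comp, Functor.map_comp,
    CommRingCat.comp_apply]

lemma resA_id (A : RelSpec.QCAlg X) {U : X.Opens} (i : U ⟶ U) (a : A.presheaf.obj (op U)) :
    A.presheaf.map i.op a = a := by
  rw [show i = 𝟙 U from Subsingleton.elim _ _, op_id, CategoryTheory.Functor.map_id]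
  rfl

lemma str_res (A : RelSpec.QCAlg X) {U V : X.Opens} (i : V ⟶ U) (r : Γ(X, U)) :
    (A.str.app (op V)).hom (X.presheaf.map i.op r) =
      A.presheaf.map i.op ((A.str.app (op U)).hom r) :=
  congr($(A.str.naturality i.op) r)

/-- the algebra structure on the sections of `A`. -/
@[reducible] def algSect (A : RelSpec.QCAlg X) (U : X.Opens) :
    Algebra Γ(X, U) (A.presheaf.obj (op U)) :=
  (A.str.app (op U)).hom.toAlgebra

/-- the affine opens over which `A` is finite free. -/
def IsGood (A : RelSpec.QCAlg X) (U : X.Opens) : Prop :=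
  IsAffineOpen U ∧
    (letI := algSect A U
     Module.Free Γ(X, U) (A.presheaf.obj (op U)) ∧ Module.Finite Γ(X, U) (A.presheaf.obj (op U)))

lemma basicOpen_data (A : RelSpec.QCAlg X) {U : X.Opens} (hU : IsGood A U) (f : Γ(X, U)) :
    letI := algSect A U
    letI := algSect A (X.basicOpen f)
    IsGood A (X.basicOpen f) ∧
    (∀ a : A.presheaf.obj (op U),
      Algebra.trace Γ(X, X.basicOpen f) (A.presheaf.obj (op (X.basicOpen f)))
        (A.presheaf.map (homOfLE (X.basicOpen_le f)).op a) =
      X.presheaf.map (homOfLE (X.basicOpen_le f)).op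
        (Algebra.trace Γ(X, U) (A.presheaf.obj (op U)) a)) ∧
    (∀ a : A.presheaf.obj (op U),
      Algebra.norm Γ(X, X.basicOpen f) (A.presheaf.map (homOfLE (X.basicOpen_le f)).op a) =
      X.presheaf.map (homOfLE (X.basicOpen_le f)).op (Algebra.norm Γ(X, U) a)) := by
  obtain ⟨hUa, hfree, hfin⟩ := hU
  have h := loc_setup (A.str.app (op U)).hom (A.str.app (op (X.basicOpen f))).hom
    (X.presheaf.map (homOfLE (X.basicOpen_le f)).op).hom
    (A.presheaf.map (homOfLE (X.basicOpen_le f)).op).hom
    (fun r => str_res A (homOfLE (X.basicOpen_le f)) r)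
    f (hUa.isLocalization_basicOpen f) (A.isQC U hUa f) hfree hfin
  exact ⟨⟨hUa.basicOpen f, h.1⟩, h.2.1, h.2.2⟩

/-- a family of maps on the good opens commuting with restriction to basic opens. -/
structure LocFamily (A : RelSpec.QCAlg X) where
  φ : ∀ U : X.Opens, IsGood A U → A.presheaf.obj (op U) → Γ(X, U)
  res : ∀ (U : X.Opens) (hU : IsGood A U) (f : Γ(X, U)) (hD : IsGood A (X.basicOpen f))
    (a : A.presheaf.obj (op U)),
    X.presheaf.map (homOfLE (X.basicOpen_le f)).op (φ U hU a) =
      φ (X.basicOpen f) hD (A.presheaf.map (homOfLE (X.basicOpen_le f)).op a)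

variable {A : RelSpec.QCAlg X}

lemma LocFamily.res' (F : LocFamily A) {U D : X.Opens} (hU : IsGood A U) (f : Γ(X, U))
    (hD : D = X.basicOpen f) (hDg : IsGood A D) (i : D ⟶ U) (a : A.presheaf.obj (op U)) :
    X.presheaf.map i.op (F.φ U hU a) = F.φ D hDg (A.presheaf.map i.op a) := by
  subst hD
  exact F.res U hU f hDg a

/-- the trace on the good opens. -/
noncomputable def traceFamily (A : RelSpec.QCAlg X) : LocFamily A where
  φ U _ a := letI := algSect A U; Algebra.trace Γ(X, U) (A.presheaf.obj (op U)) a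
  res U hU f _ a := ((basicOpen_data A hU f).2.1 a).symm

/-- the norm on the good opens. -/
noncomputable def normFamily (A : RelSpec.QCAlg X) : LocFamily A where
  φ U _ a := letI := algSect A U; Algebra.norm Γ(X, U) a
  res U hU f _ a := ((basicOpen_data A hU f).2.2 a).symm

variable (F : LocFamily A) (hB : Opens.IsBasis {U : X.Opens | IsGood A U})

include hB in
lemma exists_unique_glue (U : X.Opens) (a : A.presheaf.obj (op U)) :
    ∃! t : Γ(X, U), ∀ (W : X.Opens) (hW : IsGood A W) (i : W ⟶ U),
      X.presheaf.map i.op t = F.φ W hW (A.presheaf.map i.op a) := by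
  classical
  let ι := {W : X.Opens // IsGood A W ∧ W ≤ U}
  let V : ι → X.Opens := fun i => i.1
  have hcover : U ≤ iSup V := by
    intro x hx
    obtain ⟨W, hWg, hxW, hWU⟩ := Opens.isBasis_iff_nbhd.1 hB hx
    exact Opens.mem_iSup.2 ⟨⟨W, hWg, hWU⟩, hxW⟩
  let sf : ∀ i : ι, Γ(X, V i) := fun i => F.φ i.1 i.2.1 (A.presheaf.map (homOfLE i.2.2).op a)
  have hcompat : TopCat.Presheaf.IsCompatible X.presheaf V sf := by
    intro i j
    apply sec_ext_local
    intro x hx
    obtain ⟨f, g, hfg, hxf⟩ := exists_basicOpen_le_affine_inter i.2.1.1 j.2.1.1 x hx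
    have hDi : X.basicOpen f ≤ i.1 := X.basicOpen_le f
    have hDj : X.basicOpen f ≤ j.1 := hfg ▸ X.basicOpen_le g
    have hDg : IsGood A (X.basicOpen f) := (basicOpen_data A i.2.1 f).1
    refine ⟨X.basicOpen f, le_inf hDi hDj, hxf, ?_⟩
    have e1 := F.res' i.2.1 f rfl hDg (homOfLE hDi) (A.presheaf.map (homOfLE i.2.2).op a)
    have e2 := F.res' j.2.1 g hfg hDg (homOfLE hDj) (A.presheaf.map (homOfLE j.2.2).op a)
    rw [resA_resA A _ _ (homOfLE (hDi.trans i.2.2))] at e1
    rw [resA_resA A _ _ (homOfLE (hDi.trans i.2.2))] at e2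
    rw [resO_resO _ _ (homOfLE hDi), resO_resO _ _ (homOfLE hDj)]
    exact e1.trans e2.symm
  obtain ⟨t, ht, huniq⟩ := TopCat.Sheaf.existsUnique_gluing' X.sheaf V U
    (fun i => homOfLE i.2.2) hcover sf hcompat
  exact ⟨t, fun W hW i => ht ⟨W, hW, i.le⟩, fun t' ht' => huniq t' (fun i => ht' i.1 i.2.1 _)⟩

/-- the glued map. -/
noncomputable def glue (U : X.Opens) (a : A.presheaf.obj (op U)) : Γ(X, U) :=
  (exists_unique_glue F hB U a).choose

lemma glue_spec {U : X.Opens} (a : A.presheaf.obj (op U)) {W : X.Opens} (hW : IsGood A W)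
    (i : W ⟶ U) :
    X.presheaf.map i.op (glue F hB U a) = F.φ W hW (A.presheaf.map i.op a) :=
  (exists_unique_glue F hB U a).choose_spec.1 W hW i

lemma glue_unique {U : X.Opens} (a : A.presheaf.obj (op U)) (t : Γ(X, U))
    (ht : ∀ (W : X.Opens) (hW : IsGood A W) (i : W ⟶ U),
      X.presheaf.map i.op t = F.φ W hW (A.presheaf.map i.op a)) : t = glue F hB U a :=
  (exists_unique_glue F hB U a).choose_spec.2 t ht

lemma glue_good {U : X.Opens} (hU : IsGood A U) (a : A.presheaf.obj (op U)) :
    glue F hB U a = F.φ U hU a := by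
  have h := glue_spec F hB a hU (𝟙 U)
  rwa [resO_id, resA_id] at h

lemma glue_res {U V : X.Opens} (i : V ⟶ U) (a : A.presheaf.obj (op U)) :
    X.presheaf.map i.op (glue F hB U a) = glue F hB V (A.presheaf.map i.op a) := by
  apply glue_unique
  intro W hW j
  rw [resO_resO _ _ (j ≫ i), resA_resA A _ _ (j ≫ i)]
  exact glue_spec F hB a hW (j ≫ i)

lemma glue_add (hadd : ∀ U hU a b, F.φ U hU (a + b) = F.φ U hU a + F.φ U hU b)
    (U : X.Opens) (a b : A.presheaf.obj (op U)) :
    glue F hB U (a + b) = glue F hB U a + glue F hB U b := by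
  symm
  apply glue_unique
  intro W hW i
  rw [map_add, map_add, hadd, glue_spec F hB a hW, glue_spec F hB b hW]

lemma glue_mul (hmul : ∀ U hU a b, F.φ U hU (a * b) = F.φ U hU a * F.φ U hU b)
    (U : X.Opens) (a b : A.presheaf.obj (op U)) :
    glue F hB U (a * b) = glue F hB U a * glue F hB U b := by
  symm
  apply glue_unique
  intro W hW i
  rw [map_mul, map_mul, hmul, glue_spec F hB a hW, glue_spec F hB b hW]

lemma glue_one (hone : ∀ U hU, F.φ U hU 1 = 1) (U : X.Opens) :
    glue F hB U 1 = 1 := by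
  symm
  apply glue_unique
  intro W hW i
  rw [map_one, map_one, hone]

lemma glue_smul
    (hsmul : ∀ U hU (r : Γ(X, U)) a, F.φ U hU ((A.str.app (op U)).hom r * a) = r * F.φ U hU a)
    (U : X.Opens) (r : Γ(X, U)) (a : A.presheaf.obj (op U)) :
    glue F hB U ((A.str.app (op U)).hom r * a) = r * glue F hB U a := by
  symm
  apply glue_unique
  intro W hW i
  rw [map_mul, map_mul, ← str_res, hsmul, glue_spec F hB a hW]

/-- the glued map as an additive map. -/
noncomputable def glueAddHom (hadd : ∀ U hU a b, F.φ U hU (a + b) = F.φ U hU a + F.φ U hU b)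
    (U : X.Opens) : A.presheaf.obj (op U) →+ Γ(X, U) :=
  AddMonoidHom.mk' (glue F hB U) (glue_add F hB hadd U)

/-- the glued map as a morphism of modules. -/
noncomputable def glueHom (hadd : ∀ U hU a b, F.φ U hU (a + b) = F.φ U hU a + F.φ U hU b)
    (hsmul : ∀ U hU (r : Γ(X, U)) a, F.φ U hU ((A.str.app (op U)).hom r * a) = r * F.φ U hU a) :
    A.toModule ⟶ Coh.structureModule X :=
  ⟨letI := A.moduleSect
   PresheafOfModules.homMk
    { app := fun U => AddCommGrpCat.ofHom (glueAddHom F hB hadd U.unop)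
      naturality := fun U V i => by
        ext s
        exact (glue_res F hB i.unop s).symm }
    (fun U r s => glue_smul F hB hsmul U.unop r s)⟩

lemma glueHom_app (hadd : ∀ U hU a b, F.φ U hU (a + b) = F.φ U hU a + F.φ U hU b)
    (hsmul : ∀ U hU (r : Γ(X, U)) a, F.φ U hU ((A.str.app (op U)).hom r * a) = r * F.φ U hU a)
    (U : X.Opens) (a : A.presheaf.obj (op U)) :
    ((glueHom F hB hadd hsmul).val.app (op U)).hom a = glue F hB U a := rfl

end Geometry

end Groth.Agent.Helper28.GlueGood
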