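import Mathlib
import Groth.Prelude.Def_Fitting
import Groth.Prelude.Def_Mor2
import Groth.Agent.Lib.Helper28.GlueGood
import Groth.Agent.Lib.Helper28.FinrankKey

/-!
# The norm of a finite locally free morphism of constant degree
-/

set_option autoImplicit false
universe u
open CategoryTheory CategoryTheory.Limits AlgebraicGeometry Opposite TopologicalSpace
open Module

namespace Groth.Agent.Helper28.NormCover

open Groth.Agent.Helper13.PushFinite Groth.Agent.Helper13.PushFinLocFree
open Groth.Agent.Helper13.LocFree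
open Groth.Agent.Helper28.GlueGood Groth.Agent.Helper28.FinrankKey

variable {X Y : Scheme.{u}} (π : X ⟶ Y) [IsFinite π] [Flat π] [LocallyOfFinitePresentation π]

/-- the direct image algebra. -/
noncomputable abbrev dirAlg : RelSpec.QCAlg Y := RelSpec.QCAlg.directImage π

/-- the affine opens over which `π_* O_X` is free of rank `d`. -/
def rankOpens (d : ℕ) : Set Y.Opens :=
  {W | IsAffineOpen W ∧ (letI := algApp π W; Nonempty (Basis (Fin d) Γ(Y, W) Γ(X, π ⁻¹ᵁ W)))}

lemma isBasis_rankOpens (d : ℕ) (hd : ∀ y, π.finrank y = d) : Opens.IsBasis (rankOpens π d) := by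
  rw [Opens.isBasis_iff_nbhd]
  intro U y hyU
  obtain ⟨hA, hN⟩ := (affine_finLocFree_iff π).2 ⟨inferInstance, inferInstance, inferInstance⟩
  obtain ⟨W, n, hyW, ⟨e⟩⟩ := hN y
  obtain ⟨_, ⟨V, hV, rfl⟩, hyV, hVUW⟩ := Y.isBasis_affineOpens.exists_subset_of_mem_open
    (show y ∈ ((U ⊓ W : Y.Opens) : Set Y) from ⟨hyU, hyW⟩) (U ⊓ W).2
  have hVU : V ≤ U := fun z hz => (hVUW hz).1
  have hVW : V ≤ W := fun z hz => (hVUW hz).2
  obtain ⟨b⟩ := nonempty_basis_of_restrict_iso _ e hVW
  letI := algApp π V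
  have hn : π.finrank y = n := finrank_eq_of_basis π hV y hyV (b.map (pushUnitEquiv π V))
  rw [hd y] at hn
  subst hn
  exact ⟨V, ⟨hV, ⟨b.map (pushUnitEquiv π V)⟩⟩, hyV, hVU⟩

lemma isGood_of_mem_rankOpens {d : ℕ} {W : Y.Opens} (hW : W ∈ rankOpens π d) :
    IsGood (dirAlg π) W := by
  obtain ⟨hWa, ⟨b⟩⟩ := hW
  letI := algSect (dirAlg π) W
  let b' : Basis (Fin d) Γ(Y, W) ((dirAlg π).presheaf.obj (op W)) := b
  exact ⟨hWa, Module.Free.of_basis b', Module.Finite.of_basis b'⟩

lemma isBasis_isGood (d : ℕ) (hd : ∀ y, π.finrank y = d) :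
    Opens.IsBasis {U : Y.Opens | IsGood (dirAlg π) U} := by
  rw [Opens.isBasis_iff_nbhd]
  intro U y hyU
  obtain ⟨V, hV, hyV, hVU⟩ := Opens.isBasis_iff_nbhd.1 (isBasis_rankOpens π d hd) hyU
  exact ⟨V, isGood_of_mem_rankOpens π hV, hyV, hVU⟩

/-- the norm maps. -/
noncomputable def normHom (hB : Opens.IsBasis {U : Y.Opens | IsGood (dirAlg π) U}) (U : Y.Opens) :
    Γ(X, π ⁻¹ᵁ U) →* Γ(Y, U) where
  toFun := glue (normFamily (dirAlg π)) hB U
  map_one' := glue_one _ hB (fun U _ => by
    letI := algSect (dirAlg π) U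
    exact map_one (Algebra.norm Γ(Y, U))) U
  map_mul' := glue_mul _ hB (fun U _ a b => by
    letI := algSect (dirAlg π) U
    exact map_mul (Algebra.norm Γ(Y, U)) a b) U

lemma normHom_apply (hB : Opens.IsBasis {U : Y.Opens | IsGood (dirAlg π) U}) (U : Y.Opens)
    (s : Γ(X, π ⁻¹ᵁ U)) : normHom π hB U s = glue (normFamily (dirAlg π)) hB U s := rfl

theorem hasNorm (d : ℕ) (hd1 : 1 ≤ d) (hd : ∀ y, π.finrank y = d) : Nrm.HasNorm π d := by
  have hB := isBasis_isGood π d hd
  have hBd := isBasis_rankOpens π d hd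
  refine ⟨{ one_le := hd1, norm := normHom π hB, norm_res := ?_, norm_app := ?_, norm_mem := ?_ }⟩
  · intro U V i s
    exact glue_res (normFamily (dirAlg π)) hB i s
  · intro U g
    apply sec_eq_of_isBasis hBd
    rintro W hW i
    have hWg := isGood_of_mem_rankOpens π hW
    obtain ⟨hWa, ⟨b⟩⟩ := hW
    rw [map_pow]
    refine (glue_spec (normFamily (dirAlg π)) hB _ hWg i).trans ?_
    have e : (dirAlg π).presheaf.map i.op (π.app U g) = π.app W (Y.presheaf.map i.op g) :=
      (str_res (dirAlg π) i g).symm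
    rw [e]
    letI := algSect (dirAlg π) W
    let b' : Basis (Fin d) Γ(Y, W) ((dirAlg π).presheaf.obj (op W)) := b
    have h := Algebra.norm_algebraMap_of_basis b' (Y.presheaf.map i.op g)
    rw [Fintype.card_fin] at h
    exact h
  · intro U s x hx hs
    by_contra hns
    have hu : IsUnit (Y.presheaf.germ U (π.base x) hx (normHom π hB U s)) :=
      IsLocalRing.notMem_maximalIdeal.1 hns
    have hy : π.base x ∈ Y.basicOpen (normHom π hB U s) :=
      (Y.mem_basicOpen _ _ hx).2 hu
    obtain ⟨W, hWg, hyW, hWD⟩ := Opens.isBasis_iff_nbhd.1 hB hy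
    have hWU : W ≤ U := hWD.trans (Y.basicOpen_le _)
    -- the norm is a unit over `W`
    have hunit : IsUnit (Y.presheaf.map (homOfLE hWU).op (normHom π hB U s)) := by
      have h1 := RingedSpace.isUnit_res_basicOpen Y.toRingedSpace (normHom π hB U s)
      have h2 := h1.map (Y.presheaf.map (homOfLE hWD).op).hom
      have h3 := resO_resO (X := Y) (homOfLE (Y.basicOpen_le (normHom π hB U s))) (homOfLE hWD)
        (homOfLE hWU) (normHom π hB U s)
      rw [← h3]
      exact h2
    rw [normHom_apply, glue_spec (normFamily (dirAlg π)) hB s hWg (homOfLE hWU)] at hunit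
    obtain ⟨hWa, hfree, hfin⟩ := hWg
    letI := algSect (dirAlg π) W
    haveI := hfree
    haveI := hfin
    have hsu : IsUnit ((dirAlg π).presheaf.map (homOfLE hWU).op s) :=
      isUnit_of_isUnit_norm (R := Γ(Y, W)) _ hunit
    have hxW : x ∈ π ⁻¹ᵁ W := hyW
    have hg := hsu.map (X.presheaf.germ (π ⁻¹ᵁ W) x hxW).hom
    have hres := TopCat.Presheaf.germ_res_apply X.presheaf
      ((Opens.map π.base).map (homOfLE hWU)) x hxW s
    have hg' : IsUnit (X.presheaf.germ (π ⁻¹ᵁ U) x hx s) := by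
      rw [← hres]
      exact hg
    exact ((IsLocalRing.mem_maximalIdeal _).1 hs) hg'

end Groth.Agent.Helper28.NormCover
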