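import Mathlib
import Groth.Agent.Lib.Helper17.MP1

/-!
# Pushforward of modules along a closed immersion is a left adjoint

The pushforward of abelian sheaves along a closed embedding preserves colimits (checked on
stalks); by the special adjoint functor theorem the pushforward of modules has a right adjoint.
-/

set_option autoImplicit false
universe u
open CategoryTheory CategoryTheory.Limits TopologicalSpace Opposite AlgebraicGeometry
open Groth.Agent.Helper17.MP

namespace Groth.Agent.Helper28.PushClosedAdj

section General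

variable {C : Type u} [SmallCategory C] {D : Type u} [SmallCategory D]

/-- If the pushforward of abelian sheaves preserves colimits, the pushforward of sheaves of
modules is a left adjoint. -/
theorem isLeftAdjoint_pushforward_of_preservesColimits
    (J : GrothendieckTopology C) (K : GrothendieckTopology D) (F : C ⥤ D)
    [F.IsContinuous J K]
    {S : Sheaf J RingCat.{u}} {R : Sheaf K RingCat.{u}}
    (φ : S ⟶ (F.sheafPushforwardContinuous RingCat.{u} J K).obj R)
    [PreservesColimitsOfSize.{u, u} (F.sheafPushforwardContinuous AddCommGrpCat.{u} J K)] :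
    (SheafOfModules.pushforward.{u} φ).IsLeftAdjoint := by
  have e : SheafOfModules.pushforward.{u} φ ⋙ SheafOfModules.toSheaf S ≅
      SheafOfModules.toSheaf R ⋙ F.sheafPushforwardContinuous AddCommGrpCat.{u} J K :=
    Iso.refl _
  have : PreservesColimitsOfSize.{u, u}
      (SheafOfModules.pushforward.{u} φ ⋙ SheafOfModules.toSheaf S) :=
    preservesColimits_of_natIso e.symm
  have : ReflectsColimitsOfSize.{u, u} (SheafOfModules.toSheaf.{u} S) :=
    reflectsColimits_of_reflectsIsomorphisms
  have : PreservesColimitsOfSize.{u, u} (SheafOfModules.pushforward.{u} φ) :=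
    preservesColimits_of_reflects_of_preserves _ (SheafOfModules.toSheaf.{u} S)
  exact isLeftAdjoint_of_preservesColimits_of_isSeparating (isSeparating_sepProp R) _

/-- A functor all of whose values are zero objects preserves colimits. -/
theorem preservesColimit_of_isZero {A B : Type*} [Category A] [Category B] (H : A ⥤ B)
    (hH : ∀ a, IsZero (H.obj a)) {J : Type*} [Category J] (K : J ⥤ A) :
    PreservesColimit K H := by
  refine ⟨fun {c} _ => ⟨?_⟩⟩
  exact
    { desc := fun s => (hH c.pt).to_ s.pt
      fac := fun s j => (hH (K.obj j)).eq_of_src _ _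
      uniq := fun s m _ => (hH c.pt).eq_of_src _ _ }

end General

section Top

/-- A functor to sheaves of abelian groups preserves a colimit if it does so after taking all
stalks. -/
theorem preservesColimit_of_stalks {X : TopCat.{u}} {A : Type*} [Category A]
    (G : A ⥤ TopCat.Sheaf Ab.{u} X) {J : Type u} [SmallCategory J] (K : J ⥤ A)
    (h : ∀ x : X, PreservesColimit K
      (G ⋙ TopCat.Sheaf.forget Ab.{u} X ⋙ TopCat.Presheaf.stalkFunctor Ab.{u} x)) :
    PreservesColimit K G := by
  classical
  refine ⟨fun {c} hc => ⟨?_⟩⟩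
  haveI : IsIso ((colimit.isColimit (K ⋙ G)).desc (G.mapCocone c)) := by
    haveI : ∀ x : X, IsIso ((TopCat.Presheaf.stalkFunctor Ab.{u} x).map
        ((colimit.isColimit (K ⋙ G)).desc (G.mapCocone c)).1) := by
      intro x
      let Φ : TopCat.Sheaf Ab.{u} X ⥤ Ab.{u} :=
        TopCat.Sheaf.forget Ab.{u} X ⋙ TopCat.Presheaf.stalkFunctor Ab.{u} x
      haveI : PreservesColimitsOfSize.{u, u} Φ :=
        (stalkSkyscraperSheafAdjunction x).leftAdjoint_preservesColimits
      have h1 : IsColimit (Φ.mapCocone (colimit.cocone (K ⋙ G))) :=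
        isColimitOfPreserves Φ (colimit.isColimit _)
      haveI := h x
      have h2 : IsColimit (Φ.mapCocone (G.mapCocone c)) := isColimitOfPreserves (G ⋙ Φ) hc
      have h3 : Φ.map ((colimit.isColimit (K ⋙ G)).desc (G.mapCocone c)) =
          h1.desc (Φ.mapCocone (G.mapCocone c)) := by
        apply h1.hom_ext
        intro j
        rw [h1.fac]
        change Φ.map _ ≫ Φ.map _ = Φ.map _
        rw [← Φ.map_comp, (colimit.isColimit (K ⋙ G)).fac]
      change IsIso (Φ.map ((colimit.isColimit (K ⋙ G)).desc (G.mapCocone c)))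
      rw [h3]
      exact (h1.coconePointUniqueUpToIso h2).isIso_hom
    exact TopCat.Presheaf.isIso_of_stalkFunctor_map_iso _
  exact IsColimit.ofPointIso (colimit.isColimit (K ⋙ G))

variable {Z X : TopCat.{u}} (i : Z ⟶ X)

/-- pushforward of abelian sheaves -/
noncomputable abbrev pushAb : TopCat.Sheaf Ab.{u} Z ⥤ TopCat.Sheaf Ab.{u} X :=
  (Opens.map i).sheafPushforwardContinuous AddCommGrpCat.{u}
    (Opens.grothendieckTopology X) (Opens.grothendieckTopology Z)

/-- The stalk of a pushforward sheaf vanishes at points with a neighbourhood missing the image. -/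
theorem isZero_stalk_pushforward (F : TopCat.Sheaf Ab.{u} Z) (x : X)
    (hx : ∃ V : Opens X, x ∈ V ∧ ∀ z, i z ∉ V) :
    IsZero ((TopCat.Presheaf.stalkFunctor Ab.{u} x).obj (i _* F.1)) := by
  obtain ⟨V, hxV, hV⟩ := hx
  suffices h0 : ∀ z : ((i _* F.1).stalk x), z = 0 by
    refine @AddCommGrpCat.isZero_of_subsingleton _ ⟨fun a b => ?_⟩
    exact (h0 a).trans (h0 b).symm
  intro z
  obtain ⟨U, hxU, s, rfl⟩ := TopCat.Presheaf.exists_germ_eq (i _* F.1) z
  have hxUV : x ∈ U ⊓ V := ⟨hxU, hxV⟩
  have h5 := TopCat.Presheaf.germ_res_apply (i _* F.1) (homOfLE (inf_le_left : U ⊓ V ≤ U)) x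
    hxUV s
  rw [← h5]
  have hs0 : (i _* F.1).map (homOfLE (inf_le_left : U ⊓ V ≤ U)).op s = 0 := by
    refine TopCat.Presheaf.section_ext F ((Opens.map i).obj (U ⊓ V)) _ _ ?_
    intro y hy
    exact absurd hy.2 (hV y)
  rw [hs0, map_zero]

/-- the stalk of a pushforward along an inducing map -/
noncomputable def stalkPushIso (hi : Topology.IsInducing i) (z : Z) :
    pushAb i ⋙ TopCat.Sheaf.forget Ab.{u} X ⋙ TopCat.Presheaf.stalkFunctor Ab.{u} (i z) ≅
      TopCat.Sheaf.forget Ab.{u} Z ⋙ TopCat.Presheaf.stalkFunctor Ab.{u} z :=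
  NatIso.ofComponents
    (fun F =>
      @asIso _ _ _ _ (TopCat.Presheaf.stalkPushforward Ab.{u} i F.1 z)
        (TopCat.Presheaf.stalkPushforward.stalkPushforward_iso_of_isInducing Ab.{u} hi F.1 z))
    (by
      intro F F' α
      apply TopCat.Presheaf.stalk_hom_ext
      intro U hU
      dsimp only [Functor.comp_map, asIso_hom, Functor.comp_obj]
      erw [TopCat.Presheaf.stalkFunctor_map_germ_assoc, TopCat.Presheaf.stalkPushforward_germ,
        TopCat.Presheaf.stalkPushforward_germ_assoc, TopCat.Presheaf.stalkFunctor_map_germ]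
      rfl)

theorem preservesColimits_pushAb (hi : Topology.IsClosedEmbedding i) :
    PreservesColimitsOfSize.{u, u} (pushAb i) := by
  classical
  refine ⟨fun {J} _ => ⟨fun {K} => ?_⟩⟩
  apply preservesColimit_of_stalks
  intro x
  by_cases hx : x ∈ Set.range i
  · obtain ⟨z, rfl⟩ := hx
    haveI : PreservesColimitsOfSize.{u, u}
        (TopCat.Sheaf.forget Ab.{u} Z ⋙ TopCat.Presheaf.stalkFunctor Ab.{u} z) :=
      (stalkSkyscraperSheafAdjunction z).leftAdjoint_preservesColimits
    haveI : PreservesColimitsOfSize.{u, u} (pushAb i ⋙ TopCat.Sheaf.forget Ab.{u} X ⋙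
        TopCat.Presheaf.stalkFunctor Ab.{u} (i z)) :=
      preservesColimits_of_natIso (stalkPushIso i hi.isInducing z).symm
    infer_instance
  · apply preservesColimit_of_isZero
    intro F
    exact isZero_stalk_pushforward i F x
      ⟨⟨(Set.range i)ᶜ, hi.isClosed_range.isOpen_compl⟩, hx, fun z hz => hz ⟨z, rfl⟩⟩

end Top

/-- The pushforward of modules along a closed immersion of schemes is a left adjoint. -/
theorem pushforward_isLeftAdjoint {Z X : Scheme.{u}} (i : Z ⟶ X) [IsClosedImmersion i] :
    (Scheme.Modules.pushforward i).IsLeftAdjoint := by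
  haveI : PreservesColimitsOfSize.{u, u} ((Opens.map i.base).sheafPushforwardContinuous
      AddCommGrpCat.{u} (Opens.grothendieckTopology X) (Opens.grothendieckTopology Z)) :=
    preservesColimits_pushAb i.base i.isClosedEmbedding
  exact isLeftAdjoint_pushforward_of_preservesColimits (Opens.grothendieckTopology X)
    (Opens.grothendieckTopology Z) (Opens.map i.base) i.toRingCatSheafHom

end Groth.Agent.Helper28.PushClosedAdj
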