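import Mathlib
import Groth.Prelude.Def_Coh

/-!
# Helper28: global functions on a proper geometrically reduced, geometrically connected scheme
over a field are the constants.
-/

set_option autoImplicit false
open CategoryTheory Opposite AlgebraicGeometry TopologicalSpace Limits Polynomial
universe u
namespace Groth.Agent.Helper28.H0Const

/-- Over an algebraically closed field `K`, an element of a reduced `K`-algebra with only trivial
idempotents which is killed by a nonzero polynomial is a constant. -/
theorem mem_range_of_aeval_eq_zero {K B : Type*} [Field K] [IsAlgClosed K] [CommRing B]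
    [Algebra K B] [IsReduced B] (hidem : ∀ e : B, e * e = e → e = 0 ∨ e = 1) (b : B) :
    ∀ (n : ℕ) (p : K[X]), p.natDegree = n → p ≠ 0 → aeval b p = 0 →
      b ∈ Set.range (algebraMap K B) := by
  intro n
  induction n with
  | zero =>
    intro p hn hp h0
    rw [Polynomial.eq_C_of_natDegree_eq_zero hn] at h0 hp
    have hc : p.coeff 0 ≠ 0 := fun h => hp (by rw [h, map_zero])
    rw [aeval_C] at h0
    have h1 : (1 : B) = 0 := by
      have : algebraMap K B ((p.coeff 0)⁻¹ * p.coeff 0) = 0 := by
        rw [map_mul, h0, mul_zero]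
      rwa [inv_mul_cancel₀ hc, map_one] at this
    haveI : Subsingleton B := subsingleton_of_zero_eq_one h1.symm
    exact ⟨0, Subsingleton.elim _ _⟩
  | succ n ih =>
    intro p hn hp h0
    have hdeg : p.degree ≠ 0 := by
      intro h
      have h2 : p.natDegree = 0 := Polynomial.natDegree_eq_of_degree_eq_some h
      rw [hn] at h2
      exact Nat.succ_ne_zero n h2
    obtain ⟨a, ha⟩ := IsAlgClosed.exists_root p hdeg
    have hpq : (X - C a) * (p /ₘ (X - C a)) = p := Polynomial.mul_divByMonic_eq_iff_isRoot.2 ha
    set q := p /ₘ (X - C a) with hq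
    have hqn : q.natDegree = n := by
      rw [hq, Polynomial.natDegree_divByMonic _ (monic_X_sub_C a), hn, natDegree_X_sub_C]
      rfl
    have hq0 : q ≠ 0 := by
      intro h
      apply hp
      rw [← hpq, h, mul_zero]
    set β : B := b - algebraMap K B a with hβ
    set z : B := aeval b q with hz
    have hβz : β * z = 0 := by
      rw [← h0, ← hpq, map_mul, map_sub, aeval_X, aeval_C]
    by_cases hc : q.eval a = 0
    · -- double root: use reducedness
      have hqq : (X - C a) * (q /ₘ (X - C a)) = q := Polynomial.mul_divByMonic_eq_iff_isRoot.2 hc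
      have hz2 : z = β * aeval b (q /ₘ (X - C a)) := by
        rw [hz]
        conv_lhs => rw [← hqq]
        rw [map_mul, map_sub, aeval_X, aeval_C]
      have hz0 : z = 0 := by
        apply IsNilpotent.eq_zero
        refine ⟨2, ?_⟩
        rw [pow_two]
        nth_rewrite 1 [hz2]
        rw [mul_comm β, mul_assoc, hβz, mul_zero]
      exact ih q hqn hq0 hz0
    · -- simple root: idempotent argument
      set c := q.eval a with hcdef
      have hdecomp : C c + (X - C a) * (q /ₘ (X - C a)) = q := by
        have := Polynomial.modByMonic_add_div q (X - C a)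
        rwa [Polynomial.modByMonic_X_sub_C_eq_C_eval] at this
      set ρ : B := aeval b (q /ₘ (X - C a)) with hρ
      have hzdec : z = algebraMap K B c + β * ρ := by
        rw [hz]
        conv_lhs => rw [← hdecomp]
        rw [map_add, map_mul, map_sub, aeval_X, aeval_C, aeval_C]
      have hcc : algebraMap K B c⁻¹ * algebraMap K B c = 1 := by
        rw [← map_mul, inv_mul_cancel₀ hc, map_one]
      set e : B := algebraMap K B c⁻¹ * z with he
      have hzz : z * z = algebraMap K B c * z := by
        nth_rewrite 2 [hzdec]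
        rw [mul_add, mul_comm z (β * ρ), mul_assoc, mul_comm ρ z, ← mul_assoc, hβz, zero_mul,
          add_zero, mul_comm]
      have hee : e * e = e := by
        rw [he]
        calc algebraMap K B c⁻¹ * z * (algebraMap K B c⁻¹ * z)
            = algebraMap K B c⁻¹ * algebraMap K B c⁻¹ * (z * z) := by ring
          _ = algebraMap K B c⁻¹ * (algebraMap K B c⁻¹ * algebraMap K B c) * z := by
              rw [hzz]; ring
          _ = algebraMap K B c⁻¹ * z := by rw [hcc, mul_one]
      rcases hidem e hee with h | h
      · have hz0 : z = 0 := by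
          have : algebraMap K B c * e = z := by
            rw [he, ← mul_assoc, mul_comm (algebraMap K B c), hcc, one_mul]
          rw [← this, h, mul_zero]
        exact ih q hqn hq0 hz0
      · have hβ0 : β = 0 := by
          calc β = β * e := by rw [h, mul_one]
            _ = algebraMap K B c⁻¹ * (β * z) := by rw [he]; ring
            _ = 0 := by rw [hβz, mul_zero]
        exact ⟨a, (sub_eq_zero.1 hβ0).symm⟩

/-- An integral ring map from an algebraically closed field to a reduced ring with only trivial
idempotents is surjective. -/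
theorem surjective_of_isIntegral {K B : Type*} [Field K] [IsAlgClosed K] [CommRing B]
    [IsReduced B] (φ : K →+* B) (hφ : φ.IsIntegral)
    (hidem : ∀ e : B, e * e = e → e = 0 ∨ e = 1) : Function.Surjective φ := by
  letI := φ.toAlgebra
  intro b
  obtain ⟨p, hp, hpb⟩ := hφ b
  have h0 : aeval b p = 0 := by
    rw [Polynomial.aeval_def]
    exact hpb
  obtain ⟨a, ha⟩ := mem_range_of_aeval_eq_zero hidem b _ p rfl hp.ne_zero h0
  exact ⟨a, ha⟩

/-- On a reduced connected scheme the only idempotent global functions are `0` and `1`. -/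
theorem idem_of_connected (Y : Scheme.{u}) [IsReduced Y] [ConnectedSpace Y] (e : Γ(Y, ⊤))
    (he : e * e = e) : e = 0 ∨ e = 1 := by
  have hdisj : Y.basicOpen e ⊓ Y.basicOpen (1 - e) = ⊥ := by
    rw [← Scheme.basicOpen_mul]
    have : e * (1 - e) = 0 := by rw [mul_sub, mul_one, he, sub_self]
    rw [this, Scheme.basicOpen_zero]
  have hcov : ∀ x : Y, x ∈ Y.basicOpen e ∨ x ∈ Y.basicOpen (1 - e) := by
    intro x
    rw [Scheme.mem_basicOpen_top, Scheme.mem_basicOpen_top, map_sub, map_one]
    exact IsLocalRing.isUnit_or_isUnit_one_sub_self _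
  have hcompl : ((Y.basicOpen e : Opens Y) : Set Y)ᶜ = (Y.basicOpen (1 - e) : Set Y) := by
    ext x
    constructor
    · intro hx
      exact (hcov x).resolve_left hx
    · intro hx hx'
      have : x ∈ Y.basicOpen e ⊓ Y.basicOpen (1 - e) := ⟨hx', hx⟩
      rw [hdisj] at this
      exact this
  have hclopen : IsClopen ((Y.basicOpen e : Opens Y) : Set Y) := by
    refine ⟨?_, (Y.basicOpen e).2⟩
    rw [← isOpen_compl_iff, hcompl]
    exact (Y.basicOpen (1 - e)).2
  rcases isClopen_iff.1 hclopen with h | h
  · left
    apply (basicOpen_eq_bot_iff e).1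
    ext x
    rw [h]
    rfl
  · right
    have h2 : (Y.basicOpen (1 - e) : Set Y) = ∅ := by
      rw [← hcompl, h, Set.compl_univ]
    have : 1 - e = 0 := by
      apply (basicOpen_eq_bot_iff (1 - e)).1
      ext x
      rw [h2]
      rfl
    exact (sub_eq_zero.1 this).symm


section H0
variable (X : Scheme.{u})

/-- `H^0(X, O_X) ≃ Γ(X, ⊤)`, additive (as in Helper22.AlbTriv). -/
noncomputable def h0Equiv : Coh.HH X (Coh.structureModule X) 0 ≃+ Coh.Γtop X :=
  Sheaf.H.equiv₀ (Coh.toAb (Coh.structureModule X)) (isTerminalTop : IsTerminal (⊤ : Opens X))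

theorem resTop_top (r : Coh.Γtop X) : Coh.resTop X (op ⊤) r = r := by
  have h : (homOfLE (le_top (a := (op (⊤ : Opens X)).unop))).op = 𝟙 (op (⊤ : Opens X)) :=
    Subsingleton.elim _ _
  change (X.ringCatSheaf.obj.map (homOfLE (le_top (a := (op (⊤ : Opens X)).unop))).op).hom r = r
  rw [h, X.ringCatSheaf.obj.map_id]
  rfl

theorem h0Equiv_smul (r : Coh.Γtop X) (x : Coh.HH X (Coh.structureModule X) 0) :
    h0Equiv X (r • x) = r * h0Equiv X x := by
  have h := Sheaf.H.equiv₀_naturality (Coh.smulAb (Coh.structureModule X) r)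
    (hT := (isTerminalTop : IsTerminal (⊤ : Opens X))) x
  have h2 : h0Equiv X (r • x) =
      (Coh.smulAb (Coh.structureModule X) r).hom.app (op ⊤) (h0Equiv X x) := h.symm
  rw [h2]
  have h3 := Coh.smulAb_app (Coh.structureModule X) r (op ⊤) (h0Equiv X x)
  refine h3.trans ?_
  change Coh.resTop X (op ⊤) r * (h0Equiv X x) = r * h0Equiv X x
  rw [resTop_top]

end H0

open TensorProduct in
/-- In a pushout square of rings over fields `R → L`, if `L → B = L ⊗[R] A` is bijective then
`R → A` is surjective (and `A` is nontrivial). -/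
theorem surjective_of_isPushout {R L : Type u} [Field R] [Field L] {A B : CommRingCat.{u}}
    (a : CommRingCat.of R ⟶ A) (l : CommRingCat.of R ⟶ CommRingCat.of L) (a' : A ⟶ B)
    (l' : CommRingCat.of L ⟶ B) (h : IsPushout a l a' l') (hl' : Function.Bijective l'.hom) :
    Function.Surjective a.hom ∧ Nontrivial A := by
  letI : Algebra R A := a.hom.toAlgebra
  letI : Algebra R L := l.hom.toAlgebra
  have h2 : IsPushout a l
      (CommRingCat.ofHom (S := L ⊗[R] A) Algebra.TensorProduct.includeRight.toRingHom)
      (CommRingCat.ofHom (S := L ⊗[R] A) Algebra.TensorProduct.includeLeftRingHom) :=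
    (CommRingCat.isPushout_tensorProduct R L A).flip
  have he : l' ≫ (h2.isoIsPushout _ _ h).inv =
      CommRingCat.ofHom (S := L ⊗[R] A) Algebra.TensorProduct.includeLeftRingHom :=
    IsPushout.inr_isoIsPushout_inv _ _ h2 h
  have hbij : Function.Bijective (algebraMap L (L ⊗[R] A)) := by
    have hh : (algebraMap L (L ⊗[R] A) : L → L ⊗[R] A) =
        (h2.isoIsPushout _ _ h).inv.hom ∘ l'.hom := by
      ext x
      exact (congrArg (fun m => m.hom x) he).symm
    rw [hh]
    exact (ConcreteCategory.bijective_of_isIso (h2.isoIsPushout _ _ h).inv).comp hl'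
  have hfr : Module.finrank L (L ⊗[R] A) = 1 := by
    rw [← (LinearEquiv.ofBijective (Algebra.linearMap L (L ⊗[R] A)) hbij).finrank_eq,
      Module.finrank_self]
  rw [Module.finrank_baseChange] at hfr
  haveI : Nontrivial A := Module.nontrivial_of_finrank_pos (R := R) (by omega)
  refine ⟨?_, inferInstance⟩
  intro w
  obtain ⟨c, hc⟩ := (finrank_eq_one_iff_of_nonzero' (1 : A) one_ne_zero).1 hfr w
  refine ⟨c, ?_⟩
  rw [← hc, Algebra.smul_def, mul_one]
  rfl


/-- Global functions on a proper, geometrically reduced, geometrically connected scheme over a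
field `k` are the constants. -/
theorem toGlobal_surjective (k : Type u) [Field k] (X : Scheme.{u})
    (f : X ⟶ Spec (CommRingCat.of k)) [IsProper f] [GeometricallyReduced f]
    [GeometricallyConnected f] :
    Function.Surjective (Coh.toGlobal f) ∧ Nontrivial Γ(X, ⊤) := by
  let K := AlgebraicClosure k
  let φ : CommRingCat.of k ⟶ CommRingCat.of K := CommRingCat.ofHom (algebraMap k K)
  have H : IsPullback (pullback.fst f (Spec.map φ)) (pullback.snd f (Spec.map φ)) f (Spec.map φ) :=
    IsPullback.of_hasPullback f (Spec.map φ)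
  haveI : IsReduced (pullback f (Spec.map φ)) :=
    pullback_of_geometrically (GeometricallyReduced.geometrically_isReduced (f := f)) K (Spec.map φ)
  haveI : ConnectedSpace ↥(pullback f (Spec.map φ) : Scheme.{u}) :=
    pullback_of_geometrically (GeometricallyConnected.geometrically_connectedSpace (f := f)) K
      (Spec.map φ)
  haveI : Flat (Spec.map φ) := by
    rw [HasRingHomProperty.Spec_iff (P := @Flat)]
    exact (RingHom.flat_algebraMap_iff).2 inferInstance
  haveI : CompactSpace X := (quasiCompact_iff_compactSpace f).mp inferInstance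
  haveI : QuasiSeparatedSpace X := quasiSeparatedSpace_of_quasiSeparated f
  have hiso := isIso_pushoutSection_of_isQuasiSeparated_of_flat_right H (US := ⊤) (UT := ⊤)
    (UX := ⊤) (UY := ⊤) le_top le_top (by simp) (isAffineOpen_top _) (isAffineOpen_top _)
    isCompact_univ isQuasiSeparated_univ
  have hpo := (isIso_pushoutSection_iff H _ _ _).mp hiso
  have hpo' : IsPushout ((Scheme.ΓSpecIso (CommRingCat.of k)).inv ≫ f.appTop) φ
      (pullback.fst f (Spec.map φ)).appTop
      ((Scheme.ΓSpecIso (CommRingCat.of K)).inv ≫ (pullback.snd f (Spec.map φ)).appTop) := by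
    refine IsPushout.of_iso hpo (Scheme.ΓSpecIso (CommRingCat.of k)) (Iso.refl _)
      (Scheme.ΓSpecIso (CommRingCat.of K)) (Iso.refl _) ?_ ?_ ?_ ?_
    · simp [Scheme.Hom.appLE]
    · simp [Scheme.Hom.appLE]
    · simp [Scheme.Hom.appLE]
    · simp [Scheme.Hom.appLE]
  have hint : ((Scheme.ΓSpecIso (CommRingCat.of K)).inv ≫
      (pullback.snd f (Spec.map φ)).appTop).hom.IsIntegral := by
    have h1 := isIntegral_appTop_of_universallyClosed (pullback.snd f (Spec.map φ))
    have h2 : (Scheme.ΓSpecIso (CommRingCat.of K)).inv.hom.IsIntegral :=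
      RingHom.isIntegral_of_surjective _
        (ConcreteCategory.bijective_of_isIso (Scheme.ΓSpecIso (CommRingCat.of K)).inv).2
    exact RingHom.IsIntegral.trans _ _ h2 h1
  have hbij : Function.Bijective ((Scheme.ΓSpecIso (CommRingCat.of K)).inv ≫
      (pullback.snd f (Spec.map φ)).appTop).hom := by
    haveI : Nonempty ↥(pullback f (Spec.map φ) : Scheme.{u}) := ConnectedSpace.toNonempty
    haveI : Nontrivial Γ(pullback f (Spec.map φ), ⊤) :=
      @Scheme.component_nontrivial _ ⊤ ⟨⟨Classical.arbitrary _, trivial⟩⟩
    refine ⟨RingHom.injective _, ?_⟩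
    exact surjective_of_isIntegral _ hint (idem_of_connected _)
  exact surjective_of_isPushout _ _ _ _ hpo' hbij

/-- `H^0(X, O_X)` is one-dimensional for `X` proper, geometrically reduced and geometrically
connected over a field. -/
theorem finrank_h0 (k : Type u) [Field k] (X : Scheme.{u}) [X.Over (Spec (CommRingCat.of k))]
    [IsProper (X ↘ (Spec (CommRingCat.of k)))]
    [GeometricallyReduced (X ↘ (Spec (CommRingCat.of k)))]
    [GeometricallyConnected (X ↘ (Spec (CommRingCat.of k)))] :
    Module.finrank k (Coh.HH X (Coh.structureModule X) 0) = 1 := by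
  obtain ⟨hsurj, hnt⟩ := toGlobal_surjective k X (X ↘ (Spec (CommRingCat.of k)))
  have hsmul : ∀ (c : k) (x : Coh.HH X (Coh.structureModule X) 0),
      h0Equiv X (c • x) = Coh.toGlobal (X ↘ Spec (CommRingCat.of k)) c * h0Equiv X x :=
    fun c x => h0Equiv_smul X _ x
  have hune : (h0Equiv X).symm 1 ≠ 0 := by
    intro hu0
    have h10 : (1 : Coh.Γtop X) = 0 := by
      have := congrArg (h0Equiv X) hu0
      rwa [AddEquiv.apply_symm_apply, map_zero] at this
    exact one_ne_zero (α := Γ(X, ⊤)) h10
  rw [finrank_eq_one_iff_of_nonzero' _ hune]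
  intro w
  obtain ⟨c, hc⟩ := hsurj (h0Equiv X w)
  refine ⟨c, ?_⟩
  apply (h0Equiv X).injective
  rw [hsmul, AddEquiv.apply_symm_apply, mul_one, hc]

end Groth.Agent.Helper28.H0Const
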