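import Mathlib
import Groth.Agent.Lib.Lead.Depth17

/-!
# Depth of duals and reflexive modules

* `one_le_idealDepth_iff`: `1 ≤ depth_I M ↔ (0 :_M I) = 0` (finite module over a Noetherian ring).
* `eq_zero_of_pow_smul`: `(0 :_M I) = 0` and `I ^ n • x = 0` imply `x = 0`.
* `exists_pow_smul_eq_zero`: an element killed locally off `V(I)` is killed by a power of `I`.
* `one_le_idealDepth_hom`, `two_le_idealDepth_hom`: `depth_I Hom(N, A) ≥ min(2, depth_I A)`.
* `D`, `DD`, `DD_eval`: localisation of the double dual (after helper10's S6871).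
-/

set_option autoImplicit false
set_option linter.style.haveILetI false
universe u v
open CategoryTheory Abelian LocCoh Pointwise

namespace Groth.Agent.Helper28.ReflDepth

open Groth.Agent.Lead.Depth

section Bridge

variable {A : Type u} [CommRing A] [IsNoetherianRing A] (I : Ideal A)
  (M : Type u) [AddCommGroup M] [Module A M] [Module.Finite A M]

theorem one_le_idealDepth_iff :
    1 ≤ idealDepth I M ↔ ∀ x : M, (∀ a ∈ I, a • x = 0) → x = 0 := by
  have h := le_idealDepth_iff_ext' I M 1
  have e1 : ((1 : ℕ) : ℕ∞) = 1 := rfl
  rw [e1] at h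
  rw [h]
  constructor
  · intro hsub x hx
    have h0 := hsub 0 (by omega)
    have h0' : Subsingleton (ModuleCat.of A (A ⧸ I) ⟶ ModuleCat.of A M) :=
      (Ext.homEquiv₀ (X := ModuleCat.of A (A ⧸ I)) (Y := ModuleCat.of A M)).symm.subsingleton
    have hle : I ≤ LinearMap.ker (LinearMap.toSpanSingleton A M x) := by
      intro a ha
      rw [LinearMap.mem_ker, LinearMap.toSpanSingleton_apply]
      exact hx a ha
    let f : (A ⧸ I) →ₗ[A] M := Submodule.liftQ I (LinearMap.toSpanSingleton A M x) hle
    have hf : ModuleCat.ofHom f = 0 := Subsingleton.elim _ _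
    have hf' : f = 0 := by
      have := congrArg ModuleCat.Hom.hom hf
      simpa using this
    have h1 : f (Submodule.Quotient.mk 1) = x := by
      show Submodule.liftQ I (LinearMap.toSpanSingleton A M x) hle (Submodule.Quotient.mk 1) = x
      rw [Submodule.liftQ_apply, LinearMap.toSpanSingleton_apply, one_smul]
    rw [← h1, hf', LinearMap.zero_apply]
  · intro hx i hi
    obtain rfl : i = 0 := by omega
    have h0' : Subsingleton (ModuleCat.of A (A ⧸ I) ⟶ ModuleCat.of A M) := by
      refine ⟨fun g g' => ?_⟩
      have key : ∀ g : ModuleCat.of A (A ⧸ I) ⟶ ModuleCat.of A M, g = 0 := by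
        intro g
        have hg1 : g.hom (Submodule.Quotient.mk 1 : A ⧸ I) = 0 := by
          apply hx
          intro a ha
          rw [← map_smul]
          have : a • (Submodule.Quotient.mk 1 : A ⧸ I) = 0 := by
            rw [← Submodule.Quotient.mk_smul, smul_eq_mul, mul_one]
            exact (Submodule.Quotient.mk_eq_zero I).2 ha
          rw [this, map_zero]
        apply ModuleCat.hom_ext
        apply LinearMap.ext
        intro y
        obtain ⟨a, rfl⟩ := Submodule.Quotient.mk_surjective I y
        have : (Submodule.Quotient.mk a : A ⧸ I) = a • (Submodule.Quotient.mk 1 : A ⧸ I) := by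
          rw [← Submodule.Quotient.mk_smul, smul_eq_mul, mul_one]
        rw [this, map_smul, hg1, smul_zero]
        rfl
      rw [key g, key g']
    exact (Ext.homEquiv₀ (X := ModuleCat.of A (A ⧸ I)) (Y := ModuleCat.of A M)).subsingleton

end Bridge

section Torsion

variable {A : Type u} [CommRing A] (I : Ideal A) {M : Type v} [AddCommGroup M] [Module A M]

theorem eq_zero_of_pow_smul (h0 : ∀ x : M, (∀ a ∈ I, a • x = 0) → x = 0) :
    ∀ (n : ℕ) (x : M), (∀ r ∈ I ^ n, r • x = 0) → x = 0 := by
  intro n
  induction n with
  | zero =>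
    intro x hx
    have := hx 1 (by rw [pow_zero, Ideal.one_eq_top]; trivial)
    rwa [one_smul] at this
  | succ n ih =>
    intro x hx
    apply ih
    intro b hb
    apply h0
    intro a ha
    rw [smul_smul]
    apply hx
    rw [pow_succ']
    exact Ideal.mul_mem_mul ha hb

theorem exists_pow_smul_eq_zero [IsNoetherianRing A] (x : M)
    (h : ∀ p : Ideal A, p.IsPrime → ¬ I ≤ p → ∃ s : A, s ∉ p ∧ s • x = 0) :
    ∃ n : ℕ, ∀ r ∈ I ^ n, r • x = 0 := by
  set J : Ideal A := LinearMap.ker (LinearMap.toSpanSingleton A M x) with hJ
  have hJmem : ∀ r : A, r ∈ J ↔ r • x = 0 := by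
    intro r
    rw [hJ, LinearMap.mem_ker, LinearMap.toSpanSingleton_apply]
  have hrad : I ≤ J.radical := by
    rw [Ideal.radical_eq_sInf]
    refine le_sInf ?_
    rintro p ⟨hJp, hp⟩
    by_contra hIp
    obtain ⟨s, hs, hsx⟩ := h p hp hIp
    exact hs (hJp ((hJmem s).2 hsx))
  obtain ⟨n, hn⟩ := Ideal.exists_radical_pow_le_of_fg J (IsNoetherian.noetherian _)
  refine ⟨n, fun r hr => (hJmem r).1 (hn (Ideal.pow_right_mono hrad n hr))⟩

end Torsion

section HomDepth

variable {A : Type u} [CommRing A] [IsNoetherianRing A] (I : Ideal A)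
  (N : Type u) [AddCommGroup N] [Module A N] [Module.Finite A N]

instance : Module.Finite A (N →ₗ[A] A) := by
  have : IsNoetherian A (N →ₗ[A] A) := inferInstance
  exact Module.IsNoetherian.finite A (N →ₗ[A] A)

theorem one_le_idealDepth_hom (hA : 1 ≤ idealDepth I A) : 1 ≤ idealDepth I (N →ₗ[A] A) := by
  rw [one_le_idealDepth_iff] at hA ⊢
  intro φ hφ
  apply LinearMap.ext
  intro n
  apply hA
  intro a ha
  have := LinearMap.congr_fun (hφ a ha) n
  simpa using this

theorem two_le_idealDepth_hom (hA : 2 ≤ idealDepth I A) : 2 ≤ idealDepth I (N →ₗ[A] A) := by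
  by_cases htop : I • (⊤ : Submodule A (N →ₗ[A] A)) = ⊤
  · rw [idealDepth_of_eq_top I _ htop]; exact le_top
  by_cases hItop : I • (⊤ : Submodule A A) = ⊤
  · -- then `I = ⊤`, impossible with `htop`
    exfalso
    apply htop
    have hI : I = ⊤ := by rwa [smul_eq_mul, Ideal.mul_top] at hItop
    rw [hI, Submodule.top_smul]
  -- a regular sequence of length two
  have e2 : ((2 : ℕ) : ℕ∞) = 2 := rfl
  obtain ⟨rs, hlen, hreg, hmem⟩ := exists_of_le_idealDepth I A hItop 2 (by rw [e2]; exact hA)
  obtain ⟨a, rs', rfl⟩ : ∃ a rs', rs = a :: rs' := by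
    cases rs with
    | nil => simp at hlen
    | cons a rs' => exact ⟨a, rs', rfl⟩
  have haI : a ∈ I := hmem a (by simp)
  have hareg : IsSMulRegular A a :=
    ((RingTheory.Sequence.isWeaklyRegular_cons_iff A a rs').1 hreg).1
  have hdA := idealDepth_quotSMulTop_add_one I A hItop a haI hareg
  have hA1 : 1 ≤ idealDepth I (QuotSMulTop a A) := by
    have h3 : (1 : ℕ∞) + 1 ≤ idealDepth I (QuotSMulTop a A) + 1 := by
      rw [hdA]
      have : (1 : ℕ∞) + 1 = 2 := by norm_num
      rw [this]; exact hA
    exact (ENat.add_le_add_iff_right (by simp)).1 h3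
  rw [one_le_idealDepth_iff] at hA1
  -- `a` is regular on `Hom(N, A)`
  have hHreg : IsSMulRegular (N →ₗ[A] A) a := by
    intro φ ψ h
    apply LinearMap.ext
    intro n
    apply hareg
    have := LinearMap.congr_fun h n
    simpa using this
  have hdH := idealDepth_quotSMulTop_add_one I (N →ₗ[A] A) htop a haI hHreg
  have hH1 : 1 ≤ idealDepth I (QuotSMulTop a (N →ₗ[A] A)) := by
    rw [one_le_idealDepth_iff]
    intro x hx
    obtain ⟨φ, rfl⟩ := Submodule.Quotient.mk_surjective _ x
    -- `φ` has values in `aA`
    have hval : ∀ n : N, ∃ r : A, φ n = a * r := by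
      intro n
      have h0 : (Submodule.Quotient.mk (φ n) : QuotSMulTop a A) = 0 := by
        apply hA1
        intro c hc
        have h1 := hx c hc
        rw [← Submodule.Quotient.mk_smul, Submodule.Quotient.mk_eq_zero,
          Submodule.mem_smul_pointwise_iff_exists] at h1
        obtain ⟨ψ, -, hψ⟩ := h1
        rw [← Submodule.Quotient.mk_smul, Submodule.Quotient.mk_eq_zero,
          Submodule.mem_smul_pointwise_iff_exists]
        refine ⟨ψ n, trivial, ?_⟩
        have := LinearMap.congr_fun hψ n
        simpa using this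
      rw [Submodule.Quotient.mk_eq_zero, Submodule.mem_smul_pointwise_iff_exists] at h0
      obtain ⟨r, -, hr⟩ := h0
      exact ⟨r, by rw [← hr, smul_eq_mul]⟩
    choose ψ hψ using hval
    have hψadd : ∀ n n', ψ (n + n') = ψ n + ψ n' := by
      intro n n'
      apply hareg
      show a • ψ (n + n') = a • (ψ n + ψ n')
      rw [smul_eq_mul, smul_eq_mul, mul_add, ← hψ, ← hψ, ← hψ, map_add]
    have hψsmul : ∀ (c : A) n, ψ (c • n) = c • ψ n := by
      intro c n
      apply hareg
      show a • ψ (c • n) = a • (c • ψ n)
      rw [smul_eq_mul, smul_eq_mul, smul_eq_mul, mul_left_comm, ← hψ, ← hψ, map_smul, smul_eq_mul]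
    let Ψ : N →ₗ[A] A := { toFun := ψ, map_add' := hψadd, map_smul' := hψsmul }
    rw [Submodule.Quotient.mk_eq_zero, Submodule.mem_smul_pointwise_iff_exists]
    refine ⟨Ψ, trivial, ?_⟩
    apply LinearMap.ext
    intro n
    show a • ψ n = φ n
    rw [hψ, smul_eq_mul]
  rw [← hdH]
  have : (2 : ℕ∞) = 1 + 1 := by norm_num
  rw [this]
  gcongr

end HomDepth

section Loc

variable {R : Type u} [CommRing R] [IsNoetherianRing R]
variable (S : Submonoid R) (M : Type u) [AddCommGroup M] [Module R M] [Module.Finite R M]

/-- localization map on duals (after helper10's `S6871`). -/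
noncomputable def D : Module.Dual R M →ₗ[R] Module.Dual (Localization S) (LocalizedModule S M) :=
  IsLocalizedModule.mapExtendScalars S (LocalizedModule.mkLinearMap S M)
    (Algebra.linearMap R (Localization S)) (Localization S)

lemma D_apply (ψ : Module.Dual R M) (x : M) :
    D S M ψ (LocalizedModule.mkLinearMap S M x) = algebraMap R (Localization S) (ψ x) := by
  simp only [D, IsLocalizedModule.mapExtendScalars_apply_apply, IsLocalizedModule.map_apply]
  rfl

instance instD : IsLocalizedModule S (D S M) := by
  haveI := Module.finitePresentation_of_finite R M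
  exact Module.FinitePresentation.isLocalizedModule_mapExtendScalars S _ _ _

/-- localization map on double duals -/
noncomputable def DD : Module.Dual R (Module.Dual R M) →ₗ[R]
    Module.Dual (Localization S) (Module.Dual (Localization S) (LocalizedModule S M)) :=
  IsLocalizedModule.mapExtendScalars S (D S M)
    (Algebra.linearMap R (Localization S)) (Localization S)

lemma DD_apply (φ : Module.Dual R (Module.Dual R M)) (ψ : Module.Dual R M) :
    DD S M φ (D S M ψ) = algebraMap R (Localization S) (φ ψ) := by
  simp only [DD, IsLocalizedModule.mapExtendScalars_apply_apply, IsLocalizedModule.map_apply]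
  rfl

instance instDD : IsLocalizedModule S (DD S M) := by
  haveI : Module.Finite R (Module.Dual R M) := by
    have : IsNoetherian R (M →ₗ[R] R) := inferInstance
    exact Module.IsNoetherian.finite R (M →ₗ[R] R)
  haveI := Module.finitePresentation_of_finite R (Module.Dual R M)
  exact Module.FinitePresentation.isLocalizedModule_mapExtendScalars S _ _ _

lemma DD_eval (x : M) : DD S M (Module.Dual.eval R M x) =
    Module.Dual.eval (Localization S) (LocalizedModule S M) (LocalizedModule.mkLinearMap S M x) := by
  apply LinearMap.restrictScalars_injective R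
  apply IsLocalizedModule.linearMap_ext S (D S M) (Algebra.linearMap R (Localization S))
  ext ψ
  show DD S M (Module.Dual.eval R M x) (D S M ψ) = (D S M ψ) (LocalizedModule.mkLinearMap S M x)
  rw [DD_apply, D_apply]
  rfl

lemma map_eval : IsLocalizedModule.map S (LocalizedModule.mkLinearMap S M) (DD S M)
    (Module.Dual.eval R M) =
    (Module.Dual.eval (Localization S) (LocalizedModule S M)).restrictScalars R := by
  apply IsLocalizedModule.ext S (LocalizedModule.mkLinearMap S M)
    (IsLocalizedModule.map_units (DD S M))
  rw [IsLocalizedModule.map_comp]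
  ext x : 1
  exact DD_eval S M x

theorem exists_smul_eq_zero_of_eval_eq_zero
    (hinj : Function.Injective (Module.Dual.eval (Localization S) (LocalizedModule S M)))
    (x : M) (hx : Module.Dual.eval R M x = 0) : ∃ s : S, s • x = 0 := by
  have h1 := DD_eval S M x
  rw [hx, map_zero] at h1
  have h2 : LocalizedModule.mkLinearMap S M x = 0 := hinj (by rw [← h1, map_zero])
  exact (IsLocalizedModule.eq_zero_iff S (LocalizedModule.mkLinearMap S M)).1 h2

theorem exists_smul_mem_range_eval
    (hsurj : Function.Surjective (Module.Dual.eval (Localization S) (LocalizedModule S M)))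
    (φ : Module.Dual R (Module.Dual R M)) :
    ∃ s : S, (s : R) • φ ∈ LinearMap.range (Module.Dual.eval R M) := by
  obtain ⟨y, hy⟩ := hsurj (DD S M φ)
  obtain ⟨⟨g, s⟩, hs⟩ := IsLocalizedModule.surj S (LocalizedModule.mkLinearMap S M) y
  simp only at hs
  have h0 : DD S M ((s : R) • φ - Module.Dual.eval R M g) = 0 := by
    rw [map_sub, map_smul, DD_eval, ← hy, ← hs, sub_eq_zero]
    rw [Submonoid.smul_def, ← algebraMap_smul (Localization S) (s : R) y, map_smul,
      algebraMap_smul]
  obtain ⟨t, ht⟩ := (IsLocalizedModule.eq_zero_iff S (DD S M)).1 h0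
  refine ⟨t * s, (t : R) • g, ?_⟩
  rw [Submonoid.smul_def, smul_sub, sub_eq_zero] at ht
  rw [map_smul, ← ht, Submonoid.coe_mul, mul_smul]

theorem isReflexive_localizedModule [Module.IsReflexive R M] :
    Module.IsReflexive (Localization S) (LocalizedModule S M) := by
  constructor
  have hb := Module.bijective_dual_eval R M
  have h1 := IsLocalizedModule.map_injective S (LocalizedModule.mkLinearMap S M) (DD S M)
    (Module.Dual.eval R M) hb.1
  have h2 := IsLocalizedModule.map_surjective S (LocalizedModule.mkLinearMap S M) (DD S M)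
    (Module.Dual.eval R M) hb.2
  rw [map_eval] at h1 h2
  exact ⟨h1, h2⟩

end Loc

section LocSupport

variable {A : Type u} [CommRing A] (p : Ideal A) [p.IsPrime]
  (X : Type v) [AddCommGroup X] [Module A X]

theorem mem_support_localizedModule_iff (q' : PrimeSpectrum (Localization.AtPrime p)) :
    q' ∈ Module.support (Localization.AtPrime p) (LocalizedModule p.primeCompl X) ↔
      PrimeSpectrum.comap (algebraMap A (Localization.AtPrime p)) q' ∈ Module.support A X := by
  rw [Module.mem_support_iff', Module.mem_support_iff']
  constructor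
  · rintro ⟨y, hy⟩
    induction y using LocalizedModule.induction_on with
    | h x s =>
      refine ⟨x, fun a ha hax => ?_⟩
      have ha' : algebraMap A (Localization.AtPrime p) a ∉ q'.asIdeal := ha
      apply hy _ ha'
      rw [← Localization.mk_one_eq_algebraMap, LocalizedModule.mk_smul_mk, hax,
        LocalizedModule.zero_mk]
  · rintro ⟨x, hx⟩
    refine ⟨LocalizedModule.mk x 1, fun r' hr' h0 => ?_⟩
    induction r' using Localization.induction_on with
    | H at' =>
      obtain ⟨a, t⟩ := at'
      rw [LocalizedModule.mk_smul_mk] at h0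
      have h0' : LocalizedModule.mk (a • x) (t * 1) = LocalizedModule.mk (0 : X) (t * 1) := by
        rw [h0, LocalizedModule.zero_mk]
      rw [LocalizedModule.mk_eq] at h0'
      obtain ⟨t', ht'⟩ := h0'
      rw [smul_zero, smul_zero] at ht'
      -- `t' * (t * 1) * a` kills `x`
      have hkill : ((t' : A) * ((t * 1 : p.primeCompl) : A) * a) • x = 0 := by
        rw [mul_smul, mul_smul]
        exact ht'
      have hmem : (t' : A) * ((t * 1 : p.primeCompl) : A) * a ∈
          (PrimeSpectrum.comap (algebraMap A (Localization.AtPrime p)) q').asIdeal := by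
        by_contra hn
        exact hx _ hn hkill
      have hunit : ∀ s : p.primeCompl, (s : A) ∉
          (PrimeSpectrum.comap (algebraMap A (Localization.AtPrime p)) q').asIdeal := by
        intro s hs
        have h1 : algebraMap A (Localization.AtPrime p) (s : A) ∈ q'.asIdeal := hs
        have h2 : IsUnit (algebraMap A (Localization.AtPrime p) (s : A)) :=
          IsLocalization.map_units _ s
        exact q'.isPrime.ne_top (Ideal.eq_top_of_isUnit_mem _ h1 h2)
      have hprime := (PrimeSpectrum.comap (algebraMap A (Localization.AtPrime p)) q').isPrime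
      rcases hprime.mem_or_mem hmem with h1 | h1
      · rcases hprime.mem_or_mem h1 with h2 | h2
        · exact hunit t' h2
        · exact hunit (t * 1) h2
      · apply hr'
        rw [Localization.mk_eq_mk', IsLocalization.mk'_mem_iff]
        exact h1

theorem supportDim_localizedModule_mono (Y : Type v) [AddCommGroup Y] [Module A Y]
    (h : Module.support A X ⊆ Module.support A Y) :
    Module.supportDim (Localization.AtPrime p) (LocalizedModule p.primeCompl X) ≤
      Module.supportDim (Localization.AtPrime p) (LocalizedModule p.primeCompl Y) := by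
  refine Order.krullDim_le_of_strictMono (fun a => ⟨a.1, ?_⟩) (fun {_ _} lt => lt)
  rw [mem_support_localizedModule_iff]
  exact h ((mem_support_localizedModule_iff p X a.1).1 a.2)

end LocSupport

section LocExact

variable {A : Type u} [CommRing A] [IsNoetherianRing A] (p : Ideal A) [p.IsPrime]

/-- the depth lemma after localizing at a prime. -/
theorem depth_localized_shortExact (N' : Type u) [AddCommGroup N'] [Module A N']
    [Module.Finite A N'] (N : Type u) [AddCommGroup N] [Module A N] [Module.Finite A N]
    (N'' : Type u) [AddCommGroup N''] [Module A N''] [Module.Finite A N'']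
    (f : N' →ₗ[A] N) (g : N →ₗ[A] N'') (hf : Function.Injective f) (hg : Function.Surjective g)
    (hfg : Function.Exact f g) :
    min (LocCoh.depth (Localization.AtPrime p) (LocalizedModule p.primeCompl N))
      (LocCoh.depth (Localization.AtPrime p) (LocalizedModule p.primeCompl N'') + 1) ≤
      LocCoh.depth (Localization.AtPrime p) (LocalizedModule p.primeCompl N') := by
  have h := idealDepth_shortExact (IsLocalRing.maximalIdeal (Localization.AtPrime p))
    (LocalizedModule p.primeCompl N') (LocalizedModule p.primeCompl N)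
    (LocalizedModule p.primeCompl N'')
    (LocalizedModule.map p.primeCompl f) (LocalizedModule.map p.primeCompl g)
    (LocalizedModule.map_injective p.primeCompl f hf)
    (LocalizedModule.map_surjective p.primeCompl g hg)
    (LocalizedModule.map_exact p.primeCompl f g hfg)
  exact h.2.2

end LocExact

section Sk

variable {A : Type u} [CommRing A] [IsNoetherianRing A]
  (G : Type u) [AddCommGroup G] [Module A G] [Module.Finite A G]

theorem min_le_of_hom_depth (k : ℕ) (hk : k = 1 ∨ k = 2) (d d' : ℕ∞)
    (H1 : 1 ≤ d → 1 ≤ d') (H2 : 2 ≤ d → 2 ≤ d') : min (k : ℕ∞) d ≤ d' := by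
  have h0 : ∀ {x : ℕ∞}, ¬ 1 ≤ x → x = 0 := by
    intro x hx
    push Not at hx
    exact Order.lt_one_iff.1 hx
  rcases hk with rfl | rfl
  · by_cases h1 : 1 ≤ d
    · exact (min_le_left _ _).trans (by simpa using H1 h1)
    · rw [h0 h1]; simp
  · by_cases h2 : 2 ≤ d
    · exact (min_le_left _ _).trans (by simpa using H2 h2)
    · by_cases h1 : 1 ≤ d
      · push Not at h2
        have h3 : d ≤ 1 := by
          have : (2 : ℕ∞) = 1 + 1 := by norm_num
          rw [this] at h2
          exact (ENat.lt_add_one_iff (by simp)).1 h2
        exact (min_le_right _ _).trans (h3.trans (H1 h1))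
      · rw [h0 h1]; simp

theorem hasSk_of_isReflexive [Module.IsReflexive A G] (k : ℕ) (hk : k = 1 ∨ k = 2)
    (hA : HasSk k A A) : HasSk k A G := by
  intro p hp
  haveI := isReflexive_localizedModule p.primeCompl G
  have hAp := hA p
  rw [supportDim_localizedModule_self, depth_localizedModule_self] at hAp
  have hdim : Module.supportDim (Localization.AtPrime p) (LocalizedModule p.primeCompl G) ≤
      ((p.height : ℕ∞) : WithBot ℕ∞) :=
    (Module.supportDim_le_ringKrullDim _ _).trans_eq
      (IsLocalization.AtPrime.ringKrullDim_eq_height p (Localization.AtPrime p))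
  rw [depth_congr (Module.evalEquiv (Localization.AtPrime p) (LocalizedModule p.primeCompl G))]
  have key := min_le_of_hom_depth k hk
    (LocCoh.depth (Localization.AtPrime p) (Localization.AtPrime p))
    (LocCoh.depth (Localization.AtPrime p)
      (Module.Dual (Localization.AtPrime p)
        (Module.Dual (Localization.AtPrime p) (LocalizedModule p.primeCompl G))))
    (one_le_idealDepth_hom _ _) (two_le_idealDepth_hom _ _)
  refine le_trans ?_ (WithBot.coe_le_coe.2 key)
  rw [WithBot.coe_min]
  refine le_min ?_ ?_
  · exact (min_le_left _ _).trans (le_of_eq (WithBot.coe_natCast k).symm)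
  · refine le_trans ?_ hAp
    exact min_le_min le_rfl hdim

end Sk

end Groth.Agent.Helper28.ReflDepth
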