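import Mathlib
import Groth.Prelude.Def_AlgGrp

/-!
# The shear isomorphism of a group action and the cartesian squares it gives
-/

set_option autoImplicit false

namespace Groth.Agent.Helper28.AlgGrpShear

open CategoryTheory MonoidalCategory CartesianMonoidalCategory MonObj AlgebraicGeometry

universe u
variable {S : Scheme.{u}} {G X Y : Over S} [GrpObj G]

lemma act_mul (a : AlgGrp.Action G X) {T : Over S} (g h : T ⟶ G) (x : T ⟶ X) :
    lift (g * h) x ≫ a.act = lift g (lift h x ≫ a.act) ≫ a.act := by
  have h1 : lift (lift g h) x ≫ (μ[G] ▷ X) ≫ a.act =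
      lift (lift g h) x ≫ (α_ G G X).hom ≫ (G ◁ a.act) ≫ a.act := by rw [a.mul_act]
  simpa [Hom.mul_def] using h1

lemma act_one (a : AlgGrp.Action G X) {T : Over S} (x : T ⟶ X) :
    lift (1 : T ⟶ G) x ≫ a.act = x := by
  have h1 : lift (toUnit T) x ≫ (η[G] ▷ X) ≫ a.act = lift (toUnit T) x ≫ (λ_ X).hom := by
    rw [a.one_act]
  simpa [Hom.one_def] using h1

/-- the shear map `(g, x) ↦ (g, g x)`. -/
noncomputable def shearHom (a : AlgGrp.Action G X) : G ⊗ X ⟶ G ⊗ X := lift (fst G X) a.act

/-- its inverse `(g, x) ↦ (g, g⁻¹ x)`. -/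
noncomputable def shearInv (a : AlgGrp.Action G X) : G ⊗ X ⟶ G ⊗ X :=
  lift (fst G X) (lift ((fst G X)⁻¹) (snd G X) ≫ a.act)

lemma shear_hom_inv (a : AlgGrp.Action G X) : shearHom a ≫ shearInv a = 𝟙 _ := by
  apply CartesianMonoidalCategory.hom_ext
  · simp [shearHom, shearInv]
  · simp only [shearHom, shearInv, comp_lift, lift_fst, lift_snd, Category.id_comp]
    rw [← Category.assoc, comp_lift, lift_snd]
    have e1 : lift (fst G X) a.act ≫ (fst G X)⁻¹ = (fst G X)⁻¹ := by
      rw [Hom.inv_def, ← Category.assoc, lift_fst]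
    rw [e1]
    have e2 := act_mul a ((fst G X)⁻¹) (fst G X) (snd G X)
    rw [lift_fst_snd, Category.id_comp, inv_mul_cancel] at e2
    rw [← e2, act_one]

lemma shear_inv_hom (a : AlgGrp.Action G X) : shearInv a ≫ shearHom a = 𝟙 _ := by
  apply CartesianMonoidalCategory.hom_ext
  · simp [shearHom, shearInv]
  · simp only [shearHom, shearInv, comp_lift, lift_fst, lift_snd, Category.id_comp]
    have e2 := act_mul a (fst G X) ((fst G X)⁻¹) (snd G X)
    rw [mul_inv_cancel, act_one] at e2
    exact e2.symm

/-- the shear isomorphism. -/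
noncomputable def shear (a : AlgGrp.Action G X) : G ⊗ X ≅ G ⊗ X where
  hom := shearHom a
  inv := shearInv a
  hom_inv_id := shear_hom_inv a
  inv_hom_id := shear_inv_hom a

@[simp] lemma shear_hom_snd (a : AlgGrp.Action G X) : (shear a).hom ≫ snd G X = a.act := by
  simp [shear, shearHom]

@[simp] lemma shear_hom_fst (a : AlgGrp.Action G X) : (shear a).hom ≫ fst G X = fst G X := by
  simp [shear, shearHom]

/-- the projection square is cartesian. -/
lemma isPullback_snd (M : Over S) {Z X : Over S} (z : Z ⟶ X) :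
    IsPullback (snd M Z) (M ◁ z) z (snd M X) := by
  refine ⟨⟨by simp⟩, ⟨Limits.PullbackCone.IsLimit.mk _ (fun s => lift (s.snd ≫ fst M X) s.fst) ?_ ?_ ?_⟩⟩
  · intro s
    simp
  · intro s
    apply CartesianMonoidalCategory.hom_ext
    · simp
    · simp only [Category.assoc, whiskerLeft_snd, lift_snd_assoc]
      exact s.condition
  · intro s m h1 h2
    apply CartesianMonoidalCategory.hom_ext
    · simp only [lift_fst]
      rw [← h2]
      simp
    · simp only [lift_snd]
      exact h1

/-- for an equivariant map the action square is cartesian. -/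
lemma isPullback_act (aX : AlgGrp.Action G X) (aY : AlgGrp.Action G Y) (f : X ⟶ Y)
    (hf : (G ◁ f) ≫ aY.act = aX.act ≫ f) :
    IsPullback aX.act (G ◁ f) f aY.act := by
  have hcomm : (shear aX).hom ≫ (G ◁ f) = (G ◁ f) ≫ (shear aY).hom := by
    apply CartesianMonoidalCategory.hom_ext
    · simp
    · simp only [Category.assoc, whiskerLeft_snd, shear_hom_snd, hf]
      rw [← Category.assoc, shear_hom_snd]
  have left : IsPullback (shear aX).hom (G ◁ f) (G ◁ f) (shear aY).hom :=
    IsPullback.of_horiz_isIso ⟨hcomm⟩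
  have := left.paste_horiz (isPullback_snd G f)
  simpa using this

/-- the action map is the shear followed by the projection, on underlying schemes. -/
lemma act_left (a : AlgGrp.Action G X) :
    a.act.left = (shear a).hom.left ≫ (snd G X).left := by
  rw [← Over.comp_left, shear_hom_snd]

/-- the square `G ⊗ Z ⟶ M ⊗ Z` over `G ⟶ M` is cartesian. -/
lemma isPullback_fst {A B : Over S} (i : A ⟶ B) (Z : Over S) :
    IsPullback (fst A Z) (i ▷ Z) i (fst B Z) := by
  refine ⟨⟨by simp⟩, ⟨Limits.PullbackCone.IsLimit.mk _ (fun s => lift s.fst (s.snd ≫ snd B Z)) ?_ ?_ ?_⟩⟩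
  · intro s
    simp
  · intro s
    apply CartesianMonoidalCategory.hom_ext
    · simp only [Category.assoc, whiskerRight_fst, lift_fst_assoc]
      exact s.condition
    · simp
  · intro s m h1 h2
    apply CartesianMonoidalCategory.hom_ext
    · simp only [lift_fst]
      exact h1
    · simp only [lift_snd]
      rw [← h2]
      simp

end Groth.Agent.Helper28.AlgGrpShear
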