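import Mathlib

/-!
# Restriction of pullback squares to opens; largest open on which a local property holds
-/

set_option autoImplicit false

namespace Groth.Agent.Helper28.RestrictPB

open CategoryTheory CategoryTheory.Limits AlgebraicGeometry

universe u

/-- Restricting a pullback square of schemes to opens `V ⊆ Y`, `V' ⊆ p⁻¹ V`. -/
lemma restrict_isPullback {X' X Y' Y : Scheme.{u}} {p' : X' ⟶ X} {f' : X' ⟶ Y'} {f : X ⟶ Y}
    {p : Y' ⟶ Y} (sq : IsPullback p' f' f p) (V : Y.Opens) (V' : Y'.Opens) (h : V' ≤ p ⁻¹ᵁ V) :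
    ∃ (q' : (f' ⁻¹ᵁ V' : Scheme.{u}) ⟶ (f ⁻¹ᵁ V : Scheme.{u})) (q : (V' : Scheme.{u}) ⟶ (V : Scheme.{u})),
      q ≫ V.ι = V'.ι ≫ p ∧ IsPullback q' (f' ∣_ V') (f ∣_ V) q := by
  have hr : Set.range (V'.ι ≫ p) ⊆ Set.range V.ι := by
    rintro _ ⟨x, rfl⟩
    have : p (V'.ι x) ∈ V := h x.2
    simpa using this
  let q : (V' : Scheme.{u}) ⟶ (V : Scheme.{u}) := IsOpenImmersion.lift V.ι (V'.ι ≫ p) hr
  have hq : q ≫ V.ι = V'.ι ≫ p := IsOpenImmersion.lift_fac _ _ _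
  have hr' : Set.range ((f' ⁻¹ᵁ V').ι ≫ p') ⊆ Set.range (f ⁻¹ᵁ V).ι := by
    rintro _ ⟨x, rfl⟩
    have hx : f' ((f' ⁻¹ᵁ V').ι x) ∈ V' := x.2
    have h2 : p (f' ((f' ⁻¹ᵁ V').ι x)) ∈ V := h hx
    have h3 : f (p' ((f' ⁻¹ᵁ V').ι x)) ∈ V := by
      have := congrArg (fun φ => φ ((f' ⁻¹ᵁ V').ι x)) (congrArg (fun φ => φ.base) sq.w)
      simp only [Scheme.Hom.comp_base, TopCat.hom_comp, ContinuousMap.comp_apply] at this
      rw [this]; exact h2
    simpa using h3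
  let q' : (f' ⁻¹ᵁ V' : Scheme.{u}) ⟶ (f ⁻¹ᵁ V : Scheme.{u}) :=
    IsOpenImmersion.lift (f ⁻¹ᵁ V).ι ((f' ⁻¹ᵁ V').ι ≫ p') hr'
  have hq' : q' ≫ (f ⁻¹ᵁ V).ι = (f' ⁻¹ᵁ V').ι ≫ p' := IsOpenImmersion.lift_fac _ _ _
  refine ⟨q', q, hq, ?_⟩
  have right : IsPullback (f ⁻¹ᵁ V).ι (f ∣_ V) f V.ι := (isPullback_morphismRestrict f V).flip
  have left : IsPullback (f' ⁻¹ᵁ V').ι (f' ∣_ V') f' V'.ι := (isPullback_morphismRestrict f' V').flip
  have big : IsPullback ((f' ⁻¹ᵁ V').ι ≫ p') (f' ∣_ V') f (V'.ι ≫ p) := left.paste_horiz sq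
  rw [← hq', ← hq] at big
  refine IsPullback.of_right big ?_ right
  rw [← cancel_mono V.ι, Category.assoc, Category.assoc, hq, morphismRestrict_ι,
    reassoc_of% hq', morphismRestrict_ι_assoc, sq.w]

/-- A property local at the target holds on the union of opens on which it holds. -/
lemma restrict_sSup {P : MorphismProperty Scheme.{u}} [IsZariskiLocalAtTarget P]
    {X Y : Scheme.{u}} (f : X ⟶ Y) (S : Set Y.Opens) (h : ∀ V' ∈ S, P (f ∣_ V')) :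
    P (f ∣_ sSup S) := by
  apply IsZariskiLocalAtTarget.of_forall_exists_morphismRestrict
  intro x
  have hx : x.1 ∈ sSup S := x.2
  rw [TopologicalSpace.Opens.mem_sSup] at hx
  obtain ⟨V', hV', hxV'⟩ := hx
  refine ⟨(sSup S).ι ⁻¹ᵁ V', hxV', ?_⟩
  rw [P.arrow_mk_iso_iff (morphismRestrictRestrict f (sSup S) ((sSup S).ι ⁻¹ᵁ V'))]
  have : (sSup S).ι ''ᵁ ((sSup S).ι ⁻¹ᵁ V') = V' := by
    rw [Scheme.Hom.image_preimage_eq_opensRange_inf, Scheme.Opens.opensRange_ι]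
    exact inf_eq_right.mpr (le_sSup hV')
  rw [this]
  exact h V' hV'

/-- Two morphisms of schemes that agree on a covering sieve of a subcanonical topology are equal. -/
lemma ext_of_covering {J : GrothendieckTopology Scheme.{u}} [J.Subcanonical] {Y Z : Scheme.{u}}
    (S : Sieve Y) (hS : S ∈ J Y) (a b : Y ⟶ Z)
    (h : ∀ ⦃W : Scheme.{u}⦄ (f : W ⟶ Y), S f → f ≫ a = f ≫ b) : a = b := by
  have hs : Presieve.IsSheaf J (yoneda.obj Z) :=
    GrothendieckTopology.Subcanonical.isSheaf_of_isRepresentable (yoneda.obj Z)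
  exact (hs S hS).isSeparatedFor.ext (t₁ := a) (t₂ := b) (fun W f hf => h f hf)

end Groth.Agent.Helper28.RestrictPB
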