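import Mathlib
import Groth.Agent.Lib.Lead.Bass3
import Groth.Agent.Lib.Helper9.Depth
set_option autoImplicit false
universe u
open IsLocalRing

/-!
Associated primes of Cohen–Macaulay / Gorenstein quotient rings are minimal.
-/

namespace Groth.Agent.Helper28.GorLink

/-- in a ring all of whose localizations at primes are Cohen–Macaulay, associated primes of the ring
are minimal primes -/
theorem mem_minimalPrimes_of_mem_associatedPrimes_self (A : Type u) [CommRing A]
    [IsNoetherianRing A]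
    (hCM : ∀ (p : Ideal A) [p.IsPrime], LocCoh.IsCohenMacaulayLocalRing (Localization.AtPrime p))
    (Q : Ideal A) (hQ : Q ∈ associatedPrimes A A) : Q ∈ minimalPrimes A := by
  haveI : Q.IsPrime := hQ.1
  haveI hCMQ : LocCoh.IsCohenMacaulayLocalRing (Localization.AtPrime Q) := hCM Q
  have h1 : maximalIdeal (Localization.AtPrime Q) ∈
      associatedPrimes (Localization.AtPrime Q) (Localization.AtPrime Q) := by
    apply Module.associatedPrimes.mem_associatedPrimes_of_comap_mem_associatedPrimes_of_isLocalizedModule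
      Q.primeCompl (Algebra.linearMap A (Localization.AtPrime Q))
    have : (maximalIdeal (Localization.AtPrime Q)).comap
        (algebraMap A (Localization.AtPrime Q)) = Q := Localization.AtPrime.under_maximalIdeal
    rw [this]
    exact hQ
  have h2 : LocCoh.depth (Localization.AtPrime Q) (Localization.AtPrime Q) = 0 :=
    (Groth.Agent.Helper9.Depth.depth_eq_zero_iff_mem_associatedPrimes
      (Localization.AtPrime Q)).mpr h1
  have h3 := hCMQ.supportDim_eq_depth
  rw [h2, Module.supportDim_self_eq_ringKrullDim,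
    IsLocalization.AtPrime.ringKrullDim_eq_height Q (Localization.AtPrime Q)] at h3
  have h4 : Q.height = 0 := by exact_mod_cast h3
  exact Ideal.height_eq_zero_iff.mp h4

/-- associated primes of `R ⧸ 𝔠` (as an `R`-module) are minimal over `𝔠` when `R ⧸ 𝔠` is locally
Cohen–Macaulay -/
theorem mem_minimalPrimes_of_mem_associatedPrimes (R : Type u) [CommRing R] [IsNoetherianRing R]
    (𝔠 : Ideal R)
    (hCM : ∀ (p : Ideal (R ⧸ 𝔠)) [p.IsPrime],
      LocCoh.IsCohenMacaulayLocalRing (Localization.AtPrime p))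
    (P : Ideal R) (hP : P ∈ associatedPrimes R (R ⧸ 𝔠)) : P ∈ 𝔠.minimalPrimes := by
  obtain ⟨hPprime, x, hx⟩ := (isAssociatedPrime_iff).mp hP
  have h𝔠P : 𝔠 ≤ P := by
    intro a ha
    rw [hx, Submodule.mem_colon_singleton, Submodule.mem_bot]
    obtain ⟨y, rfl⟩ := Ideal.Quotient.mk_surjective x
    rw [← Ideal.Quotient.mk_eq_mk, ← Submodule.Quotient.mk_smul]
    exact (Submodule.Quotient.mk_eq_zero _).mpr (𝔠.mul_mem_right y ha)
  have hcomap : (P.map (Ideal.Quotient.mk 𝔠)).comap (Ideal.Quotient.mk 𝔠) = P := by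
    rw [Ideal.comap_map_of_surjective _ Ideal.Quotient.mk_surjective, ← RingHom.ker_eq_comap_bot,
      Ideal.mk_ker]
    exact sup_eq_left.mpr h𝔠P
  have hQprime : (P.map (Ideal.Quotient.mk 𝔠)).IsPrime :=
    Ideal.map_isPrime_of_surjective Ideal.Quotient.mk_surjective (by rw [Ideal.mk_ker]; exact h𝔠P)
  have hQ : P.map (Ideal.Quotient.mk 𝔠) ∈ associatedPrimes (R ⧸ 𝔠) (R ⧸ 𝔠) := by
    refine (isAssociatedPrime_iff).mpr ⟨hQprime, x, ?_⟩
    ext b
    obtain ⟨a, rfl⟩ := Ideal.Quotient.mk_surjective b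
    rw [Submodule.mem_colon_singleton, Submodule.mem_bot]
    have h1 : Ideal.Quotient.mk 𝔠 a ∈ P.map (Ideal.Quotient.mk 𝔠) ↔ a ∈ P := by
      rw [← Ideal.mem_comap, hcomap]
    rw [h1, hx, Submodule.mem_colon_singleton, Submodule.mem_bot]
    rfl
  have hmin := mem_minimalPrimes_of_mem_associatedPrimes_self (R ⧸ 𝔠) hCM _ hQ
  rw [Ideal.minimalPrimes_eq_comap]
  exact ⟨_, hmin, hcomap⟩

theorem isCM_of_isGorensteinRing (A : Type u) [CommRing A] [LocCoh.IsGorensteinRing A]
    (p : Ideal A) [p.IsPrime] : LocCoh.IsCohenMacaulayLocalRing (Localization.AtPrime p) := by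
  haveI := LocCoh.IsGorensteinRing.isGorensteinLocalRing_localization (A := A) p
  exact Groth.Agent.Lead.Depth.isCohenMacaulayLocalRing_of_isGorensteinLocalRing _

/-- if `P` is minimal over `𝔠` and `𝔠 ≤ I ≤ P` then `P` is an associated prime of `R ⧸ I` -/
theorem mem_associatedPrimes_quotient_of_minimal (R : Type u) [CommRing R] [IsNoetherianRing R]
    (𝔠 I P : Ideal R) (hP : P ∈ 𝔠.minimalPrimes) (h𝔠I : 𝔠 ≤ I) (hIP : I ≤ P) :
    P ∈ associatedPrimes R (R ⧸ I) := by
  have hmin : P ∈ I.minimalPrimes :=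
    ⟨⟨hP.1.1, hIP⟩, fun Q hQ hQP => hP.2 ⟨hQ.1, h𝔠I.trans hQ.2⟩ hQP⟩
  have := Module.associatedPrimes.minimalPrimes_annihilator_subset_associatedPrimes R (R ⧸ I)
  rw [Ideal.annihilator_quotient] at this
  exact this hmin

/-- directly linked ideals without common associated primes are geometrically linked -/
theorem inf_eq_of_linked (R : Type u) [CommRing R] [IsNoetherianRing R] (𝔠 I J : Ideal R)
    (hCM : ∀ (p : Ideal (R ⧸ 𝔠)) [p.IsPrime],
      LocCoh.IsCohenMacaulayLocalRing (Localization.AtPrime p))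
    (hIJ : 𝔠.colon (I : Set R) = J) (hJI : 𝔠.colon (J : Set R) = I)
    (hdisj : Disjoint (associatedPrimes R (R ⧸ I)) (associatedPrimes R (R ⧸ J))) :
    I ⊓ J = 𝔠 := by
  have h𝔠J : 𝔠 ≤ J := by
    rw [← hIJ]
    intro a ha
    rw [Submodule.mem_colon]
    intro s _
    exact 𝔠.mul_mem_right s ha
  have h𝔠I : 𝔠 ≤ I := by
    rw [← hJI]
    intro a ha
    rw [Submodule.mem_colon]
    intro s _
    exact 𝔠.mul_mem_right s ha
  apply le_antisymm _ (le_inf h𝔠I h𝔠J)
  by_contra hne
  -- the nonzero submodule (I ⊓ J)/𝔠 of R ⧸ 𝔠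
  let N : Submodule R (R ⧸ 𝔠) := Submodule.map (Submodule.mkQ 𝔠) (I ⊓ J)
  have hN : Nontrivial N := by
    obtain ⟨x, hx, hx𝔠⟩ := Set.not_subset.mp hne
    refine ⟨⟨⟨Submodule.mkQ 𝔠 x, Submodule.mem_map_of_mem hx⟩, 0, ?_⟩⟩
    intro h
    apply hx𝔠
    have : Submodule.mkQ 𝔠 x = 0 := congrArg Subtype.val h
    exact (Submodule.Quotient.mk_eq_zero _).mp this
  obtain ⟨P, hP⟩ := associatedPrimes.nonempty R N
  obtain ⟨hPprime, y, hy⟩ := (isAssociatedPrime_iff).mp hP
  obtain ⟨z, hz, hzy⟩ := (Submodule.mem_map).mp y.2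
  have hPmem : ∀ r : R, r ∈ P ↔ r * z ∈ 𝔠 := by
    intro r
    rw [hy, Submodule.mem_colon_singleton, Submodule.mem_bot]
    constructor
    · intro h
      have h1 : r • (y : R ⧸ 𝔠) = 0 := by
        have := congrArg Subtype.val h
        simpa using this
      rw [← hzy, ← map_smul, smul_eq_mul] at h1
      exact (Submodule.Quotient.mk_eq_zero _).mp h1
    · intro h
      apply Subtype.ext
      show r • (y : R ⧸ 𝔠) = 0
      rw [← hzy, ← map_smul, smul_eq_mul]
      exact (Submodule.Quotient.mk_eq_zero _).mpr h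
  have hIP : I ≤ P := by
    intro a ha
    rw [hPmem, mul_comm]
    have hzJ : z ∈ 𝔠.colon (I : Set R) := hIJ ▸ hz.2
    exact (Submodule.mem_colon.mp hzJ) a ha
  have hJP : J ≤ P := by
    intro a ha
    rw [hPmem, mul_comm]
    have hzI : z ∈ 𝔠.colon (J : Set R) := hJI ▸ hz.1
    exact (Submodule.mem_colon.mp hzI) a ha
  have hPass : P ∈ associatedPrimes R (R ⧸ 𝔠) :=
    associatedPrimes.subset_of_injective (f := N.subtype) N.injective_subtype hP
  have hPmin := mem_minimalPrimes_of_mem_associatedPrimes R 𝔠 hCM P hPass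
  exact Set.disjoint_left.mp hdisj
    (mem_associatedPrimes_quotient_of_minimal R 𝔠 I P hPmin h𝔠I hIP)
    (mem_associatedPrimes_quotient_of_minimal R 𝔠 J P hPmin h𝔠J hJP)

end Groth.Agent.Helper28.GorLink
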