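import Mathlib.CategoryTheory.Sites.SheafCohomology.Cech
import Mathlib.Algebra.Homology.Homotopy
import Mathlib.Algebra.Homology.Single
import Mathlib.Algebra.Category.Grp.Limits
import Mathlib.Algebra.Category.Grp.Preadditive
import Mathlib.Algebra.Category.Grp.Zero
import Mathlib.Topology.Category.TopCat.Opens
import Mathlib.CategoryTheory.Limits.Lattice

set_option autoImplicit false

open CategoryTheory CategoryTheory.Limits Opposite Simplicial AlgebraicTopology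

namespace Groth.Agent.Helper28.CechContract

section General

variable {A : Type*} [Category A] [Preadditive A] [HasZeroObject A]

lemma obj_d (Y : CosimplicialObject A) (n : ℕ) :
    (AlternatingCofaceMapComplex.obj Y).d n (n + 1) =
      ∑ i : Fin (n + 2), (-1 : ℤ) ^ (i : ℕ) • Y.δ i := by
  change CochainComplex.of.d (fun n => Y.obj ⦋n⦌) (AlternatingCofaceMapComplex.objD Y) n (n + 1) = _
  rw [CochainComplex.of_d]
  rfl

/-- components of the contracting homotopy -/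
noncomputable def hFun (Y : CosimplicialObject A) (τ : ∀ n : ℕ, Y.obj ⦋n + 1⦌ ⟶ Y.obj ⦋n⦌) :
    ∀ i j : ℕ, (AlternatingCofaceMapComplex.obj Y).X i ⟶ (AlternatingCofaceMapComplex.obj Y).X j
  | 0, _ => 0
  | (n + 1), j => if h : j = n then (-τ n) ≫ eqToHom (by subst h; rfl) else 0

lemma hFun_succ (Y : CosimplicialObject A) (τ : ∀ n : ℕ, Y.obj ⦋n + 1⦌ ⟶ Y.obj ⦋n⦌) (n : ℕ) :
    hFun Y τ (n + 1) n = -τ n := by
  simp [hFun]
  exact Category.comp_id _

lemma hFun_zero_of_ne (Y : CosimplicialObject A) (τ : ∀ n : ℕ, Y.obj ⦋n + 1⦌ ⟶ Y.obj ⦋n⦌)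
    (i j : ℕ) (h : ¬ j + 1 = i) : hFun Y τ i j = 0 := by
  cases i with
  | zero => rfl
  | succ n =>
    have h' : ¬ j = n := fun h' => h (by rw [h'])
    simp [hFun, h']

lemma hεd (Y : CosimplicialObject A) (P : A) (ε : P ⟶ Y.obj ⦋0⦌)
    (hε : ε ≫ Y.δ 0 = ε ≫ Y.δ 1) :
    ε ≫ (AlternatingCofaceMapComplex.obj Y).d 0 1 = 0 := by
  have h : (AlternatingCofaceMapComplex.obj Y).d 0 1 = Y.δ 0 - Y.δ 1 := by
    change (AlternatingCofaceMapComplex.obj Y).d 0 (0 + 1) = _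
    rw [obj_d, Fin.sum_univ_two]
    simp only [Fin.val_zero, pow_zero, one_smul, Fin.val_one, pow_one, neg_smul]
    exact (sub_eq_add_neg _ _).symm
  rw [h]
  change (ε ≫ (Y.δ 0 - Y.δ 1) : P ⟶ Y.obj ⦋1⦌) = 0
  rw [Preadditive.comp_sub, hε, sub_self]

lemma key0 (Y : CosimplicialObject A) (P : A) (ε : P ⟶ Y.obj ⦋0⦌) (σ' : Y.obj ⦋0⦌ ⟶ P)
    (τ : ∀ n : ℕ, Y.obj ⦋n + 1⦌ ⟶ Y.obj ⦋n⦌)
    (h2 : Y.δ 1 ≫ τ 0 = σ' ≫ ε) (h3 : ∀ n, Y.δ 0 ≫ τ n = 𝟙 _) :
    σ' ≫ ε = (∑ i : Fin (0 + 2), (-1 : ℤ) ^ (i : ℕ) • Y.δ i) ≫ (-τ 0) + 0 + 𝟙 (Y.obj ⦋0⦌) := by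
  rw [Fin.sum_univ_two]
  simp only [Fin.val_zero, pow_zero, one_smul, Fin.val_one, pow_one, neg_smul,
    Preadditive.add_comp, Preadditive.neg_comp, Preadditive.comp_neg, h2, h3 0, add_zero]
  abel

lemma keyS (Y : CosimplicialObject A) (τ : ∀ n : ℕ, Y.obj ⦋n + 1⦌ ⟶ Y.obj ⦋n⦌)
    (h3 : ∀ n, Y.δ 0 ≫ τ n = 𝟙 _)
    (h4 : ∀ n (i : Fin (n + 2)), Y.δ i.succ ≫ τ (n + 1) = τ n ≫ Y.δ i) (n : ℕ) :
    (0 : Y.obj ⦋n + 1⦌ ⟶ Y.obj ⦋n + 1⦌) =
      (∑ j : Fin (n + 1 + 2), (-1 : ℤ) ^ (j : ℕ) • Y.δ j) ≫ (-τ (n + 1)) +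
        (-τ n) ≫ (∑ i : Fin (n + 2), (-1 : ℤ) ^ (i : ℕ) • Y.δ i) + 𝟙 (Y.obj ⦋n + 1⦌) := by
  have e2 : (∑ j : Fin (n + 1 + 2), (-1 : ℤ) ^ (j : ℕ) • Y.δ j) ≫ (-τ (n + 1)) =
      -𝟙 (Y.obj ⦋n + 1⦌) + τ n ≫ ∑ i : Fin (n + 2), (-1 : ℤ) ^ (i : ℕ) • Y.δ i := by
    rw [Fin.sum_univ_succ (n := n + 2), Preadditive.add_comp, Preadditive.sum_comp,
      Preadditive.comp_sum]
    congr 1
    · simp only [Fin.val_zero, pow_zero, one_smul, Preadditive.comp_neg, h3]
    · apply Finset.sum_congr rfl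
      intro i _
      rw [Fin.val_succ, pow_succ, Preadditive.zsmul_comp, Preadditive.comp_neg, h4,
        Preadditive.comp_zsmul]
      simp
  rw [e2, Preadditive.neg_comp]
  abel

/-- A cosimplicial object with an "extra codegeneracy" has alternating coface map complex
homotopy equivalent to the augmentation object in degree zero. -/
noncomputable def homotopyEquivOfExtra (Y : CosimplicialObject A) (P : A) (ε : P ⟶ Y.obj ⦋0⦌)
    (σ' : Y.obj ⦋0⦌ ⟶ P) (τ : ∀ n : ℕ, Y.obj ⦋n + 1⦌ ⟶ Y.obj ⦋n⦌)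
    (hε : ε ≫ Y.δ 0 = ε ≫ Y.δ 1) (h1 : ε ≫ σ' = 𝟙 P) (h2 : Y.δ 1 ≫ τ 0 = σ' ≫ ε)
    (h3 : ∀ n, Y.δ 0 ≫ τ n = 𝟙 _)
    (h4 : ∀ n (i : Fin (n + 2)), Y.δ i.succ ≫ τ (n + 1) = τ n ≫ Y.δ i) :
    HomotopyEquiv ((CochainComplex.single₀ A).obj P) (AlternatingCofaceMapComplex.obj Y) where
  hom := (CochainComplex.fromSingle₀Equiv (AlternatingCofaceMapComplex.obj Y) P).symm
    ⟨ε, hεd Y P ε hε⟩
  inv := (CochainComplex.toSingle₀Equiv (AlternatingCofaceMapComplex.obj Y) P).symm σ'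
  homotopyHomInvId := Homotopy.ofEq (by
    apply HomologicalComplex.from_single_hom_ext
    rw [HomologicalComplex.comp_f, CochainComplex.fromSingle₀Equiv_symm_apply_f_zero,
      CochainComplex.toSingle₀Equiv_symm_apply_f_zero]
    exact h1)
  homotopyInvHomId :=
    { hom := hFun Y τ
      zero := fun i j hij => hFun_zero_of_ne Y τ i j hij
      comm := fun i => by
        cases i with
        | zero =>
          rw [Homotopy.dNext_cochainComplex, Homotopy.prevD_zero_cochainComplex,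
            HomologicalComplex.comp_f, CochainComplex.toSingle₀Equiv_symm_apply_f_zero,
            CochainComplex.fromSingle₀Equiv_symm_apply_f_zero, hFun_succ, obj_d]
          exact key0 Y P ε σ' τ h2 h3
        | succ n =>
          rw [Homotopy.dNext_cochainComplex, Homotopy.prevD_succ_cochainComplex,
            HomologicalComplex.comp_f, CochainComplex.toSingle₀Equiv_symm_apply_f_succ, zero_comp,
            hFun_succ, hFun_succ, obj_d, obj_d]
          exact keyS Y τ h3 h4 n }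

end General

section Cech

universe u

open TopologicalSpace

variable {X : TopCat.{u}} {ι : Type u} (U : ι → Opens X)

lemma pi_le {α : Type} [HasProductsOfShape α (Opens X)] (x : α → ι) (a : α) :
    (∏ᶜ (U ∘ x) : Opens X) ≤ U (x a) := (Pi.π (U ∘ x) a).le

lemma le_pi {α : Type} [HasProductsOfShape α (Opens X)] (x : α → ι) (W : Opens X)
    (h : ∀ a, W ≤ U (x a)) : W ≤ (∏ᶜ (U ∘ x) : Opens X) :=
  (Pi.lift (fun a => homOfLE (h a)) : W ⟶ ∏ᶜ (U ∘ x)).le

/-- the Cech simplicial object -/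
noncomputable abbrev E : SimplicialObject (FormalCoproduct.{u} (Opens X)) :=
  (FormalCoproduct.mk ι U).cech

/-- augmentation to the union -/
noncomputable def aug (n : ℕ) :
    (E U).obj (op ⦋n⦌) ⟶ (FormalCoproduct.incl (Opens X)).obj (iSup U) where
  f := fun (_ : Fin (n + 1) → ι) => PUnit.unit
  φ := fun (x : Fin (n + 1) → ι) => homOfLE ((pi_le U x 0).trans (le_iSup U (x 0)))

variable (i₀ : ι) (hi : U i₀ = iSup U)

/-- the extra degeneracy in degree -1 -/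
noncomputable def s' : (FormalCoproduct.incl (Opens X)).obj (iSup U) ⟶ (E U).obj (op ⦋0⦌) where
  f := fun _ => (fun (_ : Fin 1) => i₀)
  φ := fun _ => homOfLE (le_pi U (fun (_ : Fin 1) => i₀) (iSup U) (fun _ => hi.ge))

/-- the extra degeneracy -/
noncomputable def s (n : ℕ) : (E U).obj (op ⦋n⦌) ⟶ (E U).obj (op ⦋n + 1⦌) where
  f := fun (x : Fin (n + 1) → ι) => (Fin.cons i₀ x : Fin (n + 2) → ι)
  φ := fun (x : Fin (n + 1) → ι) =>
    homOfLE (le_pi U (Fin.cons i₀ x : Fin (n + 2) → ι) _ (by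
      intro a
      cases a using Fin.cases with
      | zero =>
        rw [Fin.cons_zero, hi]
        exact (pi_le U x 0).trans (le_iSup U (x 0))
      | succ b =>
        rw [Fin.cons_succ]
        exact pi_le U x b))

lemma hom_ext_thin {P Q : FormalCoproduct.{u} (Opens X)} {f g : P ⟶ Q}
    (h : ∀ i, f.f i = g.f i) : f = g :=
  FormalCoproduct.hom_ext (funext h) (fun _ => Subsingleton.elim _ _)

lemma s'_aug : s' U i₀ hi ≫ aug U 0 = 𝟙 _ := hom_ext_thin (fun _ => rfl)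

lemma δ_aug (n : ℕ) (j : Fin (n + 2)) : (E U).δ j ≫ aug U n = aug U (n + 1) :=
  hom_ext_thin (fun _ => rfl)

lemma s_δ_zero (n : ℕ) : s U i₀ hi n ≫ (E U).δ 0 = 𝟙 _ := by
  apply hom_ext_thin
  intro x
  funext a
  change (Fin.cons i₀ x : Fin (n + 2) → ι) (Fin.succAbove 0 a) = x a
  rw [Fin.succAbove_zero_apply, Fin.cons_succ]

lemma s_δ_succ (n : ℕ) (i : Fin (n + 2)) :
    s U i₀ hi (n + 1) ≫ (E U).δ i.succ = (E U).δ i ≫ s U i₀ hi n := by
  apply hom_ext_thin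
  intro x
  funext a
  change (Fin.cons i₀ x : Fin (n + 3) → ι) (i.succ.succAbove a) =
    (Fin.cons i₀ (fun b => x (i.succAbove b)) : Fin (n + 2) → ι) a
  cases a using Fin.cases with
  | zero => rw [Fin.succ_succAbove_zero, Fin.cons_zero, Fin.cons_zero]
  | succ b => rw [Fin.succ_succAbove_succ, Fin.cons_succ, Fin.cons_succ]

lemma s0_δ_one : s U i₀ hi 0 ≫ (E U).δ 1 = aug U 0 ≫ s' U i₀ hi := by
  apply hom_ext_thin
  intro x
  funext a
  change (Fin.cons i₀ x : Fin 2 → ι) ((1 : Fin 2).succAbove a) = i₀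
  have ha : a = (0 : Fin 1) := Subsingleton.elim (α := Fin 1) _ _
  subst ha
  rfl

variable (F : (Opens X)ᵒᵖ ⥤ AddCommGrpCat.{u})

/-- evaluation of the presheaf on formal coproducts -/
noncomputable abbrev G' : (FormalCoproduct.{u} (Opens X))ᵒᵖ ⥤ AddCommGrpCat.{u} :=
  (FormalCoproduct.evalOp (Opens X) AddCommGrpCat.{u}).obj F

/-- the Cech cosimplicial object -/
noncomputable abbrev Y : CosimplicialObject AddCommGrpCat.{u} :=
  (FormalCoproduct.cosimplicialObjectFunctor (E U)).obj F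

lemma Y_δ (n : ℕ) (j : Fin (n + 2)) : (Y U F).δ j = (G' F).map ((E U).δ j).op := rfl

lemma G_hε : (G' F).map (aug U 0).op ≫ (G' F).map ((E U).δ 0).op =
    (G' F).map (aug U 0).op ≫ (G' F).map ((E U).δ 1).op := by
  rw [← Functor.map_comp, ← Functor.map_comp, ← op_comp, ← op_comp, δ_aug, δ_aug]

include hi in
lemma G_h1 : (G' F).map (aug U 0).op ≫ (G' F).map (s' U i₀ hi).op = 𝟙 _ := by
  rw [← Functor.map_comp, ← op_comp, s'_aug]
  exact (G' F).map_id _

lemma G_h2 : (G' F).map ((E U).δ 1).op ≫ (G' F).map (s U i₀ hi 0).op =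
    (G' F).map (s' U i₀ hi).op ≫ (G' F).map (aug U 0).op := by
  rw [← Functor.map_comp, ← Functor.map_comp, ← op_comp, ← op_comp, s0_δ_one]

lemma G_h3 (n : ℕ) : (G' F).map ((E U).δ 0).op ≫ (G' F).map (s U i₀ hi n).op = 𝟙 _ := by
  rw [← Functor.map_comp, ← op_comp, s_δ_zero]
  exact (G' F).map_id _

lemma G_h4 (n : ℕ) (i : Fin (n + 2)) :
    (G' F).map ((E U).δ i.succ).op ≫ (G' F).map (s U i₀ hi (n + 1)).op =
      (G' F).map (s U i₀ hi n).op ≫ (G' F).map ((E U).δ i).op := by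
  rw [← Functor.map_comp, ← Functor.map_comp, ← op_comp, ← op_comp, s_δ_succ]

include hi in
theorem main : Nonempty (HomotopyEquiv
    ((CochainComplex.single₀ AddCommGrpCat.{u}).obj (F.obj (op (iSup U))))
    ((cechComplexFunctor U).obj F)) := by
  let P₀ : AddCommGrpCat.{u} := (G' F).obj (op ((FormalCoproduct.incl (Opens X)).obj (iSup U)))
  let isoP : P₀ ≅ F.obj (op (iSup U)) :=
    ((FormalCoproduct.evalOpCompInlIsoId (Opens X) AddCommGrpCat.{u}).app F).app (op (iSup U))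
  have he : HomotopyEquiv ((CochainComplex.single₀ AddCommGrpCat.{u}).obj P₀)
      (AlternatingCofaceMapComplex.obj (Y U F)) :=
    homotopyEquivOfExtra (Y U F) P₀ ((G' F).map (aug U 0).op) ((G' F).map (s' U i₀ hi).op)
      (fun n => (G' F).map (s U i₀ hi n).op) (G_hε U F) (G_h1 U i₀ hi F) (G_h2 U i₀ hi F)
      (G_h3 U i₀ hi F) (G_h4 U i₀ hi F)
  exact ⟨(HomotopyEquiv.ofIso
    ((CochainComplex.single₀ AddCommGrpCat.{u}).mapIso isoP.symm)).trans he⟩

end Cech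

end Groth.Agent.Helper28.CechContract
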