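import Mathlib
import Groth.Prelude.Def_FinCov
import Groth.Agent.Lib.Helper28.FinrankKey
import Groth.Agent.Lib.Helper13.QCohPush
import Groth.Agent.Lib.Helper5.FPC1

/-!
# The relative spectrum of a locally free algebra of rank `d` is a cover of degree `d`
-/

set_option autoImplicit false
universe u
open CategoryTheory CategoryTheory.Limits AlgebraicGeometry Opposite TopologicalSpace
open Module

namespace Groth.Agent.Helper28.SpecCover

open Groth.Agent.Helper13.PushFinite Groth.Agent.Helper13.PushFinLocFree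
open Groth.Agent.Helper13.LocFree Groth.Agent.Helper28.FinrankKey

variable {X : Scheme.{u}} (A : RelSpec.QCAlg X)

instance isIso_gammaAff (U : X.Opens) (hU : IsAffineOpen U) : IsIso (A.gammaAff U hU) := by
  have h1 : IsIso ((A.ι U hU).app (A.π ⁻¹ᵁ U)) :=
    (A.ι U hU).isIso_app _ (A.π_preimage U hU).le
  have h2 : IsIso ((A.ι U hU).appLE (A.π ⁻¹ᵁ U) ⊤ (A.top_le_preimage U hU)) := by
    have hle : A.ι U hU ⁻¹ᵁ (A.π ⁻¹ᵁ U) ≤ ⊤ := le_top
    have : IsIso (homOfLE (A.top_le_preimage U hU)) :=
      ⟨homOfLE hle, Subsingleton.elim _ _, Subsingleton.elim _ _⟩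
    have : IsIso ((Spec (A.presheaf.obj (op U))).presheaf.map
        (homOfLE (A.top_le_preimage U hU)).op) := inferInstance
    show IsIso ((A.ι U hU).app (A.π ⁻¹ᵁ U) ≫ _)
    infer_instance
  unfold RelSpec.QCAlg.gammaAff
  infer_instance

/-- sections of `π_* O_{Spec A}` over an affine open are the sections of `A`. -/
noncomputable def gammaLin (U : X.Opens) (hU : IsAffineOpen U) :
    letI := algApp A.π U
    Γ(A.spec, A.π ⁻¹ᵁ U) ≃ₗ[Γ(X, U)] Γ(A.toModule, U) :=
  letI := algApp A.π U
  { toFun := fun s => (A.gammaAff U hU).hom s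
    invFun := fun a => (inv (A.gammaAff U hU)).hom a
    left_inv := fun s => by
      show (A.gammaAff U hU ≫ inv (A.gammaAff U hU)).hom s = s
      rw [IsIso.hom_inv_id]
      rfl
    right_inv := fun a => by
      show (inv (A.gammaAff U hU) ≫ A.gammaAff U hU).hom a = a
      rw [IsIso.inv_hom_id]
      rfl
    map_add' := fun s t => map_add (A.gammaAff U hU).hom s t
    map_smul' := fun r s => by
      rw [RingHom.id_apply, Algebra.smul_def]
      have h := congr($(A.π_app_gammaAff U hU) r)
      rw [map_mul]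
      exact congrArg (· * (A.gammaAff U hU).hom s) h }

theorem isCover_π (d : ℕ) (hA : FlatMod.IsFinLocFreeOfRank d A.toModule) :
    FinCov.IsCover A.π d := by
  rw [isCover_iff]
  refine ⟨inferInstance, ?_⟩
  haveI : A.toModule.IsQuasicoherent :=
    Groth.Agent.Helper5.FPC.isQuasicoherent_of_isFinLocFree _ (fun x => by
      obtain ⟨U, hxU, he⟩ := hA x
      exact ⟨U, d, hxU, he⟩)
  haveI : ((Scheme.Modules.pushforward A.π).obj (Coh.structureModule A.spec)).IsQuasicoherent :=
    Groth.Agent.Helper13.QCohPush.isQuasicoherent_pushforward A.π _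
  rw [isFinLocFreeOfRank_iff_of_isQuasicoherent] at hA ⊢
  intro x
  obtain ⟨U, hU, hxU, ⟨b⟩⟩ := hA x
  letI := algApp A.π U
  exact ⟨U, hU, hxU, ⟨b.map ((gammaLin A U hU).symm.trans (pushUnitEquiv A.π U).symm)⟩⟩

end Groth.Agent.Helper28.SpecCover
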