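import Mathlib
import Groth.Prelude.Def_BlowUp2
import Groth.Agent.Lib.Helper28.IdealComapOld

universe u
open AlgebraicGeometry CategoryTheory

namespace Groth.Agent.Helper28.FiniteTypeIdeal

/-- finite generation of an ideal transfers across a ring isomorphism -/
lemma fg_of_map_ringEquiv {R S : Type*} [CommRing R] [CommRing S] (e : R ≃+* S) (K : Ideal R)
    (h : (K.map (e : R →+* S)).FG) : K.FG := by
  have h2 := h.map (e.symm : S →+* R)
  rw [Ideal.map_map] at h2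
  have : (e.symm : S →+* R).comp (e : R →+* S) = RingHom.id R := by
    ext x; simp
  rwa [this, Ideal.map_id] at h2

/-- being of finite type is local -/
lemma isFiniteTypeIdeal_of_local {Y : Scheme.{u}} (𝓙 : Y.IdealSheafData)
    (h : ∀ y : Y, ∃ V : Y.affineOpens, y ∈ V.1 ∧ (𝓙.ideal V).FG) : BlowUp.IsFiniteTypeIdeal 𝓙 := by
  intro W
  choose V hyV hV using h
  have hex : ∀ y : W.1, ∃ s : Γ(Y, W.1), Y.basicOpen s ≤ (V y.1).1 ∧ y.1 ∈ Y.basicOpen s := by
    intro y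
    exact W.2.exists_basicOpen_le (V := (V y.1).1) ⟨y.1, hyV y.1⟩ y.2
  choose s hsV hys using hex
  have hspan : Ideal.span (Set.range s) = ⊤ := by
    rw [← W.2.self_le_iSup_basicOpen_iff]
    intro y hy
    rw [TopologicalSpace.Opens.mem_iSup]
    exact ⟨⟨s ⟨y, hy⟩, ⟨_, rfl⟩⟩, hys ⟨y, hy⟩⟩
  apply Ideal.fg_of_localizationSpan (Set.range s) hspan
  rintro ⟨_, y, rfl⟩
  -- the ideal on the basic open is finitely generated
  have h1 : (𝓙.ideal (Y.affineBasicOpen (s y))).FG := by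
    have hle : Y.affineBasicOpen (s y) ≤ V y.1 := hsV y
    rw [← 𝓙.map_ideal hle]
    exact (hV y.1).map _
  have h2 : (𝓙.ideal W).map (Y.presheaf.map (homOfLE (Y.basicOpen_le (s y))).op).hom =
      𝓙.ideal (Y.affineBasicOpen (s y)) := 𝓙.map_ideal (Y.affineBasicOpen_le (s y))
  haveI := W.2.isLocalization_basicOpen (s y)
  let e : Localization.Away (s y) ≃ₐ[Γ(Y, W.1)] Γ(Y, Y.basicOpen (s y)) :=
    IsLocalization.algEquiv (Submonoid.powers (s y)) _ _
  apply fg_of_map_ringEquiv e.toRingEquiv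
  rw [Ideal.map_map]
  have h3 : ((e.toRingEquiv : Localization.Away (s y) →+* Γ(Y, Y.basicOpen (s y)))).comp
      (algebraMap Γ(Y, W.1) (Localization.Away (s y))) =
      (Y.presheaf.map (homOfLE (Y.basicOpen_le (s y))).op).hom := by
    ext x
    simp only [RingHom.coe_comp, Function.comp_apply]
    exact e.commutes x
  rw [h3, h2]
  exact h1

/-- the inverse image of an ideal sheaf of finite type is of finite type -/
lemma isFiniteTypeIdeal_comap {X Y : Scheme.{u}} (f : Y ⟶ X) (𝓘 : X.IdealSheafData)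
    (h : BlowUp.IsFiniteTypeIdeal 𝓘) : BlowUp.IsFiniteTypeIdeal (𝓘.comap f) := by
  apply isFiniteTypeIdeal_of_local
  intro y
  obtain ⟨_, ⟨V, hV, rfl⟩, hyV, -⟩ :=
    X.isBasis_affineOpens.exists_subset_of_mem_open (Set.mem_univ (f y)) isOpen_univ
  obtain ⟨_, ⟨U, hU, rfl⟩, hyU, hUV⟩ :=
    Y.isBasis_affineOpens.exists_subset_of_mem_open (show y ∈ ((f ⁻¹ᵁ V : Y.Opens) : Set Y) from hyV)
      (f ⁻¹ᵁ V).2
  refine ⟨⟨U, hU⟩, hyU, ?_⟩
  rw [Groth.Agent.Helper28.IdealComapOld.ideal_comap f 𝓘 ⟨V, hV⟩ ⟨U, hU⟩ hUV]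
  exact (h ⟨V, hV⟩).map _

lemma isFiniteTypeIdeal_mul {X : Scheme.{u}} (𝓘 𝓙 : X.IdealSheafData)
    (h₁ : BlowUp.IsFiniteTypeIdeal 𝓘) (h₂ : BlowUp.IsFiniteTypeIdeal 𝓙) :
    BlowUp.IsFiniteTypeIdeal (𝓘 * 𝓙) := by
  intro U
  rw [Scheme.IdealSheafData.ideal_mul]
  exact (h₁ U).mul (h₂ U)

lemma isFiniteTypeIdeal_one (X : Scheme.{u}) : BlowUp.IsFiniteTypeIdeal (1 : X.IdealSheafData) := by
  intro U
  change (⊤ : Ideal _).FG
  exact ⟨{1}, by simp⟩

lemma isFiniteTypeIdeal_prod {X : Scheme.{u}} {ι : Type*} (s : Finset ι) (𝓘 : ι → X.IdealSheafData)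
    (h : ∀ i ∈ s, BlowUp.IsFiniteTypeIdeal (𝓘 i)) : BlowUp.IsFiniteTypeIdeal (∏ i ∈ s, 𝓘 i) :=
  Finset.prod_induction _ _ isFiniteTypeIdeal_mul (isFiniteTypeIdeal_one X) h

lemma support_prod_disjoint {X : Scheme.{u}} {ι : Type*} (s : Finset ι) (𝓘 : ι → X.IdealSheafData)
    (T : Set X) (h : ∀ i ∈ s, Disjoint ((𝓘 i).support : Set X) T) :
    Disjoint ((∏ i ∈ s, 𝓘 i).support : Set X) T := by
  refine Finset.prod_induction 𝓘 (fun 𝓙 => Disjoint (𝓙.support : Set X) T) ?_ ?_ h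
  · intro a b ha hb
    rw [Scheme.IdealSheafData.support_mul]
    change Disjoint ((a.support : Set X) ∪ (b.support : Set X)) T
    exact Set.disjoint_union_left.mpr ⟨ha, hb⟩
  · change Disjoint ((⊤ : X.IdealSheafData).support : Set X) T
    rw [Scheme.IdealSheafData.support_top]
    simp

end Groth.Agent.Helper28.FiniteTypeIdeal
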