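import Mathlib
import Groth.Prelude.Def_BlowUp2
import Groth.Agent.Lib.Helper28.IdealComapOld
import Groth.Agent.Lib.Helper28.FiniteTypeIdeal

/-!
# Stalks of quasi-coherent ideal sheaves and extension of finite type ideals (Stacks 01PF)
-/

set_option autoImplicit false
universe u
open CategoryTheory CategoryTheory.Limits AlgebraicGeometry TopologicalSpace

namespace Groth.Agent.Helper28.IdealExt

variable {X : Scheme.{u}}

/-- the stalk of a quasi-coherent ideal sheaf at a point -/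
noncomputable def stalkIdeal (I : X.IdealSheafData) (x : X) : Ideal (X.presheaf.stalk x) :=
  ⨆ (A : X.affineOpens) (h : x ∈ A.1), (I.ideal A).map (X.presheaf.germ A.1 x h).hom

lemma map_germ_eq_of_le (I : X.IdealSheafData) {A B : X.affineOpens} (hBA : B ≤ A) (x : X)
    (hx : x ∈ B.1) :
    (I.ideal A).map (X.presheaf.germ A.1 x (hBA hx)).hom =
      (I.ideal B).map (X.presheaf.germ B.1 x hx).hom := by
  rw [← I.map_ideal hBA, Ideal.map_map, ← CommRingCat.hom_comp]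
  congr 2
  exact (X.presheaf.germ_res (homOfLE hBA) x hx).symm

lemma stalkIdeal_eq (I : X.IdealSheafData) (A : X.affineOpens) (x : X) (h : x ∈ A.1) :
    stalkIdeal I x = (I.ideal A).map (X.presheaf.germ A.1 x h).hom := by
  apply le_antisymm
  · refine iSup₂_le fun A' h' => ?_
    obtain ⟨_, ⟨B, hB, rfl⟩, hxB, hBAA⟩ :=
      X.isBasis_affineOpens.exists_subset_of_mem_open (show x ∈ ((A.1 ⊓ A'.1 : X.Opens) : Set X)
        from ⟨h, h'⟩) (A.1 ⊓ A'.1).2
    have h1 : (⟨B, hB⟩ : X.affineOpens) ≤ A := fun y hy => (hBAA hy).1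
    have h2 : (⟨B, hB⟩ : X.affineOpens) ≤ A' := fun y hy => (hBAA hy).2
    rw [map_germ_eq_of_le I h2 x hxB, ← map_germ_eq_of_le I h1 x hxB]
  · exact le_iSup₂ (f := fun (A : X.affineOpens) (h : x ∈ A.1) =>
      (I.ideal A).map (X.presheaf.germ A.1 x h).hom) A h

lemma ideal_le_iff_stalk (I J : X.IdealSheafData) (A : X.affineOpens) :
    I.ideal A ≤ J.ideal A ↔ ∀ x ∈ A.1, stalkIdeal I x ≤ stalkIdeal J x := by
  rw [A.2.ideal_le_iff]
  constructor
  · intro h x hx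
    rw [stalkIdeal_eq I A x hx, stalkIdeal_eq J A x hx]
    exact h x hx
  · intro h x hx
    rw [← stalkIdeal_eq I A x hx, ← stalkIdeal_eq J A x hx]
    exact h x hx

lemma ideal_eq_iff_stalk (I J : X.IdealSheafData) (A : X.affineOpens) :
    I.ideal A = J.ideal A ↔ ∀ x ∈ A.1, stalkIdeal I x = stalkIdeal J x := by
  rw [le_antisymm_iff, ideal_le_iff_stalk, ideal_le_iff_stalk]
  constructor
  · intro h x hx
    exact le_antisymm (h.1 x hx) (h.2 x hx)
  · intro h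
    exact ⟨fun x hx => (h x hx).le, fun x hx => (h x hx).ge⟩

lemma le_iff_stalk (I J : X.IdealSheafData) :
    I ≤ J ↔ ∀ x, stalkIdeal I x ≤ stalkIdeal J x := by
  constructor
  · intro h x
    obtain ⟨_, ⟨A, hA, rfl⟩, hxA, -⟩ :=
      X.isBasis_affineOpens.exists_subset_of_mem_open (Set.mem_univ x) isOpen_univ
    exact (ideal_le_iff_stalk I J ⟨A, hA⟩).1 (h ⟨A, hA⟩) x hxA
  · intro h A
    exact (ideal_le_iff_stalk I J A).2 fun x _ => h x

lemma ext_stalk (I J : X.IdealSheafData) (h : ∀ x, stalkIdeal I x = stalkIdeal J x) : I = J :=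
  le_antisymm ((le_iff_stalk I J).2 fun x => (h x).le) ((le_iff_stalk J I).2 fun x => (h x).ge)

lemma stalkIdeal_mono {I J : X.IdealSheafData} (h : I ≤ J) (x : X) :
    stalkIdeal I x ≤ stalkIdeal J x := (le_iff_stalk I J).1 h x

/-- stalk of the inverse image ideal -/
lemma stalkIdeal_comap {Y : Scheme.{u}} (f : Y ⟶ X) (I : X.IdealSheafData) (y : Y) :
    stalkIdeal (I.comap f) y = (stalkIdeal I (f y)).map (f.stalkMap y).hom := by
  obtain ⟨_, ⟨A, hA, rfl⟩, hxA, -⟩ :=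
    X.isBasis_affineOpens.exists_subset_of_mem_open (Set.mem_univ (f y)) isOpen_univ
  obtain ⟨_, ⟨B, hB, rfl⟩, hyB, hBA⟩ :=
    Y.isBasis_affineOpens.exists_subset_of_mem_open (show y ∈ ((f ⁻¹ᵁ A : Y.Opens) : Set Y) from hxA)
      (f ⁻¹ᵁ A).2
  rw [stalkIdeal_eq (I.comap f) ⟨B, hB⟩ y hyB, stalkIdeal_eq I ⟨A, hA⟩ (f y) hxA,
    Groth.Agent.Helper28.IdealComapOld.ideal_comap f I ⟨A, hA⟩ ⟨B, hB⟩ hBA, Ideal.map_map, Ideal.map_map,
    ← CommRingCat.hom_comp, ← CommRingCat.hom_comp, Scheme.Hom.germ_stalkMap]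
  congr 2
  rw [Scheme.Hom.appLE, Category.assoc]
  congr 1
  exact Y.presheaf.germ_res (homOfLE hBA) y hyB

lemma stalkIdeal_top (x : X) : stalkIdeal (⊤ : X.IdealSheafData) x = ⊤ := by
  obtain ⟨_, ⟨A, hA, rfl⟩, hxA, -⟩ :=
    X.isBasis_affineOpens.exists_subset_of_mem_open (Set.mem_univ x) isOpen_univ
  rw [stalkIdeal_eq ⊤ ⟨A, hA⟩ x hxA]
  simp [Ideal.map_top]

lemma comap_map_eq {Y : Scheme.{u}} (j : Y ⟶ X) [IsOpenImmersion j] [QuasiCompact j]
    (𝔄 : Y.IdealSheafData) : (𝔄.map j).comap j = 𝔄 := by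
  apply le_antisymm (Scheme.IdealSheafData.comap_map_le _ _)
  intro B s hs
  have H : IsAffineOpen (j ⁻¹ᵁ (j ''ᵁ B.1)) := by rw [Scheme.Hom.preimage_image_eq]; exact B.2
  have h0 := Scheme.IdealSheafData.ideal_comap_of_isOpenImmersion (𝔄.map j) j B
  have h1 := Scheme.IdealSheafData.ideal_map 𝔄 j ⟨j ''ᵁ B.1, B.2.image_of_isOpenImmersion j⟩ H
  rw [h0, Ideal.mem_comap, h1, Ideal.mem_comap, ← RingHom.comp_apply, ← CommRingCat.hom_comp,
    Scheme.Hom.appIso_inv_app]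
  have := 𝔄.map_ideal' (U := ⟨j ⁻¹ᵁ (j ''ᵁ B.1), H⟩) (V := B)
    (eqToHom (Scheme.Hom.preimage_image_eq j B.1)).op
  rw [← this]
  exact Ideal.mem_map_of_mem _ hs


lemma le_map_of_forall_le {Y : Scheme.{u}} (f : Y ⟶ X) [QuasiCompact f] (𝔄 : Y.IdealSheafData)
    (J : X.IdealSheafData) (A : X.affineOpens)
    (h : ∀ y, f y ∈ A.1 → stalkIdeal (J.comap f) y ≤ stalkIdeal 𝔄 y) :
    J.ideal A ≤ (𝔄.map f).ideal A := by
  let g : 𝔄.subscheme ⟶ X := 𝔄.subschemeι ≫ f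
  intro s hs
  have hk : (𝔄.map f).ideal A = RingHom.ker (g.app A).hom := Scheme.Hom.ker_apply g A
  rw [hk, RingHom.mem_ker]
  have key : ∀ z : (g ⁻¹ᵁ A.1 : 𝔄.subscheme.Opens), ∃ N : 𝔄.subscheme.Opens,
      ∃ hN : N ≤ g ⁻¹ᵁ A.1, z.1 ∈ N ∧
      𝔄.subscheme.presheaf.map (homOfLE hN).op ((g.app A).hom s) = 0 := by
    intro ⟨z, hz⟩
    obtain ⟨_, ⟨B, hB, rfl⟩, hyB, hBA0⟩ :=
      Y.isBasis_affineOpens.exists_subset_of_mem_open
        (show 𝔄.subschemeι z ∈ ((f ⁻¹ᵁ A.1 : Y.Opens) : Set Y) from hz) (f ⁻¹ᵁ A.1).2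
    have hBA : B ≤ f ⁻¹ᵁ A.1 := hBA0
    have hle : 𝔄.subschemeι ⁻¹ᵁ B ≤ g ⁻¹ᵁ A.1 := fun w hw => hBA hw
    refine ⟨𝔄.subschemeι ⁻¹ᵁ B, hle, hyB, ?_⟩
    have h1 : (f.appLE A.1 B hBA).hom s ∈ 𝔄.ideal ⟨B, hB⟩ := by
      have h2 : (J.comap f).ideal ⟨B, hB⟩ ≤ 𝔄.ideal ⟨B, hB⟩ :=
        (ideal_le_iff_stalk _ _ _).2 fun y hy => h y (hBA hy)
      apply h2
      rw [Groth.Agent.Helper28.IdealComapOld.ideal_comap f J A ⟨B, hB⟩ hBA]
      exact Ideal.mem_map_of_mem _ hs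
    have h3 : 𝔄.ideal ⟨B, hB⟩ = RingHom.ker (𝔄.subschemeι.app B).hom := by
      have := Scheme.Hom.ker_apply 𝔄.subschemeι ⟨B, hB⟩
      rwa [𝔄.ker_subschemeι] at this
    rw [h3, RingHom.mem_ker] at h1
    have h4 : g.app A.1 ≫ 𝔄.subscheme.presheaf.map (homOfLE hle).op =
        f.appLE A.1 B hBA ≫ 𝔄.subschemeι.app B := by
      rw [Scheme.Hom.app_eq_appLE (f := 𝔄.subschemeι), Scheme.Hom.appLE_comp_appLE]
      rfl
    have h5 := congrArg (fun φ => φ.hom s) h4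
    simp only [CommRingCat.hom_comp, RingHom.comp_apply] at h5
    rw [h5, h1]
  choose N hN hzN hres using key
  apply 𝔄.subscheme.sheaf.eq_of_locally_eq' N (g ⁻¹ᵁ A.1) (fun z => homOfLE (hN z))
  · intro z hz
    exact TopologicalSpace.Opens.mem_iSup.mpr ⟨⟨z, hz⟩, hzN ⟨z, hz⟩⟩
  · intro z
    change 𝔄.subscheme.presheaf.map _ _ = 𝔄.subscheme.presheaf.map _ _
    rw [hres z, map_zero]


lemma exists_fg_le_map_eq {R S : Type*} [CommRing R] [CommRing S] (φ : R →+* S) (𝔟 : Ideal R)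
    (h : (𝔟.map φ).FG) : ∃ 𝔞 : Ideal R, 𝔞 ≤ 𝔟 ∧ 𝔞.FG ∧ 𝔞.map φ = 𝔟.map φ := by
  classical
  unfold Ideal.map at h
  obtain ⟨T, hT, hspan⟩ := (Submodule.fg_span_iff_fg_span_finset_subset _).mp h
  obtain ⟨T', hT', rfl⟩ := Finset.subset_set_image_iff.mp hT
  refine ⟨Ideal.span (T' : Set R), Ideal.span_le.mpr hT', ⟨T', rfl⟩, ?_⟩
  rw [Ideal.map_span]
  show Submodule.span S _ = Submodule.span S _
  rw [hspan, Finset.coe_image]

lemma exists_ft_of_isAffine {Y : Scheme.{u}} [IsAffine Y] (W : Y.Opens) (hW : IsCompact (W : Set Y))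
    (L : Y.IdealSheafData) (hL : ∀ B : Y.affineOpens, B.1 ≤ W → (L.ideal B).FG) :
    ∃ 𝔄 : Y.IdealSheafData, BlowUp.IsFiniteTypeIdeal 𝔄 ∧ 𝔄 ≤ L ∧
      ∀ y ∈ W, stalkIdeal 𝔄 y = stalkIdeal L y := by
  classical
  obtain ⟨s, hs, hWs⟩ :=
    (isCompact_and_isOpen_iff_finite_and_eq_biUnion_basicOpen (X := Y)).mp ⟨hW, W.2⟩
  let T : Y.affineOpens := ⟨⊤, isAffineOpen_top Y⟩
  have hle : ∀ g ∈ s, (Y.basicOpen g) ≤ W := by
    intro g hg y hy
    show y ∈ (W : Set Y)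
    rw [hWs]
    exact Set.mem_biUnion hg hy
  have hD : ∀ g : Γ(Y, ⊤), ∃ 𝔞 : Ideal Γ(Y, ⊤), 𝔞 ≤ L.ideal T ∧ 𝔞.FG ∧ (g ∈ s →
      𝔞.map (Y.presheaf.map (homOfLE (Y.basicOpen_le g)).op).hom =
        L.ideal (Y.affineBasicOpen (U := T) g)) := by
    intro g
    by_cases hg : g ∈ s
    · have h1 := hL (Y.affineBasicOpen (U := T) g) (hle g hg)
      rw [← L.map_ideal_basicOpen T g] at h1
      obtain ⟨𝔞, h2, h3, h4⟩ := exists_fg_le_map_eq _ _ h1
      exact ⟨𝔞, h2, h3, fun _ => h4.trans (L.map_ideal_basicOpen T g)⟩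
    · exact ⟨⊥, bot_le, Submodule.fg_bot, fun h => absurd h hg⟩
  choose 𝔞 h𝔞le h𝔞fg h𝔞map using hD
  let 𝔟 : Ideal Γ(Y, ⊤) := ⨆ g ∈ hs.toFinset, 𝔞 g
  have h𝔟fg : 𝔟.FG := Submodule.fg_biSup _ _ fun g _ => h𝔞fg g
  have h𝔟le : 𝔟 ≤ L.ideal T := iSup₂_le fun g _ => h𝔞le g
  have h𝔟T : (Scheme.IdealSheafData.ofIdealTop 𝔟).ideal T = 𝔟 :=
    (Scheme.IdealSheafData.equivOfIsAffine (X := Y)).apply_symm_apply 𝔟
  have h𝔄le : Scheme.IdealSheafData.ofIdealTop 𝔟 ≤ L :=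
    Scheme.IdealSheafData.le_of_isAffine (h𝔟T.trans_le h𝔟le)
  refine ⟨Scheme.IdealSheafData.ofIdealTop 𝔟, ?_, ?_, ?_⟩
  · intro B
    rw [Scheme.IdealSheafData.ofIdealTop_ideal]
    exact h𝔟fg.map _
  · exact h𝔄le
  · intro y hy
    have hy' : y ∈ ⋃ i ∈ s, (Y.basicOpen i : Set Y) := hWs ▸ hy
    obtain ⟨g, hg, hyg⟩ := Set.mem_iUnion₂.mp hy'
    apply le_antisymm
    · exact stalkIdeal_mono h𝔄le y
    · rw [stalkIdeal_eq L (Y.affineBasicOpen (U := T) g) y hyg,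
        stalkIdeal_eq _ (Y.affineBasicOpen (U := T) g) y hyg, ← h𝔞map g hg,
        Scheme.IdealSheafData.ofIdealTop_ideal]
      apply Ideal.map_mono
      apply Ideal.map_mono
      exact le_iSup₂ (f := fun g (_ : g ∈ hs.toFinset) => 𝔞 g) g (hs.mem_toFinset.mpr hg)


open Groth.Agent.Helper28.FiniteTypeIdeal in
/-- finite generation of the ideal on an affine open is local -/
lemma fg_of_local (𝓙 : X.IdealSheafData) (W : X.affineOpens)
    (h : ∀ y ∈ W.1, ∃ V : X.affineOpens, y ∈ V.1 ∧ (𝓙.ideal V).FG) : (𝓙.ideal W).FG := by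
  have h' : ∀ y : W.1, ∃ V : X.affineOpens, y.1 ∈ V.1 ∧ (𝓙.ideal V).FG := fun y => h y.1 y.2
  choose V hyV hV using h'
  have hex : ∀ y : W.1, ∃ s : Γ(X, W.1), X.basicOpen s ≤ (V y).1 ∧ y.1 ∈ X.basicOpen s := by
    intro y
    exact W.2.exists_basicOpen_le (V := (V y).1) ⟨y.1, hyV y⟩ y.2
  choose s hsV hys using hex
  have hspan : Ideal.span (Set.range s) = ⊤ := by
    rw [← W.2.self_le_iSup_basicOpen_iff]
    intro y hy
    rw [TopologicalSpace.Opens.mem_iSup]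
    exact ⟨⟨s ⟨y, hy⟩, ⟨_, rfl⟩⟩, hys ⟨y, hy⟩⟩
  apply Ideal.fg_of_localizationSpan (Set.range s) hspan
  rintro ⟨_, y, rfl⟩
  have h1 : (𝓙.ideal (X.affineBasicOpen (s y))).FG := by
    have hle : X.affineBasicOpen (s y) ≤ V y := hsV y
    rw [← 𝓙.map_ideal hle]
    exact (hV y).map _
  have h2 : (𝓙.ideal W).map (X.presheaf.map (homOfLE (X.basicOpen_le (s y))).op).hom =
      𝓙.ideal (X.affineBasicOpen (s y)) := 𝓙.map_ideal (X.affineBasicOpen_le (s y))
  haveI := W.2.isLocalization_basicOpen (s y)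
  let e : Localization.Away (s y) ≃ₐ[Γ(X, W.1)] Γ(X, X.basicOpen (s y)) :=
    IsLocalization.algEquiv (Submonoid.powers (s y)) _ _
  apply fg_of_map_ringEquiv e.toRingEquiv
  rw [Ideal.map_map]
  have h3 : ((e.toRingEquiv : Localization.Away (s y) →+* Γ(X, X.basicOpen (s y)))).comp
      (algebraMap Γ(X, W.1) (Localization.Away (s y))) =
      (X.presheaf.map (homOfLE (X.basicOpen_le (s y))).op).hom := by
    ext x
    simp only [RingHom.coe_comp, Function.comp_apply]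
    exact e.commutes x
  rw [h3, h2]
  exact h1

open Groth.Agent.Helper28.FiniteTypeIdeal in
/-- finite generation on `B ≤ range j` from finite generation of the restriction -/
lemma fg_ideal_of_comap {Y : Scheme.{u}} (j : Y ⟶ X) [IsOpenImmersion j] (I : X.IdealSheafData)
    (B : X.affineOpens) (hB : B.1 ≤ j.opensRange)
    (h : ((I.comap j).ideal ⟨j ⁻¹ᵁ B.1, B.2.preimage_of_isOpenImmersion j hB⟩).FG) :
    (I.ideal B).FG := by
  rw [Groth.Agent.Helper28.IdealComapOld.ideal_comap j I B ⟨j ⁻¹ᵁ B.1, _⟩ le_rfl] at h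
  haveI : IsIso (j.app B.1) := Scheme.Hom.isIso_app j B.1 hB
  have h2 : j.appLE B.1 (j ⁻¹ᵁ B.1) le_rfl = j.app B.1 := (Scheme.Hom.app_eq_appLE (f := j)).symm
  rw [h2] at h
  exact fg_of_map_ringEquiv (asIso (j.app B.1)).commRingCatIsoToRingEquiv _ h

lemma fg_comap_of_ideal {Y : Scheme.{u}} (j : Y ⟶ X) [IsOpenImmersion j] (I : X.IdealSheafData)
    (B' : Y.affineOpens) (h : (I.ideal ⟨j ''ᵁ B'.1, B'.2.image_of_isOpenImmersion j⟩).FG) :
    ((I.comap j).ideal B').FG := by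
  rw [Groth.Agent.Helper28.IdealComapOld.ideal_comap j I ⟨j ''ᵁ B'.1, B'.2.image_of_isOpenImmersion j⟩ B'
    (Scheme.Hom.preimage_image_eq j B'.1).ge]
  exact h.map _

theorem exists_ft_le [QuasiSeparatedSpace X] (K : X.IdealSheafData) (V : X.Opens)
    (hV : IsCompact (V : Set X)) (hK : ∀ A : X.affineOpens, A.1 ≤ V → (K.ideal A).FG)
    (S : X.Opens) (hS : IsCompact (S : Set X)) :
    ∃ J : X.IdealSheafData, J ≤ K ∧ (∀ A : X.affineOpens, A.1 ≤ V → J.ideal A = K.ideal A) ∧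
      ∀ A : X.affineOpens, A.1 ≤ V ⊔ S → (J.ideal A).FG := by
  refine compact_open_induction_on (P := fun S => ∃ J : X.IdealSheafData, J ≤ K ∧
    (∀ A : X.affineOpens, A.1 ≤ V → J.ideal A = K.ideal A) ∧
      ∀ A : X.affineOpens, A.1 ≤ V ⊔ S → (J.ideal A).FG) S hS ?_ ?_
  · exact ⟨K, le_rfl, fun _ _ => rfl, fun A hA => hK A (by simpa using hA)⟩
  · rintro S hS U ⟨J, hJK, hJV, hJft⟩
    set W : X.Opens := V ⊔ S with hW
    have hWc : IsCompact (W : Set X) := by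
      rw [hW, TopologicalSpace.Opens.coe_sup]; exact hV.union hS
    let j : U.1.toScheme ⟶ X := U.1.ι
    haveI : IsAffine U.1.toScheme := U.2
    haveI : QuasiCompact j := inferInstance
    have hW''c : IsCompact ((j ⁻¹ᵁ W : U.1.toScheme.Opens) : Set U.1.toScheme) := by
      have h1 : IsCompact ((W : Set X) ∩ (U.1 : Set X)) :=
        hWc.inter_of_isOpen U.2.isCompact W.2 U.1.2
      have h2 : ((j ⁻¹ᵁ W : U.1.toScheme.Opens) : Set U.1.toScheme) =
          j ⁻¹' ((W : Set X) ∩ (U.1 : Set X)) := by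
        ext y
        simp only [Scheme.Hom.coe_preimage, Set.mem_preimage, Set.mem_inter_iff, SetLike.mem_coe]
        exact ⟨fun h => ⟨h, y.2⟩, fun h => h.1⟩
      rw [h2]
      refine (j.isOpenEmbedding.isInducing.isCompact_preimage_iff ?_).mpr h1
      rw [Scheme.Opens.range_ι]
      exact Set.inter_subset_right
    have hLft : ∀ B : U.1.toScheme.affineOpens, B.1 ≤ j ⁻¹ᵁ W → ((J.comap j).ideal B).FG := by
      intro B hB
      apply fg_comap_of_ideal j J B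
      apply hJft
      rintro _ ⟨y, hy, rfl⟩
      exact hB hy
    obtain ⟨𝔄, h𝔄ft, h𝔄L, h𝔄eq⟩ := exists_ft_of_isAffine (j ⁻¹ᵁ W) hW''c (J.comap j) hLft
    have hE : (𝔄.map j).comap j = 𝔄 := comap_map_eq j 𝔄
    have key : ∀ A : X.affineOpens, A.1 ≤ W → J.ideal A ≤ (𝔄.map j).ideal A := by
      intro A hA
      apply le_map_of_forall_le j 𝔄 J A
      intro y hy
      rw [h𝔄eq y (hA hy)]
    have key2 : ∀ A : X.affineOpens, A.1 ≤ U.1 → (𝔄.map j).ideal A ≤ J.ideal A := by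
      intro A hA
      rw [ideal_le_iff_stalk]
      intro x hx
      obtain ⟨y, rfl⟩ : ∃ y : U.1.toScheme, j y = x := ⟨⟨x, hA hx⟩, rfl⟩
      have h1 := stalkIdeal_mono h𝔄L y
      rw [← hE, stalkIdeal_comap, stalkIdeal_comap] at h1
      -- the stalk map of an open immersion is an isomorphism
      haveI : IsIso (j.stalkMap y) := inferInstance
      have h2 := Ideal.comap_mono (f := (j.stalkMap y).hom) h1
      rw [Ideal.comap_map_of_bijective _ (ConcreteCategory.bijective_of_isIso (j.stalkMap y)),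
        Ideal.comap_map_of_bijective _ (ConcreteCategory.bijective_of_isIso (j.stalkMap y))] at h2
      exact h2
    have key3 : ∀ A : X.affineOpens, A.1 ≤ U.1 → ((𝔄.map j).ideal A).FG := by
      intro A hA
      apply fg_ideal_of_comap j (𝔄.map j) A (by rw [Scheme.Opens.opensRange_ι]; exact hA)
      rw [hE]
      exact h𝔄ft _
    refine ⟨J ⊓ 𝔄.map j, inf_le_left.trans hJK, ?_, ?_⟩
    · intro A hA
      rw [Scheme.IdealSheafData.ideal_inf]
      show J.ideal A ⊓ (𝔄.map j).ideal A = K.ideal A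
      rw [inf_eq_left.mpr (key A (hA.trans le_sup_left)), hJV A hA]
    · intro A hA
      apply fg_of_local
      intro y hy
      have hy' : y ∈ W ⊔ U.1 := by
        have := hA hy
        rwa [← sup_assoc] at this
      rcases hy' with hyW | hyU
      · obtain ⟨_, ⟨B, hB, rfl⟩, hyB, hBW⟩ :=
          X.isBasis_affineOpens.exists_subset_of_mem_open hyW W.2
        refine ⟨⟨B, hB⟩, hyB, ?_⟩
        rw [Scheme.IdealSheafData.ideal_inf]
        show (J.ideal ⟨B, hB⟩ ⊓ (𝔄.map j).ideal ⟨B, hB⟩).FG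
        rw [inf_eq_left.mpr (key ⟨B, hB⟩ hBW)]
        exact hJft ⟨B, hB⟩ hBW
      · obtain ⟨_, ⟨B, hB, rfl⟩, hyB, hBU⟩ :=
          X.isBasis_affineOpens.exists_subset_of_mem_open hyU U.1.2
        refine ⟨⟨B, hB⟩, hyB, ?_⟩
        rw [Scheme.IdealSheafData.ideal_inf]
        show (J.ideal ⟨B, hB⟩ ⊓ (𝔄.map j).ideal ⟨B, hB⟩).FG
        rw [inf_eq_right.mpr (key2 ⟨B, hB⟩ hBU)]
        exact key3 ⟨B, hB⟩ hBU


/-- **Extension of finite type ideals** (Stacks 01PF, ideal version): on a quasi-compact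
quasi-separated scheme, an ideal sheaf `K` which is of finite type on a quasi-compact open `V`
contains a finite type ideal sheaf agreeing with `K` on `V`. -/
theorem exists_ft_extension [CompactSpace X] [QuasiSeparatedSpace X] (K : X.IdealSheafData)
    (V : X.Opens) (hV : IsCompact (V : Set X))
    (hK : ∀ A : X.affineOpens, A.1 ≤ V → (K.ideal A).FG) :
    ∃ J : X.IdealSheafData, BlowUp.IsFiniteTypeIdeal J ∧ J ≤ K ∧
      ∀ A : X.affineOpens, A.1 ≤ V → J.ideal A = K.ideal A := by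
  obtain ⟨J, h1, h2, h3⟩ := exists_ft_le K V hV hK ⊤ isCompact_univ
  exact ⟨J, fun A => h3 A (by simp), h1, h2⟩

lemma comap_inf_of_isOpenImmersion {Y : Scheme.{u}} (j : Y ⟶ X) [IsOpenImmersion j]
    (P Q : X.IdealSheafData) : (P ⊓ Q).comap j = P.comap j ⊓ Q.comap j := by
  ext B : 2
  rw [Scheme.IdealSheafData.ideal_inf]
  show _ = (P.comap j).ideal B ⊓ (Q.comap j).ideal B
  rw [Scheme.IdealSheafData.ideal_comap_of_isOpenImmersion,
    Scheme.IdealSheafData.ideal_comap_of_isOpenImmersion,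
    Scheme.IdealSheafData.ideal_comap_of_isOpenImmersion, Scheme.IdealSheafData.ideal_inf]
  exact Ideal.comap_inf _ _ _

/-- two ideal sheaves agreeing on all affine opens inside `V` have the same restriction to `V` -/
lemma comap_ι_eq_of_forall (V : X.Opens) (P Q : X.IdealSheafData)
    (h : ∀ A : X.affineOpens, A.1 ≤ V → P.ideal A = Q.ideal A) : P.comap V.ι = Q.comap V.ι := by
  ext B : 2
  rw [Scheme.IdealSheafData.ideal_comap_of_isOpenImmersion,
    Scheme.IdealSheafData.ideal_comap_of_isOpenImmersion, h _ (V.ι_image_le B.1)]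

/-- **Extension of finite type ideals** from a quasi-compact open, with an upper bound. -/
theorem exists_ft_comap_eq [CompactSpace X] [QuasiSeparatedSpace X] (V : X.Opens)
    (hV : IsCompact (V : Set X)) (I : V.toScheme.IdealSheafData) (hI : BlowUp.IsFiniteTypeIdeal I)
    (F : X.IdealSheafData) (hF : I ≤ F.comap V.ι) :
    ∃ J : X.IdealSheafData, BlowUp.IsFiniteTypeIdeal J ∧ J ≤ F ∧ J.comap V.ι = I := by
  haveI : CompactSpace V.toScheme := isCompact_iff_compactSpace.mp hV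
  haveI : QuasiCompact V.ι := inferInstance
  have hK : (I.map V.ι ⊓ F).comap V.ι = I := by
    rw [comap_inf_of_isOpenImmersion, comap_map_eq]
    exact inf_eq_left.mpr hF
  obtain ⟨J, h1, h2, h3⟩ := exists_ft_extension (I.map V.ι ⊓ F) V hV (by
    intro A hA
    apply fg_ideal_of_comap V.ι _ A (by rw [Scheme.Opens.opensRange_ι]; exact hA)
    rw [hK]
    exact hI _)
  refine ⟨J, h1, h2.trans inf_le_right, ?_⟩
  rw [comap_ι_eq_of_forall V J _ h3, hK]

/-- the ideal on an affine open disjoint from the support is the unit ideal -/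
lemma ideal_eq_top_of_disjoint (I : X.IdealSheafData) (B : X.affineOpens)
    (h : Disjoint (I.support : Set X) (B.1 : Set X)) : I.ideal B = ⊤ := by
  have h1 := (B.2.fromSpec_image_zeroLocus (I.ideal B)).trans_subset
    (I.zeroLocus_inter_subset_supportSet B)
  have h2 : B.2.fromSpec '' PrimeSpectrum.zeroLocus (I.ideal B : Set Γ(X, B.1)) ⊆ (B.1 : Set X) := by
    rw [B.2.fromSpec_image_zeroLocus]; exact Set.inter_subset_right
  have h3 : B.2.fromSpec '' PrimeSpectrum.zeroLocus (I.ideal B : Set Γ(X, B.1)) = ∅ := by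
    rw [Set.eq_empty_iff_forall_notMem]
    intro x hx
    exact Set.disjoint_left.mp h (h1 hx) (h2 hx)
  rw [Set.image_eq_empty] at h3
  exact PrimeSpectrum.zeroLocus_empty_iff_eq_top.mp h3

end Groth.Agent.Helper28.IdealExt
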