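import Mathlib
import Groth.Prelude.Def_CAlgX

/-!
# Flat base change of `H_1`-regular sequences (helper28)
-/

set_option autoImplicit false
universe u

namespace Groth.Agent.Helper28.RegBC

variable {R R' : Type u} [CommRing R] [CommRing R'] [Algebra R R']

/-- flat base change of an `H_1`-regular sequence -/
theorem h1_of_flat [Module.Flat R R'] {c : ℕ} (f : Fin c → R) (hf : CAlgX.IsH1Regular f) :
    CAlgX.IsH1Regular (fun i => algebraMap R R' (f i)) := by
  classical
  intro a' hsum
  have hrel : ∑ i, f i • a' i = 0 := by
    rw [← hsum]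
    refine Finset.sum_congr rfl fun i _ => ?_
    rw [Algebra.smul_def, mul_comm]
  obtain ⟨k, a, y, hxy, hcol⟩ := Module.Flat.isTrivialRelation_of_sum_smul_eq_zero (R := R) (M := R') (f := f) (x := a') hrel
  set T : Set (Fin c → R) :=
    {v | ∃ i j : Fin c, v = Pi.single i (f j) - Pi.single j (f i)} with hT
  set T' : Set (Fin c → R') :=
    {v | ∃ i j : Fin c, v = Pi.single i (algebraMap R R' (f j)) -
      Pi.single j (algebraMap R R' (f i))} with hT'
  have hcols : ∀ j, (fun i => a i j) ∈ Submodule.span R T := by
    intro j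
    apply hf
    rw [← hcol j]
    refine Finset.sum_congr rfl fun i _ => ?_
    rw [mul_comm]
  -- the componentwise map
  let Φ : (Fin c → R) →ₗ[R] (Fin c → R') :=
    LinearMap.pi fun i => (Algebra.linearMap R R') ∘ₗ LinearMap.proj i
  have hΦ : ∀ v ∈ Submodule.span R T, Φ v ∈ Submodule.span R' T' := by
    intro v hv
    have hle : Submodule.span R T ≤
        ((Submodule.span R' T').restrictScalars R).comap Φ := by
      rw [Submodule.span_le]
      rintro _ ⟨i, j, rfl⟩
      show Φ _ ∈ Submodule.span R' T'
      apply Submodule.subset_span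
      refine ⟨i, j, ?_⟩
      ext l
      simp only [Φ, LinearMap.pi_apply, LinearMap.comp_apply, LinearMap.proj_apply,
        Algebra.linearMap_apply, Pi.sub_apply, map_sub, Pi.single_apply,
        apply_ite (algebraMap R R'), map_zero]
    exact hle hv
  have ha' : a' = ∑ j, y j • Φ (fun i => a i j) := by
    ext i
    rw [hxy i, Finset.sum_apply]
    refine Finset.sum_congr rfl fun j _ => ?_
    simp only [Φ, Pi.smul_apply, LinearMap.pi_apply, LinearMap.comp_apply, LinearMap.proj_apply,
      Algebra.linearMap_apply, smul_eq_mul, Algebra.smul_def, mul_comm]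
  rw [ha']
  exact Submodule.sum_mem _ fun j _ => Submodule.smul_mem _ _ (hΦ _ (hcols j))

end Groth.Agent.Helper28.RegBC
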