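import Mathlib
import Groth.Prelude.Def_CAlgX
import Groth.Agent.Lib.Helper26.BCQR2

/-!
# Flat base change of quasi-regular sequences (helper28; adapted from helper26 `BCQR3.main`,
with flatness of the new base replacing flatness of the quotient)
-/

set_option autoImplicit false
universe u

namespace Groth.Agent.Helper28.RegBC

open MvPolynomial TensorProduct Groth.Agent.Helper26.BCQR

section tensor

variable {A B : Type u} [CommRing A] [CommRing B] [Algebra A B] {r : ℕ} (f : Fin r → B)
variable (A' : Type u) [CommRing A'] [Algebra A A']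

theorem qr_tensor_of_flat [Module.Flat A A']
    (hq : CAlgX.IsQuasiRegular f) : CAlgX.IsQuasiRegular (f' (A := A) f A') := by
  classical
  intro n P' hP' hev d₀
  by_cases h0 : coeff d₀ P' = 0
  · rw [h0]
    exact Ideal.zero_mem _
  have hdeg : ∀ e ∈ P'.support, e.degree = n := by
    intro e he
    rw [Finsupp.degree_eq_weight_one]
    exact hP' (mem_support_iff.1 he)
  have hd₀ : d₀ ∈ P'.support := mem_support_iff.2 h0
  set d : E r n := ⟨d₀, hdeg d₀ hd₀⟩ with hd
  -- the coefficient family
  set c' : E r n →₀ A' ⊗[A] B :=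
    ∑ e ∈ P'.support.attach, Finsupp.single ⟨e.1, hdeg e.1 e.2⟩ (coeff e.1 P') with hc'
  have hc'd : c' d = coeff d₀ P' := by
    rw [hc', Finsupp.finsetSum_apply]
    rw [Finset.sum_eq_single ⟨d₀, hd₀⟩]
    · rw [Finsupp.single_apply, if_pos rfl]
    · intro e _ hne
      rw [Finsupp.single_apply, if_neg]
      intro h
      apply hne
      apply Subtype.ext
      have := congrArg Subtype.val h
      exact this
    · intro h
      exact absurd (Finset.mem_attach _ _) h
  have hev' : ev' f A' c' = eval (f' f A') P' := by
    rw [hc']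
    have : ∀ (s : Finset (E r n)) (g : E r n → A' ⊗[A] B),
        ev' f A' (∑ e ∈ s, Finsupp.single e (g e)) = ∑ e ∈ s, g e * fpow (f' f A') e.1 := by
      intro s g
      induction s using Finset.induction_on with
      | empty => simp [ev']
      | insert a s ha ih =>
        rw [Finset.sum_insert ha, Finset.sum_insert ha, ev'_add, ev'_single, ih]
    have h2 : ev' f A' (∑ e ∈ P'.support.attach,
        Finsupp.single (⟨e.1, hdeg e.1 e.2⟩ : E r n) (coeff e.1 P')) =
        ∑ e ∈ P'.support.attach, coeff e.1 P' * fpow (f' f A') e.1 := by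
      induction P'.support.attach using Finset.induction_on with
      | empty => simp [ev']
      | insert a s ha ih =>
        rw [Finset.sum_insert ha, Finset.sum_insert ha, ev'_add, ev'_single, ih]
    rw [h2, Finset.sum_attach P'.support (fun e => coeff e P' * fpow (f' f A') e)]
    conv_rhs => rw [P'.as_sum, map_sum]
    refine Finset.sum_congr rfl fun e _ => ?_
    unfold fpow
    rw [← mul_one (coeff e P'), ← C_mul_monomial, map_mul, eval_C, mul_one]
  set x := (TensorProduct.finsuppRight A A A' B (E r n)).symm c' with hx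
  have hxc : TensorProduct.finsuppRight A A A' B (E r n) x = c' := by
    rw [hx, LinearEquiv.apply_symm_apply]
  -- the image of `x` vanishes
  have h1 : ((Ψ f n).restrictScalars A).lTensor A' x = 0 := by
    rw [lTensor_Ψ, hxc, hev']
    exact κ_eq_zero f A' (n + 1) _ hev
  have hcomp : (Ψ f n).restrictScalars A = (ψ A f n) ∘ₗ (q A f n) := by
    ext y
    simp only [LinearMap.coe_comp, Function.comp_apply, LinearMap.coe_restrictScalars]
    rw [ψ_q]
  rw [hcomp, LinearMap.lTensor_comp, LinearMap.comp_apply] at h1
  have h2 : (q A f n).lTensor A' x = 0 :=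
    (injective_iff_map_eq_zero _).1 (Module.Flat.lTensor_preserves_injective_linearMap (M := A') (ψ A f n) (ψ_injective f hq n)) _ h1
  -- read off the coefficient
  have h3 : ((Ideal.Quotient.mkₐ A (Ideal.span (Set.range f))).toLinearMap).lTensor A' (c' d) = 0 := by
    have e1 : c' d = LinearMap.lTensor A' (Finsupp.lapply d) x := by
      rw [← hxc, TensorProduct.finsuppRight_apply]
    have e2 : ((Ideal.Quotient.mkₐ A (Ideal.span (Set.range f))).toLinearMap) ∘ₗ
        (Finsupp.lapply d : (E r n →₀ B) →ₗ[A] B) =
        (Finsupp.lapply d : (E r n →₀ B ⧸ Ideal.span (Set.range f)) →ₗ[A] _) ∘ₗ (q A f n) := by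
      ext y
      rfl
    rw [e1, ← LinearMap.comp_apply, ← LinearMap.lTensor_comp, e2, LinearMap.lTensor_comp,
      LinearMap.comp_apply, h2, map_zero]
  rw [← hc'd]
  exact mem_span_f'_of_lTensor_eq_zero f A' _ h3



end tensor

/-- quasi-regularity is invariant under ring isomorphisms -/
theorem qr_of_ringEquiv {R R' : Type u} [CommRing R] [CommRing R'] (e : R ≃+* R') {c : ℕ}
    (f : Fin c → R) (hq : CAlgX.IsQuasiRegular f) : CAlgX.IsQuasiRegular (fun i => e (f i)) := by
  intro n P' hP' hev d
  have hJ : Ideal.span (Set.range fun i => e (f i)) =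
      (Ideal.span (Set.range f)).map (e : R →+* R') := by
    rw [Ideal.map_span]
    congr 1
    ext x
    constructor
    · rintro ⟨i, rfl⟩
      exact ⟨f i, ⟨i, rfl⟩, rfl⟩
    · rintro ⟨_, ⟨i, rfl⟩, rfl⟩
      exact ⟨i, rfl⟩
  set P : MvPolynomial (Fin c) R := MvPolynomial.map (e.symm : R' →+* R) P' with hP
  have hPhom : P.IsHomogeneous n := hP'.map _
  have hevQ : ∀ Q : MvPolynomial (Fin c) R', eval f (MvPolynomial.map (e.symm : R' →+* R) Q) =
      e.symm (eval (fun i => e (f i)) Q) := by
    intro Q
    induction Q using MvPolynomial.induction_on with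
    | C a => simp
    | add p q hp hq => rw [map_add, map_add, map_add, map_add, hp, hq]
    | mul_X p i hp => rw [map_mul, map_mul, map_mul, map_mul, hp]; simp
  have hevP : eval f P = e.symm (eval (fun i => e (f i)) P') := hevQ P'
  have hmem : eval f P ∈ Ideal.span (Set.range f) ^ (n + 1) := by
    rw [hevP]
    rw [hJ, ← Ideal.map_pow] at hev
    have := Ideal.mem_map_of_mem (e.symm : R' →+* R) hev
    rw [Ideal.map_map] at this
    have hid : ((e.symm : R' →+* R).comp (e : R →+* R')) = RingHom.id R := by
      ext x
      simp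
    rw [hid, Ideal.map_id] at this
    exact this
  have hc := hq n P hPhom hmem d
  rw [hP, coeff_map] at hc
  rw [hJ]
  have := Ideal.mem_map_of_mem (e : R →+* R') hc
  simpa using this

/-- flat base change of a quasi-regular sequence -/
theorem qr_of_flat {R R' : Type u} [CommRing R] [CommRing R'] [Algebra R R'] [Module.Flat R R']
    {c : ℕ} (f : Fin c → R) (hq : CAlgX.IsQuasiRegular f) :
    CAlgX.IsQuasiRegular (fun i => algebraMap R R' (f i)) := by
  have h1 := qr_tensor_of_flat (A := R) (B := R) f R' hq
  have h2 := qr_of_ringEquiv (Algebra.TensorProduct.rid R R' R').toRingEquiv _ h1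
  convert h2 using 2 with i
  simp [f', Algebra.smul_def]

end Groth.Agent.Helper28.RegBC
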