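import Mathlib
import Groth.Prelude.Def_LCI2
import Groth.Prelude.Def_ega3
import Groth.Agent.Lib.Helper21.KL5
import Groth.Agent.Lib.Helper12.KoszTor

/-!
# Flat base change of Koszul-regular sequences (helper28)
-/

set_option autoImplicit false
universe u
open CategoryTheory CategoryTheory.Limits CochainComplex MonoidalCategory

namespace Groth.Agent.Helper28.RegBC

open Groth.Agent.Helper21.KL Groth.Agent.Helper12.KoszTor

variable {B C : Type u} [CommRing B] [CommRing C] (π : B →+* C)

/-- restriction of scalars reflects vanishing of cohomology -/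
theorem isZero_homology_of_mapHomologicalComplex (K : CochainComplex (ModuleCat.{u} C) ℤ) (i : ℤ)
    (h : IsZero ((((ModuleCat.restrictScalars π).mapHomologicalComplex (ComplexShape.up ℤ)).obj
      K).homology i)) : IsZero (K.homology i) := by
  have h1 : ((((ModuleCat.restrictScalars π).mapHomologicalComplex (ComplexShape.up ℤ)).obj K).sc
    i).Exact := (HomologicalComplex.exactAt_iff_isZero_homology _ i).mpr h
  rw [ShortComplex.moduleCat_exact_iff] at h1
  apply (HomologicalComplex.exactAt_iff_isZero_homology _ i).mp
  show (K.sc i).Exact
  rw [ShortComplex.moduleCat_exact_iff]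
  intro y hy
  exact h1 y hy

/-- Acyclicity of a Koszul complex can be checked after restriction of scalars. -/
theorem isZero_homology_of_restrict (M : ModuleCat.{u} C) (xs : List B) (i : ℤ)
    (h : IsZero ((CohIII.koszulCx ((ModuleCat.restrictScalars π).obj M) xs).homology i)) :
    IsZero ((CohIII.koszulCx M (xs.map π)).homology i) := by
  obtain ⟨e⟩ := nonempty_restrict_iso π M xs
  apply isZero_homology_of_mapHomologicalComplex π _ i
  exact h.of_iso
    ((HomologicalComplex.homologyFunctor (ModuleCat.{u} B) (ComplexShape.up ℤ) i).mapIso e)

/-- Koszul complex with flat coefficients: acyclicity is inherited from the ring. -/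
theorem acycAt_of_flat (xs : List B) (M : Type u) [AddCommGroup M] [Module B M] [Module.Flat B M]
    (i : ℤ) (h : AcycAt xs B i) : AcycAt xs M i := by
  obtain ⟨e⟩ := nonempty_tensor_iso (ModuleCat.of B M) xs
  unfold AcycAt at h ⊢
  refine IsZero.of_iso ?_
    ((HomologicalComplex.homologyFunctor (ModuleCat.{u} B) (ComplexShape.up ℤ) i).mapIso e).symm
  haveI : Module.Flat B (ModuleCat.of B M) := ‹_›
  haveI : PreservesFiniteLimits (tensorRight (ModuleCat.of B M)) := inferInstance
  haveI : PreservesFiniteColimits (tensorRight (ModuleCat.of B M)) := inferInstance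
  haveI : (tensorRight (ModuleCat.of B M)).PreservesHomology := inferInstance
  have h1 : ((KA xs).sc i).Exact := (HomologicalComplex.exactAt_iff_isZero_homology _ i).mpr h
  apply (HomologicalComplex.exactAt_iff_isZero_homology _ i).mp
  exact h1.map (tensorRight (ModuleCat.of B M))

/-- flat base change of a Koszul-regular sequence -/
theorem koszul_of_flat {R R' : Type u} [CommRing R] [CommRing R'] [Algebra R R']
    [Module.Flat R R'] (l : List R) (h : LCI.IsKoszulRegularSeq R l) :
    LCI.IsKoszulRegularSeq R' (l.map (algebraMap R R')) := by
  rw [isKoszulRegularSeq_iff] at h ⊢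
  intro i hi
  unfold AcycAt
  apply isZero_homology_of_restrict (algebraMap R R') (ModuleCat.of R' R') l i
  have h1 : AcycAt l R' i := acycAt_of_flat l R' i (h i hi)
  let N : ModuleCat.{u} R :=
    (ModuleCat.restrictScalars (algebraMap R R')).obj (ModuleCat.of R' R')
  let e0 : R' ≃ₗ[R] N :=
    { toFun := fun x => (show N from x)
      invFun := fun x => (show R' from x)
      map_add' := fun _ _ => rfl
      map_smul' := fun b x => by
        show (b • x : R') = (algebraMap R R' b) • x
        rw [Algebra.smul_def, smul_eq_mul]
      left_inv := fun _ => rfl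
      right_inv := fun _ => rfl }
  let e : ModuleCat.of R R' ≅ N := e0.toModuleIso
  exact isZero_homology_of_iso e l i h1

end Groth.Agent.Helper28.RegBC
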