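import Mathlib
import Groth.Prelude.Def_RegImm
set_option autoImplicit false
universe u

open CategoryTheory CategoryTheory.Limits AlgebraicGeometry TopologicalSpace

/-!
Stalks of (not necessarily closed) regular immersions.  The first lemma is adapted from helper3's
`RegImm2.ker_stalkMap_closedImmersion`.
-/

namespace Groth.Agent.Helper28.RegImmStalk

/-- The kernel of the stalk map is the extension of the kernel on an affine open whose preimage is
affine and on which the map of sections is surjective. -/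
theorem ker_stalkMap_of_surjective {X Z : Scheme.{u}} (i : Z ⟶ X) (d : Z)
    (U : X.affineOpens) (hx : i d ∈ U.1) (hV : IsAffineOpen (i ⁻¹ᵁ U.1))
    (hsurj : Function.Surjective (i.app U.1).hom) :
    RingHom.ker (i.stalkMap d).hom =
      (RingHom.ker (i.app U.1).hom).map (X.presheaf.germ U.1 (i d) hx).hom := by
  have hd : d ∈ i ⁻¹ᵁ U.1 := hx
  have hcompat : ∀ a : Γ(X, U.1), (i.stalkMap d).hom
      ((X.presheaf.germ U.1 (i d) hx).hom a) =
      (Z.presheaf.germ (i ⁻¹ᵁ U.1) d hd).hom ((i.app U.1).hom a) := fun a =>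
    Scheme.Hom.germ_stalkMap_apply i U.1 d hx a
  let _ := X.presheaf.algebra_section_stalk (U := U.1) ⟨i d, hx⟩
  let _ := Z.presheaf.algebra_section_stalk (U := i ⁻¹ᵁ U.1) ⟨d, hd⟩
  have hlocX := U.2.isLocalization_stalk ⟨i d, hx⟩
  have hlocZ := hV.isLocalization_stalk ⟨d, hd⟩
  have hgX : ∀ a : Γ(X, U.1), algebraMap Γ(X, U.1) (X.presheaf.stalk (i d)) a =
      (X.presheaf.germ U.1 (i d) hx).hom a := fun _ => rfl
  have hgZ : ∀ b : Γ(Z, i ⁻¹ᵁ U.1),
      algebraMap Γ(Z, i ⁻¹ᵁ U.1) (Z.presheaf.stalk d) b =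
      (Z.presheaf.germ (i ⁻¹ᵁ U.1) d hd).hom b := fun _ => rfl
  apply le_antisymm
  · intro r hr
    rw [RingHom.mem_ker] at hr
    obtain ⟨a, s, rfl⟩ := IsLocalization.exists_mk'_eq
      (U.2.primeIdealOf ⟨i d, hx⟩).asIdeal.primeCompl r
    have h1 : (i.stalkMap d).hom
        (algebraMap Γ(X, U.1) (X.presheaf.stalk (i d)) a) = 0 := by
      rw [← IsLocalization.mk'_spec (X.presheaf.stalk (i d)) a s, map_mul, hr, zero_mul]
    rw [hgX, hcompat, ← hgZ,
      IsLocalization.map_eq_zero_iff (hV.primeIdealOf ⟨d, hd⟩).asIdeal.primeCompl] at h1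
    obtain ⟨⟨t, ht⟩, htm⟩ := h1
    obtain ⟨u, rfl⟩ := hsurj t
    have hu : u ∈ (U.2.primeIdealOf ⟨i d, hx⟩).asIdeal.primeCompl := by
      intro hu
      apply ht
      have h2 : algebraMap Γ(X, U.1) (X.presheaf.stalk (i d)) u ∈
          IsLocalRing.maximalIdeal (X.presheaf.stalk (i d)) :=
        (IsLocalization.AtPrime.to_map_mem_maximal_iff _ _ u).mpr hu
      have h3 : (i.stalkMap d).hom
          (algebraMap Γ(X, U.1) (X.presheaf.stalk (i d)) u) ∈
          IsLocalRing.maximalIdeal (Z.presheaf.stalk d) := by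
        rw [IsLocalRing.mem_maximalIdeal, mem_nonunits_iff] at h2 ⊢
        intro h4
        exact h2 (isUnit_of_map_unit (i.stalkMap d).hom _ h4)
      rw [hgX, hcompat, ← hgZ] at h3
      exact (IsLocalization.AtPrime.to_map_mem_maximal_iff _
        (hV.primeIdealOf ⟨d, hd⟩).asIdeal _).mp h3
    have h5 : u * a ∈ RingHom.ker (i.app U.1).hom := by
      rw [RingHom.mem_ker, map_mul]
      exact htm
    have h6 : algebraMap Γ(X, U.1) (X.presheaf.stalk (i d)) (u * a) ∈
        (RingHom.ker (i.app U.1).hom).map (X.presheaf.germ U.1 (i d) hx).hom :=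
      Ideal.mem_map_of_mem _ h5
    have h7 : IsLocalization.mk' (X.presheaf.stalk (i d)) a s =
        IsLocalization.mk' (X.presheaf.stalk (i d)) 1 (⟨u, hu⟩ * s) *
          algebraMap Γ(X, U.1) (X.presheaf.stalk (i d)) (u * a) := by
      rw [IsLocalization.mk'_eq_iff_eq_mul]
      have h8 := IsLocalization.mk'_spec (X.presheaf.stalk (i d)) (1 : Γ(X, U.1))
        (⟨u, hu⟩ * s)
      calc algebraMap Γ(X, U.1) (X.presheaf.stalk (i d)) a
          = algebraMap Γ(X, U.1) (X.presheaf.stalk (i d)) 1 *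
            algebraMap Γ(X, U.1) (X.presheaf.stalk (i d)) a := by
            rw [map_one, one_mul]
        _ = _ := by
            rw [← h8]
            simp only [Submonoid.coe_mul, map_mul]
            ring
    rw [h7]
    exact Ideal.mul_mem_left _ _ h6
  · rw [Ideal.map_le_iff_le_comap]
    intro a ha
    rw [Ideal.mem_comap, RingHom.mem_ker, hcompat]
    have : (i.app U.1).hom a = 0 := ha
    rw [this, map_zero]

/-- if the restriction of `i` over an affine open is a closed immersion, the preimage is affine -/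
theorem isAffineOpen_preimage {X Z : Scheme.{u}} (i : Z ⟶ X) (U : X.Opens) (hU : IsAffineOpen U)
    [IsClosedImmersion (i ∣_ U)] : IsAffineOpen (i ⁻¹ᵁ U) := by
  haveI : IsAffine U.toScheme := hU
  exact isAffine_of_isAffineHom (i ∣_ U)

/-- if the restriction of `i` over an affine open is a closed immersion, sections surject -/
theorem app_surjective {X Z : Scheme.{u}} (i : Z ⟶ X) (U : X.Opens) (hU : IsAffineOpen U)
    [IsClosedImmersion (i ∣_ U)] : Function.Surjective (i.app U).hom := by
  haveI : IsAffine U.toScheme := hU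
  have h1 : Function.Surjective ((i ∣_ U).app ⊤).hom :=
    (i ∣_ U).app_surjective ⊤ (isAffineOpen_top _)
  have hinj : Function.Injective
      (Z.presheaf.map (eqToHom (image_morphismRestrict_preimage i U ⊤)).op).hom :=
    (ConcreteCategory.bijective_of_isIso
      (Z.presheaf.map (eqToHom (image_morphismRestrict_preimage i U ⊤)).op)).1
  have hsur : Function.Surjective
      (Z.presheaf.map (eqToHom (image_morphismRestrict_preimage i U ⊤)).op).hom :=
    (ConcreteCategory.bijective_of_isIso
      (Z.presheaf.map (eqToHom (image_morphismRestrict_preimage i U ⊤)).op)).2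
  have key : ∀ a : Γ(X, U.ι ''ᵁ ⊤), ((i ∣_ U).app ⊤).hom a =
      (Z.presheaf.map (eqToHom (image_morphismRestrict_preimage i U ⊤)).op).hom
        ((i.app (U.ι ''ᵁ ⊤)).hom a) := by
    intro a
    have h := morphismRestrict_app i U ⊤
    exact congrArg (fun f => (CommRingCat.Hom.hom f) a) h
  have h2 : Function.Surjective (i.app (U.ι ''ᵁ ⊤)).hom := by
    intro y
    obtain ⟨a, ha⟩ := h1 ((Z.presheaf.map (eqToHom (image_morphismRestrict_preimage i U ⊤)).op).hom y)
    refine ⟨a, hinj ?_⟩
    rw [← key a, ha]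
  have aux : ∀ W : X.Opens, W = U → Function.Surjective (i.app W).hom →
      Function.Surjective (i.app U).hom := by
    intro W h
    subst h
    exact id
  exact aux _ (Scheme.Opens.ι_image_top U) h2

/-- stalk form of a regular immersion (kind: regular sequences) -/
theorem exists_regular_stalk {Z X : Scheme.{u}} (i : Z ⟶ X) (z : Z)
    (h : RegImm.IsRegularImmersionAt RegImm.Kind.regular i z) :
    ∃ rs : List (X.presheaf.stalk (i z)),
      RingTheory.Sequence.IsRegular (X.presheaf.stalk (i z)) rs ∧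
        RingHom.ker (i.stalkMap z).hom = Ideal.ofList rs := by
  obtain ⟨U, hzU, hcl, rs, hrs, hker⟩ := h
  have hrs' : RingTheory.Sequence.IsRegular Γ(X, U.1) rs := hrs
  haveI := hcl
  have hV : IsAffineOpen (i ⁻¹ᵁ U.1) := isAffineOpen_preimage i U.1 U.2
  have hsurj : Function.Surjective (i.app U.1).hom := app_surjective i U.1 U.2
  have hd : z ∈ i ⁻¹ᵁ U.1 := hzU
  have hcompat : ∀ a : Γ(X, U.1), (i.stalkMap z).hom
      ((X.presheaf.germ U.1 (i z) hzU).hom a) =
      (Z.presheaf.germ (i ⁻¹ᵁ U.1) z hd).hom ((i.app U.1).hom a) := fun a =>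
    Scheme.Hom.germ_stalkMap_apply i U.1 z hzU a
  let _ := X.presheaf.algebra_section_stalk (U := U.1) ⟨i z, hzU⟩
  have hloc := U.2.isLocalization_stalk ⟨i z, hzU⟩
  have hg : ∀ a : Γ(X, U.1), algebraMap Γ(X, U.1) (X.presheaf.stalk (i z)) a =
      (X.presheaf.germ U.1 (i z) hzU).hom a := fun _ => rfl
  have hmem : ∀ r ∈ rs, r ∈ (U.2.primeIdealOf ⟨i z, hzU⟩).asIdeal := by
    intro r hr
    have hrker : (i.app U.1).hom r = 0 := by
      have : r ∈ RingHom.ker (i.app U.1).hom := by rw [hker]; exact Ideal.subset_span hr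
      exact this
    rw [← IsLocalization.AtPrime.to_map_mem_maximal_iff (X.presheaf.stalk (i z))
      (U.2.primeIdealOf ⟨i z, hzU⟩).asIdeal r]
    rw [IsLocalRing.mem_maximalIdeal, mem_nonunits_iff]
    intro hunit
    have h1 : IsUnit ((i.stalkMap z).hom
        (algebraMap Γ(X, U.1) (X.presheaf.stalk (i z)) r)) := hunit.map _
    rw [hg, hcompat, hrker, map_zero] at h1
    exact not_isUnit_zero h1
  refine ⟨rs.map (algebraMap Γ(X, U.1) (X.presheaf.stalk (i z))), ?_, ?_⟩
  · exact RingTheory.Sequence.IsWeaklyRegular.isRegular_of_isLocalization_of_mem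
      (X.presheaf.stalk (i z)) (U.2.primeIdealOf ⟨i z, hzU⟩).asIdeal hrs'.1 hmem
  · rw [ker_stalkMap_of_surjective i z U hzU hV hsurj, hker, Ideal.map_ofList]
    rfl

end Groth.Agent.Helper28.RegImmStalk
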