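import Mathlib
import Groth.Prelude.Def_RegImm
import Groth.Agent.Lib.Helper28.RegBC1
import Groth.Agent.Lib.Helper28.RegBC2
import Groth.Agent.Lib.Helper28.RegBC3
import Groth.Agent.Lib.Helper28.RegImmStalk
import Groth.Agent.Lib.Helper28.IdealComapOld

/-!
Flat base change of regular immersions of all four kinds.
-/

set_option autoImplicit false
universe u

open CategoryTheory CategoryTheory.Limits AlgebraicGeometry TopologicalSpace

namespace Groth.Agent.Helper28.RegBC

/-- transport of a property of `Fin`-indexed families along `List.map` -/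
theorem transport_get {R R' : Type u} (φ : R → R') (rs : List R)
    (P : ∀ c : ℕ, (Fin c → R') → Prop)
    (h : P rs.length (fun i => φ (rs.get i))) : P (rs.map φ).length (rs.map φ).get := by
  have hlen : (rs.map φ).length = rs.length := List.length_map ..
  have key : ∀ (c : ℕ) (hc : c = rs.length) (f : Fin c → R'),
      (∀ i : Fin c, f i = φ (rs.get (Fin.cast hc i))) → P c f := by
    intro c hc
    subst hc
    intro f hf
    have : f = fun i => φ (rs.get i) := funext hf
    rw [this]; exact h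
  exact key _ hlen _ (fun i => by simp)

/-- flat base change of a sequence of any of the four kinds, given that the extended ideal is
proper -/
theorem kind_of_flat {R R' : Type u} [CommRing R] [CommRing R'] [Algebra R R'] [Module.Flat R R']
    (k : RegImm.Kind) (rs : List R) (h : k.Seq R rs)
    (hne : Ideal.ofList (rs.map (algebraMap R R')) ≠ ⊤) :
    k.Seq R' (rs.map (algebraMap R R')) := by
  cases k with
  | regular =>
    have h' : RingTheory.Sequence.IsRegular R rs := h
    show RingTheory.Sequence.IsRegular R' (rs.map (algebraMap R R'))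
    refine ⟨h'.1.of_flat, ?_⟩
    intro htop
    apply hne
    rw [smul_eq_mul, Ideal.mul_top] at htop
    exact htop.symm
  | koszul =>
    exact koszul_of_flat rs h
  | h1 =>
    have h' : CAlgX.IsH1Regular rs.get := h
    show CAlgX.IsH1Regular (rs.map (algebraMap R R')).get
    exact transport_get (algebraMap R R') rs (fun c f => CAlgX.IsH1Regular f) (h1_of_flat _ h')
  | quasi =>
    have h' : CAlgX.IsQuasiRegular rs.get := h
    show CAlgX.IsQuasiRegular (rs.map (algebraMap R R')).get
    exact transport_get (algebraMap R R') rs (fun c f => CAlgX.IsQuasiRegular f) (qr_of_flat _ h')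

/-- flat base change of regular immersions of any kind, general pullback-square form -/
theorem base_change {Y X X' Y' : Scheme.{u}} (i : Y ⟶ X) (g : X' ⟶ X) [Flat g] (i' : Y' ⟶ X')
    (g' : Y' ⟶ Y) (hsq : IsPullback g' i' i g) (k : RegImm.Kind)
    (hi : RegImm.IsRegularImmersion k i) : RegImm.IsRegularImmersion k i' := by
  obtain ⟨himm, hi⟩ := hi
  haveI := himm
  have himm' : IsImmersion i' := MorphismProperty.of_isPullback hsq himm
  refine ⟨himm', fun y' => ?_⟩
  obtain ⟨⟨U, hU⟩, hyU, hcl, rs, hrs, hker⟩ := hi (g' y')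
  haveI := hcl
  have hcond : ∀ p : Y', i (g' p) = g (i' p) := by
    intro p
    have := congrArg (fun t : Y' ⟶ X => t p) hsq.w
    simpa using this
  have hy' : i' y' ∈ g ⁻¹ᵁ U := by
    show g (i' y') ∈ U
    rw [← hcond]; exact hyU
  obtain ⟨U', hU', hyU', hle⟩ : ∃ U' : X'.Opens, IsAffineOpen U' ∧ i' y' ∈ U' ∧
      U' ≤ g ⁻¹ᵁ U := by
    obtain ⟨_, ⟨W, hW, rfl⟩, hzW, hWle⟩ :=
      (X'.isBasis_affineOpens).exists_subset_of_mem_open hy' (g ⁻¹ᵁ U).isOpen
    exact ⟨W, hW, hzW, hWle⟩
  have hUX : IsAffineOpen (i ⁻¹ᵁ U) := RegImmStalk.isAffineOpen_preimage i U hU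
  have hsurj : Function.Surjective (i.app U).hom := RegImmStalk.app_surjective i U hU
  have hUY : i' ⁻¹ᵁ U' = g' ⁻¹ᵁ (i ⁻¹ᵁ U) ⊓ i' ⁻¹ᵁ U' := by
    symm
    apply inf_eq_right.2
    intro p hp
    change i (g' p) ∈ U
    rw [hcond]
    exact hle hp
  have hiso := isIso_pushoutSection_of_isAffineOpen hsq hle (le_refl (i ⁻¹ᵁ U)) hUY hU hU' hUX
  have hpo := (isIso_pushoutSection_iff hsq hle (le_refl (i ⁻¹ᵁ U)) hUY).1 hiso
  have hker' := IdealComapOld.ker_inl_of_isPushout _ _ _ _ hpo.flip (by
    rw [← Scheme.Hom.app_eq_appLE]; exact hsurj)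
  rw [← Scheme.Hom.app_eq_appLE, ← Scheme.Hom.app_eq_appLE] at hker'
  letI : Algebra Γ(X, U) Γ(X', U') := (g.appLE U U' hle).hom.toAlgebra
  haveI : Module.Flat Γ(X, U) Γ(X', U') := g.flat_appLE hU hU' hle
  have hk : RingHom.ker (i'.app U').hom = Ideal.ofList (rs.map (g.appLE U U' hle).hom) := by
    rw [hker', hker, Ideal.map_ofList]
  have hcl' : IsClosedImmersion (i' ∣_ U') := by
    have hpb := Scheme.Hom.isPullback_resLE hsq hle (le_refl (i ⁻¹ᵁ U)) hUY
    have h1 : IsClosedImmersion (i.resLE U (i ⁻¹ᵁ U) le_rfl) := by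
      rw [Scheme.Hom.resLE_eq_morphismRestrict]; infer_instance
    have h2 := MorphismProperty.of_isPullback hpb h1
    rwa [Scheme.Hom.resLE_eq_morphismRestrict] at h2
  refine ⟨⟨U', hU'⟩, hyU', hcl', rs.map (g.appLE U U' hle).hom, ?_, hk⟩
  apply kind_of_flat k rs hrs
  show Ideal.ofList (rs.map (g.appLE U U' hle).hom) ≠ ⊤
  rw [← hk]
  intro htop
  have h1 : (1 : Γ(X', U')) ∈ RingHom.ker (i'.app U').hom := htop ▸ Submodule.mem_top
  rw [RingHom.mem_ker, map_one] at h1
  have h2 : Y'.basicOpen (1 : Γ(Y', i' ⁻¹ᵁ U')) = Y'.basicOpen (0 : Γ(Y', i' ⁻¹ᵁ U')) := by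
    rw [h1]
  rw [Scheme.basicOpen_zero, Scheme.basicOpen_one] at h2
  have h3 : y' ∈ i' ⁻¹ᵁ U' := hyU'
  rw [h2] at h3
  exact h3.elim

/-- flat base change of regular immersions of any kind, `pullback.snd` form -/
theorem base_change_snd {Z X X' : Scheme.{u}} (i : Z ⟶ X) (k : RegImm.Kind)
    (hi : RegImm.IsRegularImmersion k i) (g : X' ⟶ X) [Flat g] :
    RegImm.IsRegularImmersion k (pullback.snd i g) :=
  base_change i g (pullback.snd i g) (pullback.fst i g) (IsPullback.of_hasPullback i g) k hi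

end Groth.Agent.Helper28.RegBC
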