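import Mathlib
import Groth.Prelude.Def_RegImm
import Groth.Agent.Lib.Helper3.RegImm2
import Groth.Agent.Lib.Lead.RLR2
import Groth.Agent.Lib.Lead.RLR6
set_option autoImplicit false
universe u

open CategoryTheory CategoryTheory.Limits AlgebraicGeometry TopologicalSpace
open RingTheory.Sequence IsLocalRing

/-!
An immersion of regular (locally Noetherian, regular stalks) schemes is a regular immersion.
-/

namespace Groth.Agent.Helper28.RegImmReg

/-- If `R` and `R ⧸ I` are regular local rings then `I` is generated by a regular sequence. -/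
theorem exists_regular_of_regular_quotient {R : Type u} [CommRing R] [IsRegularLocalRing R]
    (I : Ideal R) [IsRegularLocalRing (R ⧸ I)] :
    ∃ rs : List R, IsRegular R rs ∧ I = Ideal.ofList rs := by
  obtain ⟨c, e, z, hce, hz, hI⟩ :=
    Groth.Agent.Lead.RLR.exists_adapted_generators_of_regular_quotient I
  have hd : ringKrullDim R = ((c + e : ℕ) : WithBot ℕ∞) := by
    rw [← IsRegularLocalRing.spanFinrank_maximalIdeal (R := R), ← hce]
  have hreg := Groth.Agent.Lead.RLR.isRegular_ofFn hd z hz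
  refine ⟨List.ofFn (fun i : Fin c => z (Fin.castAdd e i)), ?_, ?_⟩
  · apply IsRegular.of_isWeaklyRegular_of_mem_maximalIdeal
    · intro r hr
      rw [List.mem_ofFn] at hr
      obtain ⟨i, rfl⟩ := hr
      rw [← hz]
      exact Ideal.subset_span ⟨_, rfl⟩
    · have h1 := hreg.1
      rw [List.ofFn_add, isWeaklyRegular_append_iff] at h1
      exact h1.1
  · rw [hI]
    unfold Ideal.ofList
    congr 1
    ext a
    simp only [Set.mem_range, Set.mem_ofPred_eq, List.mem_ofFn]

/-- The closed immersion case, in terms of the ideal sheaf. -/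
theorem closed_case {X Z : Scheme.{u}} [IsLocallyNoetherian X] (i : Z ⟶ X) [IsClosedImmersion i]
    (hX : ∀ x : X, IsRegularLocalRing (X.presheaf.stalk x))
    (hZ : ∀ z : Z, IsRegularLocalRing (Z.presheaf.stalk z)) (z : Z) :
    ∃ (W : X.affineOpens), i z ∈ W.1 ∧ ∃ rs : List Γ(X, W.1),
      IsRegular Γ(X, W.1) rs ∧ i.ker.ideal W = Ideal.ofList rs := by
  haveI := hX (i z)
  have hsurj : Function.Surjective (i.stalkMap z).hom := i.stalkMap_surjective z
  haveI : IsRegularLocalRing (X.presheaf.stalk (i z) ⧸ RingHom.ker (i.stalkMap z).hom) := by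
    haveI := hZ z
    exact IsRegularLocalRing.of_ringEquiv (RingHom.quotientKerEquivOfSurjective hsurj).symm
  obtain ⟨rs, hrs, hker⟩ := exists_regular_of_regular_quotient (RingHom.ker (i.stalkMap z).hom)
  obtain ⟨V, hzV, hreg⟩ := Groth.Agent.Helper3.RegImm2.backward i z rs hrs hker
  exact Groth.Agent.Helper3.RegImm2.exists_of_restrict i V hreg z hzV

/-- An immersion restricted over an open inside the coborder of its range is a closed
immersion. -/
theorem isClosedImmersion_restrict_of_le {X Z : Scheme.{u}} (i : Z ⟶ X) [IsImmersion i]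
    (U : X.Opens) (hU : U ≤ i.coborderRange) : IsClosedImmersion (i ∣_ U) := by
  have hU' : (U : Set X) ⊆ coborder (Set.range i) := fun x hx => hU hx
  apply IsClosedImmersion.of_isPreimmersion
  have hrange : Set.range (i ∣_ U) = (Subtype.val ⁻¹' Set.range i : Set U) := by
    ext y
    constructor
    · rintro ⟨w, rfl⟩
      exact ⟨w.1, (morphismRestrict_base_coe i U w).symm⟩
    · rintro ⟨w, hw⟩
      have hwU : i w ∈ U := by
        rw [hw]; exact y.2
      refine ⟨⟨w, hwU⟩, ?_⟩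
      apply Subtype.ext
      rw [morphismRestrict_base_coe]
      exact hw
  rw [hrange]
  have h1 : IsClosed (Subtype.val ⁻¹' Set.range i : Set (coborder (Set.range i))) :=
    isClosed_preimage_val_coborder
  exact h1.preimage (continuous_inclusion hU')

theorem main {Z X : Scheme.{u}} (i : Z ⟶ X) [IsImmersion i]
    [IsLocallyNoetherian X]
    (hX : ∀ x : X, IsRegularLocalRing (X.presheaf.stalk x))
    (hZ : ∀ z : Z, IsRegularLocalRing (Z.presheaf.stalk z)) :
    RegImm.IsRegularImmersion RegImm.Kind.regular i := by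
  refine ⟨inferInstance, fun z => ?_⟩
  have hzV : i z ∈ i.coborderRange := subset_coborder ⟨z, rfl⟩
  obtain ⟨U₀, hU₀, hzU₀, hU₀V⟩ : ∃ U₀ : X.Opens, IsAffineOpen U₀ ∧ i z ∈ U₀ ∧
      (U₀ : Set X) ⊆ i.coborderRange := by
    obtain ⟨_, ⟨U₀, hU₀, rfl⟩, hzU₀, hU₀V⟩ :=
      X.isBasis_affineOpens.exists_subset_of_mem_open hzV i.coborderRange.isOpen
    exact ⟨U₀, hU₀, hzU₀, hU₀V⟩
  haveI : IsClosedImmersion (i ∣_ U₀) :=
    isClosedImmersion_restrict_of_le i U₀ (fun x hx => hU₀V hx)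
  haveI : IsLocallyNoetherian U₀.toScheme := isLocallyNoetherian_of_isOpenImmersion U₀.ι
  have hX' : ∀ y : U₀.toScheme, IsRegularLocalRing (U₀.toScheme.presheaf.stalk y) := by
    intro y
    haveI := hX (U₀.ι y)
    exact IsRegularLocalRing.of_ringEquiv (asIso (U₀.ι.stalkMap y)).commRingCatIsoToRingEquiv
  have hZ' : ∀ y : (i ⁻¹ᵁ U₀).toScheme,
      IsRegularLocalRing ((i ⁻¹ᵁ U₀).toScheme.presheaf.stalk y) := by
    intro y
    haveI := hZ ((i ⁻¹ᵁ U₀).ι y)
    exact IsRegularLocalRing.of_ringEquiv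
      (asIso ((i ⁻¹ᵁ U₀).ι.stalkMap y)).commRingCatIsoToRingEquiv
  obtain ⟨W, hzW, rs, hrs, hker⟩ := closed_case (i ∣_ U₀) hX' hZ' ⟨z, hzU₀⟩
  have hWaff : IsAffineOpen (U₀.ι ''ᵁ W.1) := W.2.image_of_isOpenImmersion U₀.ι
  have hWle : U₀.ι ''ᵁ W.1 ≤ U₀ := U₀.ι_image_le W.1
  have hcl : IsClosedImmersion (i ∣_ (U₀.ι ''ᵁ W.1)) :=
    isClosedImmersion_restrict_of_le i _ (hWle.trans (fun x hx => hU₀V hx))
  refine ⟨⟨U₀.ι ''ᵁ W.1, hWaff⟩, ?_, hcl, rs, hrs, ?_⟩
  · exact ⟨(i ∣_ U₀) ⟨z, hzU₀⟩, hzW, morphismRestrict_base_coe i U₀ ⟨z, hzU₀⟩⟩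
  · have h1 := Groth.Agent.Helper3.RegImm2.ker_morphismRestrict_app i U₀ W.1
    have h2 := Scheme.Hom.ker_apply (i ∣_ U₀) W
    exact h1.symm.trans (h2.symm.trans hker)

end Groth.Agent.Helper28.RegImmReg
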