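import Mathlib
import Groth.Prelude.Def_Koszul
import Groth.Prelude.Def_LCI2
import Groth.Prelude.Def_CAlgX
import Groth.Agent.Lib.Helper5.KosReg1

/-!
# Koszul-regular sequences are `H_1`-regular

Strengthening of helper5's `KR.PresC`: in the low-degree presentation of the mapping-cone Koszul
complex, the boundaries in degree `-1` are combinations of the trivial relations.
-/

set_option autoImplicit false
universe u
open CategoryTheory CochainComplex HomComplex

namespace Groth.Agent.Helper28.KosH1

open Groth.Agent.Helper5.KR Koszul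

variable {A : Type u} [CommRing A]

/-- the trivial relations of a list -/
def Triv (l : List A) : Set (Fin l.length → A) :=
  {v | ∃ i j : Fin l.length, v = Pi.single i (l.get j) - Pi.single j (l.get i)}

/-- extension by zero in the first coordinate -/
def ext0 (f : A) (l : List A) : (Fin l.length → A) →ₗ[A] (Fin (f :: l).length → A) where
  toFun := fun t => Fin.cons 0 t
  map_add' := by
    intro x y
    ext i
    refine Fin.cases ?_ (fun j => ?_) i
    · simp
    · simp
  map_smul' := by
    intro a x
    ext i
    refine Fin.cases ?_ (fun j => ?_) i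
    · simp
    · simp

theorem ext0_single (f : A) (l : List A) (i : Fin l.length) (a : A) :
    ext0 f l (Pi.single i a) = Pi.single (Fin.succ i : Fin (f :: l).length) a := by
  classical
  ext k
  refine Fin.cases ?_ (fun j => ?_) k
  · show (Fin.cons 0 (Pi.single i a) : Fin (l.length + 1) → A) 0 = _
    rw [Fin.cons_zero, Pi.single_eq_of_ne (Fin.succ_ne_zero i).symm]
  · show (Fin.cons 0 (Pi.single i a) : Fin (l.length + 1) → A) j.succ = _
    rw [Fin.cons_succ]
    by_cases h : j = i
    · subst h; rw [Pi.single_eq_same, Pi.single_eq_same]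
    · rw [Pi.single_eq_of_ne h, Pi.single_eq_of_ne (fun h' => h (Fin.succ_injective _ h'))]

theorem ext0_mem (f : A) (l : List A) (t : Fin l.length → A)
    (ht : t ∈ Submodule.span A (Triv l)) : ext0 f l t ∈ Submodule.span A (Triv (f :: l)) := by
  have : (Submodule.span A (Triv l)).map (ext0 f l) ≤ Submodule.span A (Triv (f :: l)) := by
    rw [Submodule.map_span, Submodule.span_le]
    rintro _ ⟨v, ⟨i, j, rfl⟩, rfl⟩
    apply Submodule.subset_span
    refine ⟨Fin.succ i, Fin.succ j, ?_⟩
    rw [map_sub, ext0_single, ext0_single]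
    rfl
  exact this (Submodule.mem_map_of_mem ht)

/-- the key decomposition -/
theorem cons_mem (f : A) (l : List A) (a t : Fin l.length → A)
    (ht : t ∈ Submodule.span A (Triv l)) :
    (Fin.cons (-(∑ i, a i * l.get i)) (f • a + t) : Fin (f :: l).length → A) ∈
      Submodule.span A (Triv (f :: l)) := by
  classical
  have hdec : (Fin.cons (-(∑ i, a i * l.get i)) (f • a + t) : Fin (f :: l).length → A) =
      (∑ i, a i • ((Pi.single (Fin.succ i : Fin (f :: l).length) f -
        Pi.single (0 : Fin (f :: l).length) (l.get i) : Fin (f :: l).length → A))) +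
        ext0 f l t := by
    ext k
    refine Fin.cases ?_ (fun j => ?_) k
    · show (Fin.cons (-(∑ i, a i * l.get i)) (f • a + t) : Fin (l.length + 1) → A) 0 = _
      rw [Fin.cons_zero, Pi.add_apply, Finset.sum_apply]
      have h0 : ext0 f l t 0 = 0 := rfl
      rw [h0, add_zero, ← Finset.sum_neg_distrib]
      refine Finset.sum_congr rfl fun i _ => ?_
      rw [Pi.smul_apply, Pi.sub_apply, Pi.single_eq_of_ne (Fin.succ_ne_zero i).symm,
        Pi.single_eq_same, zero_sub, smul_eq_mul, mul_neg]
    · show (Fin.cons (-(∑ i, a i * l.get i)) (f • a + t) : Fin (l.length + 1) → A) j.succ = _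
      rw [Fin.cons_succ]
      show (f • a) j + t j = (∑ i, a i • ((Pi.single (Fin.succ i : Fin (f :: l).length) f -
        Pi.single (0 : Fin (f :: l).length) (l.get i) : Fin (f :: l).length → A))) j.succ +
        (ext0 f l t) j.succ
      have h1 : ext0 f l t j.succ = t j := rfl
      rw [h1, Finset.sum_apply, Pi.smul_apply, smul_eq_mul]
      congr 1
      rw [Finset.sum_eq_single j]
      · rw [Pi.smul_apply, Pi.sub_apply, Pi.single_eq_same,
          Pi.single_eq_of_ne (Fin.succ_ne_zero j), sub_zero, smul_eq_mul, mul_comm]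
      · intro i _ hij
        rw [Pi.smul_apply, Pi.sub_apply,
          Pi.single_eq_of_ne (fun h' => hij (Fin.succ_injective _ h').symm),
          Pi.single_eq_of_ne (Fin.succ_ne_zero j), sub_zero, smul_zero]
      · intro h; exact absurd (Finset.mem_univ j) h
  rw [hdec]
  refine Submodule.add_mem _ (Submodule.sum_mem _ fun i _ => Submodule.smul_mem _ _ ?_)
    (ext0_mem f l t ht)
  apply Submodule.subset_span
  exact ⟨Fin.succ i, 0, rfl⟩

/-- strengthened low-degree presentation -/
structure PresC2 (K : CochainComplex (ModuleCat.{u} A) ℤ) (l : List A) extends PresC K l where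
  d2 : ∀ w, e1 (K.d (-2) (-1) w) ∈ Submodule.span A (Triv l)

/-- the induction step -/
noncomputable def presCone2 (K : CochainComplex (ModuleCat.{u} A) ℤ) (l : List A) (f : A)
    (P : PresC2 K l) (hz1 : Limits.IsZero (K.X 1)) :
    PresC2 (mappingCone (f • 𝟙 K)) (f :: l) where
  toPresC := presCone K l f P.toPresC hz1
  d2 := by
    intro w
    have hφ : ∀ (n : ℤ) (x : K.X n), (f • 𝟙 K : K ⟶ K).f n x = f • x := by
      intro n x
      simp
    have hval : (presCone K l f P.toPresC hz1).e1 ((mappingCone (f • 𝟙 K)).d (-2) (-1) w) =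
        Fin.cons (P.e0 (cfst (f • 𝟙 K) (-1) 0 (by lia) ((mappingCone (f • 𝟙 K)).d (-2) (-1) w)))
          (P.e1 (csnd (f • 𝟙 K) (-1) ((mappingCone (f • 𝟙 K)).d (-2) (-1) w))) := rfl
    rw [hval, cfst_d (f • 𝟙 K) (-2) (-1) 0 (by lia) (by lia), map_neg, P.d0,
      csnd_d (f • 𝟙 K) (-2) (-1) (by lia), hφ, map_add, map_smul]
    exact cons_mem f l _ _ (P.d2 _)

theorem nonempty_pres2 : ∀ l : List A, Nonempty (PresC2 (koszul A l) l)
  | [] => by
    obtain ⟨P⟩ := nonempty_pres ([] : List A)
    refine ⟨{ toPresC := P, d2 := ?_ }⟩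
    intro w
    haveI : Subsingleton (Fin ([] : List A).length → A) :=
      (inferInstance : Subsingleton (Fin 0 → A))
    rw [Subsingleton.elim (P.e1 _) 0]
    exact Submodule.zero_mem _
  | f :: l => by
    obtain ⟨P⟩ := nonempty_pres2 l
    exact ⟨presCone2 (koszul A l) l f P (isZero_koszul_X_pos A l 1 (by lia))⟩

/-- If `H^{-1}` of the Koszul complex vanishes, the sequence is `H_1`-regular. -/
theorem h1_of_isZero_homology (l : List A)
    (h : Limits.IsZero ((koszul A l).homology (-1))) : CAlgX.IsH1Regular l.get := by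
  intro c hc
  obtain ⟨P⟩ := nonempty_pres2 l
  have hz : (koszul A l).d (-1) 0 (P.e1.symm c) = 0 := by
    apply P.e0.injective
    rw [P.d0, map_zero, LinearEquiv.apply_symm_apply]
    exact hc
  have hex : (koszul A l).ExactAt (-1) :=
    (HomologicalComplex.exactAt_iff_isZero_homology _ _).mpr h
  rw [HomologicalComplex.exactAt_iff' _ (-2) (-1) 0 (by simp) (by simp),
    ShortComplex.moduleCat_exact_iff] at hex
  obtain ⟨w, hw⟩ := hex (P.e1.symm c) hz
  have hmem := P.d2 w
  have hw' : (koszul A l).d (-2) (-1) w = P.e1.symm c := hw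
  rw [hw', LinearEquiv.apply_symm_apply] at hmem
  exact hmem

/-- Koszul-regular sequences are `H_1`-regular. -/
theorem h1_of_koszul (l : List A) (h : LCI.IsKoszulRegularSeq A l) : CAlgX.IsH1Regular l.get :=
  h1_of_isZero_homology l (h (-1) (by decide))

end Groth.Agent.Helper28.KosH1
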