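import Mathlib
import Groth.Prelude.Def_RegImm
import Groth.Agent.S15821

set_option autoImplicit false
universe u
open CategoryTheory CategoryTheory.Limits AlgebraicGeometry

namespace Groth.Agent.Helper28.RegImmIso

/-- A regular sequence (Mathlib sense) is a sequence of kind `koszul`. -/
theorem koszul_of_regular {R : Type u} [CommRing R] (rs : List R)
    (h : RegImm.Kind.regular.Seq R rs) : RegImm.Kind.koszul.Seq R rs := by
  have h' : RingTheory.Sequence.IsRegular R rs := h
  exact (Groth.Agent.S15821.result R rs h'.toIsWeaklyRegular).1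

theorem at_koszul_of_regular {Z X : Scheme.{u}} (i : Z ⟶ X) (z : Z)
    (h : RegImm.IsRegularImmersionAt .regular i z) : RegImm.IsRegularImmersionAt .koszul i z := by
  obtain ⟨U, hU, hcl, rs, hrs, hker⟩ := h
  exact ⟨U, hU, hcl, rs, koszul_of_regular rs hrs, hker⟩

theorem koszul_of_regular_immersion {Z X : Scheme.{u}} (i : Z ⟶ X)
    (h : RegImm.IsRegularImmersion .regular i) : RegImm.IsRegularImmersion .koszul i :=
  ⟨h.1, fun z => at_koszul_of_regular i z (h.2 z)⟩

/-- Precomposing with an isomorphism preserves regular immersions of any kind. -/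
theorem iso_comp {Z' Z X : Scheme.{u}} (j : Z' ⟶ Z) [IsIso j] (i : Z ⟶ X) (k : RegImm.Kind)
    (h : RegImm.IsRegularImmersion k i) : RegImm.IsRegularImmersion k (j ≫ i) := by
  haveI := h.1
  refine ⟨inferInstance, fun z' => ?_⟩
  obtain ⟨U, hU, hcl, rs, hrs, hker⟩ := h.2 (j z')
  refine ⟨U, by simpa using hU, ?_, rs, hrs, ?_⟩
  · haveI := hcl
    haveI : IsIso (j ∣_ i ⁻¹ᵁ U.1) := inferInstance
    haveI : IsClosedImmersion (j ∣_ i ⁻¹ᵁ U.1) := inferInstance
    have hc : IsClosedImmersion (j ∣_ i ⁻¹ᵁ U.1 ≫ i ∣_ U.1) := inferInstance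
    rw [morphismRestrict_comp]
    exact hc
  · rw [← hker, Scheme.Hom.comp_app]
    ext x
    simp only [RingHom.mem_ker]
    have hinj : Function.Injective (j.app (i ⁻¹ᵁ U.1)).hom :=
      (ConcreteCategory.bijective_of_isIso (j.app (i ⁻¹ᵁ U.1))).1
    exact map_eq_zero_iff _ hinj

/-- A Koszul-regular immersion is Koszul at every point (trivial factorisation). -/
theorem isKoszulAt_of_koszul {Z X : Scheme.{u}} (i : Z ⟶ X)
    (h : RegImm.IsRegularImmersion .koszul i) (z : Z) : Synt.IsKoszulAt i z := by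
  haveI := h.1
  haveI : IsIso (⊤ : Z.Opens).ι := by
    rw [← Scheme.topIso_hom]; infer_instance
  refine ⟨⊤, X, (⊤ : Z.Opens).ι ≫ i, 𝟙 X, trivial, inferInstance, iso_comp _ i _ h,
    inferInstance, by simp⟩

end Groth.Agent.Helper28.RegImmIso
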