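import Mathlib
import Groth.Prelude.Def_RegImm
import Groth.Agent.Lib.Helper28.KosH1
import Groth.Agent.Lib.Helper28.RegImmIso
import Groth.Agent.Lib.Helper26.H1QR1

/-!
# The four kinds of regular sequences / immersions are decreasing in strength
-/

set_option autoImplicit false
universe u
open CategoryTheory AlgebraicGeometry

namespace Groth.Agent.Helper28.KindMono

/-- Koszul-regular sequences are `H_1`-regular -/
theorem h1_of_koszul {R : Type u} [CommRing R] (rs : List R)
    (h : RegImm.Kind.koszul.Seq R rs) : RegImm.Kind.h1.Seq R rs :=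
  KosH1.h1_of_koszul rs h

/-- `H_1`-regular sequences are quasi-regular -/
theorem quasi_of_h1 {R : Type u} [CommRing R] (rs : List R)
    (h : RegImm.Kind.h1.Seq R rs) : RegImm.Kind.quasi.Seq R rs := by
  have h' : CAlgX.IsH1Regular rs.get := h
  exact Groth.Agent.Helper26.H1QR.qr_of_h1 (Groth.Agent.Helper26.H1QR.h1_of_isH1Regular h')

/-- monotonicity of regular immersions in the kind -/
theorem immersion_mono {Z X : Scheme.{u}} (i : Z ⟶ X) (k k' : RegImm.Kind)
    (hkk : ∀ (U : X.Opens) (rs : List Γ(X, U)), k.Seq Γ(X, U) rs → k'.Seq Γ(X, U) rs)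
    (h : RegImm.IsRegularImmersion k i) : RegImm.IsRegularImmersion k' i := by
  refine ⟨h.1, fun z => ?_⟩
  obtain ⟨U, hU, hcl, rs, hrs, hker⟩ := h.2 z
  exact ⟨U, hU, hcl, rs, hkk U.1 rs hrs, hker⟩

theorem h1_of_koszul_immersion {Z X : Scheme.{u}} (i : Z ⟶ X)
    (h : RegImm.IsRegularImmersion .koszul i) : RegImm.IsRegularImmersion .h1 i :=
  immersion_mono i _ _ (fun _ rs hrs => h1_of_koszul rs hrs) h

theorem quasi_of_h1_immersion {Z X : Scheme.{u}} (i : Z ⟶ X)
    (h : RegImm.IsRegularImmersion .h1 i) : RegImm.IsRegularImmersion .quasi i :=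
  immersion_mono i _ _ (fun _ rs hrs => quasi_of_h1 rs hrs) h

end Groth.Agent.Helper28.KindMono
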