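import Mathlib
import Groth.Prelude.Def_CAlgX

/-!
Base change of `H_1`-regular sequences with flat quotient (ring level).
-/

set_option autoImplicit false
universe u

open TensorProduct

namespace Groth.Agent.Helper28.RegBC

variable {A B : Type u} [CommRing A] [CommRing B] [Algebra A B] {c : ℕ} (f : Fin c → B)
variable (A' : Type u) [CommRing A'] [Algebra A A']

/-- the combination map `a ↦ Σ a_i f_i` as an `A`-linear map -/
noncomputable def comb : (Fin c → B) →ₗ[A] B where
  toFun := fun a => ∑ i, a i * f i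
  map_add' := by
    intro a b
    simp [add_mul, Finset.sum_add_distrib]
  map_smul' := by
    intro r a
    simp [Finset.smul_sum, smul_mul_assoc]

theorem comb_apply (a : Fin c → B) : comb (A := A) f a = ∑ i, a i * f i := rfl

/-- the ideal as an `A`-submodule -/
def JA : Submodule A B := (Ideal.span (Set.range f)).restrictScalars A

theorem comb_mem (a : Fin c → B) : comb (A := A) f a ∈ JA (A := A) f := by
  show ∑ i, a i * f i ∈ Ideal.span (Set.range f)
  exact Ideal.sum_mem _ (fun i _ => Ideal.mul_mem_left _ _ (Ideal.subset_span ⟨i, rfl⟩))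

/-- corestriction of the combination map to the ideal -/
noncomputable def comb₀ : (Fin c → B) →ₗ[A] JA (A := A) f :=
  (comb (A := A) f).codRestrict (JA (A := A) f) (comb_mem f)

theorem comb₀_surjective : Function.Surjective (comb₀ (A := A) f) := by
  rintro ⟨x, hx⟩
  have hx' : x ∈ Ideal.span (Set.range f) := hx
  obtain ⟨a, ha⟩ := (Ideal.mem_span_range_iff_exists_fun).1 hx'
  exact ⟨a, Subtype.ext ha⟩

theorem subtype_comp_comb₀ : (JA (A := A) f).subtype ∘ₗ comb₀ (A := A) f = comb (A := A) f := by
  ext a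
  rfl

theorem lTensor_subtype_injective (hflat : Module.Flat A (B ⧸ Ideal.span (Set.range f))) :
    Function.Injective ((JA (A := A) f).subtype.lTensor A') := by
  refine LinearMap.lTensor_injective_of_exact_of_flat
    ((Ideal.Quotient.mkₐ A (Ideal.span (Set.range f))).toLinearMap) ?_
    (JA (A := A) f).subtype (Submodule.injective_subtype _) ?_ A'
  · exact Ideal.Quotient.mk_surjective
  · intro b
    constructor
    · intro hb
      have hb' : b ∈ Ideal.span (Set.range f) := Ideal.Quotient.eq_zero_iff_mem.1 hb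
      exact ⟨⟨b, hb'⟩, rfl⟩
    · rintro ⟨⟨x, hx⟩, rfl⟩
      exact Ideal.Quotient.eq_zero_iff_mem.2 hx

/-- the comparison `A' ⊗ B^c ≃ (A' ⊗ B)^c` -/
noncomputable def Φ : A' ⊗[A] (Fin c → B) ≃ₗ[A] (Fin c → A' ⊗[A] B) :=
  TensorProduct.piRight A A A' (fun _ : Fin c => B)

theorem Φ_tmul (a : A') (v : Fin c → B) (j : Fin c) : Φ (A := A) (c := c) (B := B) A' (a ⊗ₜ v) j = a ⊗ₜ v j := by
  simp [Φ]

theorem comb_lTensor (y : A' ⊗[A] (Fin c → B)) :
    (comb (A := A) f).lTensor A' y = ∑ i, (Φ A' y) i * ((1 : A') ⊗ₜ[A] f i) := by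
  induction y using TensorProduct.induction_on with
  | zero => simp
  | tmul a v =>
    rw [LinearMap.lTensor_tmul, comb_apply, TensorProduct.tmul_sum]
    refine Finset.sum_congr rfl fun i _ => ?_
    rw [Φ_tmul, Algebra.TensorProduct.tmul_mul_tmul, mul_one]
  | add x y hx hy =>
    rw [map_add, hx, hy, map_add, ← Finset.sum_add_distrib]
    refine Finset.sum_congr rfl fun i _ => ?_
    rw [Pi.add_apply, add_mul]

/-- trivial relations of the base-changed sequence -/
def trivSet' : Set (Fin c → A' ⊗[A] B) :=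
  {v | ∃ i j : Fin c, v = Pi.single i ((1 : A') ⊗ₜ[A] f j) - Pi.single j ((1 : A') ⊗ₜ[A] f i)}

theorem Φ_tmul_mem (a : A') (t : Fin c → B)
    (ht : t ∈ Submodule.span B {v : Fin c → B | ∃ i j : Fin c, v = Pi.single i (f j) - Pi.single j (f i)}) :
    Φ A' (a ⊗ₜ[A] t) ∈ Submodule.span (A' ⊗[A] B) (trivSet' f A') := by
  classical
  induction ht using Submodule.span_induction with
  | mem v hv =>
    obtain ⟨i, j, rfl⟩ := hv
    have : Φ A' (a ⊗ₜ[A] (Pi.single i (f j) - Pi.single j (f i) : Fin c → B)) =
        (a ⊗ₜ[A] (1 : B)) • (Pi.single i ((1 : A') ⊗ₜ[A] f j) - Pi.single j ((1 : A') ⊗ₜ[A] f i) :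
          Fin c → A' ⊗[A] B) := by
      funext k
      rw [Φ_tmul, Pi.smul_apply, Pi.sub_apply, Pi.sub_apply, smul_eq_mul, mul_sub,
        TensorProduct.tmul_sub]
      congr 1
      · by_cases hk : k = i
        · subst hk
          rw [Pi.single_eq_same, Pi.single_eq_same, Algebra.TensorProduct.tmul_mul_tmul, mul_one,
            one_mul]
        · rw [Pi.single_eq_of_ne hk, Pi.single_eq_of_ne hk, TensorProduct.tmul_zero, mul_zero]
      · by_cases hk : k = j
        · subst hk
          rw [Pi.single_eq_same, Pi.single_eq_same, Algebra.TensorProduct.tmul_mul_tmul, mul_one,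
            one_mul]
        · rw [Pi.single_eq_of_ne hk, Pi.single_eq_of_ne hk, TensorProduct.tmul_zero, mul_zero]
    rw [this]
    exact Submodule.smul_mem _ _ (Submodule.subset_span ⟨i, j, rfl⟩)
  | zero =>
    rw [TensorProduct.tmul_zero, map_zero]
    exact Submodule.zero_mem _
  | add x y _ _ hx hy =>
    rw [TensorProduct.tmul_add, map_add]
    exact Submodule.add_mem _ hx hy
  | smul b x _ hx =>
    have : Φ A' (a ⊗ₜ[A] (b • x)) = ((1 : A') ⊗ₜ[A] b) • Φ A' (a ⊗ₜ[A] x) := by
      funext k
      rw [Φ_tmul]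
      show a ⊗ₜ[A] (b * x k) = ((1 : A') ⊗ₜ[A] b) * (Φ A' (a ⊗ₜ[A] x)) k
      rw [Φ_tmul, Algebra.TensorProduct.tmul_mul_tmul, one_mul]
    rw [this]
    exact Submodule.smul_mem _ _ hx

/-- base change of an `H_1`-regular sequence whose quotient is flat over the base -/
theorem h1_tensor_of_flat_quot (hflat : Module.Flat A (B ⧸ Ideal.span (Set.range f)))
    (hf : CAlgX.IsH1Regular f) :
    CAlgX.IsH1Regular (fun i => ((1 : A') ⊗ₜ[A] f i : A' ⊗[A] B)) := by
  classical
  intro a' hsum
  set y := (Φ (A := A) (c := c) (B := B) A').symm a' with hy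
  have hΦy : Φ A' y = a' := by rw [hy, LinearEquiv.apply_symm_apply]
  have h1 : (comb (A := A) f).lTensor A' y = 0 := by
    rw [comb_lTensor, hΦy]
    exact hsum
  rw [← subtype_comp_comb₀, LinearMap.lTensor_comp, LinearMap.comp_apply] at h1
  have h2 : (comb₀ (A := A) f).lTensor A' y = 0 :=
    lTensor_subtype_injective f A' hflat (by rw [h1, map_zero])
  have hex : Function.Exact ((LinearMap.ker (comb₀ (A := A) f)).subtype.lTensor A')
      ((comb₀ (A := A) f).lTensor A') :=
    lTensor_exact A' (LinearMap.exact_subtype_ker_map (comb₀ (A := A) f)) (comb₀_surjective f)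
  obtain ⟨x, hx⟩ := (hex y).1 h2
  have key : ∀ x : A' ⊗[A] (LinearMap.ker (comb₀ (A := A) f)),
      Φ A' ((LinearMap.ker (comb₀ (A := A) f)).subtype.lTensor A' x) ∈
        Submodule.span (A' ⊗[A] B) (trivSet' f A') := by
    intro x
    induction x using TensorProduct.induction_on with
    | zero =>
      rw [map_zero, map_zero]
      exact Submodule.zero_mem _
    | tmul a t =>
      rw [LinearMap.lTensor_tmul]
      apply Φ_tmul_mem
      apply hf
      have ht : comb₀ (A := A) f t.1 = 0 := t.2
      have := congrArg Subtype.val ht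
      exact this
    | add x y hx hy =>
      rw [map_add, map_add]
      exact Submodule.add_mem _ hx hy
  have := key x
  rw [hx, hΦy] at this
  exact this

end Groth.Agent.Helper28.RegBC
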