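import Mathlib
import Groth.Prelude.Def_RegImm
import Groth.Agent.Lib.Helper28.RegBC4
import Groth.Agent.Lib.Helper28.RegBC5
import Groth.Agent.Lib.Helper26.BCQR3

/-!
Base change of relative `H_1`-regular / quasi-regular immersions: ring-level pushout form.
-/

set_option autoImplicit false
universe u

open CategoryTheory CategoryTheory.Limits AlgebraicGeometry TopologicalSpace TensorProduct

namespace Groth.Agent.Helper28.RegBC

/-- transport of `H_1`-regular sequences along a ring isomorphism -/
theorem h1_of_ringEquiv {R R' : Type u} [CommRing R] [CommRing R'] (e : R ≃+* R') {c : ℕ}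
    (f : Fin c → R) (hf : CAlgX.IsH1Regular f) : CAlgX.IsH1Regular (fun i => e (f i)) := by
  letI : Algebra R R' := e.toRingHom.toAlgebra
  haveI : Module.Flat R R' := RingHom.Flat.of_bijective (f := e.toRingHom) e.bijective
  exact h1_of_flat f hf

/-- ring-level pushout form of the base change of `H_1`-regular / quasi-regular sequences with
flat quotient -/
theorem seq_of_isPushout {A B A' C : Type u} [CommRing A] [CommRing B] [CommRing A'] [CommRing C]
    [Algebra A B] [Algebra A A'] (inl : B →+* C) (inr : A' →+* C)
    (hP : IsPushout (CommRingCat.ofHom (algebraMap A B)) (CommRingCat.ofHom (algebraMap A A'))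
      (CommRingCat.ofHom inl) (CommRingCat.ofHom inr))
    (k : RegImm.Kind) (hk : k = RegImm.Kind.h1 ∨ k = RegImm.Kind.quasi) (rs : List B)
    (hrs : k.Seq B rs) (hflat : Module.Flat A (B ⧸ Ideal.ofList rs)) : k.Seq C (rs.map inl) := by
  have hT := CommRingCat.isPushout_tensorProduct A A' B
  let e : A' ⊗[A] B ≃+* C := (hT.isoIsPushout _ _ hP.flip).commRingCatIsoToRingEquiv
  have he : ∀ b : B, e ((1 : A') ⊗ₜ[A] b) = inl b := by
    intro b
    have h := hT.inr_isoIsPushout_hom _ _ hP.flip
    have h2 : (CommRingCat.ofHom (S := A' ⊗[A] B)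
        (Algebra.TensorProduct.includeRight (R := A) (A := A') (B := B)).toRingHom ≫
        (hT.isoIsPushout _ _ hP.flip).hom).hom b = inl b := by
      rw [h]; rfl
    exact h2
  have hspan : Ideal.ofList rs = Ideal.span (Set.range rs.get) := by
    unfold Ideal.ofList; rw [Set.range_list_get]
  rw [hspan] at hflat
  rcases hk with rfl | rfl
  · have h1 : CAlgX.IsH1Regular rs.get := hrs
    have h2 := h1_tensor_of_flat_quot rs.get A' hflat h1
    have h3 := h1_of_ringEquiv e _ h2
    show CAlgX.IsH1Regular (rs.map inl).get
    refine transport_get inl rs (fun c f => CAlgX.IsH1Regular f) ?_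
    have : (fun i => inl (rs.get i)) = fun i => e ((1 : A') ⊗ₜ[A] rs.get i) := by
      funext i; exact (he _).symm
    rw [this]; exact h3
  · have h1 : CAlgX.IsQuasiRegular rs.get := hrs
    have h2 := Groth.Agent.Helper26.BCQR.main rs.get A' hflat h1
    have h3 := qr_of_ringEquiv e _ h2
    show CAlgX.IsQuasiRegular (rs.map inl).get
    refine transport_get inl rs (fun c f => CAlgX.IsQuasiRegular f) ?_
    have : (fun i => inl (rs.get i)) = fun i => e ((1 : A') ⊗ₜ[A] rs.get i) := by
      funext i; exact (he _).symm
    rw [this]; exact h3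

end Groth.Agent.Helper28.RegBC
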