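import Mathlib
import Groth.Prelude.Def_RegImm
import Groth.Agent.Lib.Helper28.RegBC4
import Groth.Agent.Lib.Helper28.RegBC6

/-!
Base change of relative `H_1`-regular / quasi-regular immersions: scheme level.
-/

set_option autoImplicit false
universe u

open CategoryTheory CategoryTheory.Limits AlgebraicGeometry TopologicalSpace TensorProduct

namespace Groth.Agent.Helper28.RegBC

/-- the kernel on an affine open of the base change of a (locally) closed immersion -/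
theorem ker_of_isPullback {Y X X' Y' : Scheme.{u}} (i : Y ⟶ X) (g : X' ⟶ X) (i' : Y' ⟶ X')
    (g' : Y' ⟶ Y) (hsq : IsPullback g' i' i g) (U : X.Opens) (hU : IsAffineOpen U)
    [IsClosedImmersion (i ∣_ U)] (U' : X'.Opens) (hU' : IsAffineOpen U') (hle : U' ≤ g ⁻¹ᵁ U) :
    IsClosedImmersion (i' ∣_ U') ∧
      RingHom.ker (i'.app U').hom = (RingHom.ker (i.app U).hom).map (g.appLE U U' hle).hom := by
  have hcond : ∀ p : Y', i (g' p) = g (i' p) := by
    intro p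
    have := congrArg (fun t : Y' ⟶ X => t p) hsq.w
    simpa using this
  have hUX : IsAffineOpen (i ⁻¹ᵁ U) := RegImmStalk.isAffineOpen_preimage i U hU
  have hsurj : Function.Surjective (i.app U).hom := RegImmStalk.app_surjective i U hU
  have hUY : i' ⁻¹ᵁ U' = g' ⁻¹ᵁ (i ⁻¹ᵁ U) ⊓ i' ⁻¹ᵁ U' := by
    symm
    apply inf_eq_right.2
    intro p hp
    change i (g' p) ∈ U
    rw [hcond]
    exact hle hp
  have hiso := isIso_pushoutSection_of_isAffineOpen hsq hle (le_refl (i ⁻¹ᵁ U)) hUY hU hU' hUX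
  have hpo := (isIso_pushoutSection_iff hsq hle (le_refl (i ⁻¹ᵁ U)) hUY).1 hiso
  have hker' := IdealComapOld.ker_inl_of_isPushout _ _ _ _ hpo.flip (by
    rw [← Scheme.Hom.app_eq_appLE]; exact hsurj)
  rw [← Scheme.Hom.app_eq_appLE, ← Scheme.Hom.app_eq_appLE] at hker'
  refine ⟨?_, hker'⟩
  have hpb := Scheme.Hom.isPullback_resLE hsq hle (le_refl (i ⁻¹ᵁ U)) hUY
  have h1 : IsClosedImmersion (i.resLE U (i ⁻¹ᵁ U) le_rfl) := by
    rw [Scheme.Hom.resLE_eq_morphismRestrict]; infer_instance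
  have h2 := MorphismProperty.of_isPullback hpb h1
  rwa [Scheme.Hom.resLE_eq_morphismRestrict] at h2

/-- properness of the kernel ideal on an open meeting the image -/
theorem ker_ne_top {Y' X' : Scheme.{u}} (i' : Y' ⟶ X') (U' : X'.Opens) (y' : Y') (hy : i' y' ∈ U') :
    RingHom.ker (i'.app U').hom ≠ ⊤ := by
  intro htop
  have h1 : (1 : Γ(X', U')) ∈ RingHom.ker (i'.app U').hom := htop ▸ Submodule.mem_top
  rw [RingHom.mem_ker, map_one] at h1
  have h2 : Y'.basicOpen (1 : Γ(Y', i' ⁻¹ᵁ U')) = Y'.basicOpen (0 : Γ(Y', i' ⁻¹ᵁ U')) := by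
    rw [h1]
  rw [Scheme.basicOpen_zero, Scheme.basicOpen_one] at h2
  have h3 : y' ∈ i' ⁻¹ᵁ U' := hy
  rw [h2] at h3
  exact h3.elim

/-- regular-immersion data on an affine open restricts to any smaller affine open meeting the
image -/
theorem restrict_data {Z X : Scheme.{u}} (i : Z ⟶ X) (k : RegImm.Kind) (z : Z)
    (U₀ : X.Opens) (hU₀ : IsAffineOpen U₀) (hcl : IsClosedImmersion (i ∣_ U₀))
    (rs : List Γ(X, U₀)) (hrs : k.Seq Γ(X, U₀) rs)
    (hker : RingHom.ker (i.app U₀).hom = Ideal.ofList rs)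
    (U : X.Opens) (hU : IsAffineOpen U) (hzU : i z ∈ U) (hle : U ≤ U₀) :
    IsClosedImmersion (i ∣_ U) ∧ ∃ rs' : List Γ(X, U), k.Seq Γ(X, U) rs' ∧
      RingHom.ker (i.app U).hom = Ideal.ofList rs' := by
  haveI := hcl
  have hle' : U ≤ (𝟙 X) ⁻¹ᵁ U₀ := hle
  obtain ⟨h1, h2⟩ := ker_of_isPullback i (𝟙 X) i (𝟙 Z) (IsPullback.id_horiz i) U₀ hU₀ U hU hle'
  refine ⟨h1, rs.map ((𝟙 X : X ⟶ X).appLE U₀ U hle').hom, ?_, ?_⟩
  · letI : Algebra Γ(X, U₀) Γ(X, U) := ((𝟙 X : X ⟶ X).appLE U₀ U hle').hom.toAlgebra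
    haveI : Module.Flat Γ(X, U₀) Γ(X, U) := (𝟙 X : X ⟶ X).flat_appLE hU₀ hU hle'
    apply kind_of_flat k rs hrs
    show Ideal.ofList (rs.map ((𝟙 X : X ⟶ X).appLE U₀ U hle').hom) ≠ ⊤
    rw [← Ideal.map_ofList, ← hker, ← h2]
    exact ker_ne_top i U z hzU
  · rw [h2, hker, Ideal.map_ofList]

end Groth.Agent.Helper28.RegBC
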