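import Mathlib
import Groth.Prelude.Def_RegImm
import Groth.Agent.Lib.Helper28.RegBC7

/-!
Base change of relative `H_1`-regular / quasi-regular immersions along an arbitrary morphism of
the base.
-/

set_option autoImplicit false
universe u

open CategoryTheory CategoryTheory.Limits AlgebraicGeometry TopologicalSpace TensorProduct

namespace Groth.Agent.Helper28.RegBC

/-- flatness of a quotient identified with a flat algebra -/
theorem flat_quot_of_surjective {A B D : Type u} [CommRing A] [CommRing B] [CommRing D]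
    [Algebra A B] (π : B →+* D) (hπ : Function.Surjective π) (I : Ideal B)
    (hI : RingHom.ker π = I) (hfl : (π.comp (algebraMap A B)).Flat) : Module.Flat A (B ⧸ I) := by
  subst hI
  letI : Algebra A D := (π.comp (algebraMap A B)).toAlgebra
  haveI : Module.Flat A D := hfl
  let e := RingHom.quotientKerEquivOfSurjective hπ
  let e' : (B ⧸ RingHom.ker π) ≃ₗ[A] D :=
    { e with
      map_smul' := by
        intro a x
        obtain ⟨b, rfl⟩ := Ideal.Quotient.mk_surjective x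
        show e (a • Ideal.Quotient.mk _ b) = a • e (Ideal.Quotient.mk _ b)
        rw [Algebra.smul_def, Algebra.smul_def, map_mul]
        rfl }
  exact Module.Flat.of_linearEquiv e'

/-- base change of relative `H_1`-regular / quasi-regular immersions -/
theorem rel_base_change {Z X S S' : Scheme.{u}} (f : X ⟶ S) (i : Z ⟶ X) (k : RegImm.Kind)
    (hk : k = RegImm.Kind.h1 ∨ k = RegImm.Kind.quasi) (hi : RegImm.IsRelRegularImmersion k f i)
    (g : S' ⟶ S) :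
    RegImm.IsRelRegularImmersion k (pullback.snd f g) (pullback.snd i (pullback.fst f g)) := by
  obtain ⟨⟨himm, hreg⟩, hflat⟩ := hi
  haveI := himm
  haveI := hflat
  have hsqX : IsPullback (pullback.fst f g) (pullback.snd f g) f g := IsPullback.of_hasPullback f g
  have hsqZ : IsPullback (pullback.fst i (pullback.fst f g)) (pullback.snd i (pullback.fst f g)) i
      (pullback.fst f g) := IsPullback.of_hasPullback i (pullback.fst f g)
  have hsqbig := hsqZ.paste_vert hsqX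
  refine ⟨⟨MorphismProperty.of_isPullback hsqZ himm, fun z' => ?_⟩,
    MorphismProperty.of_isPullback hsqbig hflat⟩
  generalize hp : pullback.fst f g = p at *
  generalize hq : pullback.snd f g = q at *
  generalize hi' : pullback.snd i p = i' at *
  generalize hg' : pullback.fst i p = g' at *
  obtain ⟨⟨U₀, hU₀⟩, hzU₀, hcl₀, rs₀, hrs₀, hker₀⟩ := hreg (g' z')
  have hcondZ : i (g' z') = p (i' z') := by
    have := congrArg (fun t : pullback i p ⟶ X => t z') hsqZ.w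
    simpa using this
  have hcondX : f (p (i' z')) = g (q (i' z')) := by
    have := congrArg (fun t : pullback f g ⟶ S => t (i' z')) hsqX.w
    simpa using this
  obtain ⟨V, hV, hsV⟩ : ∃ V : S.Opens, IsAffineOpen V ∧ f (i (g' z')) ∈ V := by
    obtain ⟨_, ⟨V, hV, rfl⟩, hsV, -⟩ := S.isBasis_affineOpens.exists_subset_of_mem_open
      (Set.mem_univ (f (i (g' z')))) isOpen_univ
    exact ⟨V, hV, hsV⟩
  have hs' : q (i' z') ∈ g ⁻¹ᵁ V := by
    show g (q (i' z')) ∈ V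
    rw [← hcondX, ← hcondZ]; exact hsV
  obtain ⟨V', hV', hsV', hV'le⟩ : ∃ V' : S'.Opens, IsAffineOpen V' ∧ q (i' z') ∈ V' ∧
      V' ≤ g ⁻¹ᵁ V := by
    obtain ⟨_, ⟨W, hW, rfl⟩, hzW, hWle⟩ :=
      (S'.isBasis_affineOpens).exists_subset_of_mem_open hs' (g ⁻¹ᵁ V).isOpen
    exact ⟨W, hW, hzW, hWle⟩
  have hxU : i (g' z') ∈ U₀ ⊓ f ⁻¹ᵁ V := ⟨hzU₀, hsV⟩
  obtain ⟨U, hU, hzU, hUle⟩ : ∃ U : X.Opens, IsAffineOpen U ∧ i (g' z') ∈ U ∧
      U ≤ U₀ ⊓ f ⁻¹ᵁ V := by
    obtain ⟨_, ⟨W, hW, rfl⟩, hzW, hWle⟩ :=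
      (X.isBasis_affineOpens).exists_subset_of_mem_open hxU (U₀ ⊓ f ⁻¹ᵁ V).isOpen
    exact ⟨W, hW, hzW, hWle⟩
  obtain ⟨hcl, rs, hrs, hker⟩ := restrict_data i k (g' z') U₀ hU₀ hcl₀ rs₀ hrs₀ hker₀ U hU hzU
    (hUle.trans inf_le_left)
  haveI := hcl
  have hUV : U ≤ f ⁻¹ᵁ V := hUle.trans inf_le_right
  have hU'aff : IsAffineOpen (p ⁻¹ᵁ U ⊓ q ⁻¹ᵁ V') := by
    haveI : IsAffine V := hV
    haveI : IsAffine V' := hV'
    haveI : IsAffine U := hU
    exact .of_isIso (Scheme.Hom.isPullback_resLE hsqX hV'le hUV rfl).isoPullback.hom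
  have hz'U' : i' z' ∈ p ⁻¹ᵁ U ⊓ q ⁻¹ᵁ V' :=
    ⟨by show p (i' z') ∈ U; rw [← hcondZ]; exact hzU, hsV'⟩
  have hU'le : p ⁻¹ᵁ U ⊓ q ⁻¹ᵁ V' ≤ p ⁻¹ᵁ U := inf_le_left
  obtain ⟨hcl', hker'⟩ := ker_of_isPullback i p i' g' hsqZ U hU _ hU'aff hU'le
  have hiso := isIso_pushoutSection_of_isAffineOpen hsqX hV'le hUV
    (rfl : p ⁻¹ᵁ U ⊓ q ⁻¹ᵁ V' = _) hV hV' hU
  have hpo := (isIso_pushoutSection_iff hsqX hV'le hUV rfl).1 hiso
  letI : Algebra Γ(S, V) Γ(X, U) := (f.appLE V U hUV).hom.toAlgebra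
  letI : Algebra Γ(S, V) Γ(S', V') := (g.appLE V V' hV'le).hom.toAlgebra
  have hfl : Module.Flat Γ(S, V) (Γ(X, U) ⧸ Ideal.ofList rs) := by
    apply flat_quot_of_surjective (i.app U).hom (RegImmStalk.app_surjective i U hU) _ hker
    have hUZ : IsAffineOpen (i ⁻¹ᵁ U) := RegImmStalk.isAffineOpen_preimage i U hU
    have h1 := (i ≫ f).flat_appLE hV hUZ (show i ⁻¹ᵁ U ≤ (i ≫ f) ⁻¹ᵁ V from fun x hx => hUV hx)
    have h2 : (i ≫ f).appLE V (i ⁻¹ᵁ U) (fun x hx => hUV hx) = f.appLE V U hUV ≫ i.app U := by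
      rw [Scheme.Hom.app_eq_appLE, Scheme.Hom.appLE_comp_appLE]
    rw [h2] at h1
    exact h1
  have hseq := seq_of_isPushout (A := Γ(S, V)) (B := Γ(X, U)) (A' := Γ(S', V'))
    (p.appLE U _ hU'le).hom (q.appLE V' (p ⁻¹ᵁ U ⊓ q ⁻¹ᵁ V') inf_le_right).hom hpo k hk rs hrs hfl
  refine ⟨⟨_, hU'aff⟩, hz'U', hcl', rs.map (p.appLE U _ hU'le).hom, hseq, ?_⟩
  rw [hker', hker, Ideal.map_ofList]

end Groth.Agent.Helper28.RegBC
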