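import Mathlib
import Groth.Prelude.Def_BlowUp2

/-!
# Flatness of affine blow-up algebras

`A` a flat `R`-algebra, `I` an ideal with all `A/I^m` flat over `R`.  Then `A[I/a]` is `R`-flat, the
quotient `A[I/a]/(a)` is `R`-flat, and `a` stays a nonzerodivisor after any base change `R → R'`.

The first part (the maps `x ↦ x/a^n`) is copied from `Groth.Agent.Lib.Helper21.BlowTor` (helper21), and
`flat_of_exact` from `Groth.Agent.Lib.Helper21.FlatKer`, to avoid importing the Tor libraries.
-/
set_option autoImplicit false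
universe u
open TensorProduct

namespace Groth.Agent.Helper28.BlowFlat

section en

variable {A : Type u} [CommRing A] (I : Ideal A) (a : A)

/-- `1/a` in the localization. -/
noncomputable def u : Localization.Away a :=
  IsLocalization.mk' (Localization.Away a) (1 : A) (⟨a, Submonoid.mem_powers a⟩ : Submonoid.powers a)

theorem map_mul_u : algebraMap A (Localization.Away a) a * u a = 1 := by
  have h := IsLocalization.mk'_spec (Localization.Away a) (1 : A)
    (⟨a, Submonoid.mem_powers a⟩ : Submonoid.powers a)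
  rw [map_one] at h
  rw [mul_comm]
  exact h

theorem gen_eq (x : A) : IsLocalization.mk' (Localization.Away a) x
    (⟨a, Submonoid.mem_powers a⟩ : Submonoid.powers a) = algebraMap A _ x * u a :=
  IsLocalization.mk'_eq_mul_mk'_one x _

/-- `x ↦ x / a^n`. -/
noncomputable def en (n : ℕ) : A →ₗ[A] Localization.Away a :=
  (LinearMap.mulRight A ((u a) ^ n)) ∘ₗ (Algebra.linearMap A (Localization.Away a))

theorem en_apply (n : ℕ) (x : A) : en a n x = algebraMap A _ x * (u a) ^ n := rfl

theorem en_mem (n : ℕ) : ∀ x ∈ I ^ n, en a n x ∈ BlowUp.affineAlgebra A I a := by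
  induction n with
  | zero =>
    intro x _
    rw [en_apply, pow_zero, mul_one]
    exact Subalgebra.algebraMap_mem _ x
  | succ n ih =>
    intro x hx
    rw [pow_succ'] at hx
    refine Submodule.mul_induction_on hx ?_ ?_
    · intro y hy z hz
      have h1 : en a (n + 1) (y * z) = (algebraMap A _ y * u a) * en a n z := by
        rw [en_apply, en_apply, map_mul, pow_succ]
        ring
      rw [h1]
      refine Subalgebra.mul_mem _ ?_ (ih z hz)
      rw [← gen_eq]
      exact Algebra.subset_adjoin ⟨y, hy, rfl⟩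
    · intro y z hy hz
      rw [map_add]
      exact Subalgebra.add_mem _ hy hz

theorem en_pow_mul (n k : ℕ) (x : A) : en a (n + k) (a ^ k * x) = en a n x := by
  rw [en_apply, en_apply, map_mul, map_pow, pow_add]
  have h := map_mul_u a
  calc algebraMap A (Localization.Away a) a ^ k * algebraMap A _ x * ((u a) ^ n * (u a) ^ k)
      = algebraMap A _ x * (u a) ^ n * (algebraMap A _ a * u a) ^ k := by
        rw [mul_pow]
        ring
    _ = algebraMap A _ x * (u a) ^ n := by rw [h, one_pow, mul_one]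

theorem en_succ_mul (n : ℕ) (x : A) : en a (n + 1) (a * x) = en a n x := by
  have := en_pow_mul a n 1 x
  rwa [pow_one] at this

theorem exists_en_eq (ha : a ∈ I) (b : Localization.Away a)
    (hb : b ∈ BlowUp.affineAlgebra A I a) : ∃ n, ∃ x ∈ I ^ n, en a n x = b := by
  unfold BlowUp.affineAlgebra at hb
  induction hb using Algebra.adjoin_induction with
  | mem b hb =>
    obtain ⟨x, hx, rfl⟩ := hb
    exact ⟨1, x, by rwa [pow_one], by rw [en_apply, pow_one, gen_eq]⟩
  | algebraMap r =>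
    refine ⟨0, r, ?_, by rw [en_apply, pow_zero, mul_one]⟩
    rw [pow_zero, Ideal.one_eq_top]
    exact Submodule.mem_top
  | add b₁ b₂ _ _ h₁ h₂ =>
    obtain ⟨n, x, hx, rfl⟩ := h₁
    obtain ⟨m, y, hy, rfl⟩ := h₂
    refine ⟨n + m, a ^ m * x + a ^ n * y, ?_, ?_⟩
    · refine Ideal.add_mem _ ?_ ?_
      · rw [add_comm n m, pow_add]
        exact Ideal.mul_mem_mul (Ideal.pow_mem_pow ha m) hx
      · rw [pow_add]
        exact Ideal.mul_mem_mul (Ideal.pow_mem_pow ha n) hy
    · rw [map_add, en_pow_mul, add_comm n m, en_pow_mul]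
  | mul b₁ b₂ _ _ h₁ h₂ =>
    obtain ⟨n, x, hx, rfl⟩ := h₁
    obtain ⟨m, y, hy, rfl⟩ := h₂
    refine ⟨n + m, x * y, ?_, ?_⟩
    · rw [pow_add]
      exact Ideal.mul_mem_mul hx hy
    · rw [en_apply, en_apply, en_apply, map_mul, pow_add]
      ring

theorem exists_pow_mul_eq_zero (n : ℕ) (x : A) (h : en a n x = 0) : ∃ k : ℕ, a ^ k * x = 0 := by
  rw [en_apply] at h
  have h1 : algebraMap A (Localization.Away a) x = 0 := by
    have h2 : algebraMap A (Localization.Away a) x =
        algebraMap A _ x * (u a) ^ n * (algebraMap A _ a) ^ n := by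
      rw [mul_assoc, ← mul_pow, mul_comm (u a), map_mul_u, one_pow, mul_one]
    rw [h2, h, zero_mul]
  obtain ⟨⟨_, k, rfl⟩, hk⟩ := (IsLocalization.map_eq_zero_iff (Submonoid.powers a) _ x).1 h1
  exact ⟨k, hk⟩

/-- inclusion of the affine blow-up algebra into the localization, as a linear map -/
noncomputable def vv : ↥(BlowUp.affineAlgebra A I a) →ₗ[A] Localization.Away a :=
  (BlowUp.affineAlgebra A I a).val.toLinearMap

lemma vv_apply (c : ↥(BlowUp.affineAlgebra A I a)) : vv I a c = (c : Localization.Away a) := rfl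

lemma vv_injective : Function.Injective (vv I a) := Subtype.val_injective

lemma vv_mul (c d : ↥(BlowUp.affineAlgebra A I a)) : vv I a (c * d) = vv I a c * vv I a d := rfl

lemma vv_algebraMap (r : A) :
    vv I a (algebraMap A ↥(BlowUp.affineAlgebra A I a) r) = algebraMap A (Localization.Away a) r := rfl

/-- `x / a^n` as an element of the affine blow-up algebra -/
noncomputable def ec (n : ℕ) (x : A) (hx : x ∈ I ^ n) : ↥(BlowUp.affineAlgebra A I a) :=
  ⟨en a n x, en_mem I a n x hx⟩

lemma vv_ec (n : ℕ) (x : A) (hx : x ∈ I ^ n) : vv I a (ec I a n x hx) = en a n x := rfl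

lemma exists_rep (ha : a ∈ I) (c : ↥(BlowUp.affineAlgebra A I a)) :
    ∃ n, ∀ N, n ≤ N → ∃ y ∈ I ^ N, en a N y = vv I a c := by
  obtain ⟨n, y, hy, hc⟩ := exists_en_eq I a ha _ c.2
  refine ⟨n, fun N hN => ⟨a ^ (N - n) * y, ?_, ?_⟩⟩
  · have : I ^ N = I ^ (N - n) * I ^ n := by rw [← pow_add, Nat.sub_add_cancel hN]
    rw [this]
    exact Ideal.mul_mem_mul (Ideal.pow_mem_pow ha _) hy
  · have := en_pow_mul a n (N - n) y
    rw [Nat.add_sub_cancel' hN] at this
    rw [this, hc]
    rfl

lemma pow_mul_mem (ha : a ∈ I) (N k : ℕ) (y : A) (hy : y ∈ I ^ N) : a ^ k * y ∈ I ^ (N + k) := by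
  have h := Ideal.mul_mem_mul hy (Ideal.pow_mem_pow ha k)
  rw [← pow_add] at h
  rwa [mul_comm] at h

end en

/-- In a short exact sequence `0 → M → N → P → 0` with `N` and `P` flat, `M` is flat.
(helper21, `FK.flat_of_exact`) -/
theorem flat_of_exact {R : Type u} [CommRing R] {M N P : Type u} [AddCommGroup M] [Module R M]
    [AddCommGroup N] [Module R N] [AddCommGroup P] [Module R P]
    [Module.Flat R N] [Module.Flat R P] (g : M →ₗ[R] N) (f : N →ₗ[R] P)
    (hg : Function.Injective g) (hf : Function.Surjective f) (H : Function.Exact g f) :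
    Module.Flat R M := by
  rw [Module.Flat.iff_rTensor_preserves_injective_linearMap]
  intro N₁ N₂ _ _ _ _ u hu
  have hcomm : (u.rTensor N) ∘ₗ (g.lTensor N₁) = (g.lTensor N₂) ∘ₗ (u.rTensor M) := by
    rw [LinearMap.rTensor_comp_lTensor, LinearMap.lTensor_comp_rTensor]
  have h1 : Function.Injective (g.lTensor N₁) :=
    LinearMap.lTensor_injective_of_exact_of_flat f hf g hg H N₁
  have h2 : Function.Injective (u.rTensor N) :=
    Module.Flat.rTensor_preserves_injective_linearMap _ hu
  have h3 : Function.Injective ((u.rTensor N) ∘ₗ (g.lTensor N₁)) := h2.comp h1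
  rw [hcomm] at h3
  exact Function.Injective.of_comp h3

section flat

variable {R A : Type u} [CommRing R] [CommRing A] [Algebra R A] (I : Ideal A) (a : A)

/-- the quotient map as an `R`-linear map -/
noncomputable def qm (N : ℕ) : A →ₗ[R] A ⧸ I ^ N := (Ideal.Quotient.mkₐ R (I ^ N)).toLinearMap

lemma qm_eq_zero_iff (N : ℕ) (x : A) : qm (R := R) I N x = 0 ↔ x ∈ I ^ N :=
  Ideal.Quotient.eq_zero_iff_mem

lemma qm_surjective (N : ℕ) : Function.Surjective (qm (R := R) I N) :=
  Ideal.Quotient.mkₐ_surjective R _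

/-- the transition map -/
noncomputable def θ (N : ℕ) : (A ⧸ I ^ (N + 1)) →ₗ[R] A ⧸ I ^ N :=
  (Ideal.Quotient.factorₐ R
    (show I ^ (N + 1) ≤ I ^ N from Ideal.pow_le_pow_right (Nat.le_succ N))).toLinearMap

lemma θ_qm (N : ℕ) (x : A) :
    θ (R := R) I N (qm (R := R) I (N + 1) x) = qm (R := R) I N x := rfl

lemma θ_surjective (N : ℕ) : Function.Surjective (θ (R := R) I N) := by
  intro y
  obtain ⟨x, rfl⟩ := qm_surjective (R := R) I N y
  exact ⟨qm (R := R) I (N + 1) x, θ_qm I N x⟩

theorem flat_pow [Module.Flat R A] (hq : ∀ m, Module.Flat R (A ⧸ I ^ m)) (n : ℕ) :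
    Module.Flat R ↥(I ^ n) := by
  haveI := hq n
  refine flat_of_exact ((I ^ n).subtype.restrictScalars R) (qm I n) ?_ (qm_surjective I n) ?_
  · exact Subtype.val_injective
  · intro y
    rw [qm_eq_zero_iff]
    constructor
    · intro hy
      exact ⟨⟨y, hy⟩, rfl⟩
    · rintro ⟨x, rfl⟩
      exact x.2

theorem flat_gr (hq : ∀ m, Module.Flat R (A ⧸ I ^ m)) (n : ℕ) :
    Module.Flat R ↥(LinearMap.ker (θ (R := R) I n)) := by
  haveI := hq n
  haveI := hq (n + 1)
  exact flat_of_exact (LinearMap.ker (θ (R := R) I n)).subtype (θ I n)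
    (Submodule.injective_subtype _) (θ_surjective I n) (LinearMap.exact_subtype_ker_map _)

theorem gr_trivial (hq : ∀ m, Module.Flat R (A ⧸ I ^ m)) (N : ℕ) {l : ℕ} (f : Fin l → R)
    (y : Fin l → A) (hy : ∀ i, y i ∈ I ^ N) (hsum : ∑ i, f i • y i ∈ I ^ (N + 1)) :
    ∃ (k : ℕ) (c : Fin l → Fin k → R) (z : Fin k → A), (∀ j, z j ∈ I ^ N) ∧
      (∀ i, y i - ∑ j, c i j • z j ∈ I ^ (N + 1)) ∧ ∀ j, ∑ i, f i * c i j = 0 := by
  haveI := flat_gr I hq N
  let Y : Fin l → ↥(LinearMap.ker (θ (R := R) I N)) := fun i => ⟨qm (R := R) I (N + 1) (y i), by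
    rw [LinearMap.mem_ker, θ_qm, qm_eq_zero_iff]; exact hy i⟩
  have hrel : ∑ i, f i • Y i = 0 := by
    apply (LinearMap.ker (θ (R := R) I N)).injective_subtype
    rw [map_sum, map_zero]
    simp only [map_smul]
    show ∑ i, f i • qm (R := R) I (N + 1) (y i) = 0
    rw [← (qm_eq_zero_iff (R := R) I (N + 1) _).mpr hsum, map_sum]
    simp only [map_smul]
  obtain ⟨k, c, W, hW, hc⟩ := Module.Flat.isTrivialRelation_of_sum_smul_eq_zero (R := R)
    (M := ↥(LinearMap.ker (θ (R := R) I N))) (f := f) (x := Y) hrel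
  choose z hz using fun j => qm_surjective (R := R) I (N + 1) (W j).1
  refine ⟨k, c, z, ?_, ?_, hc⟩
  · intro j
    rw [← qm_eq_zero_iff (R := R), ← θ_qm, hz j]
    exact LinearMap.mem_ker.mp (W j).2
  · intro i
    rw [← qm_eq_zero_iff (R := R), map_sub, map_sum, sub_eq_zero]
    simp only [map_smul, hz]
    have := congrArg (LinearMap.ker (θ (R := R) I N)).subtype (hW i)
    rw [map_sum] at this
    simp only [map_smul] at this
    exact this

theorem flat_affineAlgebra (ha : a ∈ I) [Module.Flat R A] (hq : ∀ m, Module.Flat R (A ⧸ I ^ m)) :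
    Module.Flat R ↥(BlowUp.affineAlgebra A I a) := by
  apply Module.Flat.of_forall_isTrivialRelation
  intro l f x hx
  choose n hn using fun i => exists_rep I a ha (x i)
  obtain ⟨N, hN⟩ : ∃ N, ∀ i, n i ≤ N :=
    ⟨∑ i, n i, fun i => Finset.single_le_sum (fun _ _ => Nat.zero_le _) (Finset.mem_univ i)⟩
  choose y hy hxy using fun i => hn i N (hN i)
  have hrel : en a N (∑ i, f i • y i) = 0 := by
    rw [map_sum]
    have h2 : ∀ i, en a N (f i • y i) = vv I a (f i • x i) := by
      intro i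
      rw [LinearMap.map_smul_of_tower, LinearMap.map_smul_of_tower, hxy]
    rw [Finset.sum_congr rfl (fun i _ => h2 i), ← map_sum, hx, map_zero]
  obtain ⟨k, hk⟩ := exists_pow_mul_eq_zero a N _ hrel
  let Y : Fin l → ↥(I ^ (N + k)) := fun i => ⟨a ^ k * y i, pow_mul_mem I a ha N k _ (hy i)⟩
  have hY : ∑ i, f i • Y i = 0 := by
    apply (I ^ (N + k)).injective_subtype
    rw [map_sum, map_zero]
    have : ∀ i, (I ^ (N + k)).subtype (f i • Y i) = a ^ k * (f i • y i) := by
      intro i
      rw [LinearMap.map_smul_of_tower]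
      show f i • (a ^ k * y i) = a ^ k * (f i • y i)
      rw [mul_smul_comm]
    rw [Finset.sum_congr rfl (fun i _ => this i), ← Finset.mul_sum, hk]
  haveI := flat_pow I hq (N + k)
  obtain ⟨k', c, W, hW, hc⟩ := Module.Flat.isTrivialRelation_of_sum_smul_eq_zero (R := R)
    (M := ↥(I ^ (N + k))) (f := f) (x := Y) hY
  refine ⟨k', c, fun j => ec I a (N + k) (W j).1 (W j).2, ?_, hc⟩
  intro i
  apply vv_injective I a
  rw [map_sum]
  have h3 : ∀ j, vv I a (c i j • ec I a (N + k) (W j).1 (W j).2) =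
      c i j • en a (N + k) (W j).1 := by
    intro j
    rw [LinearMap.map_smul_of_tower, vv_ec]
  rw [Finset.sum_congr rfl (fun j _ => h3 j)]
  have h4 : vv I a (x i) = en a (N + k) (a ^ k * y i) := by
    rw [en_pow_mul]
    exact (hxy i).symm
  rw [h4]
  have h5 : a ^ k * y i = ∑ j, c i j • ((W j).1 : A) := by
    have := congrArg (I ^ (N + k)).subtype (hW i)
    rw [map_sum] at this
    simp only [LinearMap.map_smul_of_tower] at this
    exact this
  rw [h5, map_sum]
  refine Finset.sum_congr rfl fun j _ => ?_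
  rw [LinearMap.map_smul_of_tower]

theorem flat_quotient (ha : a ∈ I) [Module.Flat R A] (hq : ∀ m, Module.Flat R (A ⧸ I ^ m)) :
    Module.Flat R (↥(BlowUp.affineAlgebra A I a) ⧸
      Ideal.span {algebraMap A ↥(BlowUp.affineAlgebra A I a) a}) := by
  set α := algebraMap A ↥(BlowUp.affineAlgebra A I a) a with hα
  apply Module.Flat.of_forall_isTrivialRelation
  intro l f q hq0
  let π : ↥(BlowUp.affineAlgebra A I a) →ₗ[R] (↥(BlowUp.affineAlgebra A I a) ⧸ Ideal.span {α}) :=
    (Ideal.Quotient.mkₐ R (Ideal.span {α})).toLinearMap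
  have hπ0 : ∀ c, π c = 0 ↔ c ∈ Ideal.span {α} := fun c => Ideal.Quotient.eq_zero_iff_mem
  have hπs : Function.Surjective π := Ideal.Quotient.mkₐ_surjective R _
  choose x hx using fun i => hπs (q i)
  have h0 : π (∑ i, f i • x i) = 0 := by
    rw [map_sum]
    simp only [map_smul, hx]
    exact hq0
  obtain ⟨c', hc'⟩ := Ideal.mem_span_singleton'.mp ((hπ0 _).mp h0)
  choose n hn using fun i => exists_rep I a ha (x i)
  obtain ⟨m, hm⟩ := exists_rep I a ha c'
  obtain ⟨N, hN, hmN⟩ : ∃ N, (∀ i, n i ≤ N) ∧ m ≤ N :=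
    ⟨(∑ i, n i) + m, fun i => le_trans
      (Finset.single_le_sum (fun _ _ => Nat.zero_le _) (Finset.mem_univ i)) (Nat.le_add_right _ _),
      Nat.le_add_left _ _⟩
  choose y hy hxy using fun i => hn i N (hN i)
  obtain ⟨z, hz, hcz⟩ := hm N hmN
  have hrel : en a N (∑ i, f i • y i - a * z) = 0 := by
    rw [map_sub, map_sum, sub_eq_zero]
    have h2 : ∀ i, en a N (f i • y i) = vv I a (f i • x i) := by
      intro i
      rw [LinearMap.map_smul_of_tower, LinearMap.map_smul_of_tower, hxy]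
    rw [Finset.sum_congr rfl (fun i _ => h2 i), ← map_sum, ← hc']
    have h3 : en a N (a * z) = a • en a N z := by rw [← smul_eq_mul, map_smul]
    have h4 : c' * α = a • c' := by rw [hα, Algebra.smul_def, mul_comm]
    rw [h3, hcz, h4, map_smul]
  obtain ⟨k, hk⟩ := exists_pow_mul_eq_zero a N _ hrel
  have hmemY : ∀ i, a ^ k * y i ∈ I ^ (N + k) := fun i => pow_mul_mem I a ha N k _ (hy i)
  have hsum : ∑ i, f i • (a ^ k * y i) ∈ I ^ (N + k + 1) := by
    have e : ∑ i, f i • (a ^ k * y i) = a * (a ^ k * z) := by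
      rw [mul_sub, sub_eq_zero, Finset.mul_sum] at hk
      rw [Finset.sum_congr rfl (fun i _ => (mul_smul_comm (f i) (a ^ k) (y i)).symm), hk]
      ring
    rw [e, pow_succ']
    exact Ideal.mul_mem_mul ha (pow_mul_mem I a ha N k _ hz)
  obtain ⟨k', c, w, hw, hdiff, hc⟩ := gr_trivial I hq (N + k) f (fun i => a ^ k * y i) hmemY hsum
  refine ⟨k', c, fun j => π (ec I a (N + k) (w j) (hw j)), ?_, hc⟩
  intro i
  rw [← hx i, ← sub_eq_zero]
  have h5 : π (x i) - ∑ j, c i j • π (ec I a (N + k) (w j) (hw j)) =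
      π (x i - ∑ j, c i j • ec I a (N + k) (w j) (hw j)) := by
    rw [map_sub, map_sum]
    simp only [map_smul]
  rw [h5, hπ0, Ideal.mem_span_singleton']
  refine ⟨ec I a (N + k + 1) _ (hdiff i), ?_⟩
  apply vv_injective I a
  have h6 : ∀ j, vv I a (c i j • ec I a (N + k) (w j) (hw j)) = en a (N + k) (c i j • w j) := by
    intro j
    rw [LinearMap.map_smul_of_tower, LinearMap.map_smul_of_tower, vv_ec]
  have h7 : vv I a (x i) = en a (N + k) (a ^ k * y i) := by
    rw [en_pow_mul]
    exact (hxy i).symm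
  have hR : vv I a (x i - ∑ j, c i j • ec I a (N + k) (w j) (hw j)) =
      en a (N + k) (a ^ k * y i - ∑ j, c i j • w j) := by
    rw [map_sub, map_sum, map_sub, map_sum, h7]
    congr 1
    exact Finset.sum_congr rfl (fun j _ => h6 j)
  have hL : vv I a (ec I a (N + k + 1) _ (hdiff i) * α) =
      en a (N + k) (a ^ k * y i - ∑ j, c i j • w j) := by
    rw [vv_mul, vv_ec, hα, vv_algebraMap, ← en_succ_mul a (N + k), en_apply, en_apply, map_mul]
    ring
  rw [hL, hR]

theorem tmul_mem_nonZeroDivisors (ha : a ∈ I) [Module.Flat R A]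
    (hq : ∀ m, Module.Flat R (A ⧸ I ^ m)) (R' : Type u) [CommRing R'] [Algebra R R'] :
    (1 : R') ⊗ₜ[R] (algebraMap A ↥(BlowUp.affineAlgebra A I a) a) ∈
      nonZeroDivisors (R' ⊗[R] ↥(BlowUp.affineAlgebra A I a)) := by
  set α := algebraMap A ↥(BlowUp.affineAlgebra A I a) a with hα
  let μ : ↥(BlowUp.affineAlgebra A I a) →ₗ[R] ↥(BlowUp.affineAlgebra A I a) :=
    LinearMap.mulLeft R α
  let π : ↥(BlowUp.affineAlgebra A I a) →ₗ[R] (↥(BlowUp.affineAlgebra A I a) ⧸ Ideal.span {α}) :=
    (Ideal.Quotient.mkₐ R (Ideal.span {α})).toLinearMap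
  haveI : Module.Flat R (↥(BlowUp.affineAlgebra A I a) ⧸ Ideal.span {α}) :=
    flat_quotient I a ha hq
  have hμ : Function.Injective μ := by
    intro c d h
    apply vv_injective I a
    have h' : vv I a (α * c) = vv I a (α * d) := congrArg _ h
    rw [vv_mul, vv_mul, hα, vv_algebraMap] at h'
    have hu : IsUnit (algebraMap A (Localization.Away a) a) :=
      IsLocalization.Away.algebraMap_isUnit a
    exact hu.mul_left_cancel h'
  have hex : Function.Exact μ π := by
    intro c
    rw [show π c = 0 ↔ c ∈ Ideal.span {α} from Ideal.Quotient.eq_zero_iff_mem,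
      Ideal.mem_span_singleton']
    constructor
    · rintro ⟨d, hd⟩
      exact ⟨d, by rw [← hd]; exact mul_comm _ _⟩
    · rintro ⟨d, hd⟩
      exact ⟨d, by rw [← hd]; exact mul_comm _ _⟩
  have hinj := LinearMap.lTensor_injective_of_exact_of_flat π
    (Ideal.Quotient.mkₐ_surjective R _) μ hμ hex R'
  have hmul : ∀ z : R' ⊗[R] ↥(BlowUp.affineAlgebra A I a),
      μ.lTensor R' z = z * ((1 : R') ⊗ₜ[R] α) := by
    intro z
    induction z using TensorProduct.induction_on with
    | zero => rw [map_zero, zero_mul]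
    | tmul r c =>
      rw [LinearMap.lTensor_tmul, Algebra.TensorProduct.tmul_mul_tmul, mul_one]
      show r ⊗ₜ[R] (α * c) = r ⊗ₜ[R] (c * α)
      rw [mul_comm]
    | add x y hx hy => rw [map_add, add_mul, hx, hy]
  rw [mem_nonZeroDivisors_iff_right]
  intro z hz
  apply hinj
  rw [map_zero, hmul, hz]

end flat

section more

variable {A : Type u} [CommRing A] (I : Ideal A) (a : A)

/-- `I · A[I/a] = a · A[I/a]` -/
lemma map_algebraMap_eq (ha : a ∈ I) :
    I.map (algebraMap A ↥(BlowUp.affineAlgebra A I a)) =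
      Ideal.span {algebraMap A ↥(BlowUp.affineAlgebra A I a) a} := by
  apply le_antisymm
  · rw [Ideal.map_le_iff_le_comap]
    intro x hx
    rw [Ideal.mem_comap, Ideal.mem_span_singleton']
    refine ⟨ec I a 1 x (by rwa [pow_one]), ?_⟩
    apply vv_injective I a
    rw [vv_mul, vv_ec, vv_algebraMap, vv_algebraMap, en_apply, pow_one, mul_assoc, mul_comm (u a),
      map_mul_u, mul_one]
  · rw [Ideal.span_singleton_le_iff_mem]
    exact Ideal.mem_map_of_mem _ ha

variable {R : Type u} [CommRing R] [Algebra R A]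

lemma flat_quot_all (hq : ∀ m, 1 ≤ m → Module.Flat R (A ⧸ I ^ m)) (m : ℕ) :
    Module.Flat R (A ⧸ I ^ m) := by
  rcases Nat.eq_zero_or_pos m with rfl | hm
  · haveI : Subsingleton (A ⧸ I ^ 0) :=
      Ideal.Quotient.subsingleton_iff.mpr (by rw [pow_zero, Ideal.one_eq_top])
    infer_instance
  · exact hq m hm

theorem flat_affineAlgebra' (ha : a ∈ I) [Module.Flat R A]
    (hq : ∀ m, 1 ≤ m → Module.Flat R (A ⧸ I ^ m)) :
    Module.Flat R ↥(BlowUp.affineAlgebra A I a) :=
  flat_affineAlgebra I a ha (flat_quot_all I hq)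

theorem tmul_mem_nonZeroDivisors' (ha : a ∈ I) [Module.Flat R A]
    (hq : ∀ m, 1 ≤ m → Module.Flat R (A ⧸ I ^ m)) (R' : Type u) [CommRing R'] [Algebra R R'] :
    (1 : R') ⊗ₜ[R] (algebraMap A ↥(BlowUp.affineAlgebra A I a) a) ∈
      nonZeroDivisors (R' ⊗[R] ↥(BlowUp.affineAlgebra A I a)) :=
  tmul_mem_nonZeroDivisors I a ha (flat_quot_all I hq) R'

end more

end Groth.Agent.Helper28.BlowFlat
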