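import Mathlib
import Groth.Agent.Lib.Helper28.BlowFlat
import Groth.Agent.Lib.Helper6.QReg

/-!
# The exceptional divisor of the blow-up in a quasi-regular sequence

`f : Fin c → A` a quasi-regular sequence generating `J`, `i₀ : Fin c`, `C = A[J / f i₀]` the affine
blow-up algebra.  Then `C / (f i₀)` is a polynomial ring over `A / J` in the variables `f j / f i₀`,
`j ≠ i₀`; in particular `A / J → C / (f i₀)` is smooth.
-/
set_option autoImplicit false
universe u
open MvPolynomial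

namespace Groth.Agent.Helper28.BlowQReg

open Groth.Agent.Helper28.BlowFlat

section general

variable {σ : Type*} {A B : Type*} [CommRing A] [CommRing B] [Algebra A B]

/-- evaluating a homogeneous polynomial at a rescaled point -/
lemma aeval_mul_of_isHomogeneous (g : σ → B) (t : B) {n : ℕ} {H : MvPolynomial σ A}
    (hH : H.IsHomogeneous n) : aeval (fun j => g j * t) H = t ^ n * aeval g H := by
  have hsum : ∀ (φ : MvPolynomial σ A →ₐ[A] B),
      φ H = ∑ m ∈ H.support, φ (monomial m (coeff m H)) := by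
    intro φ
    conv_lhs => rw [H.as_sum]
    rw [map_sum]
  rw [hsum, hsum, Finset.mul_sum]
  refine Finset.sum_congr rfl fun m hm => ?_
  have hdeg : ∑ i ∈ m.support, m i = n := by
    have h1 : m.degree = n := by
      have h2 := hH (mem_support_iff.1 hm)
      rw [Finsupp.degree_eq_weight_one]
      exact h2
    rw [Finsupp.degree_apply] at h1
    exact h1
  rw [aeval_monomial, aeval_monomial]
  have hprod : (m.prod fun j k => (g j * t) ^ k) = t ^ n * m.prod fun j k => g j ^ k := by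
    simp only [Finsupp.prod, mul_pow, Finset.prod_mul_distrib, Finset.prod_pow_eq_pow_sum]
    rw [hdeg, mul_comm]
  rw [hprod]
  ring

end general

section chart

variable {A : Type u} [CommRing A] {c : ℕ} (f : Fin c → A) (i₀ : Fin c)

/-- the ideal generated by the sequence -/
abbrev J : Ideal A := Ideal.span (Set.range f)

lemma mem_J (j : Fin c) : f j ∈ J f := Ideal.subset_span ⟨j, rfl⟩

/-- the chart algebra -/
abbrev Cc : Type u := ↥(BlowUp.affineAlgebra A (J f) (f i₀))

/-- the generator `f_j / f_{i₀}` of the chart algebra -/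
noncomputable def gen (j : Fin c) : Cc f i₀ :=
  ec (J f) (f i₀) 1 (f j) (by rw [pow_one]; exact mem_J f j)

lemma vv_gen (j : Fin c) : vv (J f) (f i₀) (gen f i₀ j) =
    algebraMap A (Localization.Away (f i₀)) (f j) * u (f i₀) := by
  rw [gen, vv_ec, en_apply, pow_one]

lemma gen_self : gen f i₀ i₀ = 1 := by
  apply vv_injective (J f) (f i₀)
  rw [vv_gen, map_mul_u]
  rfl

/-- evaluation at the generators -/
noncomputable def Ev : MvPolynomial (Fin c) A →ₐ[A] Cc f i₀ := aeval (gen f i₀)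

lemma Ev_X (j : Fin c) : Ev f i₀ (X j) = gen f i₀ j := aeval_X _ _

lemma vv_Ev (Q : MvPolynomial (Fin c) A) : vv (J f) (f i₀) (Ev f i₀ Q) =
    aeval (fun j => algebraMap A (Localization.Away (f i₀)) (f j) * u (f i₀)) Q := by
  have h : (BlowUp.affineAlgebra A (J f) (f i₀)).val.comp (Ev f i₀) =
      aeval (fun j => algebraMap A (Localization.Away (f i₀)) (f j) * u (f i₀)) := by
    rw [Ev, comp_aeval]
    congr 1
    funext j
    exact vv_gen f i₀ j
  exact DFunLike.congr_fun h Q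

lemma vv_Ev_of_isHomogeneous {n : ℕ} {H : MvPolynomial (Fin c) A} (hH : H.IsHomogeneous n) :
    vv (J f) (f i₀) (Ev f i₀ H) = en (f i₀) n (eval f H) := by
  rw [vv_Ev, aeval_mul_of_isHomogeneous _ _ hH, en_apply, mul_comm]
  congr 1
  have h := aeval_algebraMap_apply (R := A) (A := A) (B := Localization.Away (f i₀)) f H
  rw [Function.comp_def] at h
  rw [h]
  rfl

lemma Ev_surjective : Function.Surjective (Ev f i₀) := by
  intro cc
  obtain ⟨n, x, hx, hxc⟩ := exists_en_eq (J f) (f i₀) (mem_J f i₀) _ cc.2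
  obtain ⟨H, hH, rfl⟩ := (Ideal.mem_span_pow_iff_exists_isHomogeneous f x).1 hx
  refine ⟨H, ?_⟩
  apply vv_injective (J f) (f i₀)
  rw [vv_Ev_of_isHomogeneous f i₀ hH, hxc]
  rfl

/-- homogenization of degree `n` with respect to the variable `i₀` -/
noncomputable def hom (n : ℕ) (Q : MvPolynomial (Fin c) A) : MvPolynomial (Fin c) A :=
  ∑ d ∈ Finset.range (Q.totalDegree + 1), X i₀ ^ (n - d) * homogeneousComponent d Q

lemma hom_isHomogeneous {n : ℕ} {Q : MvPolynomial (Fin c) A} (hn : Q.totalDegree ≤ n) :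
    (hom i₀ n Q).IsHomogeneous n := by
  refine IsHomogeneous.sum _ _ _ fun d hd => ?_
  have hd' : d ≤ n := by
    have := Finset.mem_range.1 hd
    omega
  have h1 := (isHomogeneous_X_pow (R := A) i₀ (n - d)).mul
    (homogeneousComponent_isHomogeneous (n := d) (φ := Q))
  rwa [Nat.sub_add_cancel hd'] at h1

lemma sub_one_dvd (k : ℕ) : (X i₀ - 1 : MvPolynomial (Fin c) A) ∣ 1 - X i₀ ^ k := by
  have h := sub_dvd_pow_sub_pow (X i₀ : MvPolynomial (Fin c) A) 1 k
  rw [one_pow] at h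
  have e : (1 : MvPolynomial (Fin c) A) - X i₀ ^ k = -(X i₀ ^ k - 1) := by ring
  rw [e]
  exact (dvd_neg).2 h

/-- `Q - hom n Q` is a multiple of `X i₀ - 1` -/
lemma sub_hom_mem (n : ℕ) (Q : MvPolynomial (Fin c) A) :
    Q - hom i₀ n Q ∈ Ideal.span {(X i₀ - 1 : MvPolynomial (Fin c) A)} := by
  have e : Q - hom i₀ n Q = ∑ d ∈ Finset.range (Q.totalDegree + 1),
      (1 - X i₀ ^ (n - d)) * homogeneousComponent d Q := by
    calc Q - hom i₀ n Q
        = (∑ d ∈ Finset.range (Q.totalDegree + 1), homogeneousComponent d Q) - hom i₀ n Q := by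
          rw [sum_homogeneousComponent]
      _ = _ := by
          rw [hom, ← Finset.sum_sub_distrib]
          refine Finset.sum_congr rfl fun d _ => ?_
          ring
  rw [e]
  refine Ideal.sum_mem _ fun d _ => Ideal.mul_mem_right _ _ ?_
  exact Ideal.mem_span_singleton.2 (sub_one_dvd i₀ _)

lemma Ev_hom (n : ℕ) (Q : MvPolynomial (Fin c) A) : Ev f i₀ (hom i₀ n Q) = Ev f i₀ Q := by
  have h2 : Ev f i₀ Q =
      ∑ d ∈ Finset.range (Q.totalDegree + 1), Ev f i₀ (homogeneousComponent d Q) := by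
    rw [← map_sum, sum_homogeneousComponent]
  rw [h2, hom, map_sum]
  refine Finset.sum_congr rfl fun d _ => ?_
  rw [map_mul, map_pow, Ev_X, gen_self, one_pow, one_mul]

/-- the kernel of `A[T] → C/(f i₀)` -/
theorem key (hq : CAlgX.IsQuasiRegular f) (Q : MvPolynomial (Fin c) A)
    (hQ : Ev f i₀ Q ∈ Ideal.span {algebraMap A (Cc f i₀) (f i₀)}) :
    Q ∈ Ideal.map (C : A →+* MvPolynomial (Fin c) A) (J f) ⊔
      Ideal.span {(X i₀ - 1 : MvPolynomial (Fin c) A)} := by
  obtain ⟨c', hc'⟩ := Ideal.mem_span_singleton'.mp hQ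
  obtain ⟨n₀, hn₀⟩ := exists_rep (J f) (f i₀) (mem_J f i₀) c'
  obtain ⟨N, hN1, hN2⟩ : ∃ N, n₀ ≤ N ∧ Q.totalDegree ≤ N :=
    ⟨max n₀ Q.totalDegree, le_max_left _ _, le_max_right _ _⟩
  obtain ⟨y, hy, hyc⟩ := hn₀ N hN1
  obtain ⟨H, hH⟩ : ∃ H, H = hom i₀ N Q := ⟨_, rfl⟩
  have hHhom : H.IsHomogeneous N := by rw [hH]; exact hom_isHomogeneous i₀ hN2
  have hEvH : Ev f i₀ H = Ev f i₀ Q := by rw [hH, Ev_hom]
  have hrel : en (f i₀) N (eval f H - f i₀ * y) = 0 := by
    rw [map_sub, sub_eq_zero, ← vv_Ev_of_isHomogeneous f i₀ hHhom, hEvH, ← hc', vv_mul, ← hyc,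
      vv_algebraMap, en_apply, en_apply, map_mul]
    ring
  obtain ⟨k, hk⟩ := exists_pow_mul_eq_zero (f i₀) N _ hrel
  have hev : eval f (X i₀ ^ k * H) ∈ (J f) ^ (k + N + 1) := by
    have e : eval f (X i₀ ^ k * H) = f i₀ ^ (k + 1) * y := by
      rw [map_mul, map_pow, eval_X]
      rw [mul_sub, sub_eq_zero] at hk
      rw [hk]
      ring
    rw [e]
    have h3 := Ideal.mul_mem_mul (Ideal.pow_mem_pow (mem_J f i₀) (k + 1)) hy
    rw [← pow_add] at h3
    have e4 : k + 1 + N = k + N + 1 := by omega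
    rwa [e4] at h3
  have hhom2 : (X i₀ ^ k * H).IsHomogeneous (k + N) := (isHomogeneous_X_pow i₀ k).mul hHhom
  have hcoef := hq (k + N) _ hhom2 hev
  have hmem : X i₀ ^ k * H ∈ Ideal.map (C : A →+* MvPolynomial (Fin c) A) (J f) :=
    mem_map_C_iff.2 hcoef
  have e3 : Q = (Q - H) + (1 - X i₀ ^ k) * H + X i₀ ^ k * H := by ring
  rw [e3]
  refine Ideal.add_mem _ (Ideal.add_mem _ ?_ ?_) (Ideal.mem_sup_left hmem)
  · rw [hH]
    exact Ideal.mem_sup_right (sub_hom_mem i₀ N Q)
  · exact Ideal.mem_sup_right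
      (Ideal.mul_mem_right _ _ (Ideal.mem_span_singleton.2 (sub_one_dvd i₀ k)))

/-- the quotient of the chart algebra by the exceptional equation -/
abbrev Cbar : Type u := Cc f i₀ ⧸ Ideal.span {algebraMap A (Cc f i₀) (f i₀)}

lemma le_comap :
    J f ≤ (Ideal.span {algebraMap A (Cc f i₀) (f i₀)}).comap (algebraMap A (Cc f i₀)) := by
  rw [← Ideal.map_le_iff_le_comap, map_algebraMap_eq (J f) (f i₀) (mem_J f i₀)]

/-- the ring map `A/J → C/(f i₀)` -/
noncomputable def ψ : A ⧸ J f →+* Cbar f i₀ :=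
  Ideal.quotientMap _ (algebraMap A (Cc f i₀)) (le_comap f i₀)

lemma ψ_mk (r : A) : ψ f i₀ (Ideal.Quotient.mk _ r) =
    Ideal.Quotient.mk _ (algebraMap A (Cc f i₀) r) :=
  Ideal.quotientMap_mk

/-- the remaining variables -/
abbrev σ' : Type := {j : Fin c // j ≠ i₀}

/-- the polynomial ring maps onto the exceptional quotient -/
noncomputable def Φ : MvPolynomial (σ' i₀) (A ⧸ J f) →+* Cbar f i₀ :=
  eval₂Hom (ψ f i₀) (fun j => Ideal.Quotient.mk _ (gen f i₀ j.1))

/-- setting `X i₀ = 1` -/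
noncomputable def eps : MvPolynomial (Fin c) A →+* MvPolynomial (σ' i₀) A :=
  eval₂Hom C (fun j => if h : j = i₀ then 1 else X ⟨j, h⟩)

lemma eps_C (r : A) : eps i₀ (C r) = C r := by
  rw [eps, eval₂Hom_C]

lemma eps_X_self : eps i₀ (X i₀ : MvPolynomial (Fin c) A) = 1 := by
  rw [eps, eval₂Hom_X', dif_pos rfl]

lemma eps_X_of_ne (j : Fin c) (h : j ≠ i₀) :
    eps i₀ (X j : MvPolynomial (Fin c) A) = X ⟨j, h⟩ := by
  rw [eps, eval₂Hom_X', dif_neg h]

lemma eps_rename (P : MvPolynomial (σ' i₀) A) : eps i₀ (rename Subtype.val P) = P := by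
  rw [eps, coe_eval₂Hom, eval₂_rename]
  have h : ((fun j : Fin c => if h : j = i₀ then (1 : MvPolynomial (σ' i₀) A) else X ⟨j, h⟩) ∘
      Subtype.val) = X := by
    funext j
    simp only [Function.comp_apply]
    rw [dif_neg j.2]
  rw [h, eval₂_eta]

/-- compatibility of the two evaluation maps -/
lemma Φ_map_eps (Q : MvPolynomial (Fin c) A) :
    Φ f i₀ (map (Ideal.Quotient.mk (J f)) (eps i₀ Q)) = Ideal.Quotient.mk _ (Ev f i₀ Q) := by
  have h : ((Φ f i₀).comp (map (Ideal.Quotient.mk (J f)))).comp (eps i₀) =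
      (Ideal.Quotient.mk (Ideal.span {algebraMap A (Cc f i₀) (f i₀)})).comp
        (Ev f i₀ : MvPolynomial (Fin c) A →+* Cc f i₀) := by
    apply MvPolynomial.ringHom_ext
    · intro r
      simp only [RingHom.comp_apply]
      rw [eps_C, map_C, Φ, eval₂Hom_C, ψ_mk]
      congr 1
      exact (Ev f i₀).commutes r |>.symm
    · intro j
      simp only [RingHom.comp_apply]
      by_cases hj : j = i₀
      · subst hj
        rw [eps_X_self, map_one, map_one]
        have : (Ev f j : MvPolynomial (Fin c) A →+* Cc f j) (X j) = 1 := by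
          show Ev f j (X j) = 1
          rw [Ev_X, gen_self]
        rw [this, map_one]
      · rw [eps_X_of_ne i₀ j hj, map_X, Φ, eval₂Hom_X']
        congr 1
        exact (Ev_X f i₀ j).symm
  exact DFunLike.congr_fun h Q

lemma Φ_surjective : Function.Surjective (Φ f i₀) := by
  intro z
  obtain ⟨cc, rfl⟩ := Ideal.Quotient.mk_surjective z
  obtain ⟨Q, rfl⟩ := Ev_surjective f i₀ cc
  exact ⟨_, Φ_map_eps f i₀ Q⟩

lemma Φ_injective (hq : CAlgX.IsQuasiRegular f) : Function.Injective (Φ f i₀) := by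
  rw [injective_iff_map_eq_zero]
  intro P hP
  obtain ⟨Pt, rfl⟩ := map_surjective (Ideal.Quotient.mk (J f)) Ideal.Quotient.mk_surjective P
  have h1 : Ev f i₀ (rename Subtype.val Pt) ∈
      Ideal.span {algebraMap A (Cc f i₀) (f i₀)} := by
    rw [← Ideal.Quotient.eq_zero_iff_mem, ← Φ_map_eps, eps_rename]
    exact hP
  have h2 := key f i₀ hq _ h1
  obtain ⟨p, hp, q, hq', hpq⟩ := Submodule.mem_sup.1 h2
  obtain ⟨r, hr⟩ := Ideal.mem_span_singleton'.1 hq'
  have h3 : Pt = eps i₀ p := by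
    have := congrArg (eps i₀) hpq
    rw [eps_rename, map_add, ← hr, map_mul, map_sub, eps_X_self, map_one, sub_self, mul_zero,
      add_zero] at this
    exact this.symm
  have h4 : eps i₀ p ∈ Ideal.map (C : A →+* MvPolynomial (σ' i₀) A) (J f) := by
    have h5 := Ideal.mem_map_of_mem (eps i₀) hp
    rw [Ideal.map_map] at h5
    have h6 : (eps i₀).comp (C : A →+* MvPolynomial (Fin c) A) = C :=
      RingHom.ext fun r => eps_C i₀ r
    rwa [h6] at h5
  rw [h3, ← RingHom.mem_ker, ker_map, Ideal.mk_ker]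
  exact h4

theorem smooth_ψ (hq : CAlgX.IsQuasiRegular f) :
    RingHom.Smooth (R := A ⧸ J f) (S := Cbar f i₀) (ψ f i₀) := by
  have h1 : ψ f i₀ = (Φ f i₀).comp (C : A ⧸ J f →+* MvPolynomial (σ' i₀) (A ⧸ J f)) := by
    ext r
    simp only [RingHom.comp_apply]
    rw [Φ, eval₂Hom_C]
  rw [h1]
  refine RingHom.Smooth.comp ?_
    (RingHom.Smooth.of_bijective ⟨Φ_injective f i₀ hq, Φ_surjective f i₀⟩)
  have h2 : (algebraMap (A ⧸ J f) (MvPolynomial (σ' i₀) (A ⧸ J f))).Smooth :=
    RingHom.smooth_algebraMap.2 ⟨inferInstance, inferInstance⟩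
  exact h2

end chart

section final

variable {A : Type u} [CommRing A]

/-- the exceptional quotient of a chart of the blow-up in a quasi-regular sequence is smooth over
the centre -/
theorem exists_smooth {c : ℕ} (f : Fin c → A) (i₀ : Fin c) (I : Ideal A) (a : A)
    (hI : I = Ideal.span (Set.range f)) (ha : a = f i₀) (hq : CAlgX.IsQuasiRegular f) :
    ∃ ψ : A ⧸ I →+* (↥(BlowUp.affineAlgebra A I a) ⧸
        Ideal.span {algebraMap A ↥(BlowUp.affineAlgebra A I a) a}),
      ψ.comp (Ideal.Quotient.mk I) = (Ideal.Quotient.mk _).comp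
        (algebraMap A ↥(BlowUp.affineAlgebra A I a)) ∧
      RingHom.Smooth (R := A ⧸ I) (S := ↥(BlowUp.affineAlgebra A I a) ⧸
        Ideal.span {algebraMap A ↥(BlowUp.affineAlgebra A I a) a}) ψ := by
  subst hI ha
  refine ⟨ψ f i₀, ?_, smooth_ψ f i₀ hq⟩
  ext r
  exact ψ_mk f i₀ r

/-- the case of a regular sequence -/
theorem exists_smooth_of_isRegular (I : Ideal A) (rs : List A)
    (hreg : RingTheory.Sequence.IsRegular A rs) (hI : I = Ideal.ofList rs) (a : A) (ha : a ∈ rs) :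
    ∃ ψ : A ⧸ I →+* (↥(BlowUp.affineAlgebra A I a) ⧸
        Ideal.span {algebraMap A ↥(BlowUp.affineAlgebra A I a) a}),
      ψ.comp (Ideal.Quotient.mk I) = (Ideal.Quotient.mk _).comp
        (algebraMap A ↥(BlowUp.affineAlgebra A I a)) ∧
      RingHom.Smooth (R := A ⧸ I) (S := ↥(BlowUp.affineAlgebra A I a) ⧸
        Ideal.span {algebraMap A ↥(BlowUp.affineAlgebra A I a) a}) ψ := by
  obtain ⟨i₀, hi₀⟩ := List.mem_iff_get.1 ha
  refine exists_smooth rs.get i₀ I a ?_ hi₀.symm ?_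
  · rw [hI, Set.range_list_get]
  · apply Groth.Agent.Helper6.QReg.isQuasiRegular_of_isWeaklyRegular
    rw [List.ofFn_get]
    exact hreg.toIsWeaklyRegular

end final

end Groth.Agent.Helper28.BlowQReg
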