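import Mathlib
import Groth.Agent.Lib.Helper28.BlowQReg
import Groth.Agent.Lib.Helper20.RE3
import Groth.Agent.Lib.Lead.Fib3

/-!
# Charts of the blow-up of a Cohen–Macaulay ring in a regular sequence are Cohen–Macaulay
-/
set_option autoImplicit false
universe u
open RingTheory.Sequence
open scoped Pointwise

namespace Groth.Agent.Helper28.BlowCM

open Groth.Agent.Helper28 Groth.Agent.Helper28.BlowFlat Groth.Agent.Helper28.BlowQReg
open Groth.Agent.Helper20.RE

section transport

/-- the Cohen–Macaulay property of rings is invariant under ring isomorphisms -/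
theorem isCohenMacaulayRing_of_ringEquiv {B C : Type u} [CommRing B] [CommRing C] (e : B ≃+* C)
    (hB : LocCoh.IsCohenMacaulayRing B) : LocCoh.IsCohenMacaulayRing C := by
  haveI : IsNoetherianRing B := by haveI := hB; infer_instance
  haveI : IsNoetherianRing C := isNoetherianRing_of_ringEquiv B e
  refine { isCohenMacaulayLocalRing_localization := fun Q hQ => ?_ }
  haveI hP : (Q.comap (e : B →+* C)).IsPrime := Ideal.comap_isPrime _ _
  haveI := hB.isCohenMacaulayLocalRing_localization (Q.comap (e : B →+* C))
  have H : (Q.comap (e : B →+* C)).primeCompl.map e.toMonoidHom = Q.primeCompl := by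
    ext c
    rw [Submonoid.mem_map]
    constructor
    · rintro ⟨b, hb, rfl⟩
      exact hb
    · intro hc
      refine ⟨e.symm c, ?_, e.apply_symm_apply c⟩
      show e.symm c ∉ Q.comap (e : B →+* C)
      rw [Ideal.mem_comap]
      show ¬ (e (e.symm c) ∈ Q)
      rw [e.apply_symm_apply]
      exact hc
  exact isCohenMacaulayLocalRing_of_ringEquiv
    (IsLocalization.ringEquivOfRingEquiv (Localization.AtPrime (Q.comap (e : B →+* C)))
      (Localization.AtPrime Q) e H)

end transport

section regseq

theorem smul_top_eq_span {B : Type u} [CommRing B] (r : B) :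
    r • (⊤ : Submodule B B) = Ideal.span {r} := by
  rw [← Submodule.ideal_span_singleton_smul, smul_eq_mul, Ideal.mul_top]

theorem isWeaklyRegular_quotient {B : Type u} [CommRing B] (r : B) (rs : List B)
    (h : IsWeaklyRegular B (r :: rs)) :
    r ∈ nonZeroDivisors B ∧ IsWeaklyRegular (B ⧸ Ideal.span {r})
      (rs.map (Ideal.Quotient.mk (Ideal.span {r}))) := by
  obtain ⟨h1, h2⟩ := (isWeaklyRegular_cons_iff B r rs).mp h
  refine ⟨isRegular_iff_mem_nonZeroDivisors.mp
    ((Commute.isRegular_iff (fun b => Commute.all r b)).mpr h1.isLeftRegular), ?_⟩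
  let e : QuotSMulTop r B ≃ₗ[B] (B ⧸ Ideal.span {r}) :=
    Submodule.quotEquivOfEq _ _ (smul_top_eq_span r)
  refine (AddEquiv.isWeaklyRegular_congr (e := e.toAddEquiv) ?_).mp h2
  refine List.forall₂_map_right_iff.mpr (List.forall₂_same.mpr fun a _ x => ?_)
  obtain ⟨b, rfl⟩ := Submodule.Quotient.mk_surjective _ x
  show e (a • Submodule.Quotient.mk b) =
    Ideal.Quotient.mk (Ideal.span {r}) a • e (Submodule.Quotient.mk b)
  rw [← Submodule.Quotient.mk_smul, Submodule.quotEquivOfEq_mk, Submodule.quotEquivOfEq_mk]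
  show Ideal.Quotient.mk (Ideal.span {r}) (a * b) =
    Ideal.Quotient.mk (Ideal.span {r}) a * Ideal.Quotient.mk (Ideal.span {r}) b
  rw [map_mul]

/-- the quotient of a Cohen–Macaulay ring by a weakly regular sequence is Cohen–Macaulay -/
theorem cm_quot_ofList : ∀ (n : ℕ) (B : Type u) [CommRing B] (rs : List B), rs.length = n →
    IsWeaklyRegular B rs → LocCoh.IsCohenMacaulayRing B →
    LocCoh.IsCohenMacaulayRing (B ⧸ Ideal.ofList rs) := by
  intro n
  induction n with
  | zero =>
    intro B _ rs hlen _ hB
    have hnil : rs = [] := List.length_eq_zero_iff.mp hlen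
    subst hnil
    have h0 : Ideal.ofList ([] : List B) = ⊥ := Ideal.ofList_nil
    exact isCohenMacaulayRing_of_ringEquiv
      ((RingEquiv.quotientBot B).symm.trans (Ideal.quotEquivOfEq h0.symm)) hB
  | succ n ih =>
    intro B _ rs hlen hreg hB
    match rs, hlen, hreg with
    | r :: rs', hlen, hreg =>
      obtain ⟨h1, h2⟩ := isWeaklyRegular_quotient r rs' hreg
      haveI : IsNoetherianRing B := by haveI := hB; infer_instance
      have hB' : LocCoh.IsCohenMacaulayRing (B ⧸ Ideal.span {r}) :=
        isCohenMacaulayRing_quotient r h1 hB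
      have hlen' : (rs'.map (Ideal.Quotient.mk (Ideal.span {r}))).length = n := by
        rw [List.length_map]
        simpa using hlen
      have ih' := ih (B ⧸ Ideal.span {r}) (rs'.map (Ideal.Quotient.mk (Ideal.span {r}))) hlen'
        h2 hB'
      have e : Nonempty ((B ⧸ Ideal.span {r}) ⧸
          Ideal.ofList (rs'.map (Ideal.Quotient.mk (Ideal.span {r}))) ≃+*
          B ⧸ Ideal.ofList (r :: rs')) := by
        rw [← Ideal.map_ofList, Ideal.ofList_cons]
        exact ⟨DoubleQuot.quotQuotEquivQuotSup (Ideal.span {r}) (Ideal.ofList rs')⟩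
      obtain ⟨e⟩ := e
      exact isCohenMacaulayRing_of_ringEquiv e ih'

end regseq

section chart

variable {A : Type u} [CommRing A]

/-- `a` is a nonzerodivisor of `A[I/a]` -/
theorem algebraMap_mem_nonZeroDivisors (I : Ideal A) (a : A) :
    algebraMap A ↥(BlowUp.affineAlgebra A I a) a ∈
      nonZeroDivisors ↥(BlowUp.affineAlgebra A I a) := by
  rw [mem_nonZeroDivisors_iff_right]
  intro c hc
  apply vv_injective I a
  have h' : vv I a (c * algebraMap A ↥(BlowUp.affineAlgebra A I a) a) = vv I a 0 := congrArg _ hc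
  rw [vv_mul, vv_algebraMap, map_zero] at h'
  have hu : IsUnit (algebraMap A (Localization.Away a) a) :=
    IsLocalization.Away.algebraMap_isUnit a
  rw [map_zero]
  exact (hu.mul_left_eq_zero).mp h'

/-- `A_a` is the localization of `A[I/a]` at `a` -/
theorem isLocalization_away (I : Ideal A) (a : A) :
    IsLocalization.Away (algebraMap A ↥(BlowUp.affineAlgebra A I a) a) (Localization.Away a) := by
  have hu : IsUnit (algebraMap A (Localization.Away a) a) :=
    IsLocalization.Away.algebraMap_isUnit a
  rw [IsLocalization.Away, isLocalization_iff]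
  refine ⟨?_, ?_, ?_⟩
  · rintro ⟨_, n, rfl⟩
    show IsUnit (algebraMap ↥(BlowUp.affineAlgebra A I a) (Localization.Away a)
      (algebraMap A ↥(BlowUp.affineAlgebra A I a) a ^ n))
    rw [map_pow]
    exact (hu.pow n)
  · intro z
    obtain ⟨n, x, hx⟩ := IsLocalization.Away.surj a z
    refine ⟨⟨algebraMap A ↥(BlowUp.affineAlgebra A I a) x,
      ⟨algebraMap A ↥(BlowUp.affineAlgebra A I a) a ^ n, n, rfl⟩⟩, ?_⟩
    show z * algebraMap ↥(BlowUp.affineAlgebra A I a) (Localization.Away a)
      (algebraMap A ↥(BlowUp.affineAlgebra A I a) a ^ n) =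
      algebraMap ↥(BlowUp.affineAlgebra A I a) (Localization.Away a)
        (algebraMap A ↥(BlowUp.affineAlgebra A I a) x)
    rw [map_pow]
    exact hx
  · intro x y hxy
    refine ⟨1, ?_⟩
    have : x = y := Subtype.ext hxy
    rw [this]

/-- points of the chart where `a` is invertible -/
theorem cm_of_not_mem (hA : LocCoh.IsCohenMacaulayRing A) (I : Ideal A) (a : A)
    (q : Ideal ↥(BlowUp.affineAlgebra A I a)) [q.IsPrime]
    (hq : algebraMap A ↥(BlowUp.affineAlgebra A I a) a ∉ q) :
    LocCoh.IsCohenMacaulayLocalRing (Localization.AtPrime q) := by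
  haveI hloc : IsLocalization.Away (algebraMap A ↥(BlowUp.affineAlgebra A I a) a)
      (Localization.Away a) := isLocalization_away I a
  have hdisj : Disjoint
      (Submonoid.powers (algebraMap A ↥(BlowUp.affineAlgebra A I a) a) :
        Set ↥(BlowUp.affineAlgebra A I a)) (q : Set ↥(BlowUp.affineAlgebra A I a)) := by
    rw [Set.disjoint_left]
    rintro _ ⟨n, rfl⟩ hmem
    exact hq (Ideal.IsPrime.mem_of_pow_mem inferInstance n hmem)
  obtain ⟨q', hq'def⟩ : ∃ q' : Ideal (Localization.Away a),
      q' = q.map (algebraMap ↥(BlowUp.affineAlgebra A I a) (Localization.Away a)) := ⟨_, rfl⟩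
  haveI hq' : q'.IsPrime := by
    rw [hq'def]
    exact IsLocalization.isPrime_of_isPrime_disjoint
      (Submonoid.powers (algebraMap A ↥(BlowUp.affineAlgebra A I a) a)) _ q inferInstance hdisj
  have hcomap : q'.comap (algebraMap ↥(BlowUp.affineAlgebra A I a) (Localization.Away a)) = q := by
    rw [hq'def]
    exact IsLocalization.under_map_of_isPrime_disjoint
      (Submonoid.powers (algebraMap A ↥(BlowUp.affineAlgebra A I a) a)) _ inferInstance hdisj
  have h1 : IsLocalization.AtPrime (Localization.AtPrime q')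
      (q'.comap (algebraMap ↥(BlowUp.affineAlgebra A I a) (Localization.Away a))) :=
    IsLocalization.isLocalization_isLocalization_atPrime_isLocalization
      (Submonoid.powers (algebraMap A ↥(BlowUp.affineAlgebra A I a) a))
      (Localization.AtPrime q') q'
  haveI h2 : IsLocalization.AtPrime (Localization.AtPrime q')
      (q'.comap (algebraMap A (Localization.Away a))) :=
    IsLocalization.isLocalization_isLocalization_atPrime_isLocalization
      (Submonoid.powers a) (Localization.AtPrime q') q'
  haveI := hA.isCohenMacaulayLocalRing_localization (q'.comap (algebraMap A (Localization.Away a)))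
  haveI : LocCoh.IsCohenMacaulayLocalRing (Localization.AtPrime q') :=
    isCohenMacaulayLocalRing_of_ringEquiv
      (IsLocalization.algEquiv (q'.comap (algebraMap A (Localization.Away a))).primeCompl
        (Localization.AtPrime (q'.comap (algebraMap A (Localization.Away a))))
        (Localization.AtPrime q')).toRingEquiv
  have e : (q'.comap
      (algebraMap ↥(BlowUp.affineAlgebra A I a) (Localization.Away a))).primeCompl =
      q.primeCompl := by
    ext x
    rw [Ideal.mem_primeCompl_iff, Ideal.mem_primeCompl_iff, hcomap]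
  haveI h3 : IsLocalization q.primeCompl (Localization.AtPrime q') := by
    rw [← e]
    exact h1
  exact isCohenMacaulayLocalRing_of_ringEquiv
    (IsLocalization.algEquiv q.primeCompl (Localization.AtPrime q')
      (Localization.AtPrime q)).toRingEquiv

/-- points of the chart on the exceptional divisor -/
theorem cm_of_mem (hA : LocCoh.IsCohenMacaulayRing A) {c : ℕ} (f : Fin c → A) (i₀ : Fin c)
    (hreg : IsWeaklyRegular A (List.ofFn f)) (q : Ideal (Cc f i₀)) [q.IsPrime]
    (hq : algebraMap A (Cc f i₀) (f i₀) ∈ q) :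
    LocCoh.IsCohenMacaulayLocalRing (Localization.AtPrime q) := by
  haveI : IsNoetherianRing A := by haveI := hA; infer_instance
  have hquasi : CAlgX.IsQuasiRegular f :=
    Groth.Agent.Helper6.QReg.isQuasiRegular_of_isWeaklyRegular f hreg
  have hJ : J f = Ideal.ofList (List.ofFn f) := by
    rw [J, Ideal.ofList]
    congr 1
    ext r
    simp [List.mem_ofFn]
  have hAJ : LocCoh.IsCohenMacaulayRing (A ⧸ J f) := by
    rw [hJ]
    exact cm_quot_ofList _ A _ rfl hreg hA
  haveI := hAJ
  have hpoly : LocCoh.IsCohenMacaulayRing (MvPolynomial (σ' i₀) (A ⧸ J f)) :=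
    Groth.Agent.Lead.Fib.isCohenMacaulayRing_mvPolynomial (σ' i₀)
  have hCbar : LocCoh.IsCohenMacaulayRing (Cbar f i₀) :=
    isCohenMacaulayRing_of_ringEquiv
      (RingEquiv.ofBijective (Φ f i₀) ⟨Φ_injective f i₀ hquasi, Φ_surjective f i₀⟩) hpoly
  haveI : IsNoetherianRing (Cc f i₀) :=
    isNoetherianRing_of_surjective _ _ (Ev f i₀ : MvPolynomial (Fin c) A →+* Cc f i₀)
      (Ev_surjective f i₀)
  haveI hprime : (q.map (Ideal.Quotient.mk
      (Ideal.span {algebraMap A (Cc f i₀) (f i₀)}))).IsPrime :=
    Ideal.map_isPrime_of_surjective Ideal.Quotient.mk_surjective (by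
      rw [Ideal.mk_ker]
      exact (Ideal.span_singleton_le_iff_mem _).mpr hq)
  exact (cm_quotient_localization_iff (algebraMap A (Cc f i₀) (f i₀))
    (algebraMap_mem_nonZeroDivisors _ _) q hq).mp
    (hCbar.isCohenMacaulayLocalRing_localization _)

/-- all local rings of a chart of the blow-up of a Cohen–Macaulay ring in a regular sequence are
Cohen–Macaulay -/
theorem cm_chart (hA : LocCoh.IsCohenMacaulayRing A) (I : Ideal A) (rs : List A)
    (hreg : IsWeaklyRegular A rs) (hI : I = Ideal.ofList rs) (a : A) (ha : a ∈ rs)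
    (q : Ideal ↥(BlowUp.affineAlgebra A I a)) [q.IsPrime] :
    LocCoh.IsCohenMacaulayLocalRing (Localization.AtPrime q) := by
  by_cases hq : algebraMap A ↥(BlowUp.affineAlgebra A I a) a ∈ q
  · obtain ⟨i₀, hi₀⟩ := List.mem_iff_get.1 ha
    have hI' : I = J rs.get := by
      rw [hI, J, Set.range_list_get]
    subst hI'
    subst hi₀
    exact cm_of_mem hA rs.get i₀ (by rw [List.ofFn_get]; exact hreg) q hq
  · exact cm_of_not_mem hA I a q hq

end chart

end Groth.Agent.Helper28.BlowCM
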