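import Mathlib
import Groth.Prelude.Def_GrSyz
import Groth.Agent.Lib.Helper23.GrSyzLib
import Groth.Agent.Lib.Helper28.GorLink
import Groth.Agent.Lib.Lead.Cat2
import Groth.Agent.Lib.Helper14.DimFormula
import Groth.Agent.Lib.Helper14.SmoothDim
import Groth.Agent.Lib.Helper12.ProjHilb5
set_option autoImplicit false
universe u v

/-!
Unmixedness of links `𝔠 : I` for homogeneous Gorenstein (more generally locally Cohen–Macaulay)
ideals `𝔠` of a polynomial ring.
-/

namespace Groth.Agent.Helper28.GorUnmixed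

/-- a proper homogeneous ideal of the polynomial ring lies in the irrelevant maximal ideal -/
theorem le_ker_constantCoeff_of_isHomogeneous (k : Type u) [Field k] (σ : Type v)
    (P : Ideal (MvPolynomial σ k)) (hP : P.IsHomogeneous (GrSyz.stdGr k σ)) (hne : P ≠ ⊤) :
    P ≤ RingHom.ker (MvPolynomial.constantCoeff : MvPolynomial σ k →+* k) := by
  classical
  intro x hx
  rw [RingHom.mem_ker]
  have hsum := DirectSum.sum_support_decompose (GrSyz.stdGr k σ) x
  have h1 : MvPolynomial.constantCoeff x =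
      ∑ i ∈ (DirectSum.decompose (GrSyz.stdGr k σ) x).support,
        MvPolynomial.constantCoeff
          ((DirectSum.decompose (GrSyz.stdGr k σ) x i : MvPolynomial σ k)) := by
    conv_lhs => rw [← hsum]
    rw [map_sum]
  rw [h1]
  apply Finset.sum_eq_zero
  intro i _
  have hi : ((DirectSum.decompose (GrSyz.stdGr k σ) x i : MvPolynomial σ k)) ∈ P := hP i hx
  have hmem : ((DirectSum.decompose (GrSyz.stdGr k σ) x i : MvPolynomial σ k)) ∈
      GrSyz.stdGr k σ i := SetLike.coe_mem _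
  by_cases h0 : 0 < i
  · exact Groth.Agent.Helper23.GrSyzLib.constantCoeff_eq_zero_of_mem_stdGr_pos k σ h0 hmem
  · by_contra hc
    apply hne
    have hC := Groth.Agent.Helper23.GrSyzLib.eq_C_of_mem_stdGr_of_nonpos k σ (not_lt.mp h0) hmem
    rw [hC] at hi
    exact Ideal.eq_top_of_isUnit_mem _ hi ((isUnit_iff_ne_zero.mpr hc).map MvPolynomial.C)

/-- minimal primes over a homogeneous ideal are homogeneous (standard ℤ-grading) -/
theorem isHomogeneous_of_mem_minimalPrimes (k : Type u) [Field k] (σ : Type v)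
    {J q : Ideal (MvPolynomial σ k)}
    (hJ : J.IsHomogeneous (GrSyz.stdGr k σ)) (hq : q ∈ J.minimalPrimes) :
    q.IsHomogeneous (GrSyz.stdGr k σ) := by
  have hqp : q.IsPrime := hq.1.1
  have h1 : (q.homogeneousCore (GrSyz.stdGr k σ)).toIdeal.IsPrime := hqp.homogeneousCore
  have h2 : J ≤ (q.homogeneousCore (GrSyz.stdGr k σ)).toIdeal :=
    hJ.toIdeal_homogeneousCore_eq_self.symm.trans_le
      (Ideal.homogeneousCore_mono (GrSyz.stdGr k σ) hq.1.2)
  have h3 := hq.2 ⟨h1, h2⟩ (Ideal.toIdeal_homogeneousCore_le _ q)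
  have h4 : (q.homogeneousCore (GrSyz.stdGr k σ)).toIdeal = q :=
    le_antisymm (Ideal.toIdeal_homogeneousCore_le _ q) h3
  rw [← h4]
  exact HomogeneousIdeal.isHomogeneous _

/-- In a ring with Cohen–Macaulay localizations, the height of a prime `𝔫` is the same as the height
of its image modulo a minimal prime contained in it. -/
theorem height_map_mk_eq_of_minimal (A : Type u) [CommRing A] [IsNoetherianRing A]
    (hCM : ∀ (p : Ideal A) [p.IsPrime], LocCoh.IsCohenMacaulayLocalRing (Localization.AtPrime p))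
    (𝔫 Q₀ : Ideal A) [h𝔫 : 𝔫.IsPrime] (hQ₀ : Q₀ ∈ minimalPrimes A) (hle : Q₀ ≤ 𝔫) :
    (𝔫.map (Ideal.Quotient.mk Q₀)).height = 𝔫.height := by
  haveI hQ₀p : Q₀.IsPrime := hQ₀.1.1
  haveI hCMB : LocCoh.IsCohenMacaulayLocalRing (Localization.AtPrime 𝔫) := hCM 𝔫
  haveI : IsNoetherianRing (Localization.AtPrime 𝔫) := inferInstance
  have hdisj : Disjoint (𝔫.primeCompl : Set A) (Q₀ : Set A) := by
    rw [Set.disjoint_left]
    intro x hx hxQ
    exact hx (hle hxQ)
  haveI hQp : (Q₀.map (algebraMap A (Localization.AtPrime 𝔫))).IsPrime :=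
    IsLocalization.isPrime_of_isPrime_disjoint 𝔫.primeCompl (Localization.AtPrime 𝔫) _ hQ₀p hdisj
  have hQh : (Q₀.map (algebraMap A (Localization.AtPrime 𝔫))).height = 0 := by
    rw [IsLocalization.height_map_of_disjoint 𝔫.primeCompl Q₀ hdisj]
    exact Ideal.height_eq_zero_iff.mpr hQ₀
  have hsupp : Module.support (Localization.AtPrime 𝔫) (Localization.AtPrime 𝔫) = Set.univ := by
    rw [Set.eq_univ_iff_forall]
    intro p
    rw [Module.mem_support_iff']
    refine ⟨1, fun r hr h => hr ?_⟩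
    rw [smul_eq_mul, mul_one] at h
    rw [h]
    exact zero_mem _
  have hdim := Groth.Agent.Lead.Cat.ringKrullDim_quotient_add_height_eq
    (R := Localization.AtPrime 𝔫) (M := Localization.AtPrime 𝔫)
    hCMB.supportDim_eq_depth hsupp (Q₀.map (algebraMap A (Localization.AtPrime 𝔫)))
  rw [hQh, IsLocalization.AtPrime.ringKrullDim_eq_height 𝔫 (Localization.AtPrime 𝔫)] at hdim
  haveI h𝔫' : (𝔫.map (Ideal.Quotient.mk Q₀)).IsPrime :=
    Ideal.map_isPrime_of_surjective Ideal.Quotient.mk_surjective (by rw [Ideal.mk_ker]; exact hle)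
  have hsub : Algebra.algebraMapSubmonoid (A ⧸ Q₀) 𝔫.primeCompl =
      (𝔫.map (Ideal.Quotient.mk Q₀)).primeCompl := by
    ext y
    constructor
    · intro hy
      obtain ⟨a, ha, rfl⟩ := Submonoid.mem_map.mp hy
      intro hmem
      apply ha
      have h1 : a ∈ (𝔫.map (Ideal.Quotient.mk Q₀)).comap (Ideal.Quotient.mk Q₀) := hmem
      rw [Ideal.comap_map_of_surjective _ Ideal.Quotient.mk_surjective,
        ← RingHom.ker_eq_comap_bot, Ideal.mk_ker, sup_eq_left.mpr hle] at h1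
      exact h1
    · intro hy
      obtain ⟨a, rfl⟩ := Ideal.Quotient.mk_surjective y
      refine Submonoid.mem_map.mpr ⟨a, ?_, rfl⟩
      intro ha
      exact hy (Ideal.mem_map_of_mem _ ha)
  have hloc : IsLocalization (Algebra.algebraMapSubmonoid (A ⧸ Q₀) 𝔫.primeCompl)
      (Localization.AtPrime 𝔫 ⧸ Q₀.map (algebraMap A (Localization.AtPrime 𝔫))) := inferInstance
  rw [hsub] at hloc
  haveI : IsLocalization.AtPrime
      (Localization.AtPrime 𝔫 ⧸ Q₀.map (algebraMap A (Localization.AtPrime 𝔫)))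
      (𝔫.map (Ideal.Quotient.mk Q₀)) := hloc
  rw [IsLocalization.AtPrime.ringKrullDim_eq_height (𝔫.map (Ideal.Quotient.mk Q₀))
    (Localization.AtPrime 𝔫 ⧸ Q₀.map (algebraMap A (Localization.AtPrime 𝔫)))] at hdim
  rw [WithBot.coe_zero, add_zero] at hdim
  exact WithBot.coe_injective hdim

/-- For a minimal prime `P` of a homogeneous locally Cohen–Macaulay ideal `𝔠` of `k[x₁,…,xₙ]`,
`ht P + ht (𝔪/𝔠) = n`. -/
theorem height_add_eq (K : Type u) [Field K] (n : ℕ)
    (𝔠 : Ideal (MvPolynomial (Fin n) K)) (h𝔠 : 𝔠.IsHomogeneous (GrSyz.stdGr K (Fin n)))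
    (hCM : ∀ (p : Ideal (MvPolynomial (Fin n) K ⧸ 𝔠)) [p.IsPrime],
      LocCoh.IsCohenMacaulayLocalRing (Localization.AtPrime p))
    (P : Ideal (MvPolynomial (Fin n) K)) (hP : P ∈ 𝔠.minimalPrimes) :
    P.height + ((RingHom.ker (MvPolynomial.constantCoeff :
      MvPolynomial (Fin n) K →+* K)).map (Ideal.Quotient.mk 𝔠)).height = n := by
  set 𝔪 : Ideal (MvPolynomial (Fin n) K) :=
    RingHom.ker (MvPolynomial.constantCoeff : MvPolynomial (Fin n) K →+* K) with h𝔪
  haveI h𝔪max : 𝔪.IsMaximal :=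
    RingHom.ker_isMaximal_of_surjective _ (fun a => ⟨MvPolynomial.C a, by simp⟩)
  haveI hPp : P.IsPrime := hP.1.1
  have hPhom := isHomogeneous_of_mem_minimalPrimes K (Fin n) h𝔠 hP
  have hP𝔪 : P ≤ 𝔪 := le_ker_constantCoeff_of_isHomogeneous K (Fin n) P hPhom hPp.ne_top
  have h𝔠𝔪 : 𝔠 ≤ 𝔪 := hP.1.2.trans hP𝔪
  have hP' := hP
  rw [Ideal.minimalPrimes_eq_comap] at hP'
  obtain ⟨Q₀, hQ₀, hQP⟩ := hP'
  haveI hQ₀p : Q₀.IsPrime := hQ₀.1.1
  have hmapP : P.map (Ideal.Quotient.mk 𝔠) = Q₀ := by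
    rw [← hQP, Ideal.map_comap_of_surjective _ Ideal.Quotient.mk_surjective]
  haveI h𝔫p : (𝔪.map (Ideal.Quotient.mk 𝔠)).IsPrime :=
    Ideal.map_isPrime_of_surjective Ideal.Quotient.mk_surjective
      (by rw [Ideal.mk_ker]; exact h𝔠𝔪)
  have hQ𝔫 : Q₀ ≤ 𝔪.map (Ideal.Quotient.mk 𝔠) := by
    rw [← hmapP]; exact Ideal.map_mono hP𝔪
  have h3 := height_map_mk_eq_of_minimal (MvPolynomial (Fin n) K ⧸ 𝔠) hCM
    (𝔪.map (Ideal.Quotient.mk 𝔠)) Q₀ hQ₀ hQ𝔫
  haveI : ((𝔪.map (Ideal.Quotient.mk 𝔠)).map (Ideal.Quotient.mk Q₀)).IsPrime :=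
    Ideal.map_isPrime_of_surjective Ideal.Quotient.mk_surjective
      (by rw [Ideal.mk_ker]; exact hQ𝔫)
  have h4 := Groth.Agent.Helper14.DimFormula.height_comap_eq_add
    (Groth.Agent.Helper12.ProjHilb.isCatenary_mvPolynomial (k := K) (n := n))
    ((Ideal.Quotient.mk Q₀).comp (Ideal.Quotient.mk 𝔠))
    ((Ideal.Quotient.mk_surjective).comp Ideal.Quotient.mk_surjective)
    ((𝔪.map (Ideal.Quotient.mk 𝔠)).map (Ideal.Quotient.mk Q₀))
  have hker : RingHom.ker ((Ideal.Quotient.mk Q₀).comp (Ideal.Quotient.mk 𝔠)) = P := by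
    rw [← RingHom.comap_ker, Ideal.mk_ker, hQP]
  have hcomap : ((𝔪.map (Ideal.Quotient.mk 𝔠)).map (Ideal.Quotient.mk Q₀)).comap
      ((Ideal.Quotient.mk Q₀).comp (Ideal.Quotient.mk 𝔠)) = 𝔪 := by
    rw [← Ideal.comap_comap, Ideal.comap_map_of_surjective _ Ideal.Quotient.mk_surjective,
      ← RingHom.ker_eq_comap_bot, Ideal.mk_ker, sup_eq_left.mpr hQ𝔫,
      Ideal.comap_map_of_surjective _ Ideal.Quotient.mk_surjective, ← RingHom.ker_eq_comap_bot,
      Ideal.mk_ker, sup_eq_left.mpr h𝔠𝔪]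
  rw [hker, hcomap, h3,
    Groth.Agent.Helper14.SmoothDim.height_eq_of_isMaximal_mvPolynomial K n 𝔪] at h4
  exact h4.symm

/-- all minimal primes of a homogeneous locally Cohen–Macaulay ideal of a polynomial ring have the
same height -/
theorem height_eq_of_mem_minimalPrimes (K : Type u) [Field K] (n : ℕ)
    (𝔠 : Ideal (MvPolynomial (Fin n) K)) (h𝔠 : 𝔠.IsHomogeneous (GrSyz.stdGr K (Fin n)))
    (hCM : ∀ (p : Ideal (MvPolynomial (Fin n) K ⧸ 𝔠)) [p.IsPrime],
      LocCoh.IsCohenMacaulayLocalRing (Localization.AtPrime p))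
    (P : Ideal (MvPolynomial (Fin n) K)) (hP : P ∈ 𝔠.minimalPrimes) :
    P.height = 𝔠.height := by
  have key := fun P' hP' => height_add_eq K n 𝔠 h𝔠 hCM P' hP'
  have hh : ((RingHom.ker (MvPolynomial.constantCoeff :
      MvPolynomial (Fin n) K →+* K)).map (Ideal.Quotient.mk 𝔠)).height ≠ ⊤ := by
    intro htop
    have := key P hP
    rw [htop, add_top] at this
    exact ENat.top_ne_natCast n this
  apply le_antisymm
  · rw [Ideal.height_eq_inf_minimalPrimes 𝔠]
    apply le_iInf₂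
    intro P' hP'
    have e := (key P hP).trans (key P' hP').symm
    exact (ENat.add_left_injective_of_ne_top hh e).le
  · exact Ideal.height_mono hP.1.2

/-- associated primes of `R ⧸ (𝔠 : I)` are associated primes of `R ⧸ 𝔠` -/
theorem mem_associatedPrimes_of_colon (R : Type u) [CommRing R] [IsNoetherianRing R]
    (𝔠 I p : Ideal R)
    (hp : p ∈ associatedPrimes R (R ⧸ 𝔠.colon (I : Set R))) :
    p ∈ associatedPrimes R (R ⧸ 𝔠) := by
  classical
  obtain ⟨hpp, x', hx⟩ := (isAssociatedPrime_iff).mp hp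
  obtain ⟨x, rfl⟩ := Ideal.Quotient.mk_surjective x'
  obtain ⟨s, hs⟩ : I.FG := IsNoetherian.noetherian I
  have hcol : 𝔠.colon (I : Set R) = 𝔠.colon (s : Set R) := by
    rw [← hs, Submodule.colon_span]
  have hmem1 : ∀ r : R, r ∈ p ↔ r • x ∈ 𝔠.colon (I : Set R) := by
    intro r
    rw [hx, Submodule.mem_colon_singleton, Submodule.mem_bot, ← Ideal.Quotient.mk_eq_mk,
      ← Submodule.Quotient.mk_smul, Submodule.Quotient.mk_eq_zero]
  have hmem : ∀ r : R, r ∈ p ↔ ∀ a ∈ s, r * (x * a) ∈ 𝔠 := by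
    intro r
    rw [hmem1, hcol, Submodule.mem_colon]
    constructor
    · intro h a ha
      have := h a (Finset.mem_coe.mpr ha)
      rwa [smul_eq_mul, smul_eq_mul, mul_assoc] at this
    · intro h a ha
      have := h a (Finset.mem_coe.mp ha)
      rwa [smul_eq_mul, smul_eq_mul, mul_assoc]
  have hle : s.inf (fun a => 𝔠.colon ({x * a} : Set R)) ≤ p := by
    intro r hr
    rw [Submodule.mem_finsetInf] at hr
    rw [hmem]
    intro a ha
    have := hr a ha
    rw [Submodule.mem_colon_singleton, smul_eq_mul] at this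
    exact this
  obtain ⟨a, has, hale⟩ := (Ideal.IsPrime.inf_le' hpp).mp hle
  have hpa : p = 𝔠.colon ({x * a} : Set R) := by
    apply le_antisymm _ hale
    intro r hr
    rw [Submodule.mem_colon_singleton, smul_eq_mul]
    exact (hmem r).mp hr a has
  refine (isAssociatedPrime_iff).mpr ⟨hpp, Ideal.Quotient.mk 𝔠 (x * a), ?_⟩
  ext r
  rw [hpa, Submodule.mem_colon_singleton, Submodule.mem_colon_singleton, Submodule.mem_bot,
    ← Ideal.Quotient.mk_eq_mk, ← Submodule.Quotient.mk_smul, Submodule.Quotient.mk_eq_zero]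

/-- **Unmixedness of links.** -/
theorem colon_unmixed (K : Type u) [Field K] (n : ℕ)
    (𝔠 I : Ideal (MvPolynomial (Fin n) K)) (h𝔠 : 𝔠.IsHomogeneous (GrSyz.stdGr K (Fin n)))
    (hCM : ∀ (p : Ideal (MvPolynomial (Fin n) K ⧸ 𝔠)) [p.IsPrime],
      LocCoh.IsCohenMacaulayLocalRing (Localization.AtPrime p))
    (hI𝔠 : ¬ I ≤ 𝔠) :
    (𝔠.colon (I : Set (MvPolynomial (Fin n) K))).height = 𝔠.height ∧
      ∀ p ∈ associatedPrimes (MvPolynomial (Fin n) K)
        (MvPolynomial (Fin n) K ⧸ 𝔠.colon (I : Set (MvPolynomial (Fin n) K))),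
        p.height = 𝔠.height := by
  have hass : ∀ p ∈ associatedPrimes (MvPolynomial (Fin n) K)
      (MvPolynomial (Fin n) K ⧸ 𝔠.colon (I : Set (MvPolynomial (Fin n) K))),
      p.height = 𝔠.height := by
    intro p hp
    have h1 := mem_associatedPrimes_of_colon (MvPolynomial (Fin n) K) 𝔠 I p hp
    have h2 := Groth.Agent.Helper28.GorLink.mem_minimalPrimes_of_mem_associatedPrimes
      (MvPolynomial (Fin n) K) 𝔠 hCM p h1
    exact height_eq_of_mem_minimalPrimes K n 𝔠 h𝔠 hCM p h2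
  refine ⟨?_, hass⟩
  have hJne : 𝔠.colon (I : Set (MvPolynomial (Fin n) K)) ≠ ⊤ := by
    intro htop
    apply hI𝔠
    intro a ha
    have h1 : (1 : MvPolynomial (Fin n) K) ∈ 𝔠.colon (I : Set (MvPolynomial (Fin n) K)) := by
      rw [htop]; exact Submodule.mem_top
    have h2 := Submodule.mem_colon.mp h1 a ha
    rwa [one_smul] at h2
  have hmin : ∀ P ∈ (𝔠.colon (I : Set (MvPolynomial (Fin n) K))).minimalPrimes,
      P.height = 𝔠.height := by
    intro P hP
    apply hass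
    have := Module.associatedPrimes.minimalPrimes_annihilator_subset_associatedPrimes
      (MvPolynomial (Fin n) K)
      (MvPolynomial (Fin n) K ⧸ 𝔠.colon (I : Set (MvPolynomial (Fin n) K)))
    rw [Ideal.annihilator_quotient] at this
    exact this hP
  obtain ⟨⟨P₀, hP₀⟩⟩ := Ideal.nonempty_minimalPrimes hJne
  apply le_antisymm
  · rw [Ideal.height_eq_inf_minimalPrimes (𝔠.colon (I : Set (MvPolynomial (Fin n) K)))]
    exact (iInf₂_le P₀ hP₀).trans (hmin P₀ hP₀).le
  · rw [Ideal.height_eq_inf_minimalPrimes (𝔠.colon (I : Set (MvPolynomial (Fin n) K)))]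
    exact le_iInf₂ (fun P hP => (hmin P hP).ge)

end Groth.Agent.Helper28.GorUnmixed
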