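import Mathlib
import Groth.Agent.Lib.Helper13.FinTypeRestrict
import Groth.Agent.Lib.Helper13.FinAffine2
import Groth.Agent.Lib.Helper13.TensorTilde
import Groth.Agent.Lib.Helper13.Qcqs
import Groth.Agent.Lib.Helper13.QCohLocal

set_option autoImplicit false
universe u
open AlgebraicGeometry CategoryTheory TopologicalSpace

namespace Groth.Agent.Helper28.CohOpen

variable {R : CommRingCat.{u}}

/-- The global sections of a quasi-coherent module of finite type on `Spec R` form a finite
`R`-module. -/
theorem finite_gamma (N : (Spec R).Modules) [N.IsQuasicoherent]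
    [SheafOfModules.IsFiniteType (R := (Spec R).ringCatSheaf) N] :
    Module.Finite R Γ(N, (⊤ : (Spec R).Opens)) := by
  haveI h1 : Module.Finite Γ(Spec R, (⊤ : (Spec R).Opens)) Γ(N, (⊤ : (Spec R).Opens)) :=
    Groth.Agent.Helper13.FinType.finite_sections_of_isFiniteType N (isAffineOpen_top _)
  haveI h2 : Module.Finite R Γ(Spec R, (⊤ : (Spec R).Opens)) := by
    refine Module.Finite.of_surjective (Algebra.linearMap R Γ(Spec R, (⊤ : (Spec R).Opens))) ?_
    intro c
    refine ⟨(Scheme.ΓSpecIso R).hom.hom c, ?_⟩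
    change algebraMap R Γ(Spec R, (⊤ : (Spec R).Opens)) ((Scheme.ΓSpecIso R).hom.hom c) = c
    have h3 : ∀ r : R, algebraMap R Γ(Spec R, (⊤ : (Spec R).Opens)) r =
        (Scheme.ΓSpecIso R).inv.hom r := fun r => rfl
    rw [h3]
    exact (Scheme.ΓSpecIso R).hom_inv_id_apply c
  exact Module.Finite.trans Γ(Spec R, (⊤ : (Spec R).Opens)) _

/-- The sheaf associated to a finite module is of finite type. -/
theorem isFiniteType_tilde (M : ModuleCat.{u} R) [Module.Finite R M] :
    SheafOfModules.IsFiniteType (R := (Spec R).ringCatSheaf) (tilde M) := by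
  apply Groth.Agent.Helper13.FinType.isFiniteType_of_finite_sections
  intro x
  refine ⟨⊤, trivial, isAffineOpen_top _, ?_⟩
  haveI : Module.Finite R Γ(tilde M, (⊤ : (Spec R).Opens)) := by
    let φ : M →ₗ[R] Γ(tilde M, (⊤ : (Spec R).Opens)) :=
      { toFun := Groth.Agent.Helper13.Tensor.top M
        map_add' := Groth.Agent.Helper13.Tensor.top_add M
        map_smul' := Groth.Agent.Helper13.Tensor.top_smul M }
    exact Module.Finite.of_surjective φ (Groth.Agent.Helper13.Tensor.top_bijective M).2
  exact Module.Finite.of_restrictScalars_finite R Γ(Spec R, (⊤ : (Spec R).Opens))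
    Γ(tilde M, (⊤ : (Spec R).Opens))

end Groth.Agent.Helper28.CohOpen
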