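import Mathlib
import Groth.Agent.Lib.Helper13.FittPullback
import Groth.Agent.Lib.Helper13.StalkBasis5
import Groth.Agent.Lib.Helper13.LocFree
import Groth.Agent.Lib.Helper13.LocFree2

/-!
# The locally closed stratum where a finite type quasi-coherent module becomes locally free of
rank `r` (via Fitting ideal sheaves)
-/

set_option autoImplicit false
universe u
open CategoryTheory CategoryTheory.Limits AlgebraicGeometry TopologicalSpace
open Groth.Agent.Helper13.LocFree Groth.Agent.Helper13.FittSheaf Groth.Agent.Lib.Helper10.Fitting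
open Groth.Agent.Helper13.StalkBasis Groth.Agent.Helper13.FinType

namespace Groth.Agent.Helper28.FittStratum

section LF

variable {T : Scheme.{u}} (G : T.Modules) [G.IsQuasicoherent]
  [SheafOfModules.IsFiniteType (R := T.ringCatSheaf) G] (r : ℕ)

/-- A finite type quasi-coherent module with `Fit_r = (1)` and `Fit_k = 0` for `k < r` is finite
locally free of rank `r`. -/
theorem isFinLocFreeOfRank_of_fitt (h1 : Fitt.sheafIdeal G r = ⊤)
    (h0 : ∀ k, k < r → Fitt.sheafIdeal G k = ⊥) : FlatMod.IsFinLocFreeOfRank r G := by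
  rw [isFinLocFreeOfRank_iff_of_isQuasicoherent]
  intro x
  haveI := finite_stalk_of_isFiniteType G x
  have hx : x ∉ (Fitt.sheafIdeal G r).support := by
    rw [h1, Scheme.IdealSheafData.support_top]
    exact fun h => h
  rw [notMem_support_iff G x r] at hx
  obtain ⟨g, hg⟩ := exists_span_of_fitt_eq_top r hx
  obtain ⟨V, hxV, t, ht⟩ := exists_common_germ G x g
  have hspan : Submodule.span (T.presheaf.stalk x)
      (Set.range fun i => G.presheaf.germ V x hxV (t i)) = ⊤ := by
    have : (fun i => G.presheaf.germ V x hxV (t i)) = g := funext ht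
    rw [this]
    exact hg
  obtain ⟨U, hUV, hxU, hgen⟩ := exists_genOn_nhd G t x hxV hspan
  obtain ⟨_, ⟨U', hU', rfl⟩, hxU', hU'U⟩ :=
    T.isBasis_affineOpens.exists_subset_of_mem_open hxU U.2
  have hU'a : IsAffineOpen U' := hU'
  have hgen' := hgen.mono (show U' ≤ U from hU'U)
  have hsp := span_eq_top_of_genOn G hU'a _ hgen'
  have hli := linearIndependent_of_fitt_eq_bot _ hsp (fun k hk => by
    rw [← sheafIdeal_ideal G k ⟨U', hU'⟩, h0 k hk]
    rfl)
  exact ⟨U', hU'a, hxU', ⟨Module.Basis.mk hli hsp.ge⟩⟩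

/-- Fitting ideals of a finite locally free module of rank `r`. -/
theorem fitt_of_isFinLocFreeOfRank (h : FlatMod.IsFinLocFreeOfRank r G) :
    Fitt.sheafIdeal G r = ⊤ ∧ ∀ k, k < r → Fitt.sheafIdeal G k = ⊥ := by
  rw [isFinLocFreeOfRank_iff_of_isQuasicoherent] at h
  choose U hU hxU hb using h
  have hcov : ⨆ x : T, (⟨U x, hU x⟩ : T.affineOpens).1 = ⊤ := by
    rw [eq_top_iff]
    intro x _
    exact Opens.mem_iSup.2 ⟨x, hxU x⟩
  constructor
  · refine Scheme.IdealSheafData.ext_of_iSup_eq_top
      (fun x => (⟨U x, hU x⟩ : T.affineOpens)) hcov (fun x => ?_)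
    rw [sheafIdeal_ideal]
    obtain ⟨b⟩ := hb x
    exact (fitt_of_basis b r).2 le_rfl
  · intro k hk
    refine Scheme.IdealSheafData.ext_of_iSup_eq_top
      (fun x => (⟨U x, hU x⟩ : T.affineOpens)) hcov (fun x => ?_)
    rw [sheafIdeal_ideal]
    obtain ⟨b⟩ := hb x
    exact (fitt_of_basis b k).1 hk

end LF

/-- A morphism factors through the closed subscheme `V(J)` iff the inverse image ideal is zero. -/
theorem exists_fac_iff_comap_eq_bot {T X : Scheme.{u}} (J : X.IdealSheafData) (f : T ⟶ X) :
    (∃ g : T ⟶ J.subscheme, g ≫ J.subschemeι = f) ↔ J.comap f = ⊥ := by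
  constructor
  · rintro ⟨g, rfl⟩
    rw [← le_bot_iff, ← Scheme.IdealSheafData.le_map_iff_comap_le]
    have h1 : J.subschemeι.ker ≤
        (((⊥ : T.IdealSheafData).subschemeι ≫ g) ≫ J.subschemeι).ker :=
      Scheme.Hom.le_ker_comp _ _
    rw [Scheme.IdealSheafData.ker_subschemeι, Category.assoc] at h1
    exact h1
  · intro h
    haveI : IsIso (J.comap f).subschemeι := by
      rw [h]
      infer_instance
    refine ⟨inv (J.comap f).subschemeι ≫ (J.comapIso f).hom ≫ pullback.snd f J.subschemeι, ?_⟩
    rw [Category.assoc, Category.assoc, ← pullback.condition,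
      Scheme.IdealSheafData.comapIso_hom_fst_assoc, IsIso.inv_hom_id_assoc]

section Stratum

variable {X : Scheme.{u}} (F : X.Modules) [F.IsQuasicoherent]
  [SheafOfModules.IsFiniteType (R := X.ringCatSheaf) F] (r : ℕ)

/-- the ideal generated by the Fitting ideals of index `< r` -/
noncomputable def lowIdeal : X.IdealSheafData := ⨆ k : Fin r, Fitt.sheafIdeal F k

/-- the open part of `V(lowIdeal)` where `Fit_r` is the unit ideal -/
noncomputable def openPart : (lowIdeal F r).subscheme.Opens :=
  (lowIdeal F r).subschemeι ⁻¹ᵁ ⟨((Fitt.sheafIdeal F r).support : Set X)ᶜ,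
    (Fitt.sheafIdeal F r).support.isClosed.isOpen_compl⟩

/-- the stratum -/
noncomputable abbrev stratum : Scheme.{u} := (openPart F r).toScheme

/-- the immersion of the stratum -/
noncomputable def stratumι : stratum F r ⟶ X := (openPart F r).ι ≫ (lowIdeal F r).subschemeι

instance : IsImmersion (stratumι F r) := by
  unfold stratumι
  infer_instance

theorem exists_fac_iff {T : Scheme.{u}} (f : T ⟶ X) :
    (∃ g : T ⟶ stratum F r, g ≫ stratumι F r = f) ↔
      FlatMod.IsFinLocFreeOfRank r ((Scheme.Modules.pullback f).obj F) := by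
  have hcomap : ∀ k, (Fitt.sheafIdeal F k).comap f =
      Fitt.sheafIdeal ((Scheme.Modules.pullback f).obj F) k := fun k => sheafIdeal_comap f F k
  have hlow : (lowIdeal F r).comap f = ⊥ ↔
      ∀ k, k < r → Fitt.sheafIdeal ((Scheme.Modules.pullback f).obj F) k = ⊥ := by
    unfold lowIdeal
    have h2 : (⨆ k : Fin r, Fitt.sheafIdeal F k).comap f =
        ⨆ k : Fin r, (Fitt.sheafIdeal F k).comap f :=
      (Scheme.IdealSheafData.map_gc f).l_iSup (f := fun k : Fin r => Fitt.sheafIdeal F k)
    rw [h2, iSup_eq_bot]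
    constructor
    · intro h k hk
      rw [← hcomap]
      exact h ⟨k, hk⟩
    · intro h k
      rw [hcomap]
      exact h k k.2
  have htop : (Fitt.sheafIdeal ((Scheme.Modules.pullback f).obj F) r = ⊤) ↔
      ∀ t : T, f t ∉ (Fitt.sheafIdeal F r).support := by
    rw [← hcomap, ← Scheme.IdealSheafData.support_eq_bot_iff,
      Scheme.IdealSheafData.support_comap, ← SetLike.coe_set_eq]
    constructor
    · intro h t ht
      have : t ∈ ((⊥ : Closeds T) : Set T) := by
        rw [← h]
        exact ht
      exact this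
    · intro h
      ext t
      constructor
      · intro ht
        exact (h t ht).elim
      · intro ht
        exact ht.elim
  constructor
  · rintro ⟨g, rfl⟩
    apply isFinLocFreeOfRank_of_fitt
    · rw [htop]
      intro t
      have h3 : ((openPart F r).ι (g t)) ∈ openPart F r := (g t).2
      exact h3
    · rw [← hlow, ← exists_fac_iff_comap_eq_bot]
      exact ⟨g ≫ (openPart F r).ι, by rw [Category.assoc]; rfl⟩
  · intro h
    obtain ⟨h1, h0⟩ := fitt_of_isFinLocFreeOfRank _ r h
    obtain ⟨g₁, hg₁⟩ := (exists_fac_iff_comap_eq_bot (lowIdeal F r) f).2 (hlow.2 h0)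
    have hr : Set.range g₁ ⊆ Set.range (openPart F r).ι := by
      rintro _ ⟨t, rfl⟩
      rw [Scheme.Opens.range_ι]
      have h4 := (htop.1 h1) t
      rw [← hg₁] at h4
      exact h4
    refine ⟨IsOpenImmersion.lift (openPart F r).ι g₁ hr, ?_⟩
    unfold stratumι
    rw [IsOpenImmersion.lift_fac_assoc, hg₁]

/-- if the module is locally generated by `r` sections, the stratum is closed -/
theorem isClosedImmersion_stratumι
    (h : ∀ s : X, ∃ U : X.Opens, s ∈ U ∧
      ∃ p : FlatMod.freeMod (↑U) r ⟶ F.restrict U.ι, Epi p) :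
    IsClosedImmersion (stratumι F r) := by
  have hsupp : ∀ s : X, s ∉ (Fitt.sheafIdeal F r).support := by
    intro s
    obtain ⟨U, hsU, p, hp⟩ := h s
    haveI := finite_stalk_of_isFiniteType F s
    rw [notMem_support_iff F s r]
    obtain ⟨g, hg⟩ := exists_span_of_epi F p s hsU
    exact fitt_eq_top_of_span g hg r le_rfl
  have htop : openPart F r = ⊤ := by
    rw [eq_top_iff]
    intro z _
    exact hsupp _
  haveI : IsIso (openPart F r).ι :=
    isIso_of_isOpenImmersion_of_opensRange_eq_top _ (by rw [Scheme.Opens.opensRange_ι, htop])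
  unfold stratumι
  infer_instance

end Stratum

end Groth.Agent.Helper28.FittStratum
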