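import Groth.Prelude.Def_BlowUp2
import Groth.Agent.Lib.Helper28.IdealComapOld
import Mathlib.AlgebraicGeometry.IdealSheaf.Subscheme
import Mathlib.AlgebraicGeometry.IdealSheaf.Functorial
import Mathlib.AlgebraicGeometry.Morphisms.Flat
import Mathlib.RingTheory.Flat.TorsionFree

set_option autoImplicit false
universe u
open CategoryTheory CategoryTheory.Limits AlgebraicGeometry TopologicalSpace

namespace Groth.Agent.Helper28.EffCartierOld

open Groth.Agent.Helper28.IdealComapOld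

section Algebra

variable {A : Type*} [CommRing A]

/-- If `I * J = (f)` with `f` a nonzerodivisor, then near any prime `I` is generated by a single element
`a` with `a * b = f * c`, `c ∉ p`. -/
lemma exists_local_generator (I J : Ideal A) (f : A) (hf : f ∈ nonZeroDivisors A)
    (hIJ : I * J = Ideal.span {f}) (p : Ideal A) [hp : p.IsPrime] :
    ∃ c ∉ p, ∃ a ∈ I, ∃ b ∈ J, a * b = f * c := by
  by_contra hcon
  push Not at hcon
  -- the ideal generated by all admissible c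
  let T : Set A := {c | ∃ a ∈ I, ∃ b ∈ J, a * b = f * c}
  have hT : Ideal.span T ≤ p := by
    rw [Ideal.span_le]
    rintro c ⟨a, ha, b, hb, hab⟩
    by_contra hc
    exact hcon c hc a ha b hb hab
  have h1 : I * J ≤ Ideal.span {f} * Ideal.span T := by
    rw [Ideal.mul_le]
    intro a ha b hb
    have hab : a * b ∈ Ideal.span {f} := hIJ ▸ Ideal.mul_mem_mul ha hb
    obtain ⟨c, hc⟩ := Ideal.mem_span_singleton'.1 hab
    rw [Ideal.mem_span_singleton_mul]
    exact ⟨c, Ideal.subset_span ⟨a, ha, b, hb, by rw [← hc, mul_comm]⟩, by rw [← hc, mul_comm]⟩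
  have h2 : f ∈ Ideal.span {f} * Ideal.span T := h1 (hIJ ▸ Ideal.mem_span_singleton_self f)
  obtain ⟨c', hc', hfc'⟩ := Ideal.mem_span_singleton_mul.1 h2
  have h3 : c' = 1 := by
    have : f * c' = f * 1 := by rw [hfc', mul_one]
    exact (mul_cancel_left_mem_nonZeroDivisors hf).1 this
  rw [h3] at hc'
  exact hp.ne_top ((Ideal.eq_top_iff_one _).2 (hT hc'))

/-- After inverting `c`, the ideal `I` is generated by `a`, a nonzerodivisor. -/
lemma map_eq_span_of_mul_eq (I J : Ideal A) (f : A) (hf : f ∈ nonZeroDivisors A)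
    (hIJ : I * J = Ideal.span {f}) (c a b : A) (ha : a ∈ I) (hb : b ∈ J) (hab : a * b = f * c)
    (A' : Type*) [CommRing A'] [Algebra A A'] [IsLocalization.Away c A'] :
    algebraMap A A' a ∈ nonZeroDivisors A' ∧ I.map (algebraMap A A') = Ideal.span {algebraMap A A' a} := by
  have hcu : IsUnit (algebraMap A A' c) := IsLocalization.Away.algebraMap_isUnit c
  constructor
  · rw [mem_nonZeroDivisors_iff_right]
    intro z hz
    obtain ⟨⟨z₀, ⟨_, n, rfl⟩⟩, rfl⟩ := IsLocalization.mk'_surjective (Submonoid.powers c) z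
    rw [IsLocalization.mk'_eq_zero_iff]
    -- mk' z₀ c^n * a = 0
    have h1 : algebraMap A A' (z₀ * a) = 0 := by
      have := congrArg (fun w => w * algebraMap A A' (c ^ n)) hz
      simp only [zero_mul] at this
      rw [mul_right_comm, IsLocalization.mk'_spec] at this
      rw [map_mul]; exact this
    obtain ⟨⟨_, m, rfl⟩, hm⟩ := (IsLocalization.map_eq_zero_iff (Submonoid.powers c) A' _).1 h1
    -- c^m * (z₀ * a) = 0 ⇒ c^m z₀ a b = 0 ⇒ c^(m+1) z₀ f = 0 ⇒ c^(m+1) z₀ = 0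
    refine ⟨⟨c ^ (m + 1), m + 1, rfl⟩, ?_⟩
    have h2 : c ^ (m + 1) * z₀ * f = 0 := by
      have : c ^ (m + 1) * z₀ * f = (c ^ m * (z₀ * a)) * b := by
        rw [pow_succ]
        calc c ^ m * c * z₀ * f = c ^ m * z₀ * (f * c) := by ring
          _ = c ^ m * z₀ * (a * b) := by rw [hab]
          _ = (c ^ m * (z₀ * a)) * b := by ring
      rw [this, hm, zero_mul]
    exact (mem_nonZeroDivisors_iff_right.1 hf) _ h2
  · apply le_antisymm
    · rw [Ideal.map_le_iff_le_comap]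
      intro a' ha'
      rw [Ideal.mem_comap]
      have hab' : a' * b ∈ Ideal.span {f} := hIJ ▸ Ideal.mul_mem_mul ha' hb
      obtain ⟨r, hr⟩ := Ideal.mem_span_singleton'.1 hab'
      -- a' c = a r
      have h1 : a' * c = a * r := by
        have : f * (a' * c) = f * (a * r) := by
          calc f * (a' * c) = a' * (f * c) := by ring
            _ = a' * (a * b) := by rw [hab]
            _ = a * (a' * b) := by ring
            _ = a * (r * f) := by rw [hr]
            _ = f * (a * r) := by ring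
        exact (mul_cancel_left_mem_nonZeroDivisors hf).1 this
      rw [Ideal.mem_span_singleton']
      obtain ⟨u, hu⟩ := hcu
      refine ⟨algebraMap A A' r * ↑u⁻¹, ?_⟩
      have h2 := congrArg (algebraMap A A') h1
      rw [map_mul, map_mul, ← hu] at h2
      calc algebraMap A A' r * ↑u⁻¹ * algebraMap A A' a
          = (algebraMap A A' a * algebraMap A A' r) * ↑u⁻¹ := by ring
        _ = (algebraMap A A' a' * ↑u) * ↑u⁻¹ := by rw [h2]
        _ = algebraMap A A' a' := by rw [mul_assoc, Units.mul_inv, mul_one]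
    · rw [Ideal.span_le, Set.singleton_subset_iff]
      exact Ideal.mem_map_of_mem _ ha

end Algebra


section Scheme

variable {X : Scheme.{u}}

lemma mem_basicOpen_iff_notMem_primeIdealOf {U : X.Opens} (hU : IsAffineOpen U) (x : X) (hxU : x ∈ U)
    (c : Γ(X, U)) : x ∈ X.basicOpen c ↔ c ∉ (hU.primeIdealOf ⟨x, hxU⟩).asIdeal := by
  have h1 : hU.fromSpec (hU.primeIdealOf ⟨x, hxU⟩) = x := hU.fromSpec_primeIdealOf ⟨x, hxU⟩
  have h2 : (hU.primeIdealOf ⟨x, hxU⟩ ∈ hU.fromSpec ⁻¹ᵁ X.basicOpen c) ↔ x ∈ X.basicOpen c := by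
    change hU.fromSpec (hU.primeIdealOf ⟨x, hxU⟩) ∈ X.basicOpen c ↔ _
    rw [h1]
  rw [← h2, hU.fromSpec_preimage_basicOpen]
  rfl

theorem isEffCartierIdeal_left_of_mul (𝓘 𝓙 : X.IdealSheafData)
    (h : BlowUp.IsEffCartierIdeal (𝓘 * 𝓙)) : BlowUp.IsEffCartierIdeal 𝓘 := by
  intro x
  obtain ⟨U, hxU, f, hf, hIf⟩ := h x
  have hIJ : 𝓘.ideal U * 𝓙.ideal U = Ideal.span {f} := by rw [← hIf]; rfl
  obtain ⟨c, hcp, a, ha, b, hb, hab⟩ :=
    exists_local_generator _ _ f hf hIJ (U.2.primeIdealOf ⟨x, hxU⟩).asIdeal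
  have hxc : x ∈ X.basicOpen c := (mem_basicOpen_iff_notMem_primeIdealOf U.2 x hxU c).2 hcp
  have hloc : IsLocalization.Away c Γ(X, X.basicOpen c) := U.2.isLocalization_basicOpen c
  obtain ⟨h1, h2⟩ := map_eq_span_of_mul_eq _ _ f hf hIJ c a b ha hb hab Γ(X, X.basicOpen c)
  refine ⟨X.affineBasicOpen c, hxc, algebraMap Γ(X, U.1) Γ(X, X.basicOpen c) a, h1, ?_⟩
  rw [← 𝓘.map_ideal_basicOpen U c]
  exact h2

theorem isEffCartierIdeal_right_of_mul (𝓘 𝓙 : X.IdealSheafData)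
    (h : BlowUp.IsEffCartierIdeal (𝓘 * 𝓙)) : BlowUp.IsEffCartierIdeal 𝓙 :=
  isEffCartierIdeal_left_of_mul 𝓙 𝓘 (by rwa [mul_comm])

end Scheme

/-- flat ring maps preserve nonzerodivisors -/
lemma map_mem_nonZeroDivisors_of_flat {A B : Type*} [CommRing A] [CommRing B] (φ : A →+* B)
    (hφ : φ.Flat) (s : A) (hs : s ∈ nonZeroDivisors A) : φ s ∈ nonZeroDivisors B := by
  algebraize [φ]
  have h1 : IsSMulRegular B s := Module.Flat.isSMulRegular_of_nonZeroDivisors hs
  rw [mem_nonZeroDivisors_iff_right]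
  intro z hz
  apply h1
  simp only [smul_zero]
  rw [Algebra.smul_def, RingHom.algebraMap_toAlgebra, mul_comm]
  exact hz

/-- flatness of `appLE` between affine opens from flatness of stalk maps at the points of the source -/
lemma flat_appLE_of_stalk {X S : Scheme.{u}} (f : X ⟶ S) (V : S.Opens) (hV : IsAffineOpen V)
    (U : X.Opens) (hU : IsAffineOpen U) (e : U ≤ f ⁻¹ᵁ V)
    (h : ∀ x ∈ U, (f.stalkMap x).hom.Flat) : (f.appLE V U e).hom.Flat := by
  have : IsAffine (U : Scheme) := hU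
  have : IsAffine (V : Scheme) := hV
  have hg : Flat (f.resLE V U e) := by
    apply Flat.of_stalkMap
    intro y
    exact (RingHom.Flat.respectsIso.arrow_mk_iso_iff (Scheme.Hom.resLEStalkMap f e y)).2 (h y.1 y.2)
  have h1 : (f.resLE V U e).appTop.hom.Flat := (HasRingHomProperty.iff_of_isAffine (P := @Flat)).1 hg
  exact (RingHom.Flat.respectsIso.arrow_mk_iso_iff (arrowResLEAppIso f V U e)).1 h1

/-- restriction between affine opens is flat -/
lemma flat_res {X : Scheme.{u}} {U V : X.Opens} (hU : IsAffineOpen U) (hV : IsAffineOpen V) (e : U ≤ V) :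
    (X.presheaf.map (homOfLE e).op).hom.Flat := by
  have h := HasRingHomProperty.appLE (P := @Flat) (𝟙 X) inferInstance ⟨V, hV⟩ ⟨U, hU⟩ e
  have h2 : (𝟙 X : X ⟶ X).appLE V U e = X.presheaf.map (homOfLE e).op := by
    simp only [Scheme.Hom.appLE, Scheme.Hom.id_app, homOfLE_leOfHom]
    exact Category.id_comp _
  rwa [h2] at h

/-- around every point and inside every open neighbourhood there is a chart of an effective Cartier
ideal -/
lemma exists_chart_le {X : Scheme.{u}} {𝓘 : X.IdealSheafData} (hC : BlowUp.IsEffCartierIdeal 𝓘)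
    (x : X) (W : X.Opens) (hxW : x ∈ W) :
    ∃ U : X.affineOpens, x ∈ U.1 ∧ U.1 ≤ W ∧
      ∃ t ∈ nonZeroDivisors Γ(X, U.1), 𝓘.ideal U = Ideal.span {t} := by
  obtain ⟨U₀, hxU₀, t₀, ht₀, hI₀⟩ := hC x
  obtain ⟨c, hcW, hxc⟩ := U₀.2.exists_basicOpen_le ⟨x, hxW⟩ hxU₀
  refine ⟨X.affineBasicOpen c, hxc, hcW, X.presheaf.map (homOfLE (X.basicOpen_le c)).op t₀, ?_, ?_⟩
  · have hloc : IsLocalization.Away c Γ(X, X.basicOpen c) := U₀.2.isLocalization_basicOpen c
    have h1 : (algebraMap Γ(X, U₀.1) Γ(X, X.basicOpen c)) t₀ ∈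
        nonZeroDivisors Γ(X, X.basicOpen c) :=
      IsLocalization.map_nonZeroDivisors_le (Submonoid.powers c) _
        (Submonoid.mem_map_of_mem _ ht₀)
    exact h1
  · rw [← 𝓘.map_ideal_basicOpen U₀ c, hI₀, Ideal.map_span, Set.image_singleton]
    rfl

/-- a chart restricts to smaller affine opens -/
lemma chart_restrict {X : Scheme.{u}} (𝓘 : X.IdealSheafData) {U V : X.affineOpens} (e : U ≤ V)
    (t : Γ(X, V.1)) (ht : t ∈ nonZeroDivisors Γ(X, V.1)) (hI : 𝓘.ideal V = Ideal.span {t}) :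
    (X.presheaf.map (homOfLE e).op).hom t ∈ nonZeroDivisors Γ(X, U.1) ∧
      𝓘.ideal U = Ideal.span {(X.presheaf.map (homOfLE e).op).hom t} := by
  constructor
  · exact map_mem_nonZeroDivisors_of_flat _ (flat_res U.2 V.2 e) t ht
  · rw [← 𝓘.map_ideal e, hI, Ideal.map_span, Set.image_singleton]

lemma isEffCartierIdeal_top (X : Scheme.{u}) : BlowUp.IsEffCartierIdeal (⊤ : X.IdealSheafData) := by
  intro x
  obtain ⟨_, ⟨U, hU, rfl⟩, hxU, -⟩ :=
    X.isBasis_affineOpens.exists_subset_of_mem_open (Set.mem_univ x) isOpen_univ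
  refine ⟨⟨U, hU⟩, hxU, 1, one_mem _, ?_⟩
  rw [Scheme.IdealSheafData.ideal_top, Ideal.span_singleton_one]
  rfl

lemma isEffCartierIdeal_comap_of_disjoint {X Y : Scheme.{u}} (g : Y ⟶ X) (𝓘 : X.IdealSheafData)
    (h : ∀ y : Y, g y ∉ 𝓘.support) : BlowUp.IsEffCartierIdeal (𝓘.comap g) := by
  have : 𝓘.comap g = ⊤ := by
    rw [← Scheme.IdealSheafData.support_eq_bot_iff]
    ext y
    simp only [Scheme.IdealSheafData.support_comap, Closeds.coe_preimage, Set.mem_preimage,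
      SetLike.mem_coe, Closeds.coe_bot, Set.mem_empty_iff_false, iff_false]
    exact h y
  rw [this]
  exact isEffCartierIdeal_top Y

/-- over the complement of the centre, a blow-up is an isomorphism -/
lemma isIso_morphismRestrict_compl {X X' : Scheme.{u}} (𝓘 : X.IdealSheafData) (b : X' ⟶ X)
    (hb : BlowUp.IsBlowUp b 𝓘) : IsIso (b ∣_ 𝓘.support.compl) := by
  set W : X.Opens := 𝓘.support.compl with hW
  have hj : BlowUp.IsEffCartierIdeal (𝓘.comap W.ι) :=
    isEffCartierIdeal_comap_of_disjoint _ _ (fun y => y.2)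
  obtain ⟨h, hh, -⟩ := hb.2 W W.ι hj
  have hrange : Set.range h ⊆ Set.range (b ⁻¹ᵁ W).ι := by
    rintro _ ⟨w, rfl⟩
    rw [Scheme.Opens.range_ι]
    change b (h w) ∈ W
    rw [← Scheme.Hom.comp_apply, hh]
    exact w.2
  let h' : (W : Scheme) ⟶ (b ⁻¹ᵁ W : Scheme) := IsOpenImmersion.lift (b ⁻¹ᵁ W).ι h hrange
  have hh' : h' ≫ (b ⁻¹ᵁ W).ι = h := IsOpenImmersion.lift_fac _ _ _
  refine ⟨h', ?_, ?_⟩
  · rw [← cancel_mono (b ⁻¹ᵁ W).ι, Category.assoc, hh', Category.id_comp]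
    have hE : BlowUp.IsEffCartierIdeal (𝓘.comap ((b ⁻¹ᵁ W).ι ≫ b)) :=
      isEffCartierIdeal_comap_of_disjoint _ _ (fun y => y.2)
    obtain ⟨k, hk, huniq⟩ := hb.2 _ ((b ⁻¹ᵁ W).ι ≫ b) hE
    have e1 : (b ∣_ W) ≫ h = k := huniq _ (by
      change ((b ∣_ W) ≫ h) ≫ b = (b ⁻¹ᵁ W).ι ≫ b
      rw [Category.assoc, hh, morphismRestrict_ι])
    have e2 : (b ⁻¹ᵁ W).ι = k := huniq _ rfl
    rw [e1, e2]
  · rw [← cancel_mono W.ι, Category.assoc, morphismRestrict_ι, ← Category.assoc, hh', hh,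
      Category.id_comp]

/-- the stalk maps of a blow-up are bijective off the exceptional locus -/
lemma stalkMap_bijective_of_isBlowUp {X X' : Scheme.{u}} (𝓘 : X.IdealSheafData) (b : X' ⟶ X)
    (hb : BlowUp.IsBlowUp b 𝓘) (y : X') (hy : b y ∉ 𝓘.support) :
    Function.Bijective (b.stalkMap y).hom := by
  have hiso : IsIso (b ∣_ 𝓘.support.compl) := isIso_morphismRestrict_compl 𝓘 b hb
  have h1 : IsIso ((b ∣_ 𝓘.support.compl).stalkMap ⟨y, hy⟩) :=
    ((isIso_iff_isIso_stalkMap _).1 hiso).2 _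
  have h2 : IsIso (b.stalkMap y) :=
    ((MorphismProperty.isomorphisms CommRingCat).arrow_mk_iso_iff
      (morphismRestrictStalkMap b 𝓘.support.compl ⟨y, hy⟩)).1 h1
  exact ConcreteCategory.bijective_of_isIso (b.stalkMap y)


/-- points of the basic open of a generator are outside the support -/
lemma notMem_support_of_mem_basicOpen {X : Scheme.{u}} (𝓘 : X.IdealSheafData) (U : X.affineOpens)
    (g : Γ(X, U.1)) (hIg : 𝓘.ideal U = Ideal.span {g}) (y : X) (hy : y ∈ X.basicOpen g) :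
    y ∉ 𝓘.support := by
  intro hys
  have hyU : y ∈ U.1 := X.basicOpen_le g hy
  rw [Scheme.IdealSheafData.mem_support_iff_of_mem (U := U) hyU, hIg, Scheme.zeroLocus_span,
    Scheme.zeroLocus_singleton] at hys
  exact hys hy

/-- the inverse image of an effective Cartier ideal under a blow-up is effective Cartier -/
theorem isEffCartierIdeal_comap_of_isBlowUp {X X' : Scheme.{u}} (𝓘 : X.IdealSheafData) (b : X' ⟶ X)
    (hb : BlowUp.IsBlowUp b 𝓘) (𝓓 : X.IdealSheafData) (hD : BlowUp.IsEffCartierIdeal 𝓓) :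
    BlowUp.IsEffCartierIdeal (𝓓.comap b) := by
  intro x'
  obtain ⟨V, hxV, s, hs, hDs⟩ := hD (b x')
  obtain ⟨U', hxU', hU'V, g, hg, hIg⟩ := exists_chart_le hb.1 x' (b ⁻¹ᵁ V.1) hxV
  refine ⟨U', hxU', (b.appLE V.1 U'.1 hU'V).hom s, ?_, ?_⟩
  · rw [mem_nonZeroDivisors_iff_right]
    intro y hy
    have hloc : IsLocalization.Away g Γ(X', X'.basicOpen g) := U'.2.isLocalization_basicOpen g
    have hinj : Function.Injective (algebraMap Γ(X', U'.1) Γ(X', X'.basicOpen g)) :=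
      IsLocalization.injective _ (Submonoid.powers_le.2 hg)
    apply hinj
    rw [map_zero]
    have hDgV : X'.basicOpen g ≤ b ⁻¹ᵁ V.1 := (X'.basicOpen_le g).trans hU'V
    have hflat : (b.appLE V.1 (X'.basicOpen g) hDgV).hom.Flat :=
      flat_appLE_of_stalk b V.1 V.2 _ (U'.2.basicOpen g) hDgV (fun z hz =>
        RingHom.Flat.of_bijective (stalkMap_bijective_of_isBlowUp 𝓘 b hb z (by
          have := notMem_support_of_mem_basicOpen (𝓘.comap b) U' g hIg z hz
          rw [Scheme.IdealSheafData.support_comap] at this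
          exact this)))
    have hnzd := map_mem_nonZeroDivisors_of_flat _ hflat s hs
    have h1 : (b.appLE V.1 (X'.basicOpen g) hDgV).hom s =
        algebraMap Γ(X', U'.1) Γ(X', X'.basicOpen g) ((b.appLE V.1 U'.1 hU'V).hom s) := by
      rw [RingHom.algebraMap_toAlgebra, ← RingHom.comp_apply, ← CommRingCat.hom_comp,
        Scheme.Hom.appLE_map]
    have h2 : algebraMap Γ(X', U'.1) Γ(X', X'.basicOpen g) y *
        (b.appLE V.1 (X'.basicOpen g) hDgV).hom s = 0 := by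
      rw [h1, ← map_mul, hy, map_zero]
    exact (mem_nonZeroDivisors_iff_right.1 hnzd) _ h2
  · rw [ideal_comap b 𝓓 V U' hU'V, hDs, Ideal.map_span, Set.image_singleton]


/-- inverse image of ideal sheaves is multiplicative -/
theorem comap_mul {X Y : Scheme.{u}} (f : X ⟶ Y) (𝓘 𝓙 : Y.IdealSheafData) :
    (𝓘 * 𝓙).comap f = 𝓘.comap f * 𝓙.comap f := by
  let ι := {p : Y.affineOpens × X.affineOpens // p.2.1 ≤ f ⁻¹ᵁ p.1.1}
  apply Scheme.IdealSheafData.ext_of_iSup_eq_top (fun p : ι => p.1.2)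
  · rw [eq_top_iff]
    intro x _
    obtain ⟨_, ⟨V, hV, rfl⟩, hxV, -⟩ :=
      Y.isBasis_affineOpens.exists_subset_of_mem_open (Set.mem_univ (f x)) isOpen_univ
    obtain ⟨_, ⟨U, hU, rfl⟩, hxU, hUV⟩ :=
      X.isBasis_affineOpens.exists_subset_of_mem_open (show x ∈ (f ⁻¹ᵁ V : Set X) from hxV)
        (f ⁻¹ᵁ V).2
    rw [Opens.mem_iSup]
    exact ⟨⟨(⟨V, hV⟩, ⟨U, hU⟩), hUV⟩, hxU⟩
  · rintro ⟨⟨V, U⟩, hUV⟩
    simp only [Scheme.IdealSheafData.ideal_mul, Pi.mul_apply]
    rw [ideal_comap f _ V U hUV, ideal_comap f _ V U hUV, ideal_comap f _ V U hUV,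
      Scheme.IdealSheafData.ideal_mul, Pi.mul_apply, Ideal.map_mul]

/-- products of effective Cartier ideals are effective Cartier -/
theorem isEffCartierIdeal_mul {X : Scheme.{u}} (𝓘 𝓙 : X.IdealSheafData)
    (hI : BlowUp.IsEffCartierIdeal 𝓘) (hJ : BlowUp.IsEffCartierIdeal 𝓙) :
    BlowUp.IsEffCartierIdeal (𝓘 * 𝓙) := by
  intro x
  obtain ⟨U₁, hxU₁, t, ht, hIt⟩ := hI x
  obtain ⟨U₂, hxU₂, hU₂U₁, s, hs, hJs⟩ := exists_chart_le hJ x U₁.1 hxU₁
  obtain ⟨ht', hIt'⟩ := chart_restrict 𝓘 (U := U₂) (V := U₁) hU₂U₁ t ht hIt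
  refine ⟨U₂, hxU₂, (X.presheaf.map (homOfLE hU₂U₁).op).hom t * s, mul_mem ht' hs, ?_⟩
  rw [Scheme.IdealSheafData.ideal_mul, Pi.mul_apply, hIt', hJs, Ideal.span_singleton_mul_span_singleton]
  rfl

/-- a blow-up in `𝓘` is a blow-up in `𝓘 * 𝓓` for `𝓓` effective Cartier -/
theorem isBlowUp_mul {S S' : Scheme.{u}} (𝓘 𝓓 : S.IdealSheafData) (h𝓓 : BlowUp.IsEffCartierIdeal 𝓓)
    (b : S' ⟶ S) (hb : BlowUp.IsBlowUp b 𝓘) : BlowUp.IsBlowUp b (𝓘 * 𝓓) := by
  constructor
  · rw [comap_mul]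
    exact isEffCartierIdeal_mul _ _ hb.1 (isEffCartierIdeal_comap_of_isBlowUp 𝓘 b hb 𝓓 h𝓓)
  · intro Y g hg
    rw [comap_mul] at hg
    exact hb.2 Y g (isEffCartierIdeal_left_of_mul _ _ hg)

end Groth.Agent.Helper28.EffCartierOld
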