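import Mathlib
import Groth.Agent.Lib.Helper28.EffCartierOld
set_option autoImplicit false
universe u
open CategoryTheory CategoryTheory.Limits AlgebraicGeometry TopologicalSpace

namespace Groth.Agent.Helper28.EffCartierDense

variable {X : Scheme.{u}}

/-- an open subset which, near every point, is the non-vanishing locus of a nonzerodivisor on an
affine chart -/
def IsLocallyBasicNZD (U : X.Opens) : Prop :=
  ∀ x : X, ∃ V : X.affineOpens, x ∈ V.1 ∧ ∃ t ∈ nonZeroDivisors Γ(X, V.1), U ⊓ V.1 = X.basicOpen t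

lemma res_injective_of_basicOpen (V : X.affineOpens) (t : Γ(X, V.1)) (ht : t ∈ nonZeroDivisors Γ(X, V.1))
    (W : X.Opens) (hW : W = X.basicOpen t) (hWV : W ≤ V.1) :
    Function.Injective (X.presheaf.map (homOfLE hWV).op).hom := by
  subst hW
  have hloc : IsLocalization.Away t Γ(X, X.basicOpen t) := V.2.isLocalization_basicOpen t
  exact IsLocalization.injective _ (Submonoid.powers_le.2 ht)

lemma ker_ι_eq_bot (U : X.Opens) (h : IsLocallyBasicNZD U) : U.ι.ker = ⊥ := by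
  choose V hxV t ht hUV using h
  apply Scheme.IdealSheafData.ext_of_iSup_eq_top V
  · rw [eq_top_iff]
    intro x _
    rw [Opens.mem_iSup]
    exact ⟨x, hxV x⟩
  · intro x
    rw [Scheme.IdealSheafData.ideal_bot, Pi.bot_apply, eq_bot_iff]
    refine (Scheme.Hom.ideal_ker_le U.ι (V x)).trans ?_
    have himg : U.ι ''ᵁ U.ι ⁻¹ᵁ (V x).1 = X.basicOpen (t x) := by
      rw [← hUV x, Scheme.Hom.image_preimage_eq_opensRange_inf, Scheme.Opens.opensRange_ι]
    have hinj : Function.Injective (U.ι.app (V x).1).hom := by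
      rw [Scheme.Opens.ι_app]
      exact res_injective_of_basicOpen (V x) (t x) (ht x) _ himg _
    rw [(RingHom.injective_iff_ker_eq_bot _).mp hinj]


lemma isLocallyBasicNZD_compl_support (I : X.IdealSheafData) (hI : BlowUp.IsEffCartierIdeal I) :
    IsLocallyBasicNZD (I.support.compl : X.Opens) := by
  intro x
  obtain ⟨V, hxV, t, ht, hIt⟩ := hI x
  refine ⟨V, hxV, t, ht, ?_⟩
  ext y
  simp only [Opens.coe_inf, Set.mem_inter_iff, SetLike.mem_coe]
  constructor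
  · rintro ⟨hy1, hyV⟩
    by_contra hyt
    apply hy1
    show y ∈ I.support
    rw [Scheme.IdealSheafData.mem_support_iff_of_mem (U := V) hyV, hIt, Scheme.zeroLocus_span,
      Scheme.zeroLocus_singleton]
    exact hyt
  · intro hy
    exact ⟨Groth.Agent.Helper28.EffCartierOld.notMem_support_of_mem_basicOpen I V t hIt y hy,
      X.basicOpen_le t hy⟩

lemma IsLocallyBasicNZD.inf {U₁ U₂ : X.Opens} (h₁ : IsLocallyBasicNZD U₁) (h₂ : IsLocallyBasicNZD U₂) :
    IsLocallyBasicNZD (U₁ ⊓ U₂) := by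
  intro x
  obtain ⟨V₁, hx₁, t₁, ht₁, hU₁⟩ := h₁ x
  obtain ⟨V₂, hx₂, t₂, ht₂, hU₂⟩ := h₂ x
  obtain ⟨_, ⟨W, hW, rfl⟩, hxW, hWV⟩ :=
    X.isBasis_affineOpens.exists_subset_of_mem_open (show x ∈ ((V₁.1 ⊓ V₂.1 : X.Opens) : Set X) from ⟨hx₁, hx₂⟩)
      (V₁.1 ⊓ V₂.1).2
  have hWV₁ : W ≤ V₁.1 := fun y hy => (hWV hy).1
  have hWV₂ : W ≤ V₂.1 := fun y hy => (hWV hy).2
  let s₁ := (X.presheaf.map (homOfLE hWV₁).op).hom t₁
  let s₂ := (X.presheaf.map (homOfLE hWV₂).op).hom t₂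
  have hs₁ : s₁ ∈ nonZeroDivisors Γ(X, W) :=
    Groth.Agent.Helper28.EffCartierOld.map_mem_nonZeroDivisors_of_flat _
      (Groth.Agent.Helper28.EffCartierOld.flat_res hW V₁.2 hWV₁) t₁ ht₁
  have hs₂ : s₂ ∈ nonZeroDivisors Γ(X, W) :=
    Groth.Agent.Helper28.EffCartierOld.map_mem_nonZeroDivisors_of_flat _
      (Groth.Agent.Helper28.EffCartierOld.flat_res hW V₂.2 hWV₂) t₂ ht₂
  refine ⟨⟨W, hW⟩, hxW, s₁ * s₂, mul_mem hs₁ hs₂, ?_⟩
  rw [Scheme.basicOpen_mul]
  have e₁ : X.basicOpen s₁ = W ⊓ X.basicOpen t₁ := Scheme.basicOpen_res _ _ _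
  have e₂ : X.basicOpen s₂ = W ⊓ X.basicOpen t₂ := Scheme.basicOpen_res _ _ _
  rw [e₁, e₂, ← hU₁, ← hU₂]
  ext y
  simp only [Opens.coe_inf, Set.mem_inter_iff, SetLike.mem_coe]
  constructor
  · rintro ⟨⟨h1, h2⟩, h3⟩
    exact ⟨⟨h3, h1, hWV₁ h3⟩, ⟨h3, h2, hWV₂ h3⟩⟩
  · rintro ⟨⟨h3, h1, -⟩, ⟨-, h2, -⟩⟩
    exact ⟨⟨h1, h2⟩, h3⟩

lemma preimage_compl_support {Y : Scheme.{u}} (f : Y ⟶ X) (I : X.IdealSheafData) :
    f ⁻¹ᵁ (I.support.compl : X.Opens) = ((I.comap f).support.compl : Y.Opens) := by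
  ext y
  simp only [Scheme.IdealSheafData.support_comap]
  rfl

/-- the closed immersion of the scheme-theoretic image of a scheme-theoretically dominant open
immersion is an isomorphism -/
lemma isIso_imageι_of_ker_eq_bot (U : X.Opens) (h : U.ι.ker = ⊥) : IsIso U.ι.imageι := by
  rw [IsClosedImmersion.isIso_iff_ker_eq_bot]
  rw [Scheme.Hom.imageι, Scheme.IdealSheafData.ker_subschemeι, h]

end Groth.Agent.Helper28.EffCartierDense

namespace Groth.Agent.Helper28.EffCartierDense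

variable {X : Scheme.{u}}

/-- the inverse image of an effective Cartier ideal under a flat morphism is effective Cartier -/
lemma isEffCartierIdeal_comap_of_flat {Y : Scheme.{u}} (f : Y ⟶ X) [Flat f] (J : X.IdealSheafData)
    (hJ : BlowUp.IsEffCartierIdeal J) : BlowUp.IsEffCartierIdeal (J.comap f) := by
  intro y
  obtain ⟨V, hyV, g, hg, hJg⟩ := hJ (f y)
  obtain ⟨_, ⟨U, hU, rfl⟩, hyU, hUV⟩ :=
    Y.isBasis_affineOpens.exists_subset_of_mem_open (show y ∈ ((f ⁻¹ᵁ V.1 : Y.Opens) : Set Y) from hyV)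
      (f ⁻¹ᵁ V.1).2
  have hcomap := Groth.Agent.Helper28.IdealComapOld.ideal_comap f J V ⟨U, hU⟩ hUV
  rw [hJg, Ideal.map_span, Set.image_singleton] at hcomap
  refine ⟨⟨U, hU⟩, hyU, (f.appLE V.1 U hUV).hom g, ?_, hcomap⟩
  exact Groth.Agent.Helper28.EffCartierOld.map_mem_nonZeroDivisors_of_flat _
    (f.flat_appLE V.2 hU hUV) g hg

end Groth.Agent.Helper28.EffCartierDense
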