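import Mathlib
import Groth.Agent.Lib.Helper28.EffCartierDense
set_option autoImplicit false
universe u
open CategoryTheory CategoryTheory.Limits AlgebraicGeometry TopologicalSpace

namespace Groth.Agent.Helper28.EffCartierDense

variable {X X' : Scheme.{u}}

/-- charts adapted to a morphism and an effective Cartier ideal on the target -/
lemma exists_adapted_chart (I : X.IdealSheafData) (hI : BlowUp.IsEffCartierIdeal I) (f : X' ⟶ X)
    (x' : X') (W : X'.Opens) (hW : x' ∈ W) :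
    ∃ (V : X.affineOpens) (U' : X'.affineOpens) (e : U'.1 ≤ f ⁻¹ᵁ V.1) (t : Γ(X, V.1)),
      t ∈ nonZeroDivisors Γ(X, V.1) ∧ x' ∈ U'.1 ∧ U'.1 ≤ W ∧ I.ideal V = Ideal.span {t} ∧
      f ⁻¹ᵁ (I.support.compl : X.Opens) ⊓ U'.1 = X'.basicOpen ((f.appLE V.1 U'.1 e).hom t) := by
  obtain ⟨V, hyV, t, ht, hIt⟩ := hI (f x')
  obtain ⟨_, ⟨U, hU, rfl⟩, hxU, hUV⟩ :=
    X'.isBasis_affineOpens.exists_subset_of_mem_open
      (show x' ∈ ((f ⁻¹ᵁ V.1 ⊓ W : X'.Opens) : Set X') from ⟨hyV, hW⟩) (f ⁻¹ᵁ V.1 ⊓ W).2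
  have hUV1 : U ≤ f ⁻¹ᵁ V.1 := fun y hy => (hUV hy).1
  have hUW : U ≤ W := fun y hy => (hUV hy).2
  refine ⟨V, ⟨U, hU⟩, hUV1, t, ht, hxU, hUW, hIt, ?_⟩
  have h1 : (I.support.compl : X.Opens) ⊓ V.1 = X.basicOpen t := by
    ext y
    simp only [Opens.coe_inf, Set.mem_inter_iff, SetLike.mem_coe]
    constructor
    · rintro ⟨hy1, hyV⟩
      by_contra hyt
      apply hy1
      show y ∈ I.support
      rw [Scheme.IdealSheafData.mem_support_iff_of_mem (U := V) hyV, hIt, Scheme.zeroLocus_span,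
        Scheme.zeroLocus_singleton]
      exact hyt
    · intro hy
      exact ⟨Groth.Agent.Helper28.EffCartierOld.notMem_support_of_mem_basicOpen I V t hIt y hy,
        X.basicOpen_le t hy⟩
  show _ = X'.basicOpen (f.appLE V.1 U hUV1 t)
  rw [Scheme.basicOpen_appLE, ← h1]
  ext y
  simp only [Opens.coe_inf, Set.mem_inter_iff, SetLike.mem_coe, Scheme.Hom.mem_preimage]
  constructor
  · rintro ⟨h2, h3⟩
    exact ⟨h3, h2, hUV1 h3⟩
  · rintro ⟨h3, h2, -⟩
    exact ⟨h2, h3⟩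

lemma quasiCompact_ι_preimage_compl_support (I : X.IdealSheafData) (hI : BlowUp.IsEffCartierIdeal I)
    (f : X' ⟶ X) : QuasiCompact (f ⁻¹ᵁ (I.support.compl : X.Opens)).ι := by
  set O := f ⁻¹ᵁ (I.support.compl : X.Opens) with hO
  choose V U' e t ht hx _ hIt hOU using fun x' : X' => exists_adapted_chart I hI f x' ⊤ trivial
  have hcover : ⨆ x', (U' x').1 = ⊤ := by
    rw [eq_top_iff]
    intro x _
    rw [Opens.mem_iSup]
    exact ⟨x, hx x⟩
  rw [HasAffineProperty.iff_of_iSup_eq_top (P := @QuasiCompact) U' hcover]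
  intro x'
  show CompactSpace ↥(O.ι ⁻¹ᵁ (U' x').1)
  refine isCompact_iff_compactSpace.mp
    (?_ : IsCompact ((O.ι ⁻¹ᵁ (U' x').1 : O.toScheme.Opens) : Set O.toScheme))
  rw [O.ι.isOpenEmbedding.isEmbedding.isCompact_iff]
  have : O.ι '' ((O.ι ⁻¹ᵁ (U' x').1 : O.toScheme.Opens) : Set O.toScheme) =
      ((X'.basicOpen ((f.appLE (V x').1 (U' x').1 (e x')).hom (t x')) : X'.Opens) : Set X') := by
    rw [← hOU x']
    show O.ι '' (O.ι ⁻¹' ((U' x').1 : Set X')) = _
    rw [Set.image_preimage_eq_inter_range, Scheme.Opens.range_ι, Set.inter_comm]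
    rfl
  rw [this]
  exact ((U' x').2.basicOpen _).isCompact


lemma res_eq_zero_of_mul_eq_zero (V : X.affineOpens) (s z : Γ(X, V.1)) (hz : z * s = 0)
    (W : X.Opens) (hW : W = X.basicOpen s) (hWV : W ≤ V.1) :
    (X.presheaf.map (homOfLE hWV).op).hom z = 0 := by
  subst hW
  have hloc : IsLocalization.Away s Γ(X, X.basicOpen s) := V.2.isLocalization_basicOpen s
  exact (IsLocalization.map_eq_zero_iff (Submonoid.powers s) Γ(X, X.basicOpen s) z).mpr
    ⟨⟨s, Submonoid.mem_powers s⟩, by rw [mul_comm]; exact hz⟩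

theorem comap_dominant (I : X.IdealSheafData) (hI : BlowUp.IsEffCartierIdeal I) (f : X' ⟶ X)
    [IsSchemeTheoreticallyDominant (f ⁻¹ᵁ (I.support.compl : X.Opens)).ι] :
    (∀ W : X'.Opens, IsSchemeTheoreticallyDominant
        (X'.homOfLE (inf_le_right : f ⁻¹ᵁ (I.support.compl : X.Opens) ⊓ W ≤ W))) ∧
      BlowUp.IsEffCartierIdeal (I.comap f) := by
  haveI hqc : QuasiCompact (f ⁻¹ᵁ (I.support.compl : X.Opens)).ι :=
    quasiCompact_ι_preimage_compl_support I hI f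
  constructor
  · intro W
    exact IsSchemeTheoreticallyDominant.of_isPullback
      (isPullback_opens_inf (f ⁻¹ᵁ (I.support.compl : X.Opens)) W)
  · intro x'
    obtain ⟨V, U', e, t, ht, hx, -, hIt, hOU⟩ := exists_adapted_chart I hI f x' ⊤ trivial
    have hcomap := Groth.Agent.Helper28.IdealComapOld.ideal_comap f I V U' e
    rw [hIt, Ideal.map_span, Set.image_singleton] at hcomap
    refine ⟨U', hx, (f.appLE V.1 U'.1 e).hom t, ?_, hcomap⟩
    rw [mem_nonZeroDivisors_iff_right]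
    intro z hz
    have hinj := Scheme.Hom.app_injective (f ⁻¹ᵁ (I.support.compl : X.Opens)).ι U'.1
    apply hinj
    rw [map_zero, Scheme.Opens.ι_app]
    have himg : (f ⁻¹ᵁ (I.support.compl : X.Opens)).ι ''ᵁ
        (f ⁻¹ᵁ (I.support.compl : X.Opens)).ι ⁻¹ᵁ U'.1 =
        X'.basicOpen ((f.appLE V.1 U'.1 e).hom t) := by
      rw [Scheme.Hom.image_preimage_eq_opensRange_inf, Scheme.Opens.opensRange_ι, hOU]
    exact res_eq_zero_of_mul_eq_zero U' _ z hz _ himg _

end Groth.Agent.Helper28.EffCartierDense
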