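import Mathlib
import Groth.Prelude.Def_W4c6modpairsegaMP
import Groth.Agent.Lib.Helper28.EffCartierDense2
set_option autoImplicit false
universe u
open CategoryTheory CategoryTheory.Limits AlgebraicGeometry TopologicalSpace

namespace Groth.Agent.Helper28.AdmCalc

open ModPair Groth.Agent.Helper28.EffCartierDense

/-- two morphisms into a separated `Z`-scheme agreeing on a scheme-theoretically dominant source
are equal -/
lemma ext_of_dominant_of_separated {U X Y Z : Scheme.{u}} (i : U ⟶ X) (hi : i.ker = ⊥)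
    (f₁ f₂ : X ⟶ Y) (s : Y ⟶ Z) [IsSeparated s] (h : f₁ ≫ s = f₂ ≫ s)
    (hi' : i ≫ f₁ = i ≫ f₂) : f₁ = f₂ := by
  let g : X ⟶ pullback s s := pullback.lift f₁ f₂ h
  let Δ : Y ⟶ pullback s s := pullback.diagonal s
  let p₁ := pullback.fst g Δ
  let p₂ := pullback.snd g Δ
  have hcomm : i ≫ g = (i ≫ f₁) ≫ Δ := by
    apply pullback.hom_ext
    · rw [Category.assoc, Category.assoc, pullback.lift_fst, pullback.diagonal_fst,
        Category.comp_id]
    · rw [Category.assoc, Category.assoc, pullback.lift_snd, pullback.diagonal_snd,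
        Category.comp_id, hi']
  let ℓ := pullback.lift i (i ≫ f₁) hcomm
  have hℓ : ℓ ≫ p₁ = i := pullback.lift_fst _ _ _
  haveI : IsClosedImmersion Δ := IsSeparated.isClosedImmersion_diagonal
  haveI : IsClosedImmersion p₁ := inferInstance
  have hker : p₁.ker = ⊥ := by
    have := Scheme.Hom.le_ker_comp ℓ p₁
    rw [hℓ, hi] at this
    exact le_bot_iff.mp this
  haveI : IsIso p₁ := IsClosedImmersion.isIso_iff_ker_eq_bot.mpr hker
  have hg : g = inv p₁ ≫ p₂ ≫ Δ := by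
    rw [IsIso.eq_inv_comp]; exact pullback.condition
  have h1 : f₁ = g ≫ pullback.fst s s := (pullback.lift_fst _ _ _).symm
  have h2 : f₂ = g ≫ pullback.snd s s := (pullback.lift_snd _ _ _).symm
  rw [h1, h2, hg]
  simp [Δ]

lemma isIso_fst_restrict {X Y Y' : Scheme.{u}} (f : X ⟶ Y') (s : Y ⟶ Y') (V' : Y'.Opens)
    (hs : IsIso (s ∣_ V')) (U : X.Opens) (hU : U ≤ f ⁻¹ᵁ V') :
    IsIso (pullback.fst f s ∣_ U) := by
  have hT : pullback.fst f s ⁻¹ᵁ U ≤ pullback.snd f s ⁻¹ᵁ (s ⁻¹ᵁ V') := by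
    intro z hz
    have h1 : (pullback.fst f s ≫ f) z ∈ V' := hU hz
    rw [pullback.condition] at h1
    exact h1
  let k := (pullback.snd f s).resLE (s ⁻¹ᵁ V') (pullback.fst f s ⁻¹ᵁ U) hT
  let fU := f.resLE V' U hU
  have left' : IsPullback (pullback.fst f s ⁻¹ᵁ U).ι (pullback.fst f s ∣_ U) (pullback.fst f s) U.ι :=
    (isPullback_morphismRestrict (pullback.fst f s) U).flip
  have right' : IsPullback (pullback.snd f s) (pullback.fst f s) s f :=
    (IsPullback.of_hasPullback f s).flip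
  have big := left'.paste_horiz right'
  have e1 : (pullback.fst f s ⁻¹ᵁ U).ι ≫ pullback.snd f s = k ≫ (s ⁻¹ᵁ V').ι :=
    (Scheme.Hom.resLE_comp_ι _ _).symm
  have e2 : U.ι ≫ f = fU ≫ V'.ι := (Scheme.Hom.resLE_comp_ι _ _).symm
  rw [e1, e2] at big
  have right : IsPullback (s ⁻¹ᵁ V').ι (s ∣_ V') s V'.ι := (isPullback_morphismRestrict s V').flip
  have comm : k ≫ (s ∣_ V') = (pullback.fst f s ∣_ U) ≫ fU := by
    rw [← cancel_mono V'.ι]
    simp only [Category.assoc, morphismRestrict_ι]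
    rw [← e2, ← reassoc_of% e1, ← pullback.condition, morphismRestrict_ι_assoc]
  have left := IsPullback.of_right big comm right
  exact left.isIso_snd_of_isIso

section Closure

variable {P : Scheme.{u}} (W : P.Opens)

lemma range_toImage_subset : Set.range W.ι.toImage ⊆ ((W.ι.imageι ⁻¹ᵁ W : W.ι.image.Opens) : Set _) := by
  rintro _ ⟨w, rfl⟩
  show W.ι.imageι (W.ι.toImage w) ∈ W
  rw [← Scheme.Hom.comp_apply, Scheme.Hom.toImage_imageι]
  exact w.2

/-- the lift of `toImage` to the open `imageι ⁻¹ W` -/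
noncomputable def toImageLift : W.toScheme ⟶ (W.ι.imageι ⁻¹ᵁ W).toScheme :=
  IsOpenImmersion.lift (W.ι.imageι ⁻¹ᵁ W).ι W.ι.toImage
    (by rw [Scheme.Opens.range_ι]; exact range_toImage_subset W)

lemma toImageLift_ι : toImageLift W ≫ (W.ι.imageι ⁻¹ᵁ W).ι = W.ι.toImage :=
  IsOpenImmersion.lift_fac _ _ _

lemma isIso_imageι_restrict : IsIso (W.ι.imageι ∣_ W) := by
  have hsplit : toImageLift W ≫ (W.ι.imageι ∣_ W) = 𝟙 _ := by
    rw [← cancel_mono W.ι, Category.assoc, morphismRestrict_ι, reassoc_of% (toImageLift_ι W),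
      Scheme.Hom.toImage_imageι, Category.id_comp]
  haveI : Mono (W.ι.imageι ∣_ W) := by
    have : Mono ((W.ι.imageι ∣_ W) ≫ W.ι) := by rw [morphismRestrict_ι]; infer_instance
    exact mono_of_mono _ W.ι
  haveI : IsSplitEpi (W.ι.imageι ∣_ W) := ⟨⟨toImageLift W, hsplit⟩⟩
  exact isIso_of_mono_of_isSplitEpi _

lemma ker_toImage_eq_bot {X Y : Scheme.{u}} (f : X ⟶ Y) [QuasiCompact f] : f.toImage.ker = ⊥ := by
  apply Scheme.IdealSheafData.ext_of_iSup_eq_top
    (fun U : Y.affineOpens => ⟨f.imageι ⁻¹ᵁ U.1, U.2.preimage f.imageι⟩)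
  · rw [eq_top_iff]
    intro z _
    obtain ⟨_, ⟨V, hV, rfl⟩, hzV, -⟩ :=
      Y.isBasis_affineOpens.exists_subset_of_mem_open (Set.mem_univ (f.imageι z)) isOpen_univ
    rw [Opens.mem_iSup]
    exact ⟨⟨V, hV⟩, hzV⟩
  · intro U
    rw [Scheme.IdealSheafData.ideal_bot]
    apply le_bot_iff.mp
    intro x hx
    have h1 := Scheme.Hom.ideal_ker_le _ _ hx
    rw [RingHom.mem_ker] at h1
    have h2 := f.toImage_app_injective U
    rw [Submodule.mem_bot]
    apply h2
    rw [map_zero]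
    exact h1

lemma ker_preimage_ι_eq_bot [QuasiCompact W.ι] : (W.ι.imageι ⁻¹ᵁ W).ι.ker = ⊥ := by
  have := Scheme.Hom.le_ker_comp (toImageLift W) (W.ι.imageι ⁻¹ᵁ W).ι
  rw [toImageLift_ι, ker_toImage_eq_bot] at this
  exact le_bot_iff.mp this

end Closure

section Pair

open Groth.Agent.Helper28.EffCartierDense

lemma interior_le_preimage {X Y : Scheme.{u}} (I : X.IdealSheafData) (J : Y.IdealSheafData)
    (g : X ⟶ Y) (hg : IsAmbient I J g) : interior I ≤ g ⁻¹ᵁ interior J := by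
  intro x hx
  change x ∈ (I.support : Set X)ᶜ at hx
  show g x ∈ (J.support : Set Y)ᶜ
  intro hgx
  apply hx
  have h1 : x ∈ (J.comap g).support := by
    rw [Scheme.IdealSheafData.support_comap]
    exact hgx
  exact Scheme.IdealSheafData.support_antitone hg h1

lemma admBlowup_id (P : Pair.{u}) : Pair.admBlowup (𝟙 P) := by
  refine ⟨?_, ?_, ?_⟩
  · exact (Scheme.IdealSheafData.comap_id P.mod).symm
  · show IsProper (𝟙 P.total); infer_instance
  · show IsIso ((𝟙 P.total) ∣_ interior P.mod); infer_instance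

lemma admBlowup_comp {P Q R : Pair.{u}} (f : P ⟶ Q) (g : Q ⟶ R) (hf : Pair.admBlowup f)
    (hg : Pair.admBlowup g) : Pair.admBlowup (f ≫ g) := by
  obtain ⟨hf1, hf2, hf3⟩ := hf
  obtain ⟨hg1, hg2, hg3⟩ := hg
  have h1 : P.mod = Q.mod.comap f.hom := hf1
  have h2 : Q.mod = R.mod.comap g.hom := hg1
  refine ⟨?_, ?_, ?_⟩
  · show P.mod = R.mod.comap (f.hom ≫ g.hom)
    rw [Scheme.IdealSheafData.comap_comp, ← h2, ← h1]
  · show IsProper (f.hom ≫ g.hom); infer_instance
  · show IsIso ((f.hom ≫ g.hom) ∣_ interior R.mod)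
    rw [morphismRestrict_comp]
    have e : g.hom ⁻¹ᵁ interior R.mod = interior Q.mod := by
      unfold ModPair.interior
      rw [h2]; exact preimage_compl_support g.hom R.mod
    have i1 : IsIso (f.hom ∣_ (g.hom ⁻¹ᵁ interior R.mod)) := by rw [e]; exact hf3
    have i2 : IsIso (g.hom ∣_ interior R.mod) := hg3
    exact @IsIso.comp_isIso _ _ _ _ _ _ _ i1 i2

lemma exists_fraction_scheme {X Y Y' : Scheme.{u}} (I : X.IdealSheafData)
    (hI : BlowUp.IsEffCartierIdeal I) (J : Y.IdealSheafData) (J' : Y'.IdealSheafData)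
    (f : X ⟶ Y') (hf : IsAmbient I J' f) (s : Y ⟶ Y') (hs : IsAdmBlowup J J' s) :
    ∃ (Z : Scheme.{u}) (t : Z ⟶ X) (g : Z ⟶ Y), BlowUp.IsEffCartierIdeal (I.comap t) ∧
      IsAdmBlowup (I.comap t) I t ∧ IsAmbient (I.comap t) J g ∧ t ≫ f = g ≫ s := by
  obtain ⟨hs1, hs2, hs3⟩ := hs
  have hW : QuasiCompact (pullback.fst f s ⁻¹ᵁ (I.support.compl : X.Opens)).ι :=
    Groth.Agent.Helper28.EffCartierDense.quasiCompact_ι_preimage_compl_support I hI (pullback.fst f s)
  generalize hWdef : pullback.fst f s ⁻¹ᵁ (I.support.compl : X.Opens) = W at hW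
  have hdom : IsSchemeTheoreticallyDominant
      ((W.ι.imageι ≫ pullback.fst f s) ⁻¹ᵁ (I.support.compl : X.Opens)).ι := by
    constructor
    have := ker_preimage_ι_eq_bot W
    rw [← hWdef] at this ⊢
    exact this
  have heff := (Groth.Agent.Helper28.EffCartierDense.comap_dominant I hI
    (W.ι.imageι ≫ pullback.fst f s)).2
  refine ⟨W.ι.image, W.ι.imageι ≫ pullback.fst f s, W.ι.imageι ≫ pullback.snd f s, heff,
    ⟨rfl, ?_, ?_⟩, ?_, ?_⟩
  · haveI : IsProper s := hs2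
    infer_instance
  · rw [morphismRestrict_comp]
    have i1 : IsIso (W.ι.imageι ∣_ (pullback.fst f s ⁻¹ᵁ interior I)) := by
      have : pullback.fst f s ⁻¹ᵁ interior I = W := hWdef
      rw [this]
      exact isIso_imageι_restrict W
    have i2 : IsIso (pullback.fst f s ∣_ interior I) :=
      isIso_fst_restrict f s (interior J') hs3 _ (interior_le_preimage _ _ f hf)
    exact @IsIso.comp_isIso _ _ _ _ _ _ _ i1 i2
  · show I.comap _ ≤ J.comap _
    have h1 : J = J'.comap s := hs1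
    have h2 : (W.ι.imageι ≫ pullback.snd f s) ≫ s = (W.ι.imageι ≫ pullback.fst f s) ≫ f := by
      rw [Category.assoc, Category.assoc, pullback.condition]
    have h3 : J.comap (W.ι.imageι ≫ pullback.snd f s) =
        (J'.comap f).comap (W.ι.imageι ≫ pullback.fst f s) := by
      rw [h1, ← Scheme.IdealSheafData.comap_comp, h2, Scheme.IdealSheafData.comap_comp]
    rw [h3]
    exact Scheme.IdealSheafData.comap_mono _ hf
  · rw [Category.assoc, Category.assoc, pullback.condition]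

lemma exists_rightFraction {X Y : Pair.{u}} (φ : Pair.admBlowup.LeftFraction X Y) :
    ∃ ψ : Pair.admBlowup.RightFraction X Y, ψ.s ≫ φ.f = ψ.f ≫ φ.s := by
  obtain ⟨Z, t, g, heff, hadm, hamb, hcomm⟩ :=
    exists_fraction_scheme X.mod X.isEffCartier Y.mod φ.Y'.mod φ.f.hom φ.f.cond φ.s.hom φ.hs
  let Z' : Pair.{u} := ⟨Z, X.mod.comap t, heff⟩
  let tt : Z' ⟶ X := ⟨t, le_rfl⟩
  let ff : Z' ⟶ Y := ⟨g, hamb⟩
  exact ⟨⟨tt, hadm, ff⟩, Pair.Hom.ext hcomm⟩

lemma ext_admBlowup {X Y Y' : Pair.{u}} (f₁ f₂ : X ⟶ Y) (s : Y ⟶ Y') (hs : Pair.admBlowup s)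
    (h : f₁ ≫ s = f₂ ≫ s) : f₁ = f₂ := by
  obtain ⟨hs1, hs2, hs3⟩ := hs
  haveI : IsProper s.hom := hs2
  haveI : IsIso (s.hom ∣_ interior Y'.mod) := hs3
  apply Pair.Hom.ext
  have h' : f₁.hom ≫ s.hom = f₂.hom ≫ s.hom := congrArg Pair.Hom.hom h
  let U : X.total.Opens := X.mod.support.compl
  have hi : U.ι.ker = ⊥ := ker_ι_eq_bot U (isLocallyBasicNZD_compl_support X.mod X.isEffCartier)
  apply ext_of_dominant_of_separated U.ι hi f₁.hom f₂.hom s.hom h'
  let V' := interior Y'.mod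
  have hU : ∀ g : X ⟶ Y, U ≤ g.hom ⁻¹ᵁ (s.hom ⁻¹ᵁ V') := fun g =>
    interior_le_preimage X.mod Y'.mod (g.hom ≫ s.hom) (g ≫ s).cond
  have hk : f₁.hom.resLE (s.hom ⁻¹ᵁ V') U (hU f₁) = f₂.hom.resLE (s.hom ⁻¹ᵁ V') U (hU f₂) := by
    rw [← cancel_mono (s.hom ∣_ V'), ← cancel_mono V'.ι]
    simp only [Category.assoc, morphismRestrict_ι]
    rw [Scheme.Hom.resLE_comp_ι_assoc, Scheme.Hom.resLE_comp_ι_assoc, h']
  rw [← Scheme.Hom.resLE_comp_ι f₁.hom (hU f₁), ← Scheme.Hom.resLE_comp_ι f₂.hom (hU f₂), hk]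

theorem hasRightCalculusOfFractions :
    (ModPair.Pair.admBlowup.{u}).HasRightCalculusOfFractions := by
  haveI : (ModPair.Pair.admBlowup.{u}).IsMultiplicative :=
    { id_mem := admBlowup_id
      comp_mem := fun f g hf hg => admBlowup_comp f g hf hg }
  exact
    { exists_rightFraction := fun X Y φ => exists_rightFraction φ
      ext := fun X Y Y' f₁ f₂ s hs h =>
        ⟨X, 𝟙 X, admBlowup_id X, by rw [ext_admBlowup f₁ f₂ s hs h]⟩ }

end Pair

end Groth.Agent.Helper28.AdmCalc
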