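import Mathlib
import Groth.Prelude.Def_RegImm
import Groth.Agent.Lib.Helper28.RegSection
import Groth.Agent.Lib.Helper14.FibreSmooth
import Groth.Agent.Lib.Helper14.FieldBC
import Groth.Agent.Lib.Helper9.TopDim
set_option autoImplicit false
universe u

open CategoryTheory CategoryTheory.Limits AlgebraicGeometry TopologicalSpace
open RingTheory.Sequence

/-!
Sections of morphisms smooth of relative dimension `n` are regular immersions of codimension `n`;
the diagonal of a smooth variety of dimension `n`.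
-/

namespace Groth.Agent.Helper28.DiagReg

open Groth.Agent.Helper28.RegSection

section Alg

variable {R B : Type u} [CommRing R] [CommRing B] [Algebra R B] {n : ℕ}

/-- version of `RegSection.exists_gens` remembering the length of the sequence -/
theorem exists_gens_length (g : MvPolynomial (Fin n) R →+* B)
    (hgC : g.comp MvPolynomial.C = algebraMap R B) (hg : g.Etale) (ε : B →ₐ[R] R) :
    ∃ (h : B) (ys : List B), ys.length = n ∧ ε h = 1 ∧ IsWeaklyRegular B ys ∧
      Ideal.ofList ys ≤ RingHom.ker ε ∧ ∀ b ∈ RingHom.ker ε, h * b ∈ Ideal.ofList ys := by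
  classical
  let a : Fin n → R := fun i => ε (g (MvPolynomial.X i))
  let gA : MvPolynomial (Fin n) R →ₐ[R] B :=
    { toRingHom := g
      commutes' := fun r => by
        have := congrArg (fun φ : R →+* B => φ r) hgC
        simpa using this }
  let τ : MvPolynomial (Fin n) R →ₐ[R] MvPolynomial (Fin n) R :=
    MvPolynomial.aeval (fun i => MvPolynomial.X i - MvPolynomial.C (a i))
  let τ' : MvPolynomial (Fin n) R →ₐ[R] MvPolynomial (Fin n) R :=
    MvPolynomial.aeval (fun i => MvPolynomial.X i + MvPolynomial.C (a i))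
  have hττ' : τ.comp τ' = AlgHom.id R _ := by
    apply MvPolynomial.algHom_ext
    intro i
    simp [τ, τ']
  have hτ'τ : τ'.comp τ = AlgHom.id R _ := by
    apply MvPolynomial.algHom_ext
    intro i
    simp [τ, τ']
  have hτbij : Function.Bijective τ := by
    refine ⟨Function.LeftInverse.injective (g := τ') fun p => ?_,
      Function.RightInverse.surjective (g := τ') fun p => ?_⟩
    · exact DFunLike.congr_fun hτ'τ p
    · exact DFunLike.congr_fun hττ' p
  let g' : MvPolynomial (Fin n) R →ₐ[R] B := gA.comp τ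
  have hg' : (g' : MvPolynomial (Fin n) R →+* B).Etale := by
    have h0 : (g' : MvPolynomial (Fin n) R →+* B) =
        g.comp (τ : MvPolynomial (Fin n) R →+* MvPolynomial (Fin n) R) := rfl
    rw [h0]
    exact RingHom.Etale.stableUnderComposition _ _ (RingHom.Etale.of_bijective hτbij) hg
  letI : Algebra (MvPolynomial (Fin n) R) B := (g' : MvPolynomial (Fin n) R →+* B).toAlgebra
  haveI : IsScalarTower R (MvPolynomial (Fin n) R) B :=
    IsScalarTower.of_algebraMap_eq' g'.comp_algebraMap.symm
  obtain ⟨hflat, hunr, hfp⟩ := RingHom.Etale.iff_flat_and_formallyUnramified.1 hg'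
  haveI : Module.Flat (MvPolynomial (Fin n) R) B := hflat
  haveI : Algebra.FormallyUnramified (MvPolynomial (Fin n) R) B := hunr
  haveI : Algebra.FinitePresentation (MvPolynomial (Fin n) R) B := hfp
  haveI : Algebra.FinitePresentation R B :=
    Algebra.FinitePresentation.trans R (MvPolynomial (Fin n) R) B
  have hε : ∀ i, ε (algebraMap (MvPolynomial (Fin n) R) B (MvPolynomial.X i)) = 0 := by
    intro i
    show ε (g' (MvPolynomial.X i)) = 0
    have h1 : g' (MvPolynomial.X i) = g (MvPolynomial.X i) - algebraMap R B (a i) := by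
      show gA (τ (MvPolynomial.X i)) = _
      have h2 : τ (MvPolynomial.X i) = MvPolynomial.X i - MvPolynomial.C (a i) := by
        simp [τ]
      rw [h2, map_sub]
      congr 1
      exact gA.commutes (a i)
    rw [h1, map_sub, AlgHom.commutes]
    exact sub_self _
  obtain ⟨h, h1, h2, h3, h4⟩ := core ε hε
  refine ⟨h, _, ?_, h1, h2, h3, h4⟩
  rw [List.length_map, List.length_ofFn]

end Alg

section Sch

/-- A section (closed immersion) of a morphism smooth of relative dimension `n` is, near each point,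
cut out by a regular sequence of length `n`. -/
theorem section_regular_relDim {X S : Scheme.{u}} (f : X ⟶ S) (n : ℕ)
    [hsm : SmoothOfRelativeDimension n f] (σ : S ⟶ X)
    (hσ : σ ≫ f = 𝟙 S) [IsClosedImmersion σ] (s : S) :
    ∃ (W : X.Opens) (hW : IsAffineOpen W), σ s ∈ W ∧ ∃ rs : List Γ(X, W), rs.length = n ∧
      IsRegular Γ(X, W) rs ∧ σ.ker.ideal ⟨W, hW⟩ = Ideal.ofList rs := by
  have hfσ : ∀ t : S, f (σ t) = t := by
    intro t
    have := congrArg (fun k : S ⟶ S => k t) hσ
    simpa using this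
  obtain ⟨U, hU, V, hV, hxV, e, hstd⟩ :=
    hsm.exists_isStandardSmoothOfRelativeDimension (σ s)
  have hsU : s ∈ U := by
    have h1 : f (σ s) ∈ U := e hxV
    rwa [hfσ s] at h1
  obtain ⟨r, hrle, hsr⟩ := hU.exists_basicOpen_le (V := σ ⁻¹ᵁ V) ⟨s, hxV⟩ hsU
  have hU' : IsAffineOpen (S.basicOpen r) := hU.basicOpen r
  have hV' : IsAffineOpen (X.basicOpen (f.appLE U V e r)) := hV.basicOpen _
  have e' : X.basicOpen (f.appLE U V e r) ≤ f ⁻¹ᵁ (S.basicOpen r) := by
    rw [Scheme.basicOpen_appLE]
    exact inf_le_right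
  have hstd' : (f.appLE (S.basicOpen r) (X.basicOpen (f.appLE U V e r))
      e').hom.IsStandardSmoothOfRelativeDimension n := by
    letI := hU.isLocalization_basicOpen r
    letI := hV.isLocalization_basicOpen (f.appLE U V e r)
    rw [hU.appLE_eq_away_map f hV e r, CommRingCat.hom_ofHom]
    exact (RingHom.isStandardSmoothOfRelativeDimension_localizationPreserves n).away _ r _ _ hstd
  have hle : S.basicOpen r ≤ σ ⁻¹ᵁ (X.basicOpen (f.appLE U V e r)) := by
    intro t ht
    show σ t ∈ X.basicOpen (f.appLE U V e r)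
    rw [Scheme.basicOpen_appLE]
    refine ⟨hrle ht, ?_⟩
    show f (σ t) ∈ S.basicOpen r
    rw [hfσ t]
    exact ht
  have hpre : σ ⁻¹ᵁ (X.basicOpen (f.appLE U V e r)) = S.basicOpen r := by
    apply le_antisymm _ hle
    intro t ht
    have h1 : f (σ t) ∈ S.basicOpen r := e' ht
    rwa [hfσ t] at h1
  have hεφ : f.appLE (S.basicOpen r) (X.basicOpen (f.appLE U V e r)) e' ≫
      σ.appLE (X.basicOpen (f.appLE U V e r)) (S.basicOpen r) hle = 𝟙 _ := by
    rw [Scheme.Hom.appLE_comp_appLE]
    exact appLE_of_eq_id _ hσ _ _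
  letI : Algebra Γ(S, S.basicOpen r) Γ(X, X.basicOpen (f.appLE U V e r)) :=
    (f.appLE (S.basicOpen r) (X.basicOpen (f.appLE U V e r)) e').hom.toAlgebra
  let ε : Γ(X, X.basicOpen (f.appLE U V e r)) →ₐ[Γ(S, S.basicOpen r)] Γ(S, S.basicOpen r) :=
    { toRingHom := (σ.appLE (X.basicOpen (f.appLE U V e r)) (S.basicOpen r) hle).hom
      commutes' := fun a => by
        have := congrArg (fun k => k.hom a) hεφ
        exact this }
  obtain ⟨g, hgC, hgE⟩ := hstd'.exists_etale_mvPolynomial
  obtain ⟨h, ys, hlen, h1, hreg, hle', hmul⟩ := exists_gens_length g hgC hgE ε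
  have hW : IsAffineOpen (X.basicOpen h) := hV'.basicOpen h
  have hsW : σ s ∈ X.basicOpen h := by
    have h2 := Scheme.basicOpen_appLE σ (S.basicOpen r) (X.basicOpen (f.appLE U V e r)) hle h
    have h3 : (σ.appLE (X.basicOpen (f.appLE U V e r)) (S.basicOpen r) hle) h = 1 := h1
    rw [h3, Scheme.basicOpen_one] at h2
    have h4 : s ∈ S.basicOpen r ⊓ σ ⁻¹ᵁ (X.basicOpen h) := h2 ▸ hsr
    exact h4.2
  haveI : IsLocalization.Away h Γ(X, X.basicOpen h) := hV'.isLocalization_basicOpen h
  have hkerV : σ.ker.ideal ⟨X.basicOpen (f.appLE U V e r), hV'⟩ = RingHom.ker ε := by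
    rw [Scheme.Hom.ker_apply]
    exact (ker_appLE_eq σ _ _ hpre hle).symm
  have hk : σ.ker.ideal ⟨X.basicOpen h, hW⟩ =
      Ideal.ofList (ys.map (algebraMap Γ(X, X.basicOpen (f.appLE U V e r)) Γ(X, X.basicOpen h))) := by
    rw [← map_ker_eq h (RingHom.ker ε) ys hle' hmul, ← hkerV]
    exact (σ.ker.map_ideal_basicOpen ⟨X.basicOpen (f.appLE U V e r), hV'⟩ h).symm
  refine ⟨X.basicOpen h, hW, hsW, _, ?_, ?_, hk⟩
  · rw [List.length_map, hlen]
  · exact isRegular_of_ker σ _ hW s hsW _
      (hreg.of_isLocalization Γ(X, X.basicOpen h) (Submonoid.powers h)) hk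

/-- A smooth irreducible scheme of dimension `n` over a field is smooth of relative dimension `n`. -/
theorem smoothOfRelativeDimension_of_dim {K : Type u} [Field K] {X : Scheme.{u}}
    (f : X ⟶ Spec (CommRingCat.of K)) [Smooth f] [IrreducibleSpace X] (n : ℕ)
    (hn : topologicalKrullDim X = n) : SmoothOfRelativeDimension n f := by
  haveI : Subsingleton ↥(Spec (CommRingCat.of K)) :=
    inferInstanceAs (Subsingleton (PrimeSpectrum K))
  have hchart : ∀ x : X, ∃ (m : ℕ) (U : (Spec (CommRingCat.of K)).Opens) (_ : IsAffineOpen U)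
      (V : X.Opens) (_ : IsAffineOpen V) (_ : x ∈ V) (e : V ≤ f ⁻¹ᵁ U),
      (f.appLE U V e).hom.IsStandardSmoothOfRelativeDimension m ∧
        ∀ x' ∈ V, FlatMor.localDim X x' = m := by
    intro x
    obtain ⟨U, hU, V, hV, hxV, e, hstd⟩ := Smooth.exists_isStandardSmooth f x
    obtain ⟨m, hm⟩ : ∃ m, (f.appLE U V e).hom.IsStandardSmoothOfRelativeDimension m := by
      obtain ⟨_, _, _, _, ⟨P⟩⟩ := hstd
      letI := (f.appLE U V e).hom.toAlgebra
      exact ⟨_, ⟨_, _, _, ‹_›, P, rfl⟩⟩
    refine ⟨m, U, hU, V, hV, hxV, e, hm, fun x' hx' => ?_⟩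
    rw [← Groth.Agent.Helper14.FieldBC.fibreDimAt_eq_localDim f x']
    exact Groth.Agent.Helper14.FibreSmooth.fibreDimAt_of_isStandardSmoothOfRelativeDimension
      f hU hV e m hm x' hx'
  have hgen : ∀ V : X.Opens, (V : Set X).Nonempty → genericPoint X ∈ V := by
    intro V hV
    refine ((genericPoint_spec X).mem_open_set_iff V.isOpen).mpr ?_
    simpa using hV
  obtain ⟨m₀, -, -, V₀, -, hηV₀, -, -, hm₀⟩ := hchart (genericPoint X)
  have hη : FlatMor.localDim X (genericPoint X) = m₀ := hm₀ _ hηV₀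
  have hall : ∀ x : X, FlatMor.localDim X x = m₀ := by
    intro x
    obtain ⟨m, -, -, V, -, hxV, -, -, hm⟩ := hchart x
    have h1 : FlatMor.localDim X (genericPoint X) = m := hm _ (hgen V ⟨x, hxV⟩)
    rw [hη] at h1
    rw [hm x hxV, h1]
  have hdim : topologicalKrullDim X = m₀ := by
    rw [Groth.Agent.Helper9.TopDim.dim_eq_iSup_localDim]
    simp only [hall]
    haveI : Nonempty X := ⟨genericPoint X⟩
    exact ciSup_const
  have hmn : m₀ = n := by
    rw [hn] at hdim
    exact_mod_cast hdim.symm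
  refine ⟨fun x => ?_⟩
  obtain ⟨m, U, hU, V, hV, hxV, e, hm, hloc⟩ := hchart x
  have h1 : (m : WithBot ℕ∞) = m₀ := by rw [← hloc x hxV, hall x]
  have h2 : m = n := by
    rw [← hmn]
    exact_mod_cast h1
  exact ⟨U, hU, V, hV, hxV, e, h2 ▸ hm⟩

/-- The diagonal of a smooth separated irreducible scheme of dimension `n` over a field is a
regular immersion of codimension `n`. -/
theorem diagonal_regular {K : Type u} [Field K] {X : Scheme.{u}}
    (f : X ⟶ Spec (CommRingCat.of K)) [Smooth f] [IsSeparated f] [IrreducibleSpace X] (n : ℕ)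
    (hn : topologicalKrullDim X = n) :
    RegImm.IsRegularImmersionOfCodim RegImm.Kind.regular n (pullback.diagonal f) := by
  haveI hsm : SmoothOfRelativeDimension n f := smoothOfRelativeDimension_of_dim f n hn
  haveI := smoothOfRelativeDimension_isStableUnderBaseChange n
  haveI : SmoothOfRelativeDimension n (pullback.fst f f) :=
    MorphismProperty.pullback_fst (P := @SmoothOfRelativeDimension n) f f hsm
  haveI hcl : IsClosedImmersion (pullback.diagonal f) := inferInstance
  refine ⟨inferInstance, fun z => ?_⟩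
  obtain ⟨W, hW, hzW, rs, hlen, hrs, hker⟩ :=
    section_regular_relDim (pullback.fst f f) n (pullback.diagonal f) (pullback.diagonal_fst f) z
  haveI : IsClosedImmersion (pullback.diagonal f ∣_ W) := IsZariskiLocalAtTarget.restrict hcl W
  refine ⟨⟨W, hW⟩, hzW, inferInstance, rs, hlen, hrs, ?_⟩
  rw [← Scheme.Hom.ker_apply]
  exact hker

end Sch

end Groth.Agent.Helper28.DiagReg
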