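import Mathlib

/-!
# Rational points of schemes locally of finite type over an algebraically closed field
-/

set_option autoImplicit false

namespace Groth.Agent.Helper28.KPoint

open CategoryTheory CategoryTheory.Limits AlgebraicGeometry

universe u
variable {K : Type u} [Field K] [IsAlgClosed K]

/-- A nonempty closed subset of a scheme locally of finite type over an algebraically closed field
contains a rational point. -/
lemma exists_point_mem {X : Scheme.{u}} (f : X ⟶ Spec (.of K)) [LocallyOfFiniteType f]
    (Z : Set X) (hZ : IsClosed Z) (hne : Z.Nonempty) :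
    ∃ p : Spec (.of K) ⟶ X, p ≫ f = 𝟙 _ ∧ ∀ a, p a ∈ Z := by
  have : JacobsonSpace ↥X := LocallyOfFiniteType.jacobsonSpace f
  obtain ⟨z, hzZ, hz⟩ := nonempty_inter_closedPoints hne hZ.isLocallyClosed
  refine ⟨pointOfClosedPoint f z hz, pointOfClosedPoint_comp f z hz, fun a => ?_⟩
  rw [pointOfClosedPoint_apply]
  exact hzZ

/-- A nonempty scheme locally of finite type over an algebraically closed field has a rational
point. -/
lemma exists_point {X : Scheme.{u}} (f : X ⟶ Spec (.of K)) [LocallyOfFiniteType f] [Nonempty X] :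
    ∃ p : Spec (.of K) ⟶ X, p ≫ f = 𝟙 _ := by
  obtain ⟨p, hp, -⟩ := exists_point_mem f Set.univ isClosed_univ Set.univ_nonempty
  exact ⟨p, hp⟩

/-- A rational point of `X` in the image of a morphism `o : G ⟶ X` of schemes locally of finite
type lifts to a rational point of `G`. -/
lemma exists_point_lift {G X : Scheme.{u}} (o : G ⟶ X) (fX : X ⟶ Spec (.of K))
    [LocallyOfFiniteType (o ≫ fX)] (z : Spec (.of K) ⟶ X) (hz : z ≫ fX = 𝟙 _)
    (hmem : ∀ a, z a ∈ Set.range o) : ∃ g : Spec (.of K) ⟶ G, g ≫ o = z := by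
  haveI : LocallyOfFiniteType o := locallyOfFiniteType_of_comp o fX
  obtain ⟨g₀, hg₀⟩ := hmem (IsLocalRing.closedPoint K)
  obtain ⟨w, -, -⟩ := Scheme.Pullback.exists_preimage_pullback (f := o) (g := z) g₀
    (IsLocalRing.closedPoint K) hg₀
  haveI : Nonempty ↥(pullback o z) := ⟨w⟩
  obtain ⟨t, ht⟩ := exists_point (pullback.snd o z)
  refine ⟨t ≫ pullback.fst o z, ?_⟩
  rw [Category.assoc, pullback.condition, reassoc_of% ht]

end Groth.Agent.Helper28.KPoint
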