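import Mathlib
import Groth.Prelude.Def_Rees
import Groth.Prelude.Def_ega3

universe u
open Polynomial HomogeneousLocalization

namespace Groth.Agent.Helper28.ReesChart

variable {A : Type u} [CommRing A] (I : Ideal A)

/-- the grading -/
noncomputable abbrev gr : ℕ → Submodule A (reesAlgebra I) := Rees.deg (reesAlgebra I)

/-- the element `x tⁿ` of the Rees algebra -/
noncomputable def mon (n : ℕ) (x : A) (hx : x ∈ I ^ n) : reesAlgebra I :=
  ⟨monomial n x, reesAlgebra.monomial_mem.mpr hx⟩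

lemma mon_mem (n : ℕ) (x : A) (hx : x ∈ I ^ n) : mon I n x hx ∈ gr I n := by
  intro m hm
  change (monomial n x).coeff m = 0
  rw [coeff_monomial]
  exact if_neg fun h => hm h.symm

lemma coe_mon (n : ℕ) (x : A) (hx : x ∈ I ^ n) : ((mon I n x hx : reesAlgebra I) : A[X]) = monomial n x := rfl

/-- every element of degree n is a monomial -/
lemma eq_mon_of_mem (n : ℕ) (y : reesAlgebra I) (hy : y ∈ gr I n) :
    ∃ (x : A) (hx : x ∈ I ^ n), y = mon I n x hx := by
  refine ⟨(y : A[X]).coeff n, y.2 n, Subtype.ext (Polynomial.ext fun m => ?_)⟩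
  rw [coe_mon, coeff_monomial]
  split_ifs with h
  · cases h; rfl
  · exact hy m (Ne.symm h)

/-- degree-one element `a t` -/
noncomputable def tm (a : A) (ha : a ∈ I) : reesAlgebra I := mon I 1 a (by simpa using ha)

lemma tm_mem (a : A) (ha : a ∈ I) : tm I a ha ∈ gr I 1 := mon_mem I 1 a _

lemma coe_tm (a : A) (ha : a ∈ I) : ((tm I a ha : reesAlgebra I) : A[X]) = monomial 1 a := rfl

/-- the structure map `A → R(I)_{(at)}` -/
noncomputable def ψ (a : A) (ha : a ∈ I) : A →+* Away (gr I) (tm I a ha) :=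
  (fromZeroRingHom (gr I) (Submonoid.powers (tm I a ha))).comp (algebraMap A (gr I 0))

lemma val_ψ (a : A) (ha : a ∈ I) (x : A) :
    (ψ I a ha x).val = Localization.mk (algebraMap A (reesAlgebra I) x) 1 := rfl


/-- (Ch1) `x/1 = (xt/at) · (a/1)` -/
lemma ψ_eq_mul (a : A) (ha : a ∈ I) (x : A) (hx : x ∈ I) :
    ψ I a ha x = Away.mk (gr I) (tm_mem I a ha) 1 (tm I x hx) (by simpa using tm_mem I x hx) * ψ I a ha a := by
  apply HomogeneousLocalization.val_injective
  rw [HomogeneousLocalization.val_mul, val_ψ, val_ψ, Away.val_mk, Localization.mk_mul,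
    Localization.mk_eq_mk_iff, Localization.r_iff_exists]
  refine ⟨1, Subtype.ext ?_⟩
  simp only [OneMemClass.coe_one, one_mul, mul_one, pow_one, Subalgebra.coe_mul, coe_tm,
    Subalgebra.coe_algebraMap, Polynomial.algebraMap_eq, Polynomial.C_mul_monomial,
    Polynomial.monomial_mul_C]
  rw [mul_comm]

lemma map_ψ_eq (a : A) (ha : a ∈ I) : I.map (ψ I a ha) = Ideal.span {ψ I a ha a} := by
  apply le_antisymm
  · rw [Ideal.map_le_iff_le_comap]
    intro x hx
    rw [Ideal.mem_comap, ψ_eq_mul I a ha x hx]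
    exact Ideal.mul_mem_left _ _ (Ideal.mem_span_singleton_self _)
  · rw [Ideal.span_singleton_le_iff_mem]
    exact Ideal.mem_map_of_mem _ ha

/-- (Ch2) `a/1` is a nonzerodivisor of `R(I)_{(at)}` -/
lemma ψ_mem_nonZeroDivisors (a : A) (ha : a ∈ I) :
    ψ I a ha a ∈ nonZeroDivisors (Away (gr I) (tm I a ha)) := by
  refine (mem_nonZeroDivisors_iff_right (M₀ := Away (gr I) (tm I a ha))).2 ?_
  intro z hz
  obtain ⟨n, y, hy, rfl⟩ := Away.mk_surjective (gr I) (tm_mem I a ha) z
  apply HomogeneousLocalization.val_injective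
  have hz' := congrArg HomogeneousLocalization.val hz
  rw [HomogeneousLocalization.val_mul, val_ψ, Away.val_mk, Localization.mk_mul,
    HomogeneousLocalization.val_zero, Localization.mk_eq_mk', IsLocalization.mk'_eq_zero_iff] at hz'
  rw [Away.val_mk, HomogeneousLocalization.val_zero, Localization.mk_eq_mk',
    IsLocalization.mk'_eq_zero_iff]
  obtain ⟨⟨_, m, rfl⟩, hm⟩ := hz'
  refine ⟨⟨_, m + 1, rfl⟩, Subtype.ext ?_⟩
  have hm' := congrArg (Subtype.val) hm
  simp only [Subalgebra.coe_mul, Subalgebra.coe_pow, coe_tm, Subalgebra.coe_algebraMap,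
    Polynomial.algebraMap_eq, Subalgebra.coe_zero] at hm' ⊢
  have : monomial 1 a ^ (m + 1) * (y : A[X]) = X * (monomial 1 a ^ m * ((y : A[X]) * C a)) := by
    rw [pow_succ, ← Polynomial.C_mul_X_pow_eq_monomial, pow_one]
    ring
  rw [this, hm', mul_zero]

/-- (Ch3) every element of `R(I)_{(at)}` becomes an element of `A` after multiplication by a power
of `a/1` -/
lemma exists_pow_mul_eq (a : A) (ha : a ∈ I) (z : Away (gr I) (tm I a ha)) :
    ∃ (n : ℕ) (x : A), x ∈ I ^ n ∧ ψ I a ha a ^ n * z = ψ I a ha x := by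
  obtain ⟨n, y, hy, rfl⟩ := Away.mk_surjective (gr I) (tm_mem I a ha) z
  obtain ⟨x, hx, rfl⟩ := eq_mon_of_mem I n y (by simpa using hy)
  refine ⟨n, x, hx, ?_⟩
  apply HomogeneousLocalization.val_injective
  rw [HomogeneousLocalization.val_mul, HomogeneousLocalization.val_pow, val_ψ, val_ψ, Away.val_mk,
    Localization.mk_pow, Localization.mk_mul, Localization.mk_eq_mk_iff, Localization.r_iff_exists]
  refine ⟨1, Subtype.ext ?_⟩
  simp only [OneMemClass.coe_one, one_mul, mul_one, one_pow, Subalgebra.coe_mul, Subalgebra.coe_pow,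
    coe_tm, coe_mon, Subalgebra.coe_algebraMap, Polynomial.algebraMap_eq, Polynomial.monomial_pow,
    ← Polynomial.C_pow, Polynomial.C_mul_monomial, Polynomial.monomial_mul_C]


/-- (Ch4) `a/1 = ((at)/(a't)) · (a'/1)` in `R(I)_{(a't)}` -/
lemma ψ_eq_isLocalizationElem_mul (a' : A) (ha' : a' ∈ I) (a : A) (ha : a ∈ I) :
    ψ I a' ha' a = Away.isLocalizationElem (tm_mem I a' ha') (tm_mem I a ha) * ψ I a' ha' a' := by
  apply HomogeneousLocalization.val_injective
  rw [HomogeneousLocalization.val_mul, val_ψ, val_ψ, Away.val_mk, Localization.mk_mul,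
    Localization.mk_eq_mk_iff, Localization.r_iff_exists]
  refine ⟨1, Subtype.ext ?_⟩
  simp only [OneMemClass.coe_one, one_mul, mul_one, pow_one, Subalgebra.coe_mul, coe_tm,
    Subalgebra.coe_algebraMap, Polynomial.algebraMap_eq, Polynomial.C_mul_monomial,
    Polynomial.monomial_mul_C]
  rw [mul_comm]

/-- the degree one elements `a t` generate the irrelevant ideal -/
lemma irrelevant_le_span :
    (HomogeneousIdeal.irrelevant (gr I)).toIdeal ≤
      Ideal.span (Set.range fun a : I => tm I a.1 a.2) := by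
  classical
  intro z hz
  rw [← DirectSum.sum_support_decompose (gr I) z]
  refine Ideal.sum_mem _ fun n _ => ?_
  by_cases hn : n = 0
  · subst hn
    have : (DirectSum.decompose (gr I) z 0 : reesAlgebra I) = 0 := by
      have := (HomogeneousIdeal.mem_irrelevant_iff (gr I) z).mp hz
      simpa [GradedRing.proj_apply] using this
    rw [this]
    exact Ideal.zero_mem _
  · obtain ⟨x, hx, hxe⟩ := eq_mon_of_mem I n _ (DirectSum.decompose (gr I) z n).2
    rw [hxe]
    obtain ⟨k, rfl⟩ : ∃ k, n = k + 1 := ⟨n - 1, by omega⟩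
    clear hxe hn
    have key : ∀ (x : A) (hx : x ∈ I * I ^ k),
        mon I (k + 1) x (by rw [pow_succ']; exact hx) ∈
          Ideal.span (Set.range fun a : I => tm I a.1 a.2) := by
      intro x hx
      refine Submodule.mul_induction_on' (C := fun x hx => mon I (k + 1) x (by rw [pow_succ']; exact hx) ∈
          Ideal.span (Set.range fun a : I => tm I a.1 a.2)) ?_ ?_ hx
      · intro c hc d hd
        have : mon I (k + 1) (c * d) (by rw [pow_succ']; exact Ideal.mul_mem_mul hc hd) =
            mon I k d hd * tm I c hc := by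
          apply Subtype.ext
          simp only [coe_mon, Subalgebra.coe_mul, coe_tm, Polynomial.monomial_mul_monomial]
          rw [mul_comm]
        rw [this]
        exact Ideal.mul_mem_left _ _ (Ideal.subset_span ⟨⟨c, hc⟩, rfl⟩)
      · intro c hc d hd h1 h2
        have : mon I (k + 1) (c + d) (by rw [pow_succ']; exact add_mem hc hd) =
            mon I (k + 1) c (by rw [pow_succ']; exact hc) + mon I (k + 1) d (by rw [pow_succ']; exact hd) := by
          apply Subtype.ext
          simp only [coe_mon, Subalgebra.coe_add, map_add]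
        rw [this]
        exact add_mem h1 h2
    exact key x (by rw [← pow_succ']; exact hx)


section rho

variable {I} {B : Type*} [CommRing B] (φ : A →+* B) (s : B)

/-- evaluation `A[X] → B_s`, `X ↦ 1/s` -/
noncomputable def ev : A[X] →+* Localization.Away s :=
  Polynomial.eval₂RingHom ((algebraMap B (Localization.Away s)).comp φ) (IsLocalization.Away.invSelf s)

lemma ev_C (r : A) : ev φ s (C r) = algebraMap B (Localization.Away s) (φ r) := by
  simp [ev]

lemma ev_monomial_one (x : A) (b : B) (hb : φ x = s * b) :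
    ev φ s (monomial 1 x) = algebraMap B (Localization.Away s) b := by
  have h1 : ev φ s (monomial 1 x) = algebraMap B (Localization.Away s) (φ x) * IsLocalization.Away.invSelf s := by
    simp [ev, Polynomial.eval₂_monomial]
  rw [h1, hb, map_mul, mul_comm (algebraMap B _ s), mul_assoc, IsLocalization.Away.mul_invSelf, mul_one]

variable (hI : I.map φ ≤ Ideal.span {s})

include hI in
lemma ev_mem_range (p : A[X]) (hp : p ∈ reesAlgebra I) :
    ev φ s p ∈ (algebraMap B (Localization.Away s)).range := by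
  rw [← adjoin_monomial_eq_reesAlgebra] at hp
  induction hp using Algebra.adjoin_induction with
  | mem x hx =>
    obtain ⟨x, hx, rfl⟩ := hx
    have : φ x ∈ Ideal.span {s} := hI (Ideal.mem_map_of_mem _ hx)
    obtain ⟨b, hb⟩ := Ideal.mem_span_singleton'.mp this
    exact ⟨b, (ev_monomial_one φ s x b (by rw [← hb, mul_comm])).symm⟩
  | algebraMap r => exact ⟨φ r, (ev_C φ s r).symm⟩
  | add x y _ _ hx hy => rw [map_add]; exact add_mem hx hy
  | mul x y _ _ hx hy => rw [map_mul]; exact mul_mem hx hy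

variable (hs : s ∈ nonZeroDivisors B)

include hs in
lemma algebraMap_away_injective : Function.Injective (algebraMap B (Localization.Away s)) :=
  IsLocalization.injective _ (Submonoid.powers_le.mpr hs)

/-- the ring map `R(I) → B`, `x tⁿ ↦ φ(x)/sⁿ` -/
noncomputable def ρ : reesAlgebra I →+* B :=
  (RingEquiv.ofBijective (algebraMap B (Localization.Away s)).rangeRestrict
      ⟨fun x y h => algebraMap_away_injective s hs (congrArg Subtype.val h),
        (algebraMap B (Localization.Away s)).rangeRestrict_surjective⟩).symm.toRingHom.comp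
    (((ev φ s).comp (reesAlgebra I).val.toRingHom).codRestrict (algebraMap B (Localization.Away s)).range
      (fun p => ev_mem_range φ s hI p.1 p.2))

lemma algebraMap_ρ (p : reesAlgebra I) :
    algebraMap B (Localization.Away s) (ρ φ s hI hs p) = ev φ s (p : A[X]) := by
  have := (RingEquiv.ofBijective (algebraMap B (Localization.Away s)).rangeRestrict
      ⟨fun x y h => algebraMap_away_injective s hs (congrArg Subtype.val h),
        (algebraMap B (Localization.Away s)).rangeRestrict_surjective⟩).apply_symm_apply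
    ((((ev φ s).comp (reesAlgebra I).val.toRingHom).codRestrict (algebraMap B (Localization.Away s)).range
      (fun p => ev_mem_range φ s hI p.1 p.2)) p)
  exact congrArg Subtype.val this

lemma ρ_algebraMap (r : A) : ρ φ s hI hs (algebraMap A (reesAlgebra I) r) = φ r := by
  apply algebraMap_away_injective s hs
  rw [algebraMap_ρ]
  exact ev_C φ s r

lemma mul_ρ_tm (x : A) (hx : x ∈ I) : s * ρ φ s hI hs (tm I x hx) = φ x := by
  apply algebraMap_away_injective s hs
  have : φ x ∈ Ideal.span {s} := hI (Ideal.mem_map_of_mem _ hx)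
  obtain ⟨b, hb⟩ := Ideal.mem_span_singleton'.mp this
  rw [map_mul, algebraMap_ρ, coe_tm, ev_monomial_one φ s x b (by rw [← hb, mul_comm]), ← map_mul, ← hb,
    mul_comm]


lemma tm_mem_irrelevant (x : A) (hx : x ∈ I) : tm I x hx ∈ (HomogeneousIdeal.irrelevant (gr I)).toIdeal := by
  classical
  change tm I x hx ∈ HomogeneousIdeal.irrelevant (gr I)
  rw [HomogeneousIdeal.mem_irrelevant_iff, GradedRing.proj_apply,
    DirectSum.decompose_of_mem_ne (gr I) (tm_mem I x hx) one_ne_zero]

include hs in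
lemma map_ρ_irrelevant (hI' : s ∈ I.map φ) :
    (HomogeneousIdeal.irrelevant (gr I)).toIdeal.map (ρ φ s hI hs) = ⊤ := by
  set J := (HomogeneousIdeal.irrelevant (gr I)).toIdeal.map (ρ φ s hI hs) with hJ
  have key : ∀ w ∈ I.map φ, ∃ j ∈ J, w = s * j := by
    intro w hw
    refine Submodule.span_induction ?_ ?_ ?_ ?_ hw
    · rintro _ ⟨x, hx, rfl⟩
      exact ⟨ρ φ s hI hs (tm I x hx), Ideal.mem_map_of_mem _ (tm_mem_irrelevant x hx),
        (mul_ρ_tm φ s hI hs x hx).symm⟩
    · exact ⟨0, zero_mem _, by simp⟩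
    · rintro x y _ _ ⟨j₁, h₁, rfl⟩ ⟨j₂, h₂, rfl⟩
      exact ⟨j₁ + j₂, add_mem h₁ h₂, by ring⟩
    · rintro c x _ ⟨j, h, rfl⟩
      exact ⟨c * j, Ideal.mul_mem_left _ _ h, by rw [smul_eq_mul]; ring⟩
  obtain ⟨j, hj, hsj⟩ := key s hI'
  have : j = 1 := by
    have h0 : s * (j - 1) = 0 := by rw [mul_sub, ← hsj, mul_one, sub_self]
    have := (mem_nonZeroDivisors_iff.mp hs).1 _ h0
    exact sub_eq_zero.mp this
  rw [Ideal.eq_top_iff_one, ← this]
  exact hj

end rho


section uniq

variable {I} {B : Type*} [CommRing B] (φ : A →+* B)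

/-- (Al1) a lift on the chart `a'` sends `(at)/(a't)` to a unit if `I B = (φ a)` with `φ a` nzd -/
lemma isUnit_of_lift (a' : A) (ha' : a' ∈ I) (a : A) (ha : a ∈ I)
    (θ : Away (gr I) (tm I a' ha') →+* B) (hθ : ∀ x, θ (ψ I a' ha' x) = φ x)
    (hnzd : φ a ∈ nonZeroDivisors B) (hI : I.map φ ≤ Ideal.span {φ a}) :
    IsUnit (θ (Away.isLocalizationElem (tm_mem I a' ha') (tm_mem I a ha))) := by
  have h1 : φ a' ∈ Ideal.span {φ a} := hI (Ideal.mem_map_of_mem _ ha')
  obtain ⟨c, hc⟩ := Ideal.mem_span_singleton'.mp h1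
  have h2 : φ a = θ (Away.isLocalizationElem (tm_mem I a' ha') (tm_mem I a ha)) * φ a' := by
    rw [← hθ a, ψ_eq_isLocalizationElem_mul I a' ha' a ha, map_mul, hθ]
  have h3 : (θ (Away.isLocalizationElem (tm_mem I a' ha') (tm_mem I a ha)) * c - 1) * φ a = 0 := by
    rw [sub_mul, one_mul, mul_assoc, hc, ← h2, sub_self]
  have h4 := (mem_nonZeroDivisors_iff.mp hnzd).2 _ h3
  exact IsUnit.of_mul_eq_one _ (sub_eq_zero.mp h4)

/-- if a lift exists on the chart `a` then `φ a` is a nonzerodivisor generating `I B` -/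
lemma nzd_of_lift (a : A) (ha : a ∈ I)
    (θ : Away (gr I) (tm I a ha) →+* B) (hθ : ∀ x, θ (ψ I a ha x) = φ x)
    (s : B) (hs : s ∈ nonZeroDivisors B) (hI : I.map φ = Ideal.span {s}) :
    φ a ∈ nonZeroDivisors B ∧ I.map φ = Ideal.span {φ a} := by
  have h1 : I.map φ ≤ Ideal.span {φ a} := by
    rw [Ideal.map_le_iff_le_comap]
    intro x hx
    rw [Ideal.mem_comap, ← hθ x, ψ_eq_mul I a ha x hx, map_mul, hθ]
    exact Ideal.mul_mem_left _ _ (Ideal.mem_span_singleton_self _)
  have h2 : s ∈ Ideal.span {φ a} := h1 (hI ▸ Ideal.mem_span_singleton_self s)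
  obtain ⟨c, hc⟩ := Ideal.mem_span_singleton'.mp h2
  have h3 : φ a ∈ Ideal.span {s} := hI ▸ Ideal.mem_map_of_mem _ ha
  obtain ⟨d, hd⟩ := Ideal.mem_span_singleton'.mp h3
  have hcd : c * d = 1 := by
    have : (c * d - 1) * s = 0 := by rw [sub_mul, one_mul, mul_assoc, hd, hc, sub_self]
    exact sub_eq_zero.mp ((mem_nonZeroDivisors_iff.mp hs).2 _ this)
  refine ⟨?_, le_antisymm h1 ?_⟩
  · refine mem_nonZeroDivisors_iff_right.2 fun w hw => ?_
    have h5 : (w * d) * s = 0 := by rw [mul_assoc, hd, hw]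
    have h6 := (mem_nonZeroDivisors_iff.mp hs).2 _ h5
    calc w = w * d * c := by rw [mul_assoc, mul_comm d c, hcd, mul_one]
      _ = 0 := by rw [h6, zero_mul]
  · rw [Ideal.span_singleton_le_iff_mem]
    exact Ideal.mem_map_of_mem _ ha

/-- (Al2) lifts on a chart are unique -/
lemma lift_unique (a : A) (ha : a ∈ I)
    (θ₁ θ₂ : Away (gr I) (tm I a ha) →+* B) (hθ₁ : ∀ x, θ₁ (ψ I a ha x) = φ x)
    (hθ₂ : ∀ x, θ₂ (ψ I a ha x) = φ x)
    (s : B) (hs : s ∈ nonZeroDivisors B) (hI : I.map φ = Ideal.span {s}) : θ₁ = θ₂ := by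
  obtain ⟨hnzd, -⟩ := nzd_of_lift φ a ha θ₁ hθ₁ s hs hI
  ext z
  obtain ⟨n, x, -, hx⟩ := exists_pow_mul_eq I a ha z
  have e₁ : φ a ^ n * θ₁ z = φ x := by rw [← hθ₁ a, ← map_pow, ← map_mul, hx, hθ₁]
  have e₂ : φ a ^ n * θ₂ z = φ x := by rw [← hθ₂ a, ← map_pow, ← map_mul, hx, hθ₂]
  have h0 : φ a ^ n * (θ₁ z - θ₂ z) = 0 := by rw [mul_sub, e₁, e₂, sub_self]
  exact sub_eq_zero.mp ((mem_nonZeroDivisors_iff.mp (pow_mem hnzd n)).1 _ h0)

end uniq

end Groth.Agent.Helper28.ReesChart
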