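import Mathlib
import Groth.Prelude.Def_Rees
import Groth.Prelude.Def_ega3
import Groth.Prelude.Def_BlowUp2
import Groth.Agent.Lib.Helper28.ReesChart
import Groth.Agent.Lib.Helper28.EffCartierOld
import Groth.Agent.Lib.Helper28.IdealComapOld
import Groth.Agent.Lib.Helper28.EffCartierDense

universe u
open AlgebraicGeometry CategoryTheory HomogeneousLocalization Groth.Agent.Helper28.ReesChart

namespace Groth.Agent.Helper28.BlowUpProj

variable {A : Type u} [CommRing A] (I : Ideal A)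

/-- the structure morphism `Proj R(I) ⟶ Spec A` -/
noncomputable def b : Proj (gr I) ⟶ Spec (CommRingCat.of A) :=
  Proj (gr I) ↘ Spec (CommRingCat.of A)

lemma b_eq : b I = Proj.toSpecZero (gr I) ≫ Spec.map (CommRingCat.ofHom (algebraMap A (gr I 0))) := rfl

/-- the chart `D₊(at)` -/
noncomputable def chart (a : A) (ha : a ∈ I) :
    Spec (CommRingCat.of (Away (gr I) (tm I a ha))) ⟶ Proj (gr I) :=
  Proj.awayι (gr I) (tm I a ha) (tm_mem I a ha) one_pos

instance (a : A) (ha : a ∈ I) : IsOpenImmersion (chart I a ha) := by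
  unfold chart; infer_instance

lemma chart_b (a : A) (ha : a ∈ I) : chart I a ha ≫ b I = Spec.map (CommRingCat.ofHom (ψ I a ha)) := by
  rw [b_eq, chart, Proj.awayι_toSpecZero_assoc, ← Spec.map_comp]
  rfl

lemma opensRange_chart (a : A) (ha : a ∈ I) :
    (chart I a ha).opensRange = Proj.basicOpen (gr I) (tm I a ha) :=
  Proj.opensRange_awayι _ _ _ _

lemma exists_chart (p : Proj (gr I)) : ∃ (a : A) (ha : a ∈ I), p ∈ (chart I a ha).opensRange := by
  have h := Proj.iSup_basicOpen_eq_top (gr I) (fun a : I => tm I a.1 a.2) (irrelevant_le_span I)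
  have hp : p ∈ (⊤ : (Proj (gr I)).Opens) := trivial
  rw [← h, TopologicalSpace.Opens.mem_iSup] at hp
  obtain ⟨a, ha⟩ := hp
  exact ⟨a.1, a.2, by rw [opensRange_chart]; exact ha⟩


/-- being effective Cartier can be checked on a cover by open immersions -/
lemma isEffCartierIdeal_of_local' {X : Scheme.{u}} (𝓙 : X.IdealSheafData)
    (h : ∀ x : X, ∃ (V : Scheme.{u}) (j : V ⟶ X) (_ : IsOpenImmersion j), x ∈ Set.range j ∧
      BlowUp.IsEffCartierIdeal (𝓙.comap j)) :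
    BlowUp.IsEffCartierIdeal 𝓙 := by
  intro x
  obtain ⟨V, j, hj, ⟨v, rfl⟩, hV⟩ := h x
  obtain ⟨U', hxU', f, hf, hIf⟩ := hV v
  rw [Scheme.IdealSheafData.ideal_comap_of_isOpenImmersion] at hIf
  set U : X.affineOpens := ⟨j ''ᵁ U'.1, U'.2.image_of_isOpenImmersion j⟩ with hU
  let e : Γ(X, j ''ᵁ U'.1) ≅ Γ(V, U'.1) := j.appIso U'.1
  let e' : Γ(X, j ''ᵁ U'.1) ≃+* Γ(V, U'.1) := e.commRingCatIsoToRingEquiv
  have hinv : ∀ a, e.inv.hom a = e'.symm a := fun a => rfl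
  refine ⟨U, ⟨v, hxU', rfl⟩, e'.symm f, ?_, ?_⟩
  · rw [mem_nonZeroDivisors_iff_right] at hf ⊢
    intro z hz
    have h1 : e' z * f = 0 := by
      have := congrArg e' hz
      rwa [map_mul, RingEquiv.apply_symm_apply, map_zero] at this
    have := hf _ h1
    exact (map_eq_zero_iff e' e'.injective).1 this
  · have h1 : Ideal.map e.inv.hom (Ideal.comap e.inv.hom (𝓙.ideal U)) = 𝓙.ideal U := by
      apply Ideal.map_comap_of_surjective
      intro a
      exact ⟨e' a, by rw [hinv, RingEquiv.symm_apply_apply]⟩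
    rw [← h1, hIf, Ideal.map_span, Set.image_singleton, hinv]

/-- the ideal sheaf of `I` on `Spec A` -/
noncomputable def 𝓘 : (Spec (CommRingCat.of A)).IdealSheafData :=
  Scheme.IdealSheafData.ofIdealTop (I.map (Scheme.ΓSpecIso (CommRingCat.of A)).inv.hom)

/-- the ring map `A → Γ(Y, U)` induced by `g : Y ⟶ Spec A` -/
noncomputable def φU {Y : Scheme.{u}} (g : Y ⟶ Spec (CommRingCat.of A)) (U : Y.Opens) : A →+* Γ(Y, U) :=
  ((Scheme.ΓSpecIso (CommRingCat.of A)).inv ≫ g.appLE ⊤ U le_top).hom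

lemma ideal_comap_eq {Y : Scheme.{u}} (g : Y ⟶ Spec (CommRingCat.of A)) (U : Y.affineOpens) :
    ((𝓘 I).comap g).ideal U = I.map (φU g U.1) := by
  rw [Groth.Agent.Helper28.IdealComapOld.ideal_comap g (𝓘 I) ⟨⊤, isAffineOpen_top _⟩ U le_top, 𝓘,
    Scheme.IdealSheafData.ofIdealTop_ideal, Ideal.map_map, Ideal.map_map, φU]
  congr 1

lemma φU_res {Y : Scheme.{u}} (g : Y ⟶ Spec (CommRingCat.of A)) {U U' : Y.Opens} (e : U' ≤ U) :
    (Y.presheaf.map (homOfLE e).op).hom.comp (φU g U) = φU g U' := by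
  rw [φU, φU, ← CommRingCat.hom_comp, Category.assoc, Scheme.Hom.appLE_map]

lemma φU_comp {Y Z : Scheme.{u}} (g : Y ⟶ Spec (CommRingCat.of A)) (h : Z ⟶ Y) (U : Y.Opens) (W : Z.Opens)
    (e : W ≤ h ⁻¹ᵁ U) : (h.appLE U W e).hom.comp (φU g U) = φU (h ≫ g) W := by
  rw [φU, φU, ← CommRingCat.hom_comp, Category.assoc, Scheme.Hom.appLE_comp_appLE]


lemma φU_SpecMap {B : Type u} [CommRing B] (φ : A →+* B) :
    φU (Spec.map (CommRingCat.ofHom φ)) ⊤ = ((Scheme.ΓSpecIso (CommRingCat.of B)).inv.hom).comp φ := by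
  have h1 : (Spec.map (CommRingCat.ofHom φ)).appLE ⊤ ⊤ le_top = (Spec.map (CommRingCat.ofHom φ)).appTop := by
    simp [Scheme.Hom.appLE]
  rw [φU, h1, ← Scheme.ΓSpecIso_inv_naturality (CommRingCat.ofHom φ)]
  rfl

/-- (G1a) on `Spec B`, if `I B = (s)` with `s` a nonzerodivisor then the pullback of `𝓘` is effective
Cartier -/
lemma isEffCartierIdeal_comap_SpecMap {B : Type u} [CommRing B] (φ : A →+* B) (s : B)
    (hs : s ∈ nonZeroDivisors B) (hI : I.map φ = Ideal.span {s}) :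
    BlowUp.IsEffCartierIdeal ((𝓘 I).comap (Spec.map (CommRingCat.ofHom φ))) := by
  intro x
  refine ⟨⟨⊤, isAffineOpen_top _⟩, trivial, (Scheme.ΓSpecIso (CommRingCat.of B)).inv.hom s, ?_, ?_⟩
  · let e' : B ≃+* Γ(Spec (CommRingCat.of B), ⊤) :=
      (Scheme.ΓSpecIso (CommRingCat.of B)).symm.commRingCatIsoToRingEquiv
    change e' s ∈ _
    refine mem_nonZeroDivisors_iff_right.2 fun z hz => ?_
    have h1 : e'.symm z * s = 0 := by
      have := congrArg e'.symm hz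
      rwa [map_mul, RingEquiv.symm_apply_apply, map_zero] at this
    have := (mem_nonZeroDivisors_iff_right.1 hs) _ h1
    exact (map_eq_zero_iff e'.symm e'.symm.injective).1 this
  · rw [ideal_comap_eq, φU_SpecMap, ← Ideal.map_map, hI, Ideal.map_span, Set.image_singleton]

/-- (G1) the inverse image of `𝓘` on `Proj R(I)` is effective Cartier -/
lemma isEffCartierIdeal_comap_b : BlowUp.IsEffCartierIdeal ((𝓘 I).comap (b I)) := by
  apply isEffCartierIdeal_of_local'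
  intro p
  obtain ⟨a, ha, hp⟩ := exists_chart I p
  refine ⟨_, chart I a ha, inferInstance, hp, ?_⟩
  rw [← Scheme.IdealSheafData.comap_comp, chart_b]
  exact isEffCartierIdeal_comap_SpecMap I (ψ I a ha) (ψ I a ha a) (ψ_mem_nonZeroDivisors I a ha)
    (map_ψ_eq I a ha)


lemma toSpecΓ_SpecMap_φU {Y : Scheme.{u}} (g : Y ⟶ Spec (CommRingCat.of A)) (U : Y.Opens) :
    U.toSpecΓ ≫ Spec.map (CommRingCat.ofHom (φU g U)) = U.ι ≫ g := by
  have h1 : CommRingCat.ofHom (φU g U) =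
      (Scheme.ΓSpecIso (CommRingCat.of A)).inv ≫ g.appLE ⊤ U le_top := rfl
  rw [h1, Spec.map_comp, Scheme.Opens.toSpecΓ_SpecMap_appLE_assoc, Scheme.Opens.toSpecΓ_top,
    Category.assoc, toSpecΓ_SpecMap_ΓSpecIso_inv, Category.comp_id, Scheme.Hom.resLE_comp_ι]

/-- (G2a) local existence of the lift -/
lemma exists_lift_local {Y : Scheme.{u}} (g : Y ⟶ Spec (CommRingCat.of A)) (U : Y.Opens)
    (s : Γ(Y, U)) (hs : s ∈ nonZeroDivisors Γ(Y, U)) (hI : I.map (φU g U) = Ideal.span {s}) :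
    ∃ h : (U : Scheme.{u}) ⟶ Proj (gr I), h ≫ b I = U.ι ≫ g := by
  set ρU := ρ (φU g U) s hI.le hs with hρU
  set f : reesAlgebra I →+* Γ((U : Scheme.{u}), ⊤) := (U.topIso.inv.hom).comp ρU with hf
  have hirr : (HomogeneousIdeal.irrelevant (gr I)).toIdeal.map f = ⊤ := by
    rw [hf, ← Ideal.map_map, map_ρ_irrelevant (φU g U) s hI.le hs
      (hI ▸ Ideal.mem_span_singleton_self s)]
    exact Ideal.map_top _
  refine ⟨Proj.fromOfGlobalSections (gr I) f hirr, ?_⟩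
  rw [b_eq, Proj.fromOfGlobalSections_toSpecZero_assoc, ← Spec.map_comp, ← toSpecΓ_SpecMap_φU g U,
    Scheme.Opens.toSpecΓ, Category.assoc, ← Spec.map_comp]
  congr 2
  ext x
  simp only [CommRingCat.hom_comp, CommRingCat.hom_ofHom, RingHom.coe_comp, Function.comp_apply, hf]
  congr 1
  exact ρ_algebraMap (φU g U) s hI.le hs x


lemma fromSpec_comp_eq {Y : Scheme.{u}} (g : Y ⟶ Spec (CommRingCat.of A)) {U : Y.Opens}
    (hU : IsAffineOpen U) : hU.fromSpec ≫ g = Spec.map (CommRingCat.ofHom (φU g U)) := by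
  rw [IsAffineOpen.fromSpec, Category.assoc, ← toSpecΓ_SpecMap_φU g U,
    IsAffineOpen.isoSpec_inv_toSpecΓ_assoc]

/-- a lift restricted to an affine open mapping into a chart is given by a ring map -/
lemma exists_ringHom_of_lift {Y : Scheme.{u}} (g : Y ⟶ Spec (CommRingCat.of A))
    (h : Y ⟶ Proj (gr I)) (hh : h ≫ b I = g) (a : A) (ha : a ∈ I) {U : Y.Opens} (hU : IsAffineOpen U)
    (hle : U ≤ h ⁻¹ᵁ (chart I a ha).opensRange) :
    ∃ θ : Away (gr I) (tm I a ha) →+* Γ(Y, U),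
      Spec.map (CommRingCat.ofHom θ) ≫ chart I a ha = hU.fromSpec ≫ h ∧
      ∀ x, θ (ψ I a ha x) = φU g U x := by
  have hr : Set.range (hU.fromSpec ≫ h) ⊆ Set.range (chart I a ha) := by
    rintro _ ⟨z, rfl⟩
    rw [Scheme.Hom.comp_apply]
    have hz : hU.fromSpec z ∈ U := by
      have : hU.fromSpec z ∈ hU.fromSpec.opensRange := ⟨z, rfl⟩
      rwa [hU.opensRange_fromSpec] at this
    exact hle hz
  set k := IsOpenImmersion.lift (chart I a ha) (hU.fromSpec ≫ h) hr with hk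
  have hkf : k ≫ chart I a ha = hU.fromSpec ≫ h := IsOpenImmersion.lift_fac _ _ _
  obtain ⟨θ', hθ'⟩ : ∃ θ', Spec.map θ' = k := ⟨Spec.preimage k, Spec.map_preimage k⟩
  refine ⟨θ'.hom, by rw [← hkf, ← hθ']; rfl, ?_⟩
  have h1 : Spec.map (CommRingCat.ofHom (ψ I a ha) ≫ θ') = Spec.map (CommRingCat.ofHom (φU g U)) := by
    rw [Spec.map_comp, hθ', ← chart_b, ← Category.assoc, hkf, Category.assoc, hh, fromSpec_comp_eq]
  have h2 := Spec.map_injective h1
  intro x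
  have := congrArg (fun m => m.hom x) h2
  simpa using this


/-- (Step 3) two lifts mapping an affine chart open into the same chart agree there -/
lemma lift_eq_on_chart {Y : Scheme.{u}} (g : Y ⟶ Spec (CommRingCat.of A))
    (h₁ h₂ : Y ⟶ Proj (gr I)) (hh₁ : h₁ ≫ b I = g) (hh₂ : h₂ ≫ b I = g) (a : A) (ha : a ∈ I)
    {U : Y.Opens} (hU : IsAffineOpen U)
    (hle₁ : U ≤ h₁ ⁻¹ᵁ (chart I a ha).opensRange) (hle₂ : U ≤ h₂ ⁻¹ᵁ (chart I a ha).opensRange)
    (s : Γ(Y, U)) (hs : s ∈ nonZeroDivisors Γ(Y, U)) (hI : I.map (φU g U) = Ideal.span {s}) :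
    U.ι ≫ h₁ = U.ι ≫ h₂ := by
  obtain ⟨θ₁, hθ₁, hθ₁'⟩ := exists_ringHom_of_lift I g h₁ hh₁ a ha hU hle₁
  obtain ⟨θ₂, hθ₂, hθ₂'⟩ := exists_ringHom_of_lift I g h₂ hh₂ a ha hU hle₂
  have : θ₁ = θ₂ := lift_unique (φU g U) a ha θ₁ θ₂ hθ₁' hθ₂' s hs hI
  subst this
  rw [← hU.toSpecΓ_fromSpec, Category.assoc, Category.assoc, ← hθ₁, ← hθ₂]

/-- (Step 1) a lift maps a good chart `(U, a)` into the chart `D₊(at)` -/
lemma lift_le_chart {Y : Scheme.{u}} (g : Y ⟶ Spec (CommRingCat.of A))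
    (h : Y ⟶ Proj (gr I)) (hh : h ≫ b I = g) (a : A) (ha : a ∈ I)
    (U : Y.affineOpens) (hnzd : φU g U.1 a ∈ nonZeroDivisors Γ(Y, U.1))
    (hI : I.map (φU g U.1) = Ideal.span {φU g U.1 a}) :
    U.1 ≤ h ⁻¹ᵁ (chart I a ha).opensRange := by
  intro y hyU
  obtain ⟨a', ha', hy'⟩ := exists_chart I (h y)
  obtain ⟨_, ⟨U', hU', rfl⟩, hyU', hU'le⟩ := Y.isBasis_affineOpens.exists_subset_of_mem_open
    (show y ∈ ((U.1 ⊓ h ⁻¹ᵁ (chart I a' ha').opensRange : Y.Opens) : Set Y) from ⟨hyU, hy'⟩)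
    (U.1 ⊓ h ⁻¹ᵁ (chart I a' ha').opensRange).2
  have hle : U' ≤ U.1 := fun z hz => (hU'le hz).1
  have hle' : U' ≤ h ⁻¹ᵁ (chart I a' ha').opensRange := fun z hz => (hU'le hz).2
  obtain ⟨hnzd', hI'⟩ := Groth.Agent.Helper28.EffCartierOld.chart_restrict ((𝓘 I).comap g) (U := ⟨U', hU'⟩) (V := U) hle
    (φU g U.1 a) hnzd (by rw [ideal_comap_eq, hI])
  have hres : (Y.presheaf.map (homOfLE hle).op).hom (φU g U.1 a) = φU g U' a := by
    rw [← φU_res g hle]; rfl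
  have hnzd'' : φU g U' a ∈ nonZeroDivisors Γ(Y, U') := by rw [← hres]; exact hnzd'
  have hI'' : I.map (φU g U') = Ideal.span {φU g U' a} := by
    rw [← hres, ← ideal_comap_eq I g ⟨U', hU'⟩]; exact hI'
  obtain ⟨θ, hθ, hθ'⟩ := exists_ringHom_of_lift I g h hh a' ha' hU' hle'
  have hunit := isUnit_of_lift (φU g U') a' ha' a ha θ hθ' hnzd'' hI''.le
  set y' := hU'.primeIdealOf ⟨y, hyU'⟩ with hy'def
  have hy'y : hU'.fromSpec y' = y := hU'.fromSpec_primeIdealOf ⟨y, hyU'⟩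
  have h1 : (Spec.map (CommRingCat.ofHom θ)) y' ∈
      (chart I a' ha') ⁻¹ᵁ (Proj.basicOpen (gr I) (tm I a ha)) := by
    rw [chart, Proj.awayι_preimage_basicOpen (gr I) (tm_mem I a' ha') one_pos (tm_mem I a ha) one_pos]
    change Away.isLocalizationElem (tm_mem I a' ha') (tm_mem I a ha) ∉
      ((Spec.map (CommRingCat.ofHom θ)) y').asIdeal
    intro hmem
    have : θ (Away.isLocalizationElem (tm_mem I a' ha') (tm_mem I a ha)) ∈ y'.asIdeal := hmem
    exact y'.isPrime.ne_top (Ideal.eq_top_of_isUnit_mem _ this hunit)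
  have h2 : (chart I a' ha') ((Spec.map (CommRingCat.ofHom θ)) y') = h y := by
    rw [← Scheme.Hom.comp_apply, hθ, Scheme.Hom.comp_apply, hy'y]
  change h y ∈ (chart I a ha).opensRange
  rw [opensRange_chart, ← h2]
  exact h1


/-- good charts: around every point `I · O_Y` is generated by the image of an element of `I` which
is a nonzerodivisor -/
lemma exists_good_chart {Y : Scheme.{u}} (g : Y ⟶ Spec (CommRingCat.of A))
    (hg : BlowUp.IsEffCartierIdeal ((𝓘 I).comap g)) (y : Y) :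
    ∃ (U : Y.affineOpens) (a : A), y ∈ U.1 ∧ a ∈ I ∧ φU g U.1 a ∈ nonZeroDivisors Γ(Y, U.1) ∧
      I.map (φU g U.1) = Ideal.span {φU g U.1 a} := by
  obtain ⟨U₀, hyU₀, t, ht, hIt⟩ := hg y
  rw [ideal_comap_eq] at hIt
  set p := (U₀.2.primeIdealOf ⟨y, hyU₀⟩).asIdeal with hp
  have hpprime : p.IsPrime := (U₀.2.primeIdealOf ⟨y, hyU₀⟩).isPrime
  -- find `a ∈ I` with `φ a = t * d`, `d ∉ p`
  obtain ⟨a, ha, d, had, hdp⟩ : ∃ a ∈ I, ∃ d, φU g U₀.1 a = t * d ∧ d ∉ p := by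
    by_contra hcon
    push Not at hcon
    have key : ∀ w ∈ I.map (φU g U₀.1), ∃ j ∈ p, w = t * j := by
      intro w hw
      refine Submodule.span_induction ?_ ?_ ?_ ?_ hw
      · rintro _ ⟨x, hx, rfl⟩
        have : φU g U₀.1 x ∈ Ideal.span {t} := hIt ▸ Ideal.mem_map_of_mem _ hx
        obtain ⟨d, hd⟩ := Ideal.mem_span_singleton'.mp this
        exact ⟨d, hcon x hx d (by rw [← hd, mul_comm]), by rw [← hd, mul_comm]⟩
      · exact ⟨0, zero_mem _, by simp⟩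
      · rintro x y _ _ ⟨j₁, h₁, rfl⟩ ⟨j₂, h₂, rfl⟩
        exact ⟨j₁ + j₂, add_mem h₁ h₂, by ring⟩
      · rintro c x _ ⟨j, h, rfl⟩
        exact ⟨c * j, Ideal.mul_mem_left _ _ h, by rw [smul_eq_mul]; ring⟩
    obtain ⟨j, hj, htj⟩ := key t (hIt ▸ Ideal.mem_span_singleton_self t)
    have hj1 : j = 1 := by
      have h0 : t * (j - 1) = 0 := by rw [mul_sub, ← htj, mul_one, sub_self]
      exact sub_eq_zero.mp ((mem_nonZeroDivisors_iff.mp ht).1 _ h0)
    exact hpprime.ne_top (Ideal.eq_top_of_isUnit_mem _ (hj1 ▸ hj) isUnit_one)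
  have hyd : y ∈ Y.basicOpen d :=
    (Groth.Agent.Helper28.EffCartierOld.mem_basicOpen_iff_notMem_primeIdealOf U₀.2 y hyU₀ d).2 hdp
  refine ⟨Y.affineBasicOpen d, a, hyd, ha, ?_⟩
  have hle : Y.affineBasicOpen d ≤ U₀ := Y.affineBasicOpen_le d
  obtain ⟨hnzd', hI'⟩ := Groth.Agent.Helper28.EffCartierOld.chart_restrict ((𝓘 I).comap g)
    (U := Y.affineBasicOpen d) (V := U₀) hle t ht (by rw [ideal_comap_eq, hIt])
  rw [ideal_comap_eq] at hI'
  have hres : φU g (Y.affineBasicOpen d).1 a =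
      (Y.presheaf.map (homOfLE hle).op).hom t * (Y.presheaf.map (homOfLE hle).op).hom d := by
    rw [← map_mul, ← had, ← φU_res g (show (Y.affineBasicOpen d).1 ≤ U₀.1 from hle)]; rfl
  have hunit : IsUnit ((Y.presheaf.map (homOfLE hle).op).hom d) :=
    Y.toRingedSpace.isUnit_res_basicOpen d
  obtain ⟨u, hu⟩ := hunit
  constructor
  · rw [hres]
    exact mul_mem hnzd' (hu ▸ (IsUnit.mem_nonZeroDivisors u.isUnit))
  · rw [hI', hres, ← hu]
    exact (Ideal.span_singleton_mul_right_unit u.isUnit _).symm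

/-- (G2b) uniqueness of lifts -/
lemma lift_unique' {Y : Scheme.{u}} (g : Y ⟶ Spec (CommRingCat.of A))
    (hg : BlowUp.IsEffCartierIdeal ((𝓘 I).comap g))
    (h₁ h₂ : Y ⟶ Proj (gr I)) (hh₁ : h₁ ≫ b I = g) (hh₂ : h₂ ≫ b I = g) : h₁ = h₂ := by
  apply Scheme.hom_ext_of_forall
  intro y
  obtain ⟨U, a, hyU, ha, hnzd, hI⟩ := exists_good_chart I g hg y
  exact ⟨U.1, hyU, lift_eq_on_chart I g h₁ h₂ hh₁ hh₂ a ha U.2
    (lift_le_chart I g h₁ hh₁ a ha U hnzd hI) (lift_le_chart I g h₂ hh₂ a ha U hnzd hI) _ hnzd hI⟩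


open Limits in
/-- (G2) existence of lifts -/
lemma exists_lift {Y : Scheme.{u}} (g : Y ⟶ Spec (CommRingCat.of A))
    (hg : BlowUp.IsEffCartierIdeal ((𝓘 I).comap g)) : ∃ h : Y ⟶ Proj (gr I), h ≫ b I = g := by
  choose U hyU t ht hIt using hg
  have hcov : TopologicalSpace.IsOpenCover (fun y : Y => (U y).1) := by
    rw [TopologicalSpace.IsOpenCover, eq_top_iff]
    intro y _
    exact TopologicalSpace.Opens.mem_iSup.mpr ⟨y, hyU y⟩
  have hloc : ∀ y : Y, ∃ h : ((U y).1 : Scheme.{u}) ⟶ Proj (gr I), h ≫ b I = (U y).1.ι ≫ g := by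
    intro y
    exact exists_lift_local I g (U y).1 (t y) (ht y) (by rw [← ideal_comap_eq]; exact hIt y)
  choose h hh using hloc
  set 𝒰 := Y.openCoverOfIsOpenCover (fun y : Y => (U y).1) hcov with h𝒰
  have hg' : BlowUp.IsEffCartierIdeal ((𝓘 I).comap g) := fun y => ⟨U y, hyU y, t y, ht y, hIt y⟩
  have hcompat : ∀ x y : Y, pullback.fst (U x).1.ι (U y).1.ι ≫ h x =
      pullback.snd (U x).1.ι (U y).1.ι ≫ h y := by
    intro x y
    apply lift_unique' I (pullback.fst (U x).1.ι (U y).1.ι ≫ (U x).1.ι ≫ g)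
    · rw [← Category.assoc, Scheme.IdealSheafData.comap_comp]
      exact Groth.Agent.Helper28.EffCartierDense.isEffCartierIdeal_comap_of_flat _ _ hg'
    · rw [Category.assoc, hh x]
    · rw [Category.assoc, hh y, pullback.condition_assoc]
  refine ⟨𝒰.glueMorphisms h (fun x y => hcompat x y), ?_⟩
  apply 𝒰.hom_ext
  intro x
  rw [← Category.assoc, 𝒰.ι_glueMorphisms]
  exact hh x

/-- `Proj R(I) ⟶ Spec A` is a blow-up of `Spec A` in `I` -/
theorem isBlowUp_b : BlowUp.IsBlowUp (b I) (𝓘 I) := by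
  refine ⟨isEffCartierIdeal_comap_b I, fun Y g hg => ?_⟩
  obtain ⟨h, hh⟩ := exists_lift I g hg
  exact ⟨h, hh, fun h' hh' => lift_unique' I g hg h' h hh' hh⟩

end Groth.Agent.Helper28.BlowUpProj
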