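import Mathlib
import Groth.Agent.Lib.Helper28.BlowUpProj

/-!
# Recognising an affine blow-up: `A ⊆ B`, `I B ⊆ I`, `I B = (f)` with `f` a nonzerodivisor
-/
set_option autoImplicit false
universe u
open AlgebraicGeometry CategoryTheory

namespace Groth.Agent.Helper28.AffBlowRecog

open Groth.Agent.Helper28.BlowUpProj

section alg

variable {A B : Type u} [CommRing A] [CommRing B] (φ : A →+* B) (hinj : Function.Injective φ)
  (I : Ideal A) (hIB : (I.map φ : Set B) ⊆ φ '' (I : Set A)) (f : B)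
  (hgen : I.map φ = Ideal.span {f})

include hIB hgen in
lemma exists_a0 : ∃ a₀ ∈ I, φ a₀ = f := by
  have h1 : f ∈ (I.map φ : Set B) := by
    rw [hgen]; exact Ideal.mem_span_singleton_self f
  obtain ⟨a₀, ha₀, h⟩ := hIB h1
  exact ⟨a₀, ha₀, h⟩

include hIB hgen in
lemma exists_mem_eq_mul (b : B) : ∃ x ∈ I, φ x = f * b := by
  have h1 : f * b ∈ (I.map φ : Set B) := by
    rw [hgen]; exact Ideal.mul_mem_right _ _ (Ideal.mem_span_singleton_self f)
  obtain ⟨x, hx, h⟩ := hIB h1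
  exact ⟨x, hx, h⟩

include hinj hIB hgen in
lemma exists_sq (a₀ : A) (ha₀ : φ a₀ = f) (a : A) (ha : a ∈ I) : ∃ x ∈ I, a * a = a₀ * x := by
  have h1 : φ a ∈ Ideal.span {f} := by rw [← hgen]; exact Ideal.mem_map_of_mem φ ha
  obtain ⟨b, hb⟩ := Ideal.mem_span_singleton'.mp h1
  obtain ⟨x, hx, hφx⟩ := exists_mem_eq_mul φ I hIB f hgen (b * b)
  refine ⟨x, hx, hinj ?_⟩
  rw [map_mul, map_mul, ha₀, hφx, ← hb]
  ring

variable {C : Type u} [CommRing C] (ψ : A →+* C) (c : C) (hc : c ∈ nonZeroDivisors C)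
  (hψ : I.map ψ = Ideal.span {c})

include hinj hIB hgen hc hψ in
lemma exists_unit (a₀ : A) (ha₀I : a₀ ∈ I) (ha₀ : φ a₀ = f) : ∃ u : C, IsUnit u ∧ ψ a₀ = c * u := by
  have h1 : ψ a₀ ∈ Ideal.span {c} := by rw [← hψ]; exact Ideal.mem_map_of_mem ψ ha₀I
  obtain ⟨u, hu⟩ := Ideal.mem_span_singleton'.mp h1
  refine ⟨u, ?_, by rw [← hu, mul_comm]⟩
  set J : Ideal C := (Ideal.span {u}).radical with hJ
  have hle : I.map ψ ≤ Ideal.span {c} * J := by
    rw [Ideal.map_le_iff_le_comap]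
    intro a ha
    rw [Ideal.mem_comap]
    have h2 : ψ a ∈ Ideal.span {c} := by rw [← hψ]; exact Ideal.mem_map_of_mem ψ ha
    obtain ⟨w, hw⟩ := Ideal.mem_span_singleton'.mp h2
    obtain ⟨x, hx, hax⟩ := exists_sq φ hinj I hIB f hgen a₀ ha₀ a ha
    have h3 : ψ x ∈ Ideal.span {c} := by rw [← hψ]; exact Ideal.mem_map_of_mem ψ hx
    obtain ⟨v, hv⟩ := Ideal.mem_span_singleton'.mp h3
    have h4 : (c * c) * (w * w) = (c * c) * (u * v) := by
      have := congrArg ψ hax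
      rw [map_mul, map_mul, ← hw, ← hu, ← hv] at this
      linear_combination this
    have h5 : w * w = u * v :=
      (mul_cancel_left_mem_nonZeroDivisors (mul_mem hc hc)).mp h4
    have h6 : w ∈ J := by
      rw [hJ]
      refine ⟨2, ?_⟩
      rw [pow_two, h5]
      exact Ideal.mul_mem_right _ _ (Ideal.mem_span_singleton_self u)
    have h7 : ψ a = c * w := by rw [← hw, mul_comm]
    rw [h7]
    exact Ideal.mul_mem_mul (Ideal.mem_span_singleton_self c) h6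
  have h7 : c ∈ Ideal.span {c} * J := hle (by rw [hψ]; exact Ideal.mem_span_singleton_self c)
  obtain ⟨j, hj, hcj⟩ := Ideal.mem_span_singleton_mul.mp h7
  have h8 : j = 1 := by
    apply (mul_cancel_left_mem_nonZeroDivisors hc).mp
    rw [hcj, mul_one]
  rw [h8] at hj
  have h9 : Ideal.span {u} = ⊤ := by
    rw [← Ideal.radical_eq_top, ← hJ]
    exact (Ideal.eq_top_iff_one _).mpr hj
  exact Ideal.span_singleton_eq_top.mp h9

include hinj hIB hgen hc hψ in
lemma nzd_and_span (a₀ : A) (ha₀I : a₀ ∈ I) (ha₀ : φ a₀ = f) :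
    ψ a₀ ∈ nonZeroDivisors C ∧ I.map ψ = Ideal.span {ψ a₀} := by
  obtain ⟨u, hu, hcu⟩ := exists_unit φ hinj I hIB f hgen ψ c hc hψ a₀ ha₀I ha₀
  refine ⟨?_, ?_⟩
  · rw [hcu]
    exact mul_mem hc hu.mem_nonZeroDivisors
  · rw [hcu, hψ]
    exact (Ideal.span_singleton_mul_right_unit hu c).symm

include hinj hIB hgen hc hψ in
/-- uniqueness of the extension of `ψ` to `B` -/
lemma ringHom_unique (χ₁ χ₂ : B →+* C) (h₁ : χ₁.comp φ = ψ) (h₂ : χ₂.comp φ = ψ) : χ₁ = χ₂ := by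
  obtain ⟨a₀, ha₀I, ha₀⟩ := exists_a0 φ I hIB f hgen
  obtain ⟨hnzd, -⟩ := nzd_and_span φ hinj I hIB f hgen ψ c hc hψ a₀ ha₀I ha₀
  ext b
  obtain ⟨x, hx, hφx⟩ := exists_mem_eq_mul φ I hIB f hgen b
  apply (mul_cancel_left_mem_nonZeroDivisors hnzd).mp
  have e₁ : ψ a₀ * χ₁ b = ψ x := by
    rw [← h₁, RingHom.comp_apply, RingHom.comp_apply, ← map_mul, ha₀, hφx]
  have e₂ : ψ a₀ * χ₂ b = ψ x := by
    rw [← h₂, RingHom.comp_apply, RingHom.comp_apply, ← map_mul, ha₀, hφx]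
  rw [e₁, e₂]

include hinj hIB hgen hc hψ in
/-- existence of the extension of `ψ` to `B` -/
lemma ringHom_exists : ∃ χ : B →+* C, χ.comp φ = ψ := by
  obtain ⟨a₀, ha₀I, ha₀⟩ := exists_a0 φ I hIB f hgen
  obtain ⟨hnzd, hspan⟩ := nzd_and_span φ hinj I hIB f hgen ψ c hc hψ a₀ ha₀I ha₀
  have hex : ∀ b : B, ∃ w : C, ∀ x ∈ I, φ x = f * b → ψ a₀ * w = ψ x := by
    intro b
    obtain ⟨x₀, hx₀, hφx₀⟩ := exists_mem_eq_mul φ I hIB f hgen b
    have h1 : ψ x₀ ∈ Ideal.span {ψ a₀} := by rw [← hspan]; exact Ideal.mem_map_of_mem ψ hx₀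
    obtain ⟨w, hw⟩ := Ideal.mem_span_singleton'.mp h1
    refine ⟨w, fun x _ hφx => ?_⟩
    have : x = x₀ := hinj (by rw [hφx, hφx₀])
    rw [this, ← hw, mul_comm]
  choose χ hχ using hex
  have key : ∀ (b : B) (w : C) (x : A), x ∈ I → φ x = f * b → ψ a₀ * w = ψ x → χ b = w := by
    intro b w x hx hφx hw
    apply (mul_cancel_left_mem_nonZeroDivisors hnzd).mp
    rw [hχ b x hx hφx, hw]
  have h_one : χ 1 = 1 := key 1 1 a₀ ha₀I (by rw [ha₀, mul_one]) (mul_one _)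
  have h_mul : ∀ b b', χ (b * b') = χ b * χ b' := by
    intro b b'
    obtain ⟨x, hx, hφx⟩ := exists_mem_eq_mul φ I hIB f hgen b
    obtain ⟨x', hx', hφx'⟩ := exists_mem_eq_mul φ I hIB f hgen b'
    obtain ⟨y, hy, hφy⟩ := exists_mem_eq_mul φ I hIB f hgen (b * b')
    have e1 : a₀ * y = x * x' := hinj (by
      rw [map_mul, map_mul, ha₀, hφy, hφx, hφx']; ring)
    apply key (b * b') _ y hy hφy
    apply (mul_cancel_left_mem_nonZeroDivisors hnzd).mp
    have := congrArg ψ e1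
    rw [map_mul, map_mul, ← hχ b x hx hφx, ← hχ b' x' hx' hφx'] at this
    linear_combination (-1 : C) * this
  have h_zero : χ 0 = 0 := key 0 0 0 I.zero_mem (by simp) (by simp)
  have h_add : ∀ b b', χ (b + b') = χ b + χ b' := by
    intro b b'
    obtain ⟨x, hx, hφx⟩ := exists_mem_eq_mul φ I hIB f hgen b
    obtain ⟨x', hx', hφx'⟩ := exists_mem_eq_mul φ I hIB f hgen b'
    apply key (b + b') _ (x + x') (I.add_mem hx hx') (by rw [map_add, hφx, hφx']; ring)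
    rw [mul_add, hχ b x hx hφx, hχ b' x' hx' hφx', map_add]
  let χ' : B →+* C :=
    { toFun := χ
      map_one' := h_one
      map_mul' := h_mul
      map_zero' := h_zero
      map_add' := h_add }
  refine ⟨χ', ?_⟩
  ext a
  change χ (φ a) = ψ a
  apply key (φ a) (ψ a) (a₀ * a) (I.mul_mem_right _ ha₀I) (by rw [map_mul, ha₀])
  rw [map_mul]

end alg

section geom

variable {A B : Type u} [CommRing A] [CommRing B] (φ : A →+* B) (hinj : Function.Injective φ)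
  (I : Ideal A) (hIB : (I.map φ : Set B) ⊆ φ '' (I : Set A)) (f : B)
  (hf : f ∈ nonZeroDivisors B) (hgen : I.map φ = Ideal.span {f})

/-- for a lift `h` of `g` along `Spec φ`, the ring maps are compatible -/
lemma φU_lift {Y : Scheme.{u}} (g : Y ⟶ Spec (CommRingCat.of A)) (h : Y ⟶ Spec (CommRingCat.of B))
    (hh : h ≫ Spec.map (CommRingCat.ofHom φ) = g) {U : Y.Opens} (hU : IsAffineOpen U) :
    (φU h U).comp φ = φU g U := by
  have h1 : U.toSpecΓ ≫ Spec.map (CommRingCat.ofHom ((φU h U).comp φ)) =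
      U.toSpecΓ ≫ Spec.map (CommRingCat.ofHom (φU g U)) := by
    rw [toSpecΓ_SpecMap_φU, ← hh, ← Category.assoc, ← toSpecΓ_SpecMap_φU, Category.assoc,
      ← Spec.map_comp]
    rfl
  haveI : IsIso U.toSpecΓ := by
    have : IsAffine U.toScheme := hU
    rw [Scheme.Opens.toSpecΓ]
    infer_instance
  have h2 := Spec.map_injective ((cancel_epi U.toSpecΓ).mp h1)
  have h3 := congrArg CommRingCat.Hom.hom h2
  exact h3

include hinj hIB hgen in
lemma lift_unique {Y : Scheme.{u}} (g : Y ⟶ Spec (CommRingCat.of A))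
    (hg : BlowUp.IsEffCartierIdeal ((𝓘 I).comap g))
    (h₁ h₂ : Y ⟶ Spec (CommRingCat.of B))
    (hh₁ : h₁ ≫ Spec.map (CommRingCat.ofHom φ) = g)
    (hh₂ : h₂ ≫ Spec.map (CommRingCat.ofHom φ) = g) : h₁ = h₂ := by
  apply Scheme.hom_ext_of_forall
  intro y
  obtain ⟨U, hyU, t, ht, hIt⟩ := hg y
  rw [ideal_comap_eq] at hIt
  refine ⟨U.1, hyU, ?_⟩
  rw [← toSpecΓ_SpecMap_φU h₁ U.1, ← toSpecΓ_SpecMap_φU h₂ U.1]
  congr 3
  exact ringHom_unique φ hinj I hIB f hgen (φU g U.1) t ht hIt _ _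
    (φU_lift φ g h₁ hh₁ U.2) (φU_lift φ g h₂ hh₂ U.2)

include hinj hIB hgen in
lemma exists_lift_local {Y : Scheme.{u}} (g : Y ⟶ Spec (CommRingCat.of A)) (U : Y.Opens)
    (s : Γ(Y, U)) (hs : s ∈ nonZeroDivisors Γ(Y, U)) (hI : I.map (φU g U) = Ideal.span {s}) :
    ∃ h : (U : Scheme.{u}) ⟶ Spec (CommRingCat.of B),
      h ≫ Spec.map (CommRingCat.ofHom φ) = U.ι ≫ g := by
  obtain ⟨χ, hχ⟩ := ringHom_exists φ hinj I hIB f hgen (φU g U) s hs hI
  refine ⟨U.toSpecΓ ≫ Spec.map (CommRingCat.ofHom χ), ?_⟩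
  rw [Category.assoc, ← Spec.map_comp, ← toSpecΓ_SpecMap_φU g U, ← hχ]
  rfl

open Limits in
include hinj hIB hgen in
lemma exists_lift {Y : Scheme.{u}} (g : Y ⟶ Spec (CommRingCat.of A))
    (hg : BlowUp.IsEffCartierIdeal ((𝓘 I).comap g)) :
    ∃ h : Y ⟶ Spec (CommRingCat.of B), h ≫ Spec.map (CommRingCat.ofHom φ) = g := by
  choose U hyU t ht hIt using hg
  have hcov : TopologicalSpace.IsOpenCover (fun y : Y => (U y).1) := by
    rw [TopologicalSpace.IsOpenCover, eq_top_iff]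
    intro y _
    exact TopologicalSpace.Opens.mem_iSup.mpr ⟨y, hyU y⟩
  have hloc : ∀ y : Y, ∃ h : ((U y).1 : Scheme.{u}) ⟶ Spec (CommRingCat.of B),
      h ≫ Spec.map (CommRingCat.ofHom φ) = (U y).1.ι ≫ g := by
    intro y
    exact exists_lift_local φ hinj I hIB f hgen g (U y).1 (t y) (ht y)
      (by rw [← ideal_comap_eq]; exact hIt y)
  choose h hh using hloc
  set 𝒰 := Y.openCoverOfIsOpenCover (fun y : Y => (U y).1) hcov with h𝒰
  have hg' : BlowUp.IsEffCartierIdeal ((𝓘 I).comap g) := fun y => ⟨U y, hyU y, t y, ht y, hIt y⟩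
  have hcompat : ∀ x y : Y, pullback.fst (U x).1.ι (U y).1.ι ≫ h x =
      pullback.snd (U x).1.ι (U y).1.ι ≫ h y := by
    intro x y
    apply lift_unique φ hinj I hIB f hgen (pullback.fst (U x).1.ι (U y).1.ι ≫ (U x).1.ι ≫ g)
    · rw [← Category.assoc, Scheme.IdealSheafData.comap_comp]
      exact Groth.Agent.Helper28.EffCartierDense.isEffCartierIdeal_comap_of_flat _ _ hg'
    · rw [Category.assoc, hh x]
    · rw [Category.assoc, hh y, pullback.condition_assoc]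
  refine ⟨𝒰.glueMorphisms h (fun x y => hcompat x y), ?_⟩
  apply 𝒰.hom_ext
  intro x
  rw [← Category.assoc, 𝒰.ι_glueMorphisms]
  exact hh x

include hinj hIB hf hgen in
theorem isBlowUp_specMap : BlowUp.IsBlowUp (Spec.map (CommRingCat.ofHom φ)) (𝓘 I) := by
  refine ⟨isEffCartierIdeal_comap_SpecMap I φ f hf hgen, fun Y g hg => ?_⟩
  obtain ⟨h, hh⟩ := exists_lift φ hinj I hIB f hgen g hg
  exact ⟨h, hh, fun h' hh' => lift_unique φ hinj I hIB f hgen g hg h' h hh' hh⟩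

end geom

end Groth.Agent.Helper28.AffBlowRecog
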