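import Mathlib
import Groth.Prelude.Def_W4c6modpairsegaMP
import Groth.Agent.Lib.Helper28.AdmCalc
set_option autoImplicit false
universe u
open CategoryTheory CategoryTheory.Limits AlgebraicGeometry TopologicalSpace

namespace Groth.Agent.Helper28.AdmCalc

open ModPair Groth.Agent.Helper28.EffCartierDense

lemma isIso_restrict_of_isPullback {P X Y Y' : Scheme.{u}} {π₁ : P ⟶ X} {π₂ : P ⟶ Y} {f : X ⟶ Y'}
    {s : Y ⟶ Y'} (sq : IsPullback π₁ π₂ f s) (V' : Y'.Opens)
    (hs : IsIso (s ∣_ V')) (U : X.Opens) (hU : U ≤ f ⁻¹ᵁ V') :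
    IsIso (π₁ ∣_ U) := by
  have hT : π₁ ⁻¹ᵁ U ≤ π₂ ⁻¹ᵁ (s ⁻¹ᵁ V') := by
    intro z hz
    have h1 : (π₁ ≫ f) z ∈ V' := hU hz
    rw [sq.w] at h1
    exact h1
  let k := π₂.resLE (s ⁻¹ᵁ V') (π₁ ⁻¹ᵁ U) hT
  let fU := f.resLE V' U hU
  have left' : IsPullback (π₁ ⁻¹ᵁ U).ι (π₁ ∣_ U) π₁ U.ι :=
    (isPullback_morphismRestrict π₁ U).flip
  have right' : IsPullback π₂ π₁ s f := sq.flip
  have big := left'.paste_horiz right'
  have e1 : (π₁ ⁻¹ᵁ U).ι ≫ π₂ = k ≫ (s ⁻¹ᵁ V').ι :=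
    (Scheme.Hom.resLE_comp_ι _ _).symm
  have e2 : U.ι ≫ f = fU ≫ V'.ι := (Scheme.Hom.resLE_comp_ι _ _).symm
  rw [e1, e2] at big
  have right : IsPullback (s ⁻¹ᵁ V').ι (s ∣_ V') s V'.ι := (isPullback_morphismRestrict s V').flip
  have comm : k ≫ (s ∣_ V') = (π₁ ∣_ U) ≫ fU := by
    rw [← cancel_mono V'.ι]
    simp only [Category.assoc, morphismRestrict_ι]
    rw [← e2, ← reassoc_of% e1, ← sq.w, morphismRestrict_ι_assoc]
  have left := IsPullback.of_right big comm right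
  exact left.isIso_snd_of_isIso

lemma closure_fraction {P X Y Y' : Scheme.{u}} {π₁ : P ⟶ X} {π₂ : P ⟶ Y} {f : X ⟶ Y'}
    {s : Y ⟶ Y'} (sq : IsPullback π₁ π₂ f s) (I : X.IdealSheafData)
    (hI : BlowUp.IsEffCartierIdeal I) (J : Y.IdealSheafData) (J' : Y'.IdealSheafData)
    (hf : IsAmbient I J' f) (hs : IsAdmBlowup J J' s) (W : P.Opens)
    (hW : π₁ ⁻¹ᵁ (I.support.compl : X.Opens) = W) :
    BlowUp.IsEffCartierIdeal (I.comap (W.ι.imageι ≫ π₁)) ∧
      IsAdmBlowup (I.comap (W.ι.imageι ≫ π₁)) I (W.ι.imageι ≫ π₁) ∧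
      IsAmbient (I.comap (W.ι.imageι ≫ π₁)) J (W.ι.imageι ≫ π₂) := by
  obtain ⟨hs1, hs2, hs3⟩ := hs
  have hqc : QuasiCompact W.ι := by
    rw [← hW]
    exact Groth.Agent.Helper28.EffCartierDense.quasiCompact_ι_preimage_compl_support I hI π₁
  have hdom : IsSchemeTheoreticallyDominant
      ((W.ι.imageι ≫ π₁) ⁻¹ᵁ (I.support.compl : X.Opens)).ι := by
    constructor
    have := ker_preimage_ι_eq_bot W
    rw [← hW] at this ⊢
    exact this
  have heff := (Groth.Agent.Helper28.EffCartierDense.comap_dominant I hI (W.ι.imageι ≫ π₁)).2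
  refine ⟨heff, ⟨rfl, ?_, ?_⟩, ?_⟩
  · haveI : IsProper π₁ := MorphismProperty.of_isPullback (P := @IsProper) sq.flip hs2
    infer_instance
  · rw [morphismRestrict_comp]
    have i1 : IsIso (W.ι.imageι ∣_ (π₁ ⁻¹ᵁ interior I)) := by
      have : π₁ ⁻¹ᵁ interior I = W := hW
      rw [this]
      exact isIso_imageι_restrict W
    have i2 : IsIso (π₁ ∣_ interior I) :=
      isIso_restrict_of_isPullback sq (interior J') hs3 _ (interior_le_preimage _ _ f hf)
    exact @IsIso.comp_isIso _ _ _ _ _ _ _ i1 i2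
  · show I.comap _ ≤ J.comap _
    have h1 : J = J'.comap s := hs1
    have h2 : (W.ι.imageι ≫ π₂) ≫ s = (W.ι.imageι ≫ π₁) ≫ f := by
      rw [Category.assoc, Category.assoc, sq.w]
    have h3 : J.comap (W.ι.imageι ≫ π₂) = (J'.comap f).comap (W.ι.imageι ≫ π₁) := by
      rw [h1, ← Scheme.IdealSheafData.comap_comp, h2, Scheme.IdealSheafData.comap_comp]
    rw [h3]
    exact Scheme.IdealSheafData.comap_mono _ hf

/-- for `s` minimal and `g` ambient, the product interior is the preimage of the interior of `T` -/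
lemma prodInterior_eq {S T X : Scheme.{u}} (IS : S.IdealSheafData) (IT : T.IdealSheafData)
    (IX : X.IdealSheafData) (g : T ⟶ S) (hg : IsAmbient IT IS g) (s : X ⟶ S)
    (hs : IsMinimal IX IS s) :
    pullback.snd s g ⁻¹ᵁ (IT.support.compl : T.Opens) = prodInterior s g IX IT := by
  unfold prodInterior
  symm
  apply inf_eq_right.mpr
  have h1 : IX = IS.comap s := hs
  have h2 : interior IX = s ⁻¹ᵁ interior IS := by
    unfold ModPair.interior
    rw [h1]; exact (preimage_compl_support s IS).symm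
  rw [h2, ← Scheme.Hom.comp_preimage, pullback.condition, Scheme.Hom.comp_preimage]
  intro z hz
  exact interior_le_preimage IT IS g hg hz

end Groth.Agent.Helper28.AdmCalc
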