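import Mathlib
import Groth.Prelude.Def_W4c6modpairsegaMP
import Groth.Agent.Lib.Helper28.AdmCalc2
set_option autoImplicit false
universe u
open CategoryTheory CategoryTheory.Limits AlgebraicGeometry TopologicalSpace

namespace Groth.Agent.Helper28.AdmCalc

open ModPair Groth.Agent.Helper28.EffCartierDense

lemma closure_effCartier {P X : Scheme.{u}} (π₁ : P ⟶ X) (I : X.IdealSheafData)
    (hI : BlowUp.IsEffCartierIdeal I) (W : P.Opens)
    (hW : π₁ ⁻¹ᵁ (I.support.compl : X.Opens) = W) :
    BlowUp.IsEffCartierIdeal (I.comap (W.ι.imageι ≫ π₁)) := by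
  have hqc : QuasiCompact W.ι := by
    rw [← hW]
    exact Groth.Agent.Helper28.EffCartierDense.quasiCompact_ι_preimage_compl_support I hI π₁
  have hdom : IsSchemeTheoreticallyDominant
      ((W.ι.imageι ≫ π₁) ⁻¹ᵁ (I.support.compl : X.Opens)).ι := by
    constructor
    have := ker_preimage_ι_eq_bot W
    rw [← hW] at this ⊢
    exact this
  exact (Groth.Agent.Helper28.EffCartierDense.comap_dominant I hI (W.ι.imageι ≫ π₁)).2

/-- a morphism whose restriction to a scheme-theoretically dominant source factors through a closed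
immersion factors through it -/
lemma exists_factor_closed {U W P Z : Scheme.{u}} (j : Z ⟶ P) [IsClosedImmersion j] (c₀ : W ⟶ P)
    (i : U ⟶ W) (hi : i.ker = ⊥) (k : U ⟶ Z) (hk : i ≫ c₀ = k ≫ j) :
    ∃ c : W ⟶ Z, c ≫ j = c₀ := by
  let p₁ := pullback.fst c₀ j
  let p₂ := pullback.snd c₀ j
  let ℓ := pullback.lift i k hk
  have hℓ : ℓ ≫ p₁ = i := pullback.lift_fst _ _ _
  haveI : IsClosedImmersion p₁ := inferInstance
  have hker : p₁.ker = ⊥ := by
    have := Scheme.Hom.le_ker_comp ℓ p₁
    rw [hℓ, hi] at this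
    exact le_bot_iff.mp this
  haveI : IsIso p₁ := IsClosedImmersion.isIso_iff_ker_eq_bot.mpr hker
  refine ⟨inv p₁ ≫ p₂, ?_⟩
  rw [Category.assoc, IsIso.inv_comp_eq]
  exact pullback.condition.symm

/-- for `p` ambient and `f` minimal, the product interior is the preimage of the interior of `X` -/
lemma prodInterior_eq' {S T X : Scheme.{u}} (IS : S.IdealSheafData) (IT : T.IdealSheafData)
    (IX : X.IdealSheafData) (p : X ⟶ S) (hp : IsAmbient IX IS p) (f : T ⟶ S)
    (hf : IsMinimal IT IS f) :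
    pullback.fst p f ⁻¹ᵁ (IX.support.compl : X.Opens) = prodInterior p f IX IT := by
  unfold prodInterior
  symm
  apply inf_eq_left.mpr
  have h1 : IT = IS.comap f := hf
  have h2 : interior IT = f ⁻¹ᵁ interior IS := by
    unfold ModPair.interior
    rw [h1]; exact (preimage_compl_support f IS).symm
  rw [h2, ← Scheme.Hom.comp_preimage, ← pullback.condition, Scheme.Hom.comp_preimage]
  intro z hz
  exact interior_le_preimage IX IS p hp hz

theorem mprod_universal {S T X : Scheme.{u}} (IS : S.IdealSheafData)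
    (IT : T.IdealSheafData) (IX : X.IdealSheafData)
    (hX : BlowUp.IsEffCartierIdeal IX)
    (p : X ⟶ S) (hp : ModPair.IsAmbient IX IS p) (f : T ⟶ S) (hf : ModPair.IsMinimal IT IS f) :
    BlowUp.IsEffCartierIdeal (IX.comap (ModPair.mprodι p f IX IT ≫ pullback.fst p f)) ∧
      ModPair.IsAmbient (IX.comap (ModPair.mprodι p f IX IT ≫ pullback.fst p f)) IT
        (ModPair.mprodι p f IX IT ≫ pullback.snd p f) ∧
      ∀ (W : Scheme.{u}) (IW : W.IdealSheafData), BlowUp.IsEffCartierIdeal IW →
        ∀ (a : W ⟶ T) (b : W ⟶ X), ModPair.IsAmbient IW IT a → ModPair.IsAmbient IW IX b →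
          a ≫ f = b ≫ p →
          ∃! c : W ⟶ ModPair.mprod p f IX IT,
            c ≫ ModPair.mprodι p f IX IT ≫ pullback.snd p f = a ∧
              c ≫ ModPair.mprodι p f IX IT ≫ pullback.fst p f = b ∧
              ModPair.IsAmbient IW (IX.comap (ModPair.mprodι p f IX IT ≫ pullback.fst p f)) c := by
  have hO := prodInterior_eq' IS IT IX p hp f hf
  refine ⟨closure_effCartier (pullback.fst p f) IX hX _ hO, ?_, ?_⟩
  · show IX.comap _ ≤ IT.comap _
    have h1 : IT = IS.comap f := hf
    have h2 : (mprodι p f IX IT ≫ pullback.snd p f) ≫ f =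
        (mprodι p f IX IT ≫ pullback.fst p f) ≫ p := by
      rw [Category.assoc, Category.assoc, pullback.condition]
    have key : ∀ {Z : Scheme.{u}} (m₁ : Z ⟶ X) (m₂ : Z ⟶ T), m₂ ≫ f = m₁ ≫ p →
        IX.comap m₁ ≤ IT.comap m₂ := by
      intro Z m₁ m₂ h
      rw [h1, ← Scheme.IdealSheafData.comap_comp, h, Scheme.IdealSheafData.comap_comp]
      exact Scheme.IdealSheafData.comap_mono _ hp
    exact key _ _ h2
  · intro W IW hW a b ha hb hab
    let c₀ : W ⟶ pullback p f := pullback.lift b a hab.symm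
    have hc₀1 : c₀ ≫ pullback.fst p f = b := pullback.lift_fst _ _ _
    have hc₀2 : c₀ ≫ pullback.snd p f = a := pullback.lift_snd _ _ _
    let U : W.Opens := IW.support.compl
    have hi : U.ι.ker = ⊥ := ker_ι_eq_bot U (isLocallyBasicNZD_compl_support IW hW)
    have hU : U ≤ c₀ ⁻¹ᵁ prodInterior p f IX IT := by
      intro w hw
      refine ⟨?_, ?_⟩
      · show (c₀ ≫ pullback.fst p f) w ∈ interior IX
        rw [hc₀1]
        exact interior_le_preimage IW IX b hb hw
      · show (c₀ ≫ pullback.snd p f) w ∈ interior IT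
        rw [hc₀2]
        exact interior_le_preimage IW IT a ha hw
    let k' := c₀.resLE (prodInterior p f IX IT) U hU
    have hk' : k' ≫ (prodInterior p f IX IT).ι = U.ι ≫ c₀ := Scheme.Hom.resLE_comp_ι _ _
    obtain ⟨c, hc⟩ := exists_factor_closed (mprodι p f IX IT) c₀ U.ι hi
      (k' ≫ (prodInterior p f IX IT).ι.toImage) (by
        rw [Category.assoc, Scheme.Hom.toImage_imageι, hk'])
    refine ⟨c, ⟨?_, ?_, ?_⟩, ?_⟩
    · rw [reassoc_of% hc, hc₀2]
    · rw [reassoc_of% hc, hc₀1]
    · show IW ≤ (IX.comap _).comap c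
      rw [← Scheme.IdealSheafData.comap_comp, reassoc_of% hc, hc₀1]
      exact hb
    · rintro c' ⟨h1, h2, -⟩
      rw [← cancel_mono (mprodι p f IX IT), hc]
      apply pullback.hom_ext
      · rw [Category.assoc, h2, hc₀1]
      · rw [Category.assoc, h1, hc₀2]

end Groth.Agent.Helper28.AdmCalc
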