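import Mathlib
import Groth.Agent.Lib.Helper28.EffCartierOld
import Groth.Agent.Lib.Helper28.AdmCalc3
set_option autoImplicit false
universe u
open CategoryTheory CategoryTheory.Limits AlgebraicGeometry TopologicalSpace

namespace Groth.Agent.Helper28.StrictTr

open Groth.Agent.Helper28.EffCartierDense Groth.Agent.Helper28.EffCartierOld
  Groth.Agent.Helper28.AdmCalc

/-- blow-ups of the same centre are uniquely isomorphic -/
lemma exists_iso_of_isBlowUp {Y Y₁ Y₂ : Scheme.{u}} (𝓚 : Y.IdealSheafData) (b₁ : Y₁ ⟶ Y)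
    (b₂ : Y₂ ⟶ Y) (h₁ : BlowUp.IsBlowUp b₁ 𝓚) (h₂ : BlowUp.IsBlowUp b₂ 𝓚) :
    ∃ φ : Y₁ ≅ Y₂, φ.hom ≫ b₂ = b₁ := by
  obtain ⟨φ, hφ, -⟩ := h₂.2 Y₁ b₁ h₁.1
  obtain ⟨ψ, hψ, -⟩ := h₁.2 Y₂ b₂ h₂.1
  obtain ⟨i₁, hi₁, hu₁⟩ := h₁.2 Y₁ b₁ h₁.1
  obtain ⟨i₂, hi₂, hu₂⟩ := h₂.2 Y₂ b₂ h₂.1
  refine ⟨⟨φ, ψ, ?_, ?_⟩, hφ⟩
  · rw [hu₁ (φ ≫ ψ) (by show (φ ≫ ψ) ≫ b₁ = b₁; rw [Category.assoc, hψ, hφ]),
      hu₁ (𝟙 _) (Category.id_comp _)]
  · rw [hu₂ (ψ ≫ φ) (by show (ψ ≫ φ) ≫ b₂ = b₂; rw [Category.assoc, hφ, hψ]),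
      hu₂ (𝟙 _) (Category.id_comp _)]

/-- the strict transform of a closed subscheme under a blow-up is a closed subscheme of the blow-up -/
theorem isClosedImmersion_strictTransform {X Y X' Y' : Scheme.{u}}
    (𝓘 : X.IdealSheafData) (f : Y ⟶ X) [IsClosedImmersion f]
    (b : X' ⟶ X) (hb : BlowUp.IsBlowUp b 𝓘) (b' : Y' ⟶ Y) (hb' : BlowUp.IsBlowUp b' (𝓘.comap f))
    (f' : Y' ⟶ X') (hf' : f' ≫ b = b' ≫ f) : IsClosedImmersion f' := by
  let q₁ := pullback.fst b f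
  let q₂ := pullback.snd b f
  have hcond : q₁ ≫ b = q₂ ≫ f := pullback.condition
  let W : (pullback b f).Opens := q₁ ⁻¹ᵁ ((𝓘.comap b).support.compl : X'.Opens)
  have hZeff : BlowUp.IsEffCartierIdeal ((𝓘.comap b).comap (W.ι.imageι ≫ q₁)) :=
    closure_effCartier q₁ (𝓘.comap b) hb.1 W rfl
  let c : W.ι.image ⟶ Y := W.ι.imageι ≫ q₂
  have hceq : (𝓘.comap f).comap c = (𝓘.comap b).comap (W.ι.imageι ≫ q₁) := by
    have : c ≫ f = (W.ι.imageι ≫ q₁) ≫ b := by simp only [c, Category.assoc, hcond]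
    rw [← Scheme.IdealSheafData.comap_comp, ← Scheme.IdealSheafData.comap_comp, this]
  have hc : BlowUp.IsBlowUp c (𝓘.comap f) := by
    refine ⟨hceq ▸ hZeff, ?_⟩
    intro T g hg
    have hg' : BlowUp.IsEffCartierIdeal (𝓘.comap (g ≫ f)) := by
      rw [Scheme.IdealSheafData.comap_comp]; exact hg
    obtain ⟨h, hh, hu⟩ := hb.2 T (g ≫ f) hg'
    let c₀ : T ⟶ pullback b f := pullback.lift h g hh
    have hc₀1 : c₀ ≫ q₁ = h := pullback.lift_fst _ _ _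
    have hc₀2 : c₀ ≫ q₂ = g := pullback.lift_snd _ _ _
    let T0 : T.Opens := (𝓘.comap (g ≫ f)).support.compl
    have hi : T0.ι.ker = ⊥ := ker_ι_eq_bot T0 (isLocallyBasicNZD_compl_support _ hg')
    have hT : T0 ≤ c₀ ⁻¹ᵁ W := by
      intro t ht
      show (c₀ ≫ q₁) t ∈ ((𝓘.comap b).support.compl : X'.Opens)
      rw [hc₀1]
      intro hmem
      apply ht
      rw [Scheme.IdealSheafData.support_comap] at hmem ⊢
      show (g ≫ f) t ∈ 𝓘.support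
      rw [← hh]
      exact hmem
    let k' := c₀.resLE W T0 hT
    have hk' : k' ≫ W.ι = T0.ι ≫ c₀ := Scheme.Hom.resLE_comp_ι _ _
    obtain ⟨c', hc'⟩ := exists_factor_closed W.ι.imageι c₀ T0.ι hi (k' ≫ W.ι.toImage) (by
      rw [Category.assoc, Scheme.Hom.toImage_imageι, hk'])
    refine ⟨c', ?_, ?_⟩
    · show c' ≫ W.ι.imageι ≫ q₂ = g
      rw [reassoc_of% hc', hc₀2]
    · intro c'' hc''
      rw [← cancel_mono W.ι.imageι, hc']
      have h2 : (c'' ≫ W.ι.imageι) ≫ q₂ = g := by rw [Category.assoc]; exact hc''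
      apply pullback.hom_ext
      · rw [hc₀1]
        apply hu
        show ((c'' ≫ W.ι.imageι) ≫ q₁) ≫ b = g ≫ f
        rw [Category.assoc, hcond, ← Category.assoc, h2]
      · rw [hc₀2]; exact h2
  obtain ⟨φ, hφ⟩ := exists_iso_of_isBlowUp (𝓘.comap f) b' c hb' hc
  have hE : BlowUp.IsEffCartierIdeal (𝓘.comap (b' ≫ f)) := by
    rw [Scheme.IdealSheafData.comap_comp]; exact hb'.1
  obtain ⟨h, hh, hu⟩ := hb.2 Y' (b' ≫ f) hE
  have e1 : f' = h := hu f' hf'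
  have e2 : φ.hom ≫ W.ι.imageι ≫ q₁ = h := by
    apply hu
    rw [Category.assoc, Category.assoc, hcond, ← Category.assoc W.ι.imageι, ← Category.assoc,
      hφ]
  rw [e1, ← e2]
  haveI : IsClosedImmersion q₁ := inferInstance
  infer_instance


lemma isAffineHom_ι_compl_support {Z : Scheme.{u}} (E : Z.IdealSheafData)
    (hE : BlowUp.IsEffCartierIdeal E) : IsAffineHom (Scheme.Opens.ι (X := Z) E.support.compl) := by
  choose V hxV t ht hOV using isLocallyBasicNZD_compl_support E hE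
  have hcover : ⨆ x, (V x).1 = ⊤ := by
    rw [eq_top_iff]
    intro x _
    rw [Opens.mem_iSup]
    exact ⟨x, hxV x⟩
  rw [HasAffineProperty.iff_of_iSup_eq_top (P := @IsAffineHom) V hcover]
  intro x
  show IsAffineOpen ((Scheme.Opens.ι (X := Z) E.support.compl) ⁻¹ᵁ (V x).1)
  have e : (Scheme.Opens.ι (X := Z) E.support.compl) ⁻¹ᵁ (V x).1 =
      (Scheme.Opens.ι (X := Z) E.support.compl) ⁻¹ᵁ (Z.basicOpen (t x)) := by
    rw [← hOV x]
    ext z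
    constructor
    · intro h; exact ⟨z.2, h⟩
    · intro h; exact h.2
  rw [e]
  exact ((V x).2.basicOpen (t x)).preimage_of_isOpenImmersion (Scheme.Opens.ι (X := Z) E.support.compl)
    (by rw [Scheme.Opens.opensRange_ι, ← hOV x]; exact inf_le_left)

theorem strictTransform_affine_ker {X X' Z' : Scheme.{u}} (𝓘 𝓙 : X.IdealSheafData) (b : X' ⟶ X)
    (hb : BlowUp.IsBlowUp b 𝓘)
    (b' : Z' ⟶ 𝓙.subscheme) (hb' : BlowUp.IsBlowUp b' (𝓘.comap 𝓙.subschemeι))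
    (k : Z' ⟶ X') (hk : k ≫ b = b' ≫ 𝓙.subschemeι) :
    IsClosedImmersion k ∧
      IsAffineHom ((k ⁻¹ᵁ (b ⁻¹ᵁ 𝓘.support.compl)).ι ≫ k) ∧
      ((k ⁻¹ᵁ (b ⁻¹ᵁ 𝓘.support.compl)).ι ≫ k).ker = k.ker := by
  haveI hk1 : IsClosedImmersion k :=
    isClosedImmersion_strictTransform 𝓘 𝓙.subschemeι b hb b' hb' k hk
  have hE' : BlowUp.IsEffCartierIdeal ((𝓘.comap 𝓙.subschemeι).comap b') := hb'.1
  have hW : k ⁻¹ᵁ (b ⁻¹ᵁ 𝓘.support.compl) =
      (((𝓘.comap 𝓙.subschemeι).comap b').support.compl : Z'.Opens) := by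
    rw [← Scheme.Hom.comp_preimage, hk, Scheme.Hom.comp_preimage, preimage_compl_support,
      preimage_compl_support]
  refine ⟨hk1, ?_, ?_⟩
  · rw [hW]
    haveI := isAffineHom_ι_compl_support _ hE'
    infer_instance
  · rw [hW, Scheme.Hom.ker_comp, ker_ι_eq_bot _ (isLocallyBasicNZD_compl_support _ hE'),
      Scheme.IdealSheafData.map_bot]

end Groth.Agent.Helper28.StrictTr
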