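import Mathlib
import Groth.Prelude.Def_BlowUp2
import Groth.Agent.Lib.Helper28.BlowUpProj
import Groth.Agent.Lib.Helper28.StrictTr

universe u
open AlgebraicGeometry CategoryTheory CategoryTheory.Limits
  Groth.Agent.Helper28.ReesChart Groth.Agent.Helper28.BlowUpProj

namespace Groth.Agent.Helper28.BlowUpExist

/-- transport of a blow-up along an isomorphism of the base -/
lemma isBlowUp_comp_iso_inv {X X' B : Scheme.{u}} (e : X ≅ X') (b : B ⟶ X') (𝓘' : X'.IdealSheafData)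
    (hb : BlowUp.IsBlowUp b 𝓘') : BlowUp.IsBlowUp (b ≫ e.inv) (𝓘'.comap e.hom) := by
  constructor
  · rw [← Scheme.IdealSheafData.comap_comp, Category.assoc, e.inv_hom_id, Category.comp_id]
    exact hb.1
  · intro Y g hg
    rw [← Scheme.IdealSheafData.comap_comp] at hg
    obtain ⟨h, hh, hu⟩ := hb.2 Y (g ≫ e.hom) hg
    refine ⟨h, by show h ≫ b ≫ e.inv = g; rw [← Category.assoc, hh, Category.assoc, e.hom_inv_id, Category.comp_id], ?_⟩
    intro h' hh'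
    apply hu
    show h' ≫ b = g ≫ e.hom
    rw [← hh', Category.assoc, Category.assoc, e.inv_hom_id, Category.comp_id]

/-- precomposing a blow-up with an isomorphism of the source -/
lemma isBlowUp_iso_comp {X B B' : Scheme.{u}} (e : B' ≅ B) (b : B ⟶ X) (𝓘 : X.IdealSheafData)
    (hb : BlowUp.IsBlowUp b 𝓘) : BlowUp.IsBlowUp (e.hom ≫ b) 𝓘 := by
  constructor
  · rw [Scheme.IdealSheafData.comap_comp]
    exact Groth.Agent.Helper28.EffCartierDense.isEffCartierIdeal_comap_of_flat _ _ hb.1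
  · intro Y g hg
    obtain ⟨h, hh, hu⟩ := hb.2 Y g hg
    refine ⟨h ≫ e.inv, by show (h ≫ e.inv) ≫ e.hom ≫ b = g; rw [Category.assoc, e.inv_hom_id_assoc, hh], ?_⟩
    intro h' hh'
    rw [← hu (h' ≫ e.hom) (by show (h' ≫ e.hom) ≫ b = g; rw [Category.assoc]; exact hh'), Category.assoc, e.hom_inv_id,
      Category.comp_id]

/-- existence of blow-ups of affine schemes -/
lemma exists_isBlowUp_of_isAffine (X : Scheme.{u}) [IsAffine X] (𝓘 : X.IdealSheafData) :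
    ∃ (B : Scheme.{u}) (b : B ⟶ X), BlowUp.IsBlowUp b 𝓘 := by
  set J : Ideal Γ(X, ⊤) := 𝓘.ideal ⟨⊤, isAffineOpen_top X⟩ with hJ
  have h1 := isBlowUp_b J
  have h2 := isBlowUp_comp_iso_inv X.isoSpec (BlowUpProj.b J) (BlowUpProj.𝓘 J) h1
  have h3 : (BlowUpProj.𝓘 J).comap X.isoSpec.hom = 𝓘 := by
    apply Scheme.IdealSheafData.ext_of_isAffine
    rw [ideal_comap_eq J X.isoSpec.hom ⟨⊤, isAffineOpen_top X⟩]
    have : φU X.isoSpec.hom ⊤ = RingHom.id _ := by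
      have h4 : X.isoSpec.hom.appLE ⊤ ⊤ le_top = X.isoSpec.hom.appTop := by
        simp [Scheme.Hom.appLE]
      rw [φU, h4]
      have h5 : X.isoSpec.hom.appTop = (Scheme.ΓSpecIso Γ(X, ⊤)).hom := X.toSpecΓ_appTop
      rw [h5, Iso.inv_hom_id]
      rfl
    rw [this, Ideal.map_id]
  rw [h3] at h2
  exact ⟨_, _, h2⟩


section local_

variable {X B : Scheme.{u}} (b : B ⟶ X) (𝓘 : X.IdealSheafData)
  {ι : Type*} (U : ι → X.Opens) (hU : ∀ x : X, ∃ i, x ∈ U i)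
  (Bi : ι → Scheme.{u}) (j : ∀ i, Bi i ⟶ B) (β : ∀ i, Bi i ⟶ (U i : Scheme.{u}))
  (sq : ∀ i, IsPullback (j i) (β i) b (U i).ι)
  (hβ : ∀ i, BlowUp.IsBlowUp (β i) (𝓘.comap (U i).ι))

include sq hβ hU in
lemma isEffCartier_of_local : BlowUp.IsEffCartierIdeal (𝓘.comap b) := by
  apply isEffCartierIdeal_of_local'
  intro p
  obtain ⟨i, hi⟩ := hU (b p)
  have hj : IsOpenImmersion (j i) :=
    MorphismProperty.of_isPullback (P := @IsOpenImmersion) (sq i).flip inferInstance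
  refine ⟨Bi i, j i, hj, ?_, ?_⟩
  · obtain ⟨q, hq, -⟩ := Scheme.exists_preimage_of_isPullback (sq i) p ⟨b p, hi⟩ rfl
    exact ⟨q, hq⟩
  · rw [← Scheme.IdealSheafData.comap_comp, (sq i).w, Scheme.IdealSheafData.comap_comp]
    exact (hβ i).1

include sq hβ hU in
lemma lift_unique_of_local {Y : Scheme.{u}} (g : Y ⟶ X) (hg : BlowUp.IsEffCartierIdeal (𝓘.comap g))
    (h₁ h₂ : Y ⟶ B) (hh₁ : h₁ ≫ b = g) (hh₂ : h₂ ≫ b = g) : h₁ = h₂ := by
  apply Scheme.hom_ext_of_forall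
  intro y
  obtain ⟨i, hi⟩ := hU (g y)
  refine ⟨g ⁻¹ᵁ U i, hi, ?_⟩
  have hc₁ : ((g ⁻¹ᵁ U i).ι ≫ h₁) ≫ b = (g ∣_ U i) ≫ (U i).ι := by
    rw [Category.assoc, hh₁, morphismRestrict_ι]
  have hc₂ : ((g ⁻¹ᵁ U i).ι ≫ h₂) ≫ b = (g ∣_ U i) ≫ (U i).ι := by
    rw [Category.assoc, hh₂, morphismRestrict_ι]
  have hE : BlowUp.IsEffCartierIdeal ((𝓘.comap (U i).ι).comap (g ∣_ U i)) := by
    rw [← Scheme.IdealSheafData.comap_comp, morphismRestrict_ι, Scheme.IdealSheafData.comap_comp]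
    exact Groth.Agent.Helper28.EffCartierDense.isEffCartierIdeal_comap_of_flat _ _ hg
  obtain ⟨k, hk, hu⟩ := (hβ i).2 _ (g ∣_ U i) hE
  have e₁ : (sq i).lift _ _ hc₁ = k := hu _ ((sq i).lift_snd _ _ hc₁)
  have e₂ : (sq i).lift _ _ hc₂ = k := hu _ ((sq i).lift_snd _ _ hc₂)
  rw [← (sq i).lift_fst _ _ hc₁, ← (sq i).lift_fst _ _ hc₂, e₁, e₂]

include sq hβ hU in
/-- being a blow-up is local on the base -/
theorem isBlowUp_of_local : BlowUp.IsBlowUp b 𝓘 := by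
  refine ⟨isEffCartier_of_local b 𝓘 U hU Bi j β sq hβ, fun Y g hg => ?_⟩
  have huniq := fun (Y : Scheme.{u}) (g : Y ⟶ X) hg => lift_unique_of_local b 𝓘 U hU Bi j β sq hβ (Y := Y) g hg
  suffices hex : ∃ h : Y ⟶ B, h ≫ b = g by
    obtain ⟨h, hh⟩ := hex
    exact ⟨h, hh, fun h' hh' => huniq Y g hg h' h hh' hh⟩
  -- local lifts
  have hloc : ∀ i, ∃ h : ((g ⁻¹ᵁ U i : Y.Opens) : Scheme.{u}) ⟶ B, h ≫ b = (g ⁻¹ᵁ U i).ι ≫ g := by
    intro i
    have hE : BlowUp.IsEffCartierIdeal ((𝓘.comap (U i).ι).comap (g ∣_ U i)) := by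
      rw [← Scheme.IdealSheafData.comap_comp, morphismRestrict_ι, Scheme.IdealSheafData.comap_comp]
      exact Groth.Agent.Helper28.EffCartierDense.isEffCartierIdeal_comap_of_flat _ _ hg
    obtain ⟨k, hk, -⟩ := (hβ i).2 _ (g ∣_ U i) hE
    refine ⟨k ≫ j i, ?_⟩
    rw [Category.assoc, (sq i).w, ← Category.assoc]
    change (k ≫ β i) ≫ _ = _
    rw [hk, morphismRestrict_ι]
  choose h hh using hloc
  have hcov : TopologicalSpace.IsOpenCover (fun i => g ⁻¹ᵁ U i) := by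
    rw [TopologicalSpace.IsOpenCover, eq_top_iff]
    intro y _
    obtain ⟨i, hi⟩ := hU (g y)
    exact TopologicalSpace.Opens.mem_iSup.mpr ⟨i, hi⟩
  set 𝒰 := Y.openCoverOfIsOpenCover (fun i => g ⁻¹ᵁ U i) hcov with h𝒰
  have hcompat : ∀ x y : ι, pullback.fst (g ⁻¹ᵁ U x).ι (g ⁻¹ᵁ U y).ι ≫ h x =
      pullback.snd (g ⁻¹ᵁ U x).ι (g ⁻¹ᵁ U y).ι ≫ h y := by
    intro x y
    apply huniq _ (pullback.fst (g ⁻¹ᵁ U x).ι (g ⁻¹ᵁ U y).ι ≫ (g ⁻¹ᵁ U x).ι ≫ g)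
    · rw [← Category.assoc, Scheme.IdealSheafData.comap_comp]
      exact Groth.Agent.Helper28.EffCartierDense.isEffCartierIdeal_comap_of_flat _ _ hg
    · rw [Category.assoc, hh x]
    · rw [Category.assoc, hh y, pullback.condition_assoc]
  refine ⟨𝒰.glueMorphisms h (fun x y => hcompat x y), ?_⟩
  apply 𝒰.hom_ext
  intro x
  rw [← Category.assoc, 𝒰.ι_glueMorphisms]
  exact hh x

end local_


/-- flat base change of blow-ups, for a general pullback square -/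
lemma isBlowUp_of_isPullback_of_flat {X₁ X₂ X₂' P : Scheme.{u}} {g : X₁ ⟶ X₂} [Flat g] {b : X₂' ⟶ X₂}
    {p₁ : P ⟶ X₁} {p₂ : P ⟶ X₂'} (sq : IsPullback p₁ p₂ g b) (𝓘 : X₂.IdealSheafData)
    (hb : BlowUp.IsBlowUp b 𝓘) : BlowUp.IsBlowUp p₁ (𝓘.comap g) := by
  constructor
  · rw [← Scheme.IdealSheafData.comap_comp, sq.w, Scheme.IdealSheafData.comap_comp]
    haveI : Flat p₂ := MorphismProperty.of_isPullback (P := @Flat) sq inferInstance
    exact Groth.Agent.Helper28.EffCartierDense.isEffCartierIdeal_comap_of_flat _ _ hb.1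
  · intro Y g' hg'
    rw [← Scheme.IdealSheafData.comap_comp] at hg'
    obtain ⟨h, hh, hu⟩ := hb.2 Y (g' ≫ g) hg'
    refine ⟨sq.lift g' h hh.symm, sq.lift_fst _ _ _, ?_⟩
    intro h' hh'
    apply sq.hom_ext
    · rw [hh', sq.lift_fst]
    · rw [sq.lift_snd]
      apply hu
      show (h' ≫ p₂) ≫ b = g' ≫ g
      rw [Category.assoc, ← sq.w, ← Category.assoc, hh']

section glue

variable (X : Scheme.{u}) (𝓘 : X.IdealSheafData)

lemma exists_local (U : X.affineOpens) :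
    ∃ (B : Scheme.{u}) (β : B ⟶ (U.1 : Scheme.{u})), BlowUp.IsBlowUp β (𝓘.comap U.1.ι) := by
  haveI : IsAffine (U.1 : Scheme.{u}) := U.2
  exact exists_isBlowUp_of_isAffine _ _

/-- the chosen local blow-ups -/
noncomputable def Bl (U : X.affineOpens) : Scheme.{u} := (exists_local X 𝓘 U).choose

/-- the chosen local blow-ups -/
noncomputable def β (U : X.affineOpens) : Bl X 𝓘 U ⟶ (U.1 : Scheme.{u}) :=
  (exists_local X 𝓘 U).choose_spec.choose

lemma isBlowUp_β (U : X.affineOpens) : BlowUp.IsBlowUp (β X 𝓘 U) (𝓘.comap U.1.ι) :=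
  (exists_local X 𝓘 U).choose_spec.choose_spec

lemma effCartier_trans {U V : X.affineOpens} (h : U ≤ V) :
    BlowUp.IsEffCartierIdeal ((𝓘.comap V.1.ι).comap (β X 𝓘 U ≫ X.homOfLE h)) := by
  rw [← Scheme.IdealSheafData.comap_comp, Category.assoc, Scheme.homOfLE_ι,
    Scheme.IdealSheafData.comap_comp]
  exact (isBlowUp_β X 𝓘 U).1

/-- the transition maps -/
noncomputable def tr {U V : X.affineOpens} (h : U ≤ V) : Bl X 𝓘 U ⟶ Bl X 𝓘 V :=
  ((isBlowUp_β X 𝓘 V).2 _ _ (effCartier_trans X 𝓘 h)).choose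

lemma tr_β {U V : X.affineOpens} (h : U ≤ V) : tr X 𝓘 h ≫ β X 𝓘 V = β X 𝓘 U ≫ X.homOfLE h :=
  ((isBlowUp_β X 𝓘 V).2 _ _ (effCartier_trans X 𝓘 h)).choose_spec.1

lemma tr_unique {U V : X.affineOpens} (h : U ≤ V) (k : Bl X 𝓘 U ⟶ Bl X 𝓘 V)
    (hk : k ≫ β X 𝓘 V = β X 𝓘 U ≫ X.homOfLE h) : k = tr X 𝓘 h :=
  ((isBlowUp_β X 𝓘 V).2 _ _ (effCartier_trans X 𝓘 h)).choose_spec.2 k hk

lemma isPullback_tr {U V : X.affineOpens} (h : U ≤ V) :
    IsPullback (tr X 𝓘 h) (β X 𝓘 U) (β X 𝓘 V) (X.homOfLE h) := by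
  have sq := (IsPullback.of_hasPullback (β X 𝓘 V) (X.homOfLE h)).flip
  have h1 := isBlowUp_of_isPullback_of_flat sq (𝓘.comap V.1.ι) (isBlowUp_β X 𝓘 V)
  rw [← Scheme.IdealSheafData.comap_comp, Scheme.homOfLE_ι] at h1
  obtain ⟨φ, hφ⟩ := Groth.Agent.Helper28.StrictTr.exists_iso_of_isBlowUp (𝓘.comap U.1.ι) (β X 𝓘 U) _
    (isBlowUp_β X 𝓘 U) h1
  refine IsPullback.of_iso_pullback ⟨tr_β X 𝓘 h⟩ φ ?_ hφ
  apply (tr_unique X 𝓘 h _ _).trans rfl
  rw [Category.assoc, pullback.condition, ← Category.assoc, hφ]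


/-- the diagram of local blow-ups -/
noncomputable def F : X.directedAffineCover.I₀ ⥤ Scheme.{u} where
  obj U := Bl X 𝓘 U
  map {U V} f := tr X 𝓘 (U := U) (V := V) (leOfHom f)
  map_id U := (tr_unique X 𝓘 (U := U) (V := U) le_rfl (𝟙 (Bl X 𝓘 U)) (by
    simp)).symm
  map_comp {U V W} f g := (tr_unique X 𝓘 (U := U) (V := W) _ (tr X 𝓘 (U := U) (V := V) (leOfHom f) ≫
      tr X 𝓘 (U := V) (V := W) (leOfHom g)) (by
    rw [Category.assoc, tr_β, ← Category.assoc, tr_β, Category.assoc, Scheme.homOfLE_homOfLE])).symm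

/-- the structure maps -/
noncomputable def α : F X 𝓘 ⟶ X.directedAffineCover.functorOfLocallyDirected where
  app U := β X 𝓘 U
  naturality {U V} f := tr_β X 𝓘 (U := U) (V := V) (leOfHom f)

lemma equifibered_α : (α X 𝓘).Equifibered := by
  intro U V f
  exact isPullback_tr X 𝓘 (U := U) (V := V) (leOfHom f)


/-- the relative gluing datum of the local blow-ups -/
noncomputable def gd : Scheme.Cover.RelativeGluingData X.directedAffineCover :=
  ⟨F X 𝓘, α X 𝓘, equifibered_α X 𝓘⟩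

instance : Small.{u} X.directedAffineCover.I₀ := inferInstanceAs (Small.{u} X.affineOpens)

/-- existence of blow-ups -/
theorem exists_isBlowUp : ∃ (B : Scheme.{u}) (b : B ⟶ X), BlowUp.IsBlowUp b 𝓘 := by
  refine ⟨(gd X 𝓘).glued, (gd X 𝓘).toBase, ?_⟩
  refine isBlowUp_of_local (gd X 𝓘).toBase 𝓘 (ι := X.affineOpens) (fun U => U.1) ?_
    (fun U => Bl X 𝓘 U) (fun U => colimit.ι (gd X 𝓘).functor U) (fun U => β X 𝓘 U)
    (fun U => ((gd X 𝓘).isPullback_natTrans_ι_toBase U).flip) (isBlowUp_β X 𝓘)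
  intro x
  obtain ⟨_, ⟨U, hU, rfl⟩, hxU, -⟩ :=
    X.isBasis_affineOpens.exists_subset_of_mem_open (Set.mem_univ x) isOpen_univ
  exact ⟨⟨U, hU⟩, hxU⟩

end glue

end Groth.Agent.Helper28.BlowUpExist
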