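import Mathlib
import Groth.Agent.Lib.Helper28.EffCartierDense
set_option autoImplicit false
universe u
open CategoryTheory CategoryTheory.Limits AlgebraicGeometry TopologicalSpace

namespace Groth.Agent.Helper28.EqLocus

open Groth.Agent.Helper28.EffCartierOld Groth.Agent.Helper28.IdealComapOld

variable {Y : Scheme.{u}}

section Algebra
variable {A : Type*} [CommRing A]

lemma isUnit_of_span_mul_eq {a s : A} (hs : s ∈ nonZeroDivisors A)
    (h : Ideal.span {a * s} = Ideal.span {s}) : IsUnit a := by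
  have h1 : s ∈ Ideal.span {a * s} := h ▸ Ideal.mem_span_singleton_self s
  obtain ⟨b, hb⟩ := Ideal.mem_span_singleton'.mp h1
  have h2 : (b * a - 1) * s = 0 := by rw [sub_mul, one_mul, mul_assoc, hb, sub_self]
  have h3 := (mem_nonZeroDivisors_iff_right.mp hs) _ h2
  exact IsUnit.of_mul_eq_one b (by rw [mul_comm]; exact sub_eq_zero.mp h3)

lemma mem_nonZeroDivisors_of_span_eq {r s : A} (hr : r ∈ nonZeroDivisors A)
    (h : Ideal.span {s} = Ideal.span {r}) : s ∈ nonZeroDivisors A := by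
  have h1 : r ∈ Ideal.span {s} := h ▸ Ideal.mem_span_singleton_self r
  obtain ⟨v, hv⟩ := Ideal.mem_span_singleton'.mp h1
  rw [mem_nonZeroDivisors_iff_right]
  intro z hz
  apply (mem_nonZeroDivisors_iff_right.mp hr) z
  rw [← hv, ← mul_assoc, mul_comm z v, mul_assoc, hz, mul_zero]

end Algebra

/-- the locus where two ideal sheaves agree -/
def eqLocus (J K : Y.IdealSheafData) : Y.Opens :=
  ⨆ (W : Y.affineOpens) (_ : J.ideal W = K.ideal W), W.1

/-- joint charts -/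
lemma exists_joint_chart (J K : Y.IdealSheafData) (hJ : BlowUp.IsEffCartierIdeal J)
    (hK : BlowUp.IsEffCartierIdeal K) (hJK : J ≤ K) (y : Y) :
    ∃ (V : Y.affineOpens) (t s a : Γ(Y, V.1)), y ∈ V.1 ∧ s ∈ nonZeroDivisors Γ(Y, V.1) ∧
      J.ideal V = Ideal.span {t} ∧ K.ideal V = Ideal.span {s} ∧ t = a * s := by
  obtain ⟨V₀, hyV₀, s₀, hs₀, hKs₀⟩ := hK y
  obtain ⟨V, hyV, hVV₀, t, ht, hJt⟩ := exists_chart_le hJ y V₀.1 hyV₀
  obtain ⟨hs, hKs⟩ := chart_restrict K (U := V) (V := V₀) hVV₀ s₀ hs₀ hKs₀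
  have h1 : t ∈ K.ideal V := hJK V (hJt ▸ Ideal.mem_span_singleton_self t)
  rw [hKs] at h1
  obtain ⟨a, ha⟩ := Ideal.mem_span_singleton'.mp h1
  exact ⟨V, t, _, a, hyV, hs, hJt, hKs, ha.symm⟩

lemma eqLocus_inf_chart (J K : Y.IdealSheafData) (V : Y.affineOpens) (t s a : Γ(Y, V.1))
    (hs : s ∈ nonZeroDivisors Γ(Y, V.1)) (hJ : J.ideal V = Ideal.span {t})
    (hK : K.ideal V = Ideal.span {s}) (hta : t = a * s) :
    eqLocus J K ⊓ V.1 = Y.basicOpen a := by
  apply le_antisymm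
  · rintro y ⟨hyU, hyV⟩
    simp only [eqLocus, Opens.coe_iSup, Set.mem_iUnion, SetLike.mem_coe] at hyU
    obtain ⟨W, hW, hyW⟩ := hyU
    obtain ⟨_, ⟨W', hW', rfl⟩, hyW', hW'WV⟩ :=
      Y.isBasis_affineOpens.exists_subset_of_mem_open
        (show y ∈ ((W.1 ⊓ V.1 : Y.Opens) : Set Y) from ⟨hyW, hyV⟩) (W.1 ⊓ V.1).2
    have hW'W : (⟨W', hW'⟩ : Y.affineOpens) ≤ W := fun z hz => (hW'WV hz).1
    have hW'V : (⟨W', hW'⟩ : Y.affineOpens) ≤ V := fun z hz => (hW'WV hz).2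
    have e1 : J.ideal ⟨W', hW'⟩ = K.ideal ⟨W', hW'⟩ := by
      rw [← J.map_ideal hW'W, ← K.map_ideal hW'W, hW]
    obtain ⟨hs', hKs'⟩ := chart_restrict K (U := ⟨W', hW'⟩) (V := V) hW'V s hs hK
    have hJ' : J.ideal ⟨W', hW'⟩ = Ideal.span {(Y.presheaf.map (homOfLE hW'V).op).hom a *
        (Y.presheaf.map (homOfLE hW'V).op).hom s} := by
      rw [← J.map_ideal hW'V, hJ, Ideal.map_span, Set.image_singleton, hta, map_mul]
    rw [hJ', hKs'] at e1
    have hunit := isUnit_of_span_mul_eq hs' e1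
    have h3 : Y.basicOpen ((Y.presheaf.map (homOfLE hW'V).op).hom a) = W' :=
      Scheme.basicOpen_of_isUnit _ hunit
    have h4 : Y.basicOpen ((Y.presheaf.map (homOfLE hW'V).op).hom a) = W' ⊓ Y.basicOpen a :=
      Scheme.basicOpen_res _ _ _
    rw [h3] at h4
    have : y ∈ W' ⊓ Y.basicOpen a := h4 ▸ hyW'
    exact this.2
  · have hle : Y.basicOpen a ≤ V.1 := Y.basicOpen_le a
    refine le_inf ?_ hle
    have hW : J.ideal (Y.affineBasicOpen a) = K.ideal (Y.affineBasicOpen a) := by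
      have hle' : Y.affineBasicOpen a ≤ V := hle
      rw [← J.map_ideal hle', ← K.map_ideal hle', hJ, hK, Ideal.map_span, Ideal.map_span,
        Set.image_singleton, Set.image_singleton, hta, map_mul]
      have hu : IsUnit ((Y.presheaf.map (homOfLE hle').op).hom a) :=
        Y.toRingedSpace.isUnit_res_basicOpen a
      exact Ideal.span_singleton_mul_left_unit hu _
    exact le_iSup₂ (f := fun (W : Y.affineOpens) (_ : J.ideal W = K.ideal W) => W.1)
      (Y.affineBasicOpen a) hW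


lemma quasiCompact_eqLocus_ι (J K : Y.IdealSheafData) (hJ : BlowUp.IsEffCartierIdeal J)
    (hK : BlowUp.IsEffCartierIdeal K) (hJK : J ≤ K) : QuasiCompact (eqLocus J K).ι := by
  set O := eqLocus J K with hO
  choose V t s a hy hs hJt hKs hta using exists_joint_chart J K hJ hK hJK
  have hcover : ⨆ y, (V y).1 = ⊤ := by
    rw [eq_top_iff]
    intro y _
    rw [Opens.mem_iSup]
    exact ⟨y, hy y⟩
  rw [HasAffineProperty.iff_of_iSup_eq_top (P := @QuasiCompact) V hcover]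
  intro y
  show CompactSpace ↥(O.ι ⁻¹ᵁ (V y).1)
  refine isCompact_iff_compactSpace.mp
    (?_ : IsCompact ((O.ι ⁻¹ᵁ (V y).1 : O.toScheme.Opens) : Set O.toScheme))
  rw [O.ι.isOpenEmbedding.isEmbedding.isCompact_iff]
  have : O.ι '' ((O.ι ⁻¹ᵁ (V y).1 : O.toScheme.Opens) : Set O.toScheme) =
      ((Y.basicOpen (a y) : Y.Opens) : Set Y) := by
    rw [← eqLocus_inf_chart J K (V y) (t y) (s y) (a y) (hs y) (hJt y) (hKs y) (hta y)]
    show O.ι '' (O.ι ⁻¹' ((V y).1 : Set Y)) = _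
    rw [Set.image_preimage_eq_inter_range, Scheme.Opens.range_ι, Set.inter_comm]
    rfl
  rw [this]
  exact ((V y).2.basicOpen _).isCompact

lemma comap_eqLocus_ι (J K : Y.IdealSheafData) :
    J.comap (eqLocus J K).ι = K.comap (eqLocus J K).ι := by
  set O := eqLocus J K with hO
  let ι' := {W : Y.affineOpens // J.ideal W = K.ideal W}
  have hle : ∀ W : ι', W.1.1 ≤ O := fun W =>
    le_iSup₂ (f := fun (W : Y.affineOpens) (_ : J.ideal W = K.ideal W) => W.1) W.1 W.2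
  have haff : ∀ W : ι', IsAffineOpen (O.ι ⁻¹ᵁ W.1.1) := fun W =>
    W.1.2.preimage_of_isOpenImmersion O.ι (by rw [Scheme.Opens.opensRange_ι]; exact hle W)
  apply Scheme.IdealSheafData.ext_of_iSup_eq_top (fun W : ι' => ⟨O.ι ⁻¹ᵁ W.1.1, haff W⟩)
  · rw [eq_top_iff]
    intro y _
    have hy : y.1 ∈ O := y.2
    simp only [hO, eqLocus, Opens.mem_iSup] at hy
    obtain ⟨W, hW, hyW⟩ := hy
    rw [Opens.mem_iSup]
    exact ⟨⟨W, hW⟩, hyW⟩
  · intro W
    rw [ideal_comap O.ι J W.1 ⟨O.ι ⁻¹ᵁ W.1.1, haff W⟩ le_rfl,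
      ideal_comap O.ι K W.1 ⟨O.ι ⁻¹ᵁ W.1.1, haff W⟩ le_rfl, W.2]

lemma range_subset_eqLocus {X : Scheme.{u}} (J K : Y.IdealSheafData) (hJ : BlowUp.IsEffCartierIdeal J)
    (hK : BlowUp.IsEffCartierIdeal K) (hJK : J ≤ K) (f : X ⟶ Y)
    (hI : BlowUp.IsEffCartierIdeal (J.comap f)) (heq : J.comap f = K.comap f) :
    Set.range f ⊆ (eqLocus J K : Set Y) := by
  rintro _ ⟨x, rfl⟩
  obtain ⟨V, t, s, a, hyV, hs, hJt, hKs, hta⟩ := exists_joint_chart J K hJ hK hJK (f x)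
  obtain ⟨U', hxU', hU'V, r, hr, hIr⟩ := exists_chart_le hI x (f ⁻¹ᵁ V.1) hyV
  have e1 := ideal_comap f J V U' hU'V
  have e2 := ideal_comap f K V U' hU'V
  rw [hJt, Ideal.map_span, Set.image_singleton, hta, map_mul] at e1
  rw [hKs, Ideal.map_span, Set.image_singleton] at e2
  rw [← heq] at e2
  have hsnzd : (f.appLE V.1 U'.1 hU'V).hom s ∈ nonZeroDivisors Γ(X, U'.1) :=
    mem_nonZeroDivisors_of_span_eq hr (e2.symm.trans hIr)
  have hunit : IsUnit ((f.appLE V.1 U'.1 hU'V).hom a) :=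
    isUnit_of_span_mul_eq hsnzd (e1.symm.trans e2)
  have h3 : X.basicOpen ((f.appLE V.1 U'.1 hU'V).hom a) = U'.1 :=
    Scheme.basicOpen_of_isUnit _ hunit
  have h4 := Scheme.basicOpen_appLE f U'.1 V.1 hU'V a
  have h5 : x ∈ U'.1 ⊓ f ⁻¹ᵁ (Y.basicOpen a) := by
    rw [← h4]
    show x ∈ X.basicOpen ((f.appLE V.1 U'.1 hU'V).hom a)
    rw [h3]; exact hxU'
  have h6 : f x ∈ Y.basicOpen a := h5.2
  have h7 := eqLocus_inf_chart J K V t s a hs hJt hKs hta
  have : f x ∈ eqLocus J K ⊓ V.1 := h7 ▸ h6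
  exact this.1

end Groth.Agent.Helper28.EqLocus
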