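import Mathlib
import Groth.Agent.Lib.Helper28.EqLocus
import Groth.Prelude.Def_W4c6modpairsegaMP
set_option autoImplicit false
universe u
open CategoryTheory CategoryTheory.Limits AlgebraicGeometry TopologicalSpace

namespace Groth.Agent.Helper28.ValTest

open Groth.Agent.Helper28.EffCartierOld Groth.Agent.Helper28.IdealComapOld

section Algebra

lemma exists_valuationRing_of_primes {A : Type u} [CommRing A] (𝔮 𝔭 : Ideal A) [𝔮.IsPrime]
    [𝔭.IsPrime] (h : 𝔮 ≤ 𝔭) :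
    ∃ (R : Type u) (_ : CommRing R) (_ : IsDomain R) (_ : ValuationRing R) (ψ : A →+* R),
      RingHom.ker ψ = 𝔮 ∧ ∀ a, a ∈ 𝔭 → ¬ IsUnit (ψ a) := by
  let K := FractionRing (A ⧸ 𝔮)
  let f₀ : A →+* K := (algebraMap (A ⧸ 𝔮) K).comp (Ideal.Quotient.mk 𝔮)
  have hf₀ : ∀ a, f₀ a = 0 ↔ a ∈ 𝔮 := by
    intro a
    show algebraMap (A ⧸ 𝔮) K (Ideal.Quotient.mk 𝔮 a) = 0 ↔ _
    rw [map_eq_zero_iff _ (IsFractionRing.injective (A ⧸ 𝔮) K), Ideal.Quotient.eq_zero_iff_mem]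
  have hunits : ∀ y : 𝔭.primeCompl, IsUnit (f₀ y) := by
    intro y
    rw [isUnit_iff_ne_zero, Ne, hf₀]
    exact fun hy => y.2 (h hy)
  let f : Localization.AtPrime 𝔭 →+* K := IsLocalization.lift (M := 𝔭.primeCompl) hunits
  obtain ⟨R, hR, hloc⟩ := IsLocalRing.exists_factor_valuationRing f
  let ψ : A →+* R := (f.codRestrict R.toSubring hR).comp (algebraMap A (Localization.AtPrime 𝔭))
  have hψ : ∀ a, ((ψ a : R) : K) = f₀ a := by
    intro a
    show f (algebraMap A _ a) = f₀ a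
    exact IsLocalization.lift_eq _ _
  refine ⟨R, inferInstance, inferInstance, inferInstance, ψ, ?_, ?_⟩
  · ext a
    rw [RingHom.mem_ker, ← hf₀, ← hψ]
    constructor
    · intro h; rw [h]; rfl
    · intro h; exact Subtype.ext h
  · intro a ha hu
    have : IsUnit (algebraMap A (Localization.AtPrime 𝔭) a) := hloc.map_nonunit _ hu
    have h2 := (IsLocalization.AtPrime.isUnit_to_map_iff (Localization.AtPrime 𝔭) 𝔭 a).mp this
    exact h2 ha

lemma exists_valuationRing_of_nzd {A : Type u} [CommRing A] (s a : A) (hs : s ∈ nonZeroDivisors A)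
    (ha : ¬ IsUnit a) :
    ∃ (R : Type u) (_ : CommRing R) (_ : IsDomain R) (_ : ValuationRing R) (ψ : A →+* R),
      ψ s ≠ 0 ∧ ¬ IsUnit (ψ a) := by
  obtain ⟨𝔭, h𝔭, ha𝔭⟩ := exists_max_ideal_of_mem_nonunits (show a ∈ nonunits A from ha)
  obtain ⟨𝔮, h𝔮, h𝔮𝔭⟩ := Ideal.exists_minimalPrimes_le (I := (⊥ : Ideal A)) (J := 𝔭) bot_le
  have : 𝔮.IsPrime := h𝔮.1.1
  have : 𝔭.IsPrime := h𝔭.isPrime
  obtain ⟨R, i1, i2, i3, ψ, hker, hnu⟩ := exists_valuationRing_of_primes 𝔮 𝔭 h𝔮𝔭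
  refine ⟨R, i1, i2, i3, ψ, ?_, hnu a ha𝔭⟩
  intro h0
  have hs𝔮 : s ∈ 𝔮 := by rw [← hker]; exact h0
  have hdisj := Ideal.disjoint_nonZeroDivisors_of_mem_minimalPrimes (by simpa using h𝔮 : 𝔮 ∈ minimalPrimes A)
  exact Set.disjoint_left.mp hdisj hs𝔮 hs


lemma exists_valuationRing_rank {A : Type u} [CommRing A] (s a : A) (hs : s ∈ nonZeroDivisors A)
    (ha : ¬ IsUnit a) :
    ∃ (R : Type u) (_ : CommRing R) (_ : IsDomain R) (_ : ValuationRing R) (ψ : A →+* R),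
      ψ s ≠ 0 ∧ ¬ IsUnit (ψ a) ∧ ∀ P : Ideal R, P.IsPrime → P ≠ ⊥ → ψ s ∈ P := by
  obtain ⟨R₀, i1, i2, i3, ψ₀, hσ, hnu⟩ := exists_valuationRing_of_nzd s a hs ha
  set σ := ψ₀ s with hσdef
  let 𝔯 : Ideal R₀ :=
    { carrier := {x | ∀ n : ℕ, ¬ x ∣ σ ^ n}
      zero_mem' := by
        intro n hn
        exact hσ (pow_eq_zero_iff (M₀ := R₀) (n := n) (a := σ)
          (by rintro rfl; exact hσ (by simpa using zero_dvd_iff.mp hn)) |>.mp (zero_dvd_iff.mp hn))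
      add_mem' := by
        intro x y hx hy n hn
        obtain ⟨c, hc | hc⟩ := ValuationRing.cond x y
        · exact hx n (Dvd.dvd.trans ⟨1 + c, by rw [← hc]; ring⟩ hn)
        · exact hy n (Dvd.dvd.trans ⟨1 + c, by rw [← hc]; ring⟩ hn)
      smul_mem' := by
        intro r x hx n hn
        exact hx n (dvd_of_mul_left_dvd (a := r) hn) }
  have hmem : ∀ x, x ∈ 𝔯 ↔ ∀ n : ℕ, ¬ x ∣ σ ^ n := fun x => Iff.rfl
  have h𝔯prime : 𝔯.IsPrime := by
    refine ⟨?_, ?_⟩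
    · intro htop
      have : (1 : R₀) ∈ 𝔯 := htop ▸ Submodule.mem_top
      exact (hmem 1).mp this 0 (one_dvd _)
    · intro x y hxy
      by_contra hcon
      push Not at hcon
      obtain ⟨hx, hy⟩ := hcon
      rw [hmem] at hx hy
      push Not at hx hy
      obtain ⟨n, hn⟩ := hx
      obtain ⟨m, hm⟩ := hy
      exact (hmem _).mp hxy (n + m) (by rw [pow_add]; exact mul_dvd_mul hn hm)
  have hσ𝔯 : σ ∉ 𝔯 := fun h => (hmem σ).mp h 1 (by rw [pow_one])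
  have h𝔯nu : ∀ x ∈ 𝔯, ¬ IsUnit x := by
    intro x hx hu
    exact (hmem x).mp hx 0 (by rw [pow_zero]; exact hu.dvd)
  refine ⟨R₀ ⧸ 𝔯, inferInstance, inferInstance,
    Function.Surjective.valuationRing (Ideal.Quotient.mk 𝔯) Ideal.Quotient.mk_surjective,
    (Ideal.Quotient.mk 𝔯).comp ψ₀, ?_, ?_, ?_⟩
  · show Ideal.Quotient.mk 𝔯 σ ≠ 0
    rw [Ne, Ideal.Quotient.eq_zero_iff_mem]
    exact hσ𝔯
  · intro hu
    change IsUnit (Ideal.Quotient.mk 𝔯 (ψ₀ a)) at hu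
    obtain ⟨b', hb'⟩ := hu.exists_right_inv
    obtain ⟨b, rfl⟩ := Ideal.Quotient.mk_surjective b'
    rw [← map_mul, ← map_one (Ideal.Quotient.mk 𝔯), ← sub_eq_zero, ← map_sub,
      Ideal.Quotient.eq_zero_iff_mem] at hb'
    have h1 : ψ₀ a * b - 1 ∈ IsLocalRing.maximalIdeal R₀ := h𝔯nu _ hb'
    have h2 : ψ₀ a * b ∈ IsLocalRing.maximalIdeal R₀ :=
      Ideal.mul_mem_right _ _ hnu
    have h3 : (1 : R₀) ∈ IsLocalRing.maximalIdeal R₀ := by
      have := Ideal.sub_mem _ h2 h1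
      simpa using this
    exact (IsLocalRing.maximalIdeal.isMaximal R₀).ne_top ((Ideal.eq_top_iff_one _).mpr h3)
  · intro P hP hPbot
    obtain ⟨x', hx'P, hx'0⟩ := Submodule.exists_mem_ne_zero_of_ne_bot hPbot
    obtain ⟨x, rfl⟩ := Ideal.Quotient.mk_surjective x'
    have hx𝔯 : x ∉ 𝔯 := fun hx => hx'0 (Ideal.Quotient.eq_zero_iff_mem.mpr hx)
    rw [hmem] at hx𝔯
    push Not at hx𝔯
    obtain ⟨n, c, hc⟩ := hx𝔯
    have : (Ideal.Quotient.mk 𝔯 σ) ^ n ∈ P := by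
      rw [← map_pow, hc, map_mul]
      exact Ideal.mul_mem_right _ _ hx'P
    exact hP.mem_of_pow_mem n this

end Algebra

section Geometry

variable {X : Scheme.{u}}

lemma comap_ideal_top (I : X.IdealSheafData) (V : X.affineOpens) (R : CommRingCat.{u})
    (φ : Γ(X, V.1) ⟶ R) :
    (I.comap (Spec.map φ ≫ V.2.fromSpec)).ideal ⟨⊤, isAffineOpen_top _⟩ =
      (I.ideal V).map (φ ≫ (Scheme.ΓSpecIso R).inv).hom := by
  have e : (⊤ : (Spec R).Opens) ≤ (Spec.map φ ≫ V.2.fromSpec) ⁻¹ᵁ V.1 := by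
    rw [Scheme.Hom.comp_preimage, V.2.fromSpec_preimage_self]
    exact le_rfl
  rw [ideal_comap (Spec.map φ ≫ V.2.fromSpec) I V ⟨⊤, isAffineOpen_top _⟩ e]
  congr 2
  apply Spec.map_injective
  rw [← cancel_mono V.2.fromSpec]
  rw [IsAffineOpen.SpecMap_appLE_fromSpec _ V.2 (isAffineOpen_top _) e,
    IsAffineOpen.fromSpec_top, Scheme.isoSpec_Spec_inv, Spec.map_comp, Category.assoc]

variable {R : Type u} [CommRing R] [IsDomain R]

lemma inv_mem_nonZeroDivisors {r : R} (hr : r ≠ 0) :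
    (Scheme.ΓSpecIso (CommRingCat.of R)).inv.hom r ∈
      nonZeroDivisors Γ(Spec (CommRingCat.of R), ⊤) := by
  rw [mem_nonZeroDivisors_iff_right]
  intro z hz
  have h1 := congrArg (Scheme.ΓSpecIso (CommRingCat.of R)).hom.hom hz
  rw [map_mul, map_zero] at h1
  have h2 : (Scheme.ΓSpecIso (CommRingCat.of R)).hom.hom
      ((Scheme.ΓSpecIso (CommRingCat.of R)).inv.hom r) = r :=
    Iso.inv_hom_id_apply (Scheme.ΓSpecIso (CommRingCat.of R)) r
  rw [h2] at h1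
  have h3 : (Scheme.ΓSpecIso (CommRingCat.of R)).hom.hom z = 0 :=
    (mul_eq_zero.mp h1).resolve_right hr
  have h4 := congrArg (Scheme.ΓSpecIso (CommRingCat.of R)).inv.hom h3
  rw [map_zero] at h4
  rw [← h4]
  exact (Iso.hom_inv_id_apply (Scheme.ΓSpecIso (CommRingCat.of R)) z).symm

lemma isEffCartier_of_ideal_top (𝒥 : (Spec (CommRingCat.of R)).IdealSheafData) (r : R) (hr : r ≠ 0)
    (h𝒥 : 𝒥.ideal ⟨⊤, isAffineOpen_top _⟩ =
      Ideal.span {(Scheme.ΓSpecIso (CommRingCat.of R)).inv.hom r}) :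
    BlowUp.IsEffCartierIdeal 𝒥 := by
  intro x
  exact ⟨⟨⊤, isAffineOpen_top _⟩, trivial, _, inv_mem_nonZeroDivisors hr, h𝒥⟩

lemma isUnit_of_inv_isUnit {r : R}
    (h : IsUnit ((Scheme.ΓSpecIso (CommRingCat.of R)).inv.hom r)) : IsUnit r := by
  have := h.map (Scheme.ΓSpecIso (CommRingCat.of R)).hom.hom
  rwa [show (Scheme.ΓSpecIso (CommRingCat.of R)).hom.hom
      ((Scheme.ΓSpecIso (CommRingCat.of R)).inv.hom r) = r from
    Iso.inv_hom_id_apply (Scheme.ΓSpecIso (CommRingCat.of R)) r] at this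

lemma mem_interior_iff (𝒥 : (Spec (CommRingCat.of R)).IdealSheafData) (r : R)
    (h𝒥 : 𝒥.ideal ⟨⊤, isAffineOpen_top _⟩ =
      Ideal.span {(Scheme.ΓSpecIso (CommRingCat.of R)).inv.hom r})
    (x : Spec (CommRingCat.of R)) :
    x ∈ (ModPair.interior 𝒥 : Set (Spec (CommRingCat.of R))) ↔ r ∉ x.asIdeal := by
  show x ∈ (𝒥.support : Set _)ᶜ ↔ _
  rw [Set.mem_compl_iff, SetLike.mem_coe, Scheme.IdealSheafData.mem_support_iff_of_mem
    (U := ⟨⊤, isAffineOpen_top _⟩) (by trivial), h𝒥, Scheme.zeroLocus_span,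
    Scheme.zeroLocus_singleton, Set.mem_compl_iff, not_not]
  have := basicOpen_eq_of_affine (R := CommRingCat.of R) r
  rw [SetLike.mem_coe, this]
  rfl

end Geometry

end Groth.Agent.Helper28.ValTest
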