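import Mathlib
import Groth.Agent.Lib.Helper28.BlowUpExist
import Groth.Agent.Lib.Helper28.AffBlowRecog
import Groth.Agent.Lib.Helper28.ValTest

/-!
# Recognising blow-ups affine-locally on the base
-/
set_option autoImplicit false
universe u
open AlgebraicGeometry CategoryTheory CategoryTheory.Limits

namespace Groth.Agent.Helper28.AffLocalBlowUp

open Groth.Agent.Helper28.BlowUpProj Groth.Agent.Helper28.BlowUpExist

variable {X Y : Scheme.{u}}

/-- the restriction of an ideal sheaf to an affine open, read on `Spec` -/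
lemma comap_fromSpec (I : Y.IdealSheafData) (V : Y.affineOpens) :
    I.comap V.2.fromSpec = BlowUpProj.𝓘 (I.ideal V) := by
  apply Scheme.IdealSheafData.ext_of_isAffine
  have h := Groth.Agent.Helper28.ValTest.comap_ideal_top I V Γ(Y, V.1) (𝟙 _)
  rw [Spec.map_id, Category.id_comp, Category.id_comp] at h
  rw [h, BlowUpProj.𝓘, Scheme.IdealSheafData.ofIdealTop_ideal]
  have h3 : (homOfLE (le_top : (⊤ : (Spec Γ(Y, V.1)).Opens) ≤ ⊤)) = 𝟙 _ := Subsingleton.elim _ _
  rw [h3, op_id, CategoryTheory.Functor.map_id, CommRingCat.hom_id, Ideal.map_id]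
  rfl

/-- the pullback square over an affine open of the base whose preimage is affine -/
lemma isPullback_fromSpec (f : X ⟶ Y) (V : Y.affineOpens) (hV' : IsAffineOpen (f ⁻¹ᵁ V.1)) :
    IsPullback hV'.fromSpec (Spec.map (f.app V.1) ≫ V.2.isoSpec.inv) f V.1.ι := by
  have h0 := (isPullback_morphismRestrict f V.1).flip
  refine IsPullback.of_iso h0 hV'.isoSpec (Iso.refl _) (Iso.refl _) (Iso.refl _) ?_ ?_ ?_ ?_
  · rw [Iso.refl_hom, Category.comp_id, IsAffineOpen.fromSpec, Iso.hom_inv_id_assoc]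
  · rw [Iso.refl_hom, Category.comp_id, ← cancel_mono V.1.ι]
    simp only [Category.assoc]
    rw [morphismRestrict_ι]
    have h1 : V.2.isoSpec.inv ≫ V.1.ι = V.2.fromSpec := rfl
    rw [h1, Scheme.Hom.app_eq_appLE, IsAffineOpen.SpecMap_appLE_fromSpec f V.2 hV' le_rfl,
      IsAffineOpen.fromSpec]
    simp only [Category.assoc]
    rw [Iso.hom_inv_id_assoc]
  · simp
  · simp

/-- being a blow-up can be checked on affine opens of the base with affine preimage -/
theorem isBlowUp_of_affine_local (f : X ⟶ Y) (I : Y.IdealSheafData)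
    (h : ∀ y : Y, ∃ V : Y.affineOpens, y ∈ V.1 ∧ IsAffineOpen (f ⁻¹ᵁ V.1) ∧
      BlowUp.IsBlowUp (Spec.map (f.app V.1)) (BlowUpProj.𝓘 (I.ideal V))) :
    BlowUp.IsBlowUp f I := by
  choose V hyV hV' hB using h
  refine isBlowUp_of_local f I (fun y => (V y).1) (fun x => ⟨x, hyV x⟩)
    (fun y => Spec Γ(X, f ⁻¹ᵁ (V y).1)) (fun y => (hV' y).fromSpec)
    (fun y => Spec.map (f.app (V y).1) ≫ (V y).2.isoSpec.inv)
    (fun y => isPullback_fromSpec f (V y) (hV' y)) (fun y => ?_)
  have h1 := isBlowUp_comp_iso_inv (V y).2.isoSpec _ _ (hB y)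
  have h2 : (BlowUpProj.𝓘 (I.ideal (V y))).comap (V y).2.isoSpec.hom = I.comap (V y).1.ι := by
    rw [← comap_fromSpec, ← Scheme.IdealSheafData.comap_comp, IsAffineOpen.fromSpec,
      Iso.hom_inv_id_assoc]
  rw [h2] at h1
  exact h1

end Groth.Agent.Helper28.AffLocalBlowUp
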