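import Mathlib
import Groth.Prelude.Def_BlowUp2
import Groth.Agent.Lib.Helper28.BlowUpExist
import Groth.Agent.Lib.Helper28.FiniteTypeIdeal

universe u
open AlgebraicGeometry CategoryTheory CategoryTheory.Limits
  Groth.Agent.Helper28.ReesChart Groth.Agent.Helper28.BlowUpProj Groth.Agent.Helper28.BlowUpExist

namespace Groth.Agent.Helper28.BlowUpProper

section affine

variable {A : Type u} [CommRing A] (I : Ideal A)

instance : IsScalarTower A (gr I 0) (reesAlgebra I) :=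
  IsScalarTower.of_algebraMap_eq (R := A) (S := gr I 0) (A := reesAlgebra I) (fun _ => rfl)

lemma finiteType_reesAlgebra (hI : I.FG) : Algebra.FiniteType (gr I 0) (reesAlgebra I) := by
  have h1 : Algebra.FiniteType A (reesAlgebra I) :=
    (Subalgebra.fg_iff_finiteType _).mp (reesAlgebra.fg hI)
  exact Algebra.FiniteType.of_restrictScalars_finiteType A (gr I 0) (reesAlgebra I)

lemma algebraMap_gr_zero_surjective : Function.Surjective (algebraMap A (gr I 0)) := by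
  intro y
  obtain ⟨x, hx, hyx⟩ := eq_mon_of_mem I 0 y.1 y.2
  refine ⟨x, Subtype.ext ?_⟩
  rw [hyx]
  apply Subtype.ext
  simp [coe_mon]

/-- `Proj R(I) ⟶ Spec A` is proper if `I` is finitely generated -/
lemma isProper_b (hI : I.FG) : IsProper (BlowUpProj.b I) := by
  haveI := finiteType_reesAlgebra I hI
  have hs : Function.Surjective ((CommRingCat.ofHom (algebraMap A (gr I 0)) :
      CommRingCat.of A ⟶ CommRingCat.of (gr I 0))).hom :=
    algebraMap_gr_zero_surjective I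
  haveI : IsClosedImmersion (Spec.map ((CommRingCat.ofHom (algebraMap A (gr I 0)) :
      CommRingCat.of A ⟶ CommRingCat.of (gr I 0)))) :=
    IsClosedImmersion.spec_of_surjective _ hs
  rw [b_eq]
  infer_instance

end affine

/-- the blow-up of an affine scheme: explicit model -/
lemma isBlowUp_affine (X : Scheme.{u}) [IsAffine X] (𝓘 : X.IdealSheafData) :
    BlowUp.IsBlowUp (BlowUpProj.b (𝓘.ideal ⟨⊤, isAffineOpen_top X⟩) ≫ X.isoSpec.inv) 𝓘 := by
  set J : Ideal Γ(X, ⊤) := 𝓘.ideal ⟨⊤, isAffineOpen_top X⟩ with hJ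
  have h1 := isBlowUp_b J
  have h2 := isBlowUp_comp_iso_inv X.isoSpec (BlowUpProj.b J) (BlowUpProj.𝓘 J) h1
  have h3 : (BlowUpProj.𝓘 J).comap X.isoSpec.hom = 𝓘 := by
    apply Scheme.IdealSheafData.ext_of_isAffine
    rw [ideal_comap_eq J X.isoSpec.hom ⟨⊤, isAffineOpen_top X⟩]
    have : φU X.isoSpec.hom ⊤ = RingHom.id _ := by
      have h4 : X.isoSpec.hom.appLE ⊤ ⊤ le_top = X.isoSpec.hom.appTop := by
        simp [Scheme.Hom.appLE]
      rw [φU, h4]
      have h5 : X.isoSpec.hom.appTop = (Scheme.ΓSpecIso Γ(X, ⊤)).hom := X.toSpecΓ_appTop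
      rw [h5, Iso.inv_hom_id]
      rfl
    rw [this, Ideal.map_id]
  rw [h3] at h2
  exact h2

lemma isProper_of_isBlowUp_of_isAffine {X X' : Scheme.{u}} [IsAffine X] (𝓘 : X.IdealSheafData)
    (h𝓘 : BlowUp.IsFiniteTypeIdeal 𝓘) (b : X' ⟶ X) (hb : BlowUp.IsBlowUp b 𝓘) : IsProper b := by
  obtain ⟨φ, hφ⟩ := Groth.Agent.Helper28.StrictTr.exists_iso_of_isBlowUp 𝓘 b _ hb (isBlowUp_affine X 𝓘)
  haveI := isProper_b (𝓘.ideal ⟨⊤, isAffineOpen_top X⟩) (h𝓘 _)
  rw [← hφ]
  infer_instance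

/-- blowing up in a finite type ideal is proper -/
theorem isProper_of_isBlowUp {X X' : Scheme.{u}} (𝓘 : X.IdealSheafData)
    (h𝓘 : BlowUp.IsFiniteTypeIdeal 𝓘) (b : X' ⟶ X) (hb : BlowUp.IsBlowUp b 𝓘) : IsProper b := by
  have hcov : ⨆ U : X.affineOpens, U.1 = ⊤ := by
    rw [eq_top_iff]
    intro x _
    obtain ⟨_, ⟨U, hU, rfl⟩, hxU, -⟩ :=
      X.isBasis_affineOpens.exists_subset_of_mem_open (Set.mem_univ x) isOpen_univ
    exact TopologicalSpace.Opens.mem_iSup.mpr ⟨⟨U, hU⟩, hxU⟩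
  rw [IsZariskiLocalAtTarget.iff_of_iSup_eq_top (P := @IsProper) (fun U : X.affineOpens => U.1) hcov]
  intro U
  haveI : IsAffine (U.1 : Scheme.{u}) := U.2
  have h1 := isBlowUp_of_isPullback_of_flat (isPullback_morphismRestrict b U.1) 𝓘 hb
  exact isProper_of_isBlowUp_of_isAffine _ (FiniteTypeIdeal.isFiniteTypeIdeal_comap _ _ h𝓘) _ h1

end Groth.Agent.Helper28.BlowUpProper
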