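import Mathlib
import Groth.Prelude.Def_Rees
import Groth.Prelude.Def_ega3
import Groth.Prelude.Def_BlowUp2
import Groth.Agent.Lib.Helper28.ReesChart

universe u
open Polynomial HomogeneousLocalization

namespace Groth.Agent.Helper28.ReesChart

variable {A : Type u} [CommRing A] (I : Ideal A) (a : A) (ha : a ∈ I)

/-- `R(I) → A_a`, `x tⁿ ↦ x / aⁿ` -/
noncomputable def toAway : reesAlgebra I →+* Localization.Away a :=
  (ev (RingHom.id A) a).comp (reesAlgebra I).val.toRingHom

lemma toAway_mon (n : ℕ) (x : A) (hx : x ∈ I ^ n) :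
    toAway I a (mon I n x hx) = algebraMap A (Localization.Away a) x * IsLocalization.Away.invSelf a ^ n := by
  simp [toAway, ev, coe_mon, Polynomial.eval₂_monomial]

lemma toAway_tm (x : A) (hx : x ∈ I) :
    toAway I a (tm I x hx) = algebraMap A (Localization.Away a) x * IsLocalization.Away.invSelf a := by
  rw [tm, toAway_mon, pow_one]

lemma toAway_tm_self : toAway I a (tm I a ha) = 1 := by
  rw [toAway_tm, IsLocalization.Away.mul_invSelf]

lemma toAway_algebraMap (r : A) : toAway I a (algebraMap A (reesAlgebra I) r) = algebraMap A _ r := by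
  simp [toAway, ev]

/-- the induced map on the localization -/
noncomputable def locMap : Localization (Submonoid.powers (tm I a ha)) →+* Localization.Away a :=
  IsLocalization.lift (M := Submonoid.powers (tm I a ha)) (g := toAway I a) (by
    rintro ⟨_, n, rfl⟩
    simp only [map_pow, toAway_tm_self, one_pow, isUnit_one])

lemma locMap_mk (y : reesAlgebra I) (n : ℕ) :
    locMap I a ha (Localization.mk y ⟨tm I a ha ^ n, n, rfl⟩) = toAway I a y := by
  rw [locMap, Localization.mk_eq_mk', IsLocalization.lift_mk'_spec]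
  simp only [map_pow, toAway_tm_self, one_pow, one_mul]

/-- `R(I)_{(at)} → A_a` -/
noncomputable def awayMap0 : Away (gr I) (tm I a ha) →+* Localization.Away a :=
  (locMap I a ha).comp (algebraMap (Away (gr I) (tm I a ha)) (Localization (Submonoid.powers (tm I a ha))))

lemma awayMap0_mk (n : ℕ) (y : reesAlgebra I) (hy : y ∈ gr I (n • 1)) :
    awayMap0 I a ha (Away.mk (gr I) (tm_mem I a ha) n y hy) = toAway I a y := by
  rw [awayMap0, RingHom.comp_apply, HomogeneousLocalization.algebraMap_apply, Away.val_mk]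
  exact locMap_mk I a ha y n

lemma awayMap0_ψ (r : A) : awayMap0 I a ha (ψ I a ha r) = algebraMap A _ r := by
  rw [awayMap0, RingHom.comp_apply, HomogeneousLocalization.algebraMap_apply, val_ψ]
  have := locMap_mk I a ha (algebraMap A (reesAlgebra I) r) 0
  simp only [pow_zero] at this
  rw [← toAway_algebraMap I a r, ← this]
  rfl


lemma gen_mem_affineAlgebra (x : A) (hx : x ∈ I) :
    algebraMap A (Localization.Away a) x * IsLocalization.Away.invSelf a ∈ BlowUp.affineAlgebra A I a := by
  apply Algebra.subset_adjoin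
  refine ⟨x, hx, ?_⟩
  rw [IsLocalization.Away.invSelf, ← IsLocalization.mk'_eq_mul_mk'_one]

lemma pow_mem_affineAlgebra (n : ℕ) (x : A) (hx : x ∈ I ^ n) :
    algebraMap A (Localization.Away a) x * IsLocalization.Away.invSelf a ^ n ∈
      BlowUp.affineAlgebra A I a := by
  induction n generalizing x with
  | zero => rw [pow_zero, mul_one]; exact Subalgebra.algebraMap_mem _ _
  | succ n ih =>
    rw [pow_succ] at hx
    refine Submodule.mul_induction_on hx ?_ ?_
    · intro c hc d hd
      have : algebraMap A (Localization.Away a) (c * d) * IsLocalization.Away.invSelf a ^ (n + 1) =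
          (algebraMap A (Localization.Away a) c * IsLocalization.Away.invSelf a ^ n) *
            (algebraMap A (Localization.Away a) d * IsLocalization.Away.invSelf a) := by
        rw [map_mul, pow_succ]; ring
      rw [this]
      exact mul_mem (ih c hc) (gen_mem_affineAlgebra I a d hd)
    · intro c d hc hd
      rw [map_add, add_mul]
      exact add_mem hc hd

lemma awayMap0_mem (z : Away (gr I) (tm I a ha)) : awayMap0 I a ha z ∈ BlowUp.affineAlgebra A I a := by
  obtain ⟨n, y, hy, rfl⟩ := Away.mk_surjective (gr I) (tm_mem I a ha) z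
  obtain ⟨x, hx, rfl⟩ := eq_mon_of_mem I n y (by simpa using hy)
  rw [awayMap0_mk, toAway_mon]
  exact pow_mem_affineAlgebra I a n x hx

lemma awayMap0_injective : Function.Injective (awayMap0 I a ha) := by
  rw [injective_iff_map_eq_zero]
  intro z hz
  obtain ⟨n, y, hy, rfl⟩ := Away.mk_surjective (gr I) (tm_mem I a ha) z
  obtain ⟨x, hx, rfl⟩ := eq_mon_of_mem I n y (by simpa using hy)
  rw [awayMap0_mk, toAway_mon] at hz
  have h1 : algebraMap A (Localization.Away a) x = 0 := by
    have := congrArg (fun w => w * algebraMap A (Localization.Away a) a ^ n) hz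
    simp only [zero_mul] at this
    rwa [mul_assoc, ← mul_pow, mul_comm (IsLocalization.Away.invSelf a),
      IsLocalization.Away.mul_invSelf, one_pow, mul_one] at this
  rw [IsLocalization.map_eq_zero_iff (Submonoid.powers a)] at h1
  obtain ⟨⟨_, m, rfl⟩, hm⟩ := h1
  apply HomogeneousLocalization.val_injective
  rw [Away.val_mk, HomogeneousLocalization.val_zero, Localization.mk_eq_mk',
    IsLocalization.mk'_eq_zero_iff]
  refine ⟨⟨_, m, rfl⟩, Subtype.ext ?_⟩
  simp only [Subalgebra.coe_mul, Subalgebra.coe_pow, coe_tm, coe_mon, Polynomial.monomial_pow,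
    Polynomial.monomial_mul_monomial, Subalgebra.coe_zero]
  rw [hm, Polynomial.monomial_zero_right]

lemma awayMap0_surjOn (w : Localization.Away a) (hw : w ∈ BlowUp.affineAlgebra A I a) :
    ∃ z, awayMap0 I a ha z = w := by
  induction hw using Algebra.adjoin_induction with
  | mem w hw =>
    obtain ⟨x, hx, rfl⟩ := hw
    refine ⟨Away.mk (gr I) (tm_mem I a ha) 1 (tm I x hx) (by simpa using tm_mem I x hx), ?_⟩
    rw [awayMap0_mk, toAway_tm, IsLocalization.Away.invSelf, ← IsLocalization.mk'_eq_mul_mk'_one]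
  | algebraMap r => exact ⟨ψ I a ha r, awayMap0_ψ I a ha r⟩
  | add x y _ _ hx hy =>
    obtain ⟨z₁, rfl⟩ := hx
    obtain ⟨z₂, rfl⟩ := hy
    exact ⟨z₁ + z₂, map_add _ _ _⟩
  | mul x y _ _ hx hy =>
    obtain ⟨z₁, rfl⟩ := hx
    obtain ⟨z₂, rfl⟩ := hy
    exact ⟨z₁ * z₂, map_mul _ _ _⟩

/-- the isomorphism `R(I)_{(at)} ≃ A[I/a]` -/
noncomputable def awayEquiv : Away (gr I) (tm I a ha) ≃+* BlowUp.affineAlgebra A I a :=
  RingEquiv.ofBijective
    ((awayMap0 I a ha).codRestrict (BlowUp.affineAlgebra A I a) (awayMap0_mem I a ha))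
    ⟨fun x y h => awayMap0_injective I a ha (congrArg Subtype.val h),
      fun w => by
        obtain ⟨z, hz⟩ := awayMap0_surjOn I a ha w.1 w.2
        exact ⟨z, Subtype.ext hz⟩⟩

lemma awayEquiv_ψ (r : A) :
    awayEquiv I a ha (ψ I a ha r) = algebraMap A (BlowUp.affineAlgebra A I a) r :=
  Subtype.ext (awayMap0_ψ I a ha r)

end Groth.Agent.Helper28.ReesChart
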