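import Mathlib
import Groth.Agent.Lib.Helper28.BlowFlat
import Groth.Agent.Lib.Helper28.AffLocalBlowUp
import Groth.Agent.Lib.Helper28.BlowUpProper
import Groth.Agent.Lib.Helper28.ReesChart2
import Groth.Agent.Lib.Helper28.StrictTr

/-!
# Flat blow-ups commute with base change
-/
set_option autoImplicit false
universe u
open AlgebraicGeometry CategoryTheory CategoryTheory.Limits TensorProduct

namespace Groth.Agent.Helper28.BlowBC

open Groth.Agent.Helper28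

/-- the ring map of the chart -/
noncomputable abbrev κ {A : Type u} [CommRing A] (I : Ideal A) (a : A) :
    A →+* ↥(BlowUp.affineAlgebra A I a) := algebraMap A ↥(BlowUp.affineAlgebra A I a)

/-- local structure of an abstract blow-up over an affine open of the base -/
lemma exists_chart_of_isBlowUp {X X' : Scheme.{u}} (𝓘 : X.IdealSheafData) (b : X' ⟶ X)
    (hb : BlowUp.IsBlowUp b 𝓘) (U : X.affineOpens) (x' : X') (hx' : b x' ∈ U.1) :
    ∃ (a : Γ(X, U.1)) (_ : a ∈ 𝓘.ideal U)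
      (j : Spec (CommRingCat.of ↥(BlowUp.affineAlgebra Γ(X, U.1) (𝓘.ideal U) a)) ⟶ X'),
      IsOpenImmersion j ∧ x' ∈ Set.range j ∧
      j ≫ b = Spec.map (CommRingCat.ofHom (κ (𝓘.ideal U) a)) ≫ U.2.fromSpec := by
  have sq : IsPullback (pullback.fst U.2.fromSpec b) (pullback.snd U.2.fromSpec b)
      U.2.fromSpec b := IsPullback.of_hasPullback _ _
  have h1 : BlowUp.IsBlowUp (pullback.fst U.2.fromSpec b) (𝓘.comap U.2.fromSpec) :=
    BlowUpExist.isBlowUp_of_isPullback_of_flat sq 𝓘 hb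
  rw [AffLocalBlowUp.comap_fromSpec 𝓘 U] at h1
  obtain ⟨φ, hφ⟩ := StrictTr.exists_iso_of_isBlowUp (BlowUpProj.𝓘 (𝓘.ideal U))
    (BlowUpProj.b (𝓘.ideal U)) (pullback.fst U.2.fromSpec b)
    (BlowUpProj.isBlowUp_b (𝓘.ideal U)) h1
  have hr : b x' ∈ Set.range U.2.fromSpec := by rw [U.2.range_fromSpec]; exact hx'
  obtain ⟨y, hy⟩ := hr
  obtain ⟨p, hp1, hp2⟩ :=
    Scheme.Pullback.exists_preimage_pullback (f := U.2.fromSpec) (g := b) y x' hy
  obtain ⟨a, ha, c0, hc0⟩ := BlowUpProj.exists_chart (𝓘.ideal U) (φ.inv p)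
  obtain ⟨ε, hε⟩ : ∃ ε : Spec (CommRingCat.of ↥(BlowUp.affineAlgebra Γ(X, U.1) (𝓘.ideal U) a)) ⟶
      Spec (CommRingCat.of (HomogeneousLocalization.Away (ReesChart.gr (𝓘.ideal U))
        (ReesChart.tm (𝓘.ideal U) a ha))),
      ε = Spec.map (RingEquiv.toCommRingCatIso (ReesChart.awayEquiv (𝓘.ideal U) a ha)).hom :=
    ⟨_, rfl⟩
  haveI : IsIso ε := by rw [hε]; infer_instance
  refine ⟨a, ha, ε ≫ BlowUpProj.chart (𝓘.ideal U) a ha ≫ φ.hom ≫ pullback.snd U.2.fromSpec b,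
    inferInstance, ?_, ?_⟩
  · refine ⟨(inv ε) c0, ?_⟩
    have e1 : φ.hom (φ.inv p) = p := by
      rw [← Scheme.Hom.comp_apply, Iso.inv_hom_id]
      rfl
    rw [← Scheme.Hom.comp_apply, IsIso.inv_hom_id_assoc, Scheme.Hom.comp_apply,
      Scheme.Hom.comp_apply, hc0, e1]
    exact hp2
  · simp only [Category.assoc]
    rw [← pullback.condition, reassoc_of% hφ, reassoc_of% (BlowUpProj.chart_b (𝓘.ideal U) a ha),
      ← Category.assoc]
    congr 1
    rw [hε, ← Spec.map_comp]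
    congr 1
    ext r
    exact congrArg Subtype.val (ReesChart.awayEquiv_ψ (𝓘.ideal U) a ha r)

/-- flatness can be checked on a cover of the source by open immersions -/
lemma flat_of_local {X Y : Scheme.{u}} (f : X ⟶ Y)
    (h : ∀ x : X, ∃ (W : Scheme.{u}) (j : W ⟶ X), IsOpenImmersion j ∧ x ∈ Set.range j ∧
      Flat (j ≫ f)) : Flat f := by
  choose W j hj hx hf using h
  haveI : ∀ x, IsOpenImmersion (j x) := hj
  refine IsZariskiLocalAtSource.of_iSup_eq_top (P := @Flat) (fun x => (j x).opensRange) ?_ ?_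
  · refine top_le_iff.mp fun x _ => ?_
    exact TopologicalSpace.Opens.mem_iSup.mpr ⟨x, hx x⟩
  · intro x
    rw [← Scheme.Hom.isoOpensRange_inv_comp, Category.assoc,
      MorphismProperty.cancel_left_of_respectsIso (P := @Flat)]
    exact hf x

/-- relative effective Cartier divisors (with blow-up charts) pull back to effective Cartier
divisors under arbitrary base change -/
theorem isEffCartierIdeal_comap_of_isPullback {Y S T YT : Scheme.{u}} (h : Y ⟶ S) (g : T ⟶ S)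
    (p : YT ⟶ Y) (q : YT ⟶ T) (sq : IsPullback p q h g) (𝓙 : Y.IdealSheafData)
    (hloc : ∀ y : Y, ∃ (V : S.affineOpens) (A : Type u) (_ : CommRing A) (I : Ideal A) (a : A)
      (_ : a ∈ I) (ρ : Γ(S, V.1) →+* A)
      (j : Spec (CommRingCat.of ↥(BlowUp.affineAlgebra A I a)) ⟶ Y),
      IsOpenImmersion j ∧ y ∈ Set.range j ∧
      j ≫ h = Spec.map (CommRingCat.ofHom ((κ I a).comp ρ)) ≫ V.2.fromSpec ∧
      𝓙.comap j = (BlowUpProj.𝓘 I).comap (Spec.map (CommRingCat.ofHom (κ I a))) ∧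
      ρ.Flat ∧ ∀ m, 1 ≤ m → ((Ideal.Quotient.mk (I ^ m)).comp ρ).Flat) :
    BlowUp.IsEffCartierIdeal (𝓙.comap p) := by
  apply BlowUpProj.isEffCartierIdeal_of_local'
  intro z
  obtain ⟨V, A, instA, I, a, ha, ρ, j, hj, ⟨y0, hy0⟩, hjh, h𝓙, hρ, hρq⟩ := hloc (p z)
  have hfs : ∀ w, V.2.fromSpec w ∈ V.1 := fun w => by
    have : V.2.fromSpec w ∈ Set.range V.2.fromSpec := ⟨w, rfl⟩
    rwa [V.2.range_fromSpec] at this
  have htV : g (q z) ∈ V.1 := by
    have e1 : g (q z) = h (p z) := by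
      rw [← Scheme.Hom.comp_apply, ← sq.w, Scheme.Hom.comp_apply]
    rw [e1, ← hy0, ← Scheme.Hom.comp_apply, hjh, Scheme.Hom.comp_apply]
    exact hfs _
  obtain ⟨_, ⟨VT, hVT, rfl⟩, hzVT, hVTle⟩ := T.isBasis_affineOpens.exists_subset_of_mem_open
    (show q z ∈ ((g ⁻¹ᵁ V.1 : T.Opens) : Set T) from htV) (g ⁻¹ᵁ V.1).isOpen
  have hVTle' : VT ≤ g ⁻¹ᵁ V.1 := hVTle
  letI : Algebra Γ(S, V.1) A := ρ.toAlgebra
  letI : Algebra Γ(S, V.1) Γ(T, VT) := (g.appLE V.1 VT hVTle').hom.toAlgebra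
  haveI : Module.Flat Γ(S, V.1) A := hρ
  have hq : ∀ m, 1 ≤ m → Module.Flat Γ(S, V.1) (A ⧸ I ^ m) := fun m hm =>
    RingHom.flat_algebraMap_iff.mp (hρq m hm)
  have hnzd := BlowFlat.tmul_mem_nonZeroDivisors' I a ha hq Γ(T, VT)
  have hRC : algebraMap Γ(S, V.1) ↥(BlowUp.affineAlgebra A I a) = (κ I a).comp ρ :=
    IsScalarTower.algebraMap_eq _ A _
  have e₁ : Spec.map (CommRingCat.ofHom (algebraMap Γ(S, V.1) Γ(T, VT))) ≫ V.2.fromSpec =
      hVT.fromSpec ≫ g := IsAffineOpen.SpecMap_appLE_fromSpec g V.2 hVT hVTle'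
  have e₂ : Spec.map (CommRingCat.ofHom
      (algebraMap Γ(S, V.1) ↥(BlowUp.affineAlgebra A I a))) ≫ V.2.fromSpec = j ≫ h := by
    rw [hRC, hjh]
  obtain ⟨k₀, hk₀⟩ : ∃ k₀ : pullback (Spec.map (CommRingCat.ofHom (algebraMap Γ(S, V.1) Γ(T, VT))))
      (Spec.map (CommRingCat.ofHom (algebraMap Γ(S, V.1) ↥(BlowUp.affineAlgebra A I a)))) ⟶
      pullback g h, k₀ = pullback.map _ _ g h hVT.fromSpec j V.2.fromSpec e₁ e₂ := ⟨_, rfl⟩
  haveI : IsOpenImmersion k₀ := by rw [hk₀]; infer_instance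
  have hk₀snd : k₀ ≫ pullback.snd g h = pullback.snd _ _ ≫ j := by
    rw [hk₀]; exact pullback.lift_snd _ _ _
  have hrange : Set.range k₀ = pullback.fst g h ⁻¹' Set.range hVT.fromSpec ∩
      pullback.snd g h ⁻¹' Set.range j := by
    rw [hk₀]; exact Scheme.Pullback.range_map _ _ _ _ _ _ _ _ _
  refine ⟨Spec (CommRingCat.of (Γ(T, VT) ⊗[Γ(S, V.1)] ↥(BlowUp.affineAlgebra A I a))),
    (pullbackSpecIso Γ(S, V.1) Γ(T, VT) ↥(BlowUp.affineAlgebra A I a)).inv ≫ k₀ ≫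
      sq.flip.isoPullback.inv, inferInstance, ?_, ?_⟩
  · have hz0 : sq.flip.isoPullback.hom z ∈ Set.range k₀ := by
      rw [hrange]
      constructor
      · show pullback.fst g h (sq.flip.isoPullback.hom z) ∈ Set.range hVT.fromSpec
        rw [← Scheme.Hom.comp_apply, sq.flip.isoPullback_hom_fst, hVT.range_fromSpec]
        exact hzVT
      · show pullback.snd g h (sq.flip.isoPullback.hom z) ∈ Set.range j
        rw [← Scheme.Hom.comp_apply, sq.flip.isoPullback_hom_snd]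
        exact ⟨y0, hy0⟩
    obtain ⟨w, hw⟩ := hz0
    refine ⟨(pullbackSpecIso Γ(S, V.1) Γ(T, VT) ↥(BlowUp.affineAlgebra A I a)).hom w, ?_⟩
    rw [← Scheme.Hom.comp_apply, Iso.hom_inv_id_assoc, Scheme.Hom.comp_apply, hw,
      ← Scheme.Hom.comp_apply, Iso.hom_inv_id]
    rfl
  · rw [← Scheme.IdealSheafData.comap_comp]
    have hcomp : ((pullbackSpecIso Γ(S, V.1) Γ(T, VT) ↥(BlowUp.affineAlgebra A I a)).inv ≫ k₀ ≫
        sq.flip.isoPullback.inv) ≫ p =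
        Spec.map (CommRingCat.ofHom (RingHomClass.toRingHom
          (Algebra.TensorProduct.includeRight (R := Γ(S, V.1)) (A := Γ(T, VT))
            (B := ↥(BlowUp.affineAlgebra A I a))))) ≫ j := by
      simp only [Category.assoc]
      rw [sq.flip.isoPullback_inv_snd, hk₀snd, ← Category.assoc, pullbackSpecIso_inv_snd]
    rw [hcomp, Scheme.IdealSheafData.comap_comp, h𝓙, ← Scheme.IdealSheafData.comap_comp,
      ← Spec.map_comp, ← CommRingCat.ofHom_comp]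
    refine BlowUpProj.isEffCartierIdeal_comap_SpecMap I _
      ((1 : Γ(T, VT)) ⊗ₜ[Γ(S, V.1)] (κ I a a)) hnzd ?_
    rw [← Ideal.map_map, BlowFlat.map_algebraMap_eq I a ha, Ideal.map_span, Set.image_singleton]
    rfl

/-- the local data of a blow-up with flat powers -/
lemma local_data {X X' S : Scheme.{u}} (f : X ⟶ S) [Flat f] (𝓘 : X.IdealSheafData)
    (hfl : ∀ m : ℕ, 1 ≤ m → Flat ((𝓘 ^ m).subschemeι ≫ f)) (b : X' ⟶ X)
    (hb : BlowUp.IsBlowUp b 𝓘) (x' : X') :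
    ∃ (V : S.affineOpens) (A : Type u) (_ : CommRing A) (I : Ideal A) (a : A)
      (_ : a ∈ I) (ρ : Γ(S, V.1) →+* A)
      (j : Spec (CommRingCat.of ↥(BlowUp.affineAlgebra A I a)) ⟶ X'),
      IsOpenImmersion j ∧ x' ∈ Set.range j ∧
      j ≫ (b ≫ f) = Spec.map (CommRingCat.ofHom ((κ I a).comp ρ)) ≫ V.2.fromSpec ∧
      (𝓘.comap b).comap j = (BlowUpProj.𝓘 I).comap (Spec.map (CommRingCat.ofHom (κ I a))) ∧
      ρ.Flat ∧ ∀ m, 1 ≤ m → ((Ideal.Quotient.mk (I ^ m)).comp ρ).Flat := by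
  obtain ⟨_, ⟨V, hV, rfl⟩, hsV, -⟩ := S.isBasis_affineOpens.exists_subset_of_mem_open
    (Set.mem_univ (f (b x'))) isOpen_univ
  obtain ⟨_, ⟨U, hU, rfl⟩, hxU, hUle⟩ := X.isBasis_affineOpens.exists_subset_of_mem_open
    (show b x' ∈ ((f ⁻¹ᵁ V : X.Opens) : Set X) from hsV) (f ⁻¹ᵁ V).isOpen
  have hUle' : U ≤ f ⁻¹ᵁ V := hUle
  obtain ⟨a, ha, j, hj, hxj, hjb⟩ := exists_chart_of_isBlowUp 𝓘 b hb ⟨U, hU⟩ x' hxU
  refine ⟨⟨V, hV⟩, Γ(X, U), inferInstance, 𝓘.ideal ⟨U, hU⟩, a, ha, (f.appLE V U hUle').hom, j, hj,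
    hxj, ?_, ?_, ?_, ?_⟩
  · rw [← Category.assoc, hjb, Category.assoc,
      ← IsAffineOpen.SpecMap_appLE_fromSpec f hV hU hUle', ← Category.assoc, ← Spec.map_comp]
    rfl
  · rw [← Scheme.IdealSheafData.comap_comp, hjb, Scheme.IdealSheafData.comap_comp,
      AffLocalBlowUp.comap_fromSpec 𝓘 ⟨U, hU⟩]
  · exact Flat.flat_appLE f hV hU hUle'
  · intro m hm
    have hJ : (𝓘 ^ m).ideal ⟨U, hU⟩ = (𝓘.ideal ⟨U, hU⟩) ^ m := by
      rw [Scheme.IdealSheafData.ideal_pow, Pi.pow_apply]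
    haveI := hfl m hm
    have hU' : IsAffineOpen ((𝓘 ^ m).subschemeι ⁻¹ᵁ U) := hU.preimage (𝓘 ^ m).subschemeι
    have hle : (𝓘 ^ m).subschemeι ⁻¹ᵁ U ≤ ((𝓘 ^ m).subschemeι ≫ f) ⁻¹ᵁ V := by
      rw [Scheme.Hom.comp_preimage]
      exact Scheme.Hom.preimage_mono _ hUle'
    have h1 := Flat.flat_appLE ((𝓘 ^ m).subschemeι ≫ f) hV hU' hle
    have h2 : ((𝓘 ^ m).subschemeι ≫ f).appLE V ((𝓘 ^ m).subschemeι ⁻¹ᵁ U) hle =
        f.appLE V U hUle' ≫ (𝓘 ^ m).subschemeι.app U := by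
      rw [Scheme.Hom.app_eq_appLE, Scheme.Hom.appLE_comp_appLE]
    rw [h2, Scheme.IdealSheafData.subschemeι_app (𝓘 ^ m) ⟨U, hU⟩, CommRingCat.hom_comp,
      CommRingCat.hom_comp, CommRingCat.hom_ofHom, RingHom.comp_assoc] at h1
    have hbij : Function.Bijective ((𝓘 ^ m).subschemeObjIso ⟨U, hU⟩).inv.hom :=
      ConcreteCategory.bijective_of_isIso ((𝓘 ^ m).subschemeObjIso ⟨U, hU⟩).inv
    have h3 := (RingHom.Flat.comp_iff_of_bijective_left hbij).mp h1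
    rw [hJ] at h3
    exact h3

theorem main {X X' S T XT XT' : Scheme.{u}} (f : X ⟶ S) [Flat f] [IsProper f]
    (𝓘 : X.IdealSheafData) (hft : BlowUp.IsFiniteTypeIdeal 𝓘)
    (hfl : ∀ m : ℕ, 1 ≤ m → Flat ((𝓘 ^ m).subschemeι ≫ f))
    (b : X' ⟶ X) (hb : BlowUp.IsBlowUp b 𝓘)
    (g : T ⟶ S) (pX : XT ⟶ X) (fT : XT ⟶ T) (hX : IsPullback pX fT f g)
    (pX' : XT' ⟶ X') (bT : XT' ⟶ XT) (hX' : IsPullback pX' bT b pX) :
    Flat (b ≫ f) ∧ IsProper (b ≫ f) ∧ BlowUp.IsBlowUp bT (𝓘.comap pX) := by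
  have hloc := fun x' => local_data f 𝓘 hfl b hb x'
  refine ⟨?_, ?_, ?_⟩
  · apply flat_of_local
    intro x'
    obtain ⟨V, A, instA, I, a, ha, ρ, j, hj, hxj, hjh, -, hρ, hρq⟩ := hloc x'
    refine ⟨_, j, hj, hxj, ?_⟩
    rw [hjh]
    haveI : Flat (Spec.map (CommRingCat.ofHom ((κ I a).comp ρ))) := by
      rw [HasRingHomProperty.Spec_iff (P := @Flat), CommRingCat.hom_ofHom]
      letI : Algebra Γ(S, V.1) A := ρ.toAlgebra
      haveI : Module.Flat Γ(S, V.1) A := hρ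
      have hq : ∀ m, 1 ≤ m → Module.Flat Γ(S, V.1) (A ⧸ I ^ m) := fun m hm =>
        RingHom.flat_algebraMap_iff.mp (hρq m hm)
      have hC := BlowFlat.flat_affineAlgebra' I a ha hq
      have hRC : algebraMap Γ(S, V.1) ↥(BlowUp.affineAlgebra A I a) = (κ I a).comp ρ :=
        IsScalarTower.algebraMap_eq _ A _
      rw [← hRC]
      exact RingHom.flat_algebraMap_iff.mpr hC
    infer_instance
  · haveI := BlowUpProper.isProper_of_isBlowUp 𝓘 hft b hb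
    infer_instance
  · have sqT : IsPullback pX' (bT ≫ fT) (b ≫ f) g := hX'.paste_vert hX
    constructor
    · rw [← Scheme.IdealSheafData.comap_comp, ← hX'.w, Scheme.IdealSheafData.comap_comp]
      exact isEffCartierIdeal_comap_of_isPullback (b ≫ f) g pX' (bT ≫ fT) sqT (𝓘.comap b) hloc
    · intro Y' g' hg'
      rw [← Scheme.IdealSheafData.comap_comp] at hg'
      obtain ⟨h, hh, hu⟩ := hb.2 Y' (g' ≫ pX) hg'
      refine ⟨hX'.lift h g' hh, hX'.lift_snd _ _ _, ?_⟩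
      intro h' hh'
      apply hX'.hom_ext
      · rw [hX'.lift_fst]
        apply hu
        show (h' ≫ pX') ≫ b = g' ≫ pX
        rw [Category.assoc, hX'.w, ← Category.assoc, hh']
      · rw [hh', hX'.lift_snd]

end Groth.Agent.Helper28.BlowBC
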