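import Mathlib
import Groth.Agent.Lib.Helper28.BlowFlat

/-!
# Affine blow-up algebras: the exceptional quotient is flat without flatness of `A`

`A` an `R`-algebra (not assumed flat), `I` an ideal with all `A/I^m` flat over `R`.  Then
`A[I/a]/(a)` is `R`-flat, and `a` stays a nonzerodivisor on `A[I/a]` after any base change `R → R'`.
(The proofs are those of `BlowFlat.flat_quotient` / `BlowFlat.tmul_mem_nonZeroDivisors`, which never
used the flatness of `A`.)
-/
set_option autoImplicit false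
universe u
open TensorProduct

namespace Groth.Agent.Helper28.BlowFlat2

open Groth.Agent.Helper28.BlowFlat

section flat

variable {R A : Type u} [CommRing R] [CommRing A] [Algebra R A] (I : Ideal A) (a : A)

theorem flat_quotient (ha : a ∈ I) (hq : ∀ m, Module.Flat R (A ⧸ I ^ m)) :
    Module.Flat R (↥(BlowUp.affineAlgebra A I a) ⧸
      Ideal.span {algebraMap A ↥(BlowUp.affineAlgebra A I a) a}) := by
  set α := algebraMap A ↥(BlowUp.affineAlgebra A I a) a with hα
  apply Module.Flat.of_forall_isTrivialRelation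
  intro l f q hq0
  let π : ↥(BlowUp.affineAlgebra A I a) →ₗ[R] (↥(BlowUp.affineAlgebra A I a) ⧸ Ideal.span {α}) :=
    (Ideal.Quotient.mkₐ R (Ideal.span {α})).toLinearMap
  have hπ0 : ∀ c, π c = 0 ↔ c ∈ Ideal.span {α} := fun c => Ideal.Quotient.eq_zero_iff_mem
  have hπs : Function.Surjective π := Ideal.Quotient.mkₐ_surjective R _
  choose x hx using fun i => hπs (q i)
  have h0 : π (∑ i, f i • x i) = 0 := by
    rw [map_sum]
    simp only [map_smul, hx]
    exact hq0
  obtain ⟨c', hc'⟩ := Ideal.mem_span_singleton'.mp ((hπ0 _).mp h0)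
  choose n hn using fun i => exists_rep I a ha (x i)
  obtain ⟨m, hm⟩ := exists_rep I a ha c'
  obtain ⟨N, hN, hmN⟩ : ∃ N, (∀ i, n i ≤ N) ∧ m ≤ N :=
    ⟨(∑ i, n i) + m, fun i => le_trans
      (Finset.single_le_sum (fun _ _ => Nat.zero_le _) (Finset.mem_univ i)) (Nat.le_add_right _ _),
      Nat.le_add_left _ _⟩
  choose y hy hxy using fun i => hn i N (hN i)
  obtain ⟨z, hz, hcz⟩ := hm N hmN
  have hrel : en a N (∑ i, f i • y i - a * z) = 0 := by
    rw [map_sub, map_sum, sub_eq_zero]
    have h2 : ∀ i, en a N (f i • y i) = vv I a (f i • x i) := by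
      intro i
      rw [LinearMap.map_smul_of_tower, LinearMap.map_smul_of_tower, hxy]
    rw [Finset.sum_congr rfl (fun i _ => h2 i), ← map_sum, ← hc']
    have h3 : en a N (a * z) = a • en a N z := by rw [← smul_eq_mul, map_smul]
    have h4 : c' * α = a • c' := by rw [hα, Algebra.smul_def, mul_comm]
    rw [h3, hcz, h4, map_smul]
  obtain ⟨k, hk⟩ := exists_pow_mul_eq_zero a N _ hrel
  have hmemY : ∀ i, a ^ k * y i ∈ I ^ (N + k) := fun i => pow_mul_mem I a ha N k _ (hy i)
  have hsum : ∑ i, f i • (a ^ k * y i) ∈ I ^ (N + k + 1) := by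
    have e : ∑ i, f i • (a ^ k * y i) = a * (a ^ k * z) := by
      rw [mul_sub, sub_eq_zero, Finset.mul_sum] at hk
      rw [Finset.sum_congr rfl (fun i _ => (mul_smul_comm (f i) (a ^ k) (y i)).symm), hk]
      ring
    rw [e, pow_succ']
    exact Ideal.mul_mem_mul ha (pow_mul_mem I a ha N k _ hz)
  obtain ⟨k', c, w, hw, hdiff, hc⟩ := gr_trivial I hq (N + k) f (fun i => a ^ k * y i) hmemY hsum
  refine ⟨k', c, fun j => π (ec I a (N + k) (w j) (hw j)), ?_, hc⟩
  intro i
  rw [← hx i, ← sub_eq_zero]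
  have h5 : π (x i) - ∑ j, c i j • π (ec I a (N + k) (w j) (hw j)) =
      π (x i - ∑ j, c i j • ec I a (N + k) (w j) (hw j)) := by
    rw [map_sub, map_sum]
    simp only [map_smul]
  rw [h5, hπ0, Ideal.mem_span_singleton']
  refine ⟨ec I a (N + k + 1) _ (hdiff i), ?_⟩
  apply vv_injective I a
  have h6 : ∀ j, vv I a (c i j • ec I a (N + k) (w j) (hw j)) = en a (N + k) (c i j • w j) := by
    intro j
    rw [LinearMap.map_smul_of_tower, LinearMap.map_smul_of_tower, vv_ec]
  have h7 : vv I a (x i) = en a (N + k) (a ^ k * y i) := by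
    rw [en_pow_mul]
    exact (hxy i).symm
  have hR : vv I a (x i - ∑ j, c i j • ec I a (N + k) (w j) (hw j)) =
      en a (N + k) (a ^ k * y i - ∑ j, c i j • w j) := by
    rw [map_sub, map_sum, map_sub, map_sum, h7]
    congr 1
    exact Finset.sum_congr rfl (fun j _ => h6 j)
  have hL : vv I a (ec I a (N + k + 1) _ (hdiff i) * α) =
      en a (N + k) (a ^ k * y i - ∑ j, c i j • w j) := by
    rw [vv_mul, vv_ec, hα, vv_algebraMap, ← en_succ_mul a (N + k), en_apply, en_apply, map_mul]
    ring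
  rw [hL, hR]

theorem tmul_mem_nonZeroDivisors (ha : a ∈ I)
    (hq : ∀ m, Module.Flat R (A ⧸ I ^ m)) (R' : Type u) [CommRing R'] [Algebra R R'] :
    (1 : R') ⊗ₜ[R] (algebraMap A ↥(BlowUp.affineAlgebra A I a) a) ∈
      nonZeroDivisors (R' ⊗[R] ↥(BlowUp.affineAlgebra A I a)) := by
  set α := algebraMap A ↥(BlowUp.affineAlgebra A I a) a with hα
  let μ : ↥(BlowUp.affineAlgebra A I a) →ₗ[R] ↥(BlowUp.affineAlgebra A I a) :=
    LinearMap.mulLeft R α
  let π : ↥(BlowUp.affineAlgebra A I a) →ₗ[R] (↥(BlowUp.affineAlgebra A I a) ⧸ Ideal.span {α}) :=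
    (Ideal.Quotient.mkₐ R (Ideal.span {α})).toLinearMap
  haveI : Module.Flat R (↥(BlowUp.affineAlgebra A I a) ⧸ Ideal.span {α}) :=
    flat_quotient I a ha hq
  have hμ : Function.Injective μ := by
    intro c d h
    apply vv_injective I a
    have h' : vv I a (α * c) = vv I a (α * d) := congrArg _ h
    rw [vv_mul, vv_mul, hα, vv_algebraMap] at h'
    have hu : IsUnit (algebraMap A (Localization.Away a) a) :=
      IsLocalization.Away.algebraMap_isUnit a
    exact hu.mul_left_cancel h'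
  have hex : Function.Exact μ π := by
    intro c
    rw [show π c = 0 ↔ c ∈ Ideal.span {α} from Ideal.Quotient.eq_zero_iff_mem,
      Ideal.mem_span_singleton']
    constructor
    · rintro ⟨d, hd⟩
      exact ⟨d, by rw [← hd]; exact mul_comm _ _⟩
    · rintro ⟨d, hd⟩
      exact ⟨d, by rw [← hd]; exact mul_comm _ _⟩
  have hinj := LinearMap.lTensor_injective_of_exact_of_flat π
    (Ideal.Quotient.mkₐ_surjective R _) μ hμ hex R'
  have hmul : ∀ z : R' ⊗[R] ↥(BlowUp.affineAlgebra A I a),
      μ.lTensor R' z = z * ((1 : R') ⊗ₜ[R] α) := by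
    intro z
    induction z using TensorProduct.induction_on with
    | zero => rw [map_zero, zero_mul]
    | tmul r c =>
      rw [LinearMap.lTensor_tmul, Algebra.TensorProduct.tmul_mul_tmul, mul_one]
      show r ⊗ₜ[R] (α * c) = r ⊗ₜ[R] (c * α)
      rw [mul_comm]
    | add x y hx hy => rw [map_add, add_mul, hx, hy]
  rw [mem_nonZeroDivisors_iff_right]
  intro z hz
  apply hinj
  rw [map_zero, hmul, hz]

end flat

section more

variable {R A : Type u} [CommRing R] [CommRing A] [Algebra R A] (I : Ideal A) (a : A)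

theorem flat_quotient' (ha : a ∈ I) (hq : ∀ m, 1 ≤ m → Module.Flat R (A ⧸ I ^ m)) :
    Module.Flat R (↥(BlowUp.affineAlgebra A I a) ⧸
      Ideal.span {algebraMap A ↥(BlowUp.affineAlgebra A I a) a}) :=
  flat_quotient I a ha (flat_quot_all I hq)

theorem tmul_mem_nonZeroDivisors' (ha : a ∈ I)
    (hq : ∀ m, 1 ≤ m → Module.Flat R (A ⧸ I ^ m)) (R' : Type u) [CommRing R'] [Algebra R R'] :
    (1 : R') ⊗ₜ[R] (algebraMap A ↥(BlowUp.affineAlgebra A I a) a) ∈
      nonZeroDivisors (R' ⊗[R] ↥(BlowUp.affineAlgebra A I a)) :=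
  tmul_mem_nonZeroDivisors I a ha (flat_quot_all I hq) R'

end more

end Groth.Agent.Helper28.BlowFlat2
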