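import Mathlib
import Groth.Agent.Lib.Helper28.BlowBC
import Groth.Agent.Lib.Helper28.BlowFlat2

/-!
# Blow-ups with flat infinitesimal neighbourhoods of the centre commute with base change

Variant of `BlowBC` where the ambient scheme is not assumed flat over the base: only the closed
subschemes `V(𝓘^m)`, `m ≥ 1`, are.  The exceptional divisor is then flat over the base and the
blow-up commutes with arbitrary base change.
-/
set_option autoImplicit false
universe u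
open AlgebraicGeometry CategoryTheory CategoryTheory.Limits TensorProduct

namespace Groth.Agent.Helper28.BlowBC2

open Groth.Agent.Helper28 Groth.Agent.Helper28.BlowBC

/-- a surjection with prescribed kernel behaves like the quotient map for flatness -/
lemma flat_comp_of_surjective_of_ker {R B T : Type u} [CommRing R] [CommRing B] [CommRing T]
    (f : R →+* B) (ψ : B →+* T) (hψ : Function.Surjective ψ) (K : Ideal B)
    (hK : RingHom.ker ψ = K) (h : ((Ideal.Quotient.mk K).comp f).Flat) : (ψ.comp f).Flat := by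
  subst hK
  have e1 : ψ.comp f = ((RingHom.quotientKerEquivOfSurjective hψ).toRingHom).comp
      ((Ideal.Quotient.mk (RingHom.ker ψ)).comp f) := by
    ext r
    simp
  rw [e1]
  exact RingHom.Flat.comp h
    (RingHom.Flat.of_bijective (RingHom.quotientKerEquivOfSurjective hψ).bijective)

/-- flatness of a closed subscheme of an affine scheme over an affine base, in terms of rings -/
lemma flat_subschemeι_comp_SpecMap {R C : Type u} [CommRing R] [CommRing C] (φ : R →+* C)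
    (𝓚 : (Spec (CommRingCat.of C)).IdealSheafData) (K : Ideal C)
    (h𝓚 : 𝓚.ideal ⟨⊤, isAffineOpen_top _⟩ =
      K.map (Scheme.ΓSpecIso (CommRingCat.of C)).inv.hom)
    (hfl : ((Ideal.Quotient.mk K).comp φ).Flat) :
    Flat (𝓚.subschemeι ≫ Spec.map (CommRingCat.ofHom φ)) := by
  haveI : IsAffine 𝓚.subscheme := isAffine_of_isAffineHom 𝓚.subschemeι
  rw [HasRingHomProperty.iff_of_isAffine (P := @Flat)]
  have h0 : (Spec.map (CommRingCat.ofHom φ)).appTop =
      (Scheme.ΓSpecIso (CommRingCat.of R)).hom ≫ CommRingCat.ofHom φ ≫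
        (Scheme.ΓSpecIso (CommRingCat.of C)).inv := by
    rw [Scheme.ΓSpecIso_inv_naturality, Iso.hom_inv_id_assoc]
  have key : ((𝓚.subschemeι ≫ Spec.map (CommRingCat.ofHom φ)).appTop).hom =
      ((𝓚.subschemeι.appTop).hom.comp
        ((Scheme.ΓSpecIso (CommRingCat.of C)).inv.hom.comp φ)).comp
        (Scheme.ΓSpecIso (CommRingCat.of R)).hom.hom := by
    rw [Scheme.Hom.comp_appTop, h0]
    rfl
  rw [key, RingHom.Flat.comp_iff_of_bijective_right
    (ConcreteCategory.bijective_of_isIso (Scheme.ΓSpecIso (CommRingCat.of R)).hom)]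
  refine flat_comp_of_surjective_of_ker _ _ ?_
    (K.map (Scheme.ΓSpecIso (CommRingCat.of C)).inv.hom) ?_ ?_
  · exact 𝓚.subschemeι_app_surjective ⟨⊤, isAffineOpen_top _⟩
  · rw [← h𝓚]
    exact 𝓚.ker_subschemeι_app ⟨⊤, isAffineOpen_top _⟩
  · let e' : C ≃+* Γ(Spec (CommRingCat.of C), ⊤) :=
      (Scheme.ΓSpecIso (CommRingCat.of C)).symm.commRingCatIsoToRingEquiv
    have he' : (e' : C →+* Γ(Spec (CommRingCat.of C), ⊤)) =
        (Scheme.ΓSpecIso (CommRingCat.of C)).inv.hom := rfl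
    let qe := Ideal.quotientEquiv K (K.map (Scheme.ΓSpecIso (CommRingCat.of C)).inv.hom) e'
      (by rw [he'])
    have e2 : (Ideal.Quotient.mk (K.map (Scheme.ΓSpecIso (CommRingCat.of C)).inv.hom)).comp
        ((Scheme.ΓSpecIso (CommRingCat.of C)).inv.hom.comp φ) =
        qe.toRingHom.comp ((Ideal.Quotient.mk K).comp φ) := by
      ext r
      rfl
    rw [e2]
    exact RingHom.Flat.comp hfl (RingHom.Flat.of_bijective qe.bijective)

/-- relative effective Cartier divisors (with blow-up charts) pull back to effective Cartier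
divisors under arbitrary base change; no flatness of the ambient rings is needed -/
theorem isEffCartierIdeal_comap_of_isPullback {Y S T YT : Scheme.{u}} (h : Y ⟶ S) (g : T ⟶ S)
    (p : YT ⟶ Y) (q : YT ⟶ T) (sq : IsPullback p q h g) (𝓙 : Y.IdealSheafData)
    (hloc : ∀ y : Y, ∃ (V : S.affineOpens) (A : Type u) (_ : CommRing A) (I : Ideal A) (a : A)
      (_ : a ∈ I) (ρ : Γ(S, V.1) →+* A)
      (j : Spec (CommRingCat.of ↥(BlowUp.affineAlgebra A I a)) ⟶ Y),
      IsOpenImmersion j ∧ y ∈ Set.range j ∧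
      j ≫ h = Spec.map (CommRingCat.ofHom ((κ I a).comp ρ)) ≫ V.2.fromSpec ∧
      𝓙.comap j = (BlowUpProj.𝓘 I).comap (Spec.map (CommRingCat.ofHom (κ I a))) ∧
      ∀ m, 1 ≤ m → ((Ideal.Quotient.mk (I ^ m)).comp ρ).Flat) :
    BlowUp.IsEffCartierIdeal (𝓙.comap p) := by
  apply BlowUpProj.isEffCartierIdeal_of_local'
  intro z
  obtain ⟨V, A, instA, I, a, ha, ρ, j, hj, ⟨y0, hy0⟩, hjh, h𝓙, hρq⟩ := hloc (p z)
  have hfs : ∀ w, V.2.fromSpec w ∈ V.1 := fun w => by
    have : V.2.fromSpec w ∈ Set.range V.2.fromSpec := ⟨w, rfl⟩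
    rwa [V.2.range_fromSpec] at this
  have htV : g (q z) ∈ V.1 := by
    have e1 : g (q z) = h (p z) := by
      rw [← Scheme.Hom.comp_apply, ← sq.w, Scheme.Hom.comp_apply]
    rw [e1, ← hy0, ← Scheme.Hom.comp_apply, hjh, Scheme.Hom.comp_apply]
    exact hfs _
  obtain ⟨_, ⟨VT, hVT, rfl⟩, hzVT, hVTle⟩ := T.isBasis_affineOpens.exists_subset_of_mem_open
    (show q z ∈ ((g ⁻¹ᵁ V.1 : T.Opens) : Set T) from htV) (g ⁻¹ᵁ V.1).isOpen
  have hVTle' : VT ≤ g ⁻¹ᵁ V.1 := hVTle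
  letI : Algebra Γ(S, V.1) A := ρ.toAlgebra
  letI : Algebra Γ(S, V.1) Γ(T, VT) := (g.appLE V.1 VT hVTle').hom.toAlgebra
  have hq : ∀ m, 1 ≤ m → Module.Flat Γ(S, V.1) (A ⧸ I ^ m) := fun m hm =>
    RingHom.flat_algebraMap_iff.mp (hρq m hm)
  have hnzd := BlowFlat2.tmul_mem_nonZeroDivisors' I a ha hq Γ(T, VT)
  have hRC : algebraMap Γ(S, V.1) ↥(BlowUp.affineAlgebra A I a) = (κ I a).comp ρ :=
    IsScalarTower.algebraMap_eq _ A _
  have e₁ : Spec.map (CommRingCat.ofHom (algebraMap Γ(S, V.1) Γ(T, VT))) ≫ V.2.fromSpec =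
      hVT.fromSpec ≫ g := IsAffineOpen.SpecMap_appLE_fromSpec g V.2 hVT hVTle'
  have e₂ : Spec.map (CommRingCat.ofHom
      (algebraMap Γ(S, V.1) ↥(BlowUp.affineAlgebra A I a))) ≫ V.2.fromSpec = j ≫ h := by
    rw [hRC, hjh]
  obtain ⟨k₀, hk₀⟩ : ∃ k₀ : pullback (Spec.map (CommRingCat.ofHom (algebraMap Γ(S, V.1) Γ(T, VT))))
      (Spec.map (CommRingCat.ofHom (algebraMap Γ(S, V.1) ↥(BlowUp.affineAlgebra A I a)))) ⟶
      pullback g h, k₀ = pullback.map _ _ g h hVT.fromSpec j V.2.fromSpec e₁ e₂ := ⟨_, rfl⟩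
  haveI : IsOpenImmersion k₀ := by rw [hk₀]; infer_instance
  have hk₀snd : k₀ ≫ pullback.snd g h = pullback.snd _ _ ≫ j := by
    rw [hk₀]; exact pullback.lift_snd _ _ _
  have hrange : Set.range k₀ = pullback.fst g h ⁻¹' Set.range hVT.fromSpec ∩
      pullback.snd g h ⁻¹' Set.range j := by
    rw [hk₀]; exact Scheme.Pullback.range_map _ _ _ _ _ _ _ _ _
  refine ⟨Spec (CommRingCat.of (Γ(T, VT) ⊗[Γ(S, V.1)] ↥(BlowUp.affineAlgebra A I a))),
    (pullbackSpecIso Γ(S, V.1) Γ(T, VT) ↥(BlowUp.affineAlgebra A I a)).inv ≫ k₀ ≫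
      sq.flip.isoPullback.inv, inferInstance, ?_, ?_⟩
  · have hz0 : sq.flip.isoPullback.hom z ∈ Set.range k₀ := by
      rw [hrange]
      constructor
      · show pullback.fst g h (sq.flip.isoPullback.hom z) ∈ Set.range hVT.fromSpec
        rw [← Scheme.Hom.comp_apply, sq.flip.isoPullback_hom_fst, hVT.range_fromSpec]
        exact hzVT
      · show pullback.snd g h (sq.flip.isoPullback.hom z) ∈ Set.range j
        rw [← Scheme.Hom.comp_apply, sq.flip.isoPullback_hom_snd]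
        exact ⟨y0, hy0⟩
    obtain ⟨w, hw⟩ := hz0
    refine ⟨(pullbackSpecIso Γ(S, V.1) Γ(T, VT) ↥(BlowUp.affineAlgebra A I a)).hom w, ?_⟩
    rw [← Scheme.Hom.comp_apply, Iso.hom_inv_id_assoc, Scheme.Hom.comp_apply, hw,
      ← Scheme.Hom.comp_apply, Iso.hom_inv_id]
    rfl
  · rw [← Scheme.IdealSheafData.comap_comp]
    have hcomp : ((pullbackSpecIso Γ(S, V.1) Γ(T, VT) ↥(BlowUp.affineAlgebra A I a)).inv ≫ k₀ ≫
        sq.flip.isoPullback.inv) ≫ p =
        Spec.map (CommRingCat.ofHom (RingHomClass.toRingHom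
          (Algebra.TensorProduct.includeRight (R := Γ(S, V.1)) (A := Γ(T, VT))
            (B := ↥(BlowUp.affineAlgebra A I a))))) ≫ j := by
      simp only [Category.assoc]
      rw [sq.flip.isoPullback_inv_snd, hk₀snd, ← Category.assoc, pullbackSpecIso_inv_snd]
    rw [hcomp, Scheme.IdealSheafData.comap_comp, h𝓙, ← Scheme.IdealSheafData.comap_comp,
      ← Spec.map_comp, ← CommRingCat.ofHom_comp]
    refine BlowUpProj.isEffCartierIdeal_comap_SpecMap I _
      ((1 : Γ(T, VT)) ⊗ₜ[Γ(S, V.1)] (κ I a a)) hnzd ?_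
    rw [← Ideal.map_map, BlowFlat.map_algebraMap_eq I a ha, Ideal.map_span, Set.image_singleton]
    rfl

/-- the local data of a blow-up with flat powers (the ambient scheme need not be flat) -/
lemma local_data {X X' S : Scheme.{u}} (f : X ⟶ S) (𝓘 : X.IdealSheafData)
    (hfl : ∀ m : ℕ, 1 ≤ m → Flat ((𝓘 ^ m).subschemeι ≫ f)) (b : X' ⟶ X)
    (hb : BlowUp.IsBlowUp b 𝓘) (x' : X') :
    ∃ (V : S.affineOpens) (A : Type u) (_ : CommRing A) (I : Ideal A) (a : A)
      (_ : a ∈ I) (ρ : Γ(S, V.1) →+* A)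
      (j : Spec (CommRingCat.of ↥(BlowUp.affineAlgebra A I a)) ⟶ X'),
      IsOpenImmersion j ∧ x' ∈ Set.range j ∧
      j ≫ (b ≫ f) = Spec.map (CommRingCat.ofHom ((κ I a).comp ρ)) ≫ V.2.fromSpec ∧
      (𝓘.comap b).comap j = (BlowUpProj.𝓘 I).comap (Spec.map (CommRingCat.ofHom (κ I a))) ∧
      ∀ m, 1 ≤ m → ((Ideal.Quotient.mk (I ^ m)).comp ρ).Flat := by
  obtain ⟨_, ⟨V, hV, rfl⟩, hsV, -⟩ := S.isBasis_affineOpens.exists_subset_of_mem_open
    (Set.mem_univ (f (b x'))) isOpen_univ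
  obtain ⟨_, ⟨U, hU, rfl⟩, hxU, hUle⟩ := X.isBasis_affineOpens.exists_subset_of_mem_open
    (show b x' ∈ ((f ⁻¹ᵁ V : X.Opens) : Set X) from hsV) (f ⁻¹ᵁ V).isOpen
  have hUle' : U ≤ f ⁻¹ᵁ V := hUle
  obtain ⟨a, ha, j, hj, hxj, hjb⟩ := exists_chart_of_isBlowUp 𝓘 b hb ⟨U, hU⟩ x' hxU
  refine ⟨⟨V, hV⟩, Γ(X, U), inferInstance, 𝓘.ideal ⟨U, hU⟩, a, ha, (f.appLE V U hUle').hom, j, hj,
    hxj, ?_, ?_, ?_⟩
  · rw [← Category.assoc, hjb, Category.assoc,
      ← IsAffineOpen.SpecMap_appLE_fromSpec f hV hU hUle', ← Category.assoc, ← Spec.map_comp]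
    rfl
  · rw [← Scheme.IdealSheafData.comap_comp, hjb, Scheme.IdealSheafData.comap_comp,
      AffLocalBlowUp.comap_fromSpec 𝓘 ⟨U, hU⟩]
  · intro m hm
    have hJ : (𝓘 ^ m).ideal ⟨U, hU⟩ = (𝓘.ideal ⟨U, hU⟩) ^ m := by
      rw [Scheme.IdealSheafData.ideal_pow, Pi.pow_apply]
    haveI := hfl m hm
    have hU' : IsAffineOpen ((𝓘 ^ m).subschemeι ⁻¹ᵁ U) := hU.preimage (𝓘 ^ m).subschemeι
    have hle : (𝓘 ^ m).subschemeι ⁻¹ᵁ U ≤ ((𝓘 ^ m).subschemeι ≫ f) ⁻¹ᵁ V := by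
      rw [Scheme.Hom.comp_preimage]
      exact Scheme.Hom.preimage_mono _ hUle'
    have h1 := Flat.flat_appLE ((𝓘 ^ m).subschemeι ≫ f) hV hU' hle
    have h2 : ((𝓘 ^ m).subschemeι ≫ f).appLE V ((𝓘 ^ m).subschemeι ⁻¹ᵁ U) hle =
        f.appLE V U hUle' ≫ (𝓘 ^ m).subschemeι.app U := by
      rw [Scheme.Hom.app_eq_appLE, Scheme.Hom.appLE_comp_appLE]
    rw [h2, Scheme.IdealSheafData.subschemeι_app (𝓘 ^ m) ⟨U, hU⟩, CommRingCat.hom_comp,
      CommRingCat.hom_comp, CommRingCat.hom_ofHom, RingHom.comp_assoc] at h1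
    have hbij : Function.Bijective ((𝓘 ^ m).subschemeObjIso ⟨U, hU⟩).inv.hom :=
      ConcreteCategory.bijective_of_isIso ((𝓘 ^ m).subschemeObjIso ⟨U, hU⟩).inv
    have h3 := (RingHom.Flat.comp_iff_of_bijective_left hbij).mp h1
    rw [hJ] at h3
    exact h3

/-- the exceptional divisor of a blow-up with flat infinitesimal neighbourhoods is flat -/
theorem flat_exceptional {X X' S : Scheme.{u}} (g : X ⟶ S) (𝓘 : X.IdealSheafData)
    (hfl : ∀ m : ℕ, 1 ≤ m → Flat ((𝓘 ^ m).subschemeι ≫ g)) (b : X' ⟶ X)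
    (hb : BlowUp.IsBlowUp b 𝓘) : Flat ((𝓘.comap b).subschemeι ≫ b ≫ g) := by
  apply flat_of_local
  intro e
  obtain ⟨V, A, instA, I, a, ha, ρ, j, hj, ⟨y, hy⟩, hjh, h𝓙, hρq⟩ :=
    local_data g 𝓘 hfl b hb ((𝓘.comap b).subschemeι e)
  haveI := hj
  refine ⟨((𝓘.comap b).comap j).subscheme,
    ((𝓘.comap b).comapIso j).hom ≫ pullback.snd j (𝓘.comap b).subschemeι,
    inferInstance, ?_, ?_⟩
  · obtain ⟨p, hp1, hp2⟩ :=
      Scheme.Pullback.exists_preimage_pullback (f := j) (g := (𝓘.comap b).subschemeι) y e hy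
    refine ⟨((𝓘.comap b).comapIso j).inv p, ?_⟩
    rw [← Scheme.Hom.comp_apply, Iso.inv_hom_id_assoc]
    exact hp2
  · have e1 : (((𝓘.comap b).comapIso j).hom ≫ pullback.snd j (𝓘.comap b).subschemeι) ≫
        (𝓘.comap b).subschemeι ≫ b ≫ g =
        (((𝓘.comap b).comap j).subschemeι ≫
          Spec.map (CommRingCat.ofHom ((κ I a).comp ρ))) ≫ V.2.fromSpec := by
      rw [Category.assoc, ← pullback.condition_assoc,
        Scheme.IdealSheafData.comapIso_hom_fst_assoc, hjh, Category.assoc]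
    rw [e1]
    haveI : Flat (((𝓘.comap b).comap j).subschemeι ≫
        Spec.map (CommRingCat.ofHom ((κ I a).comp ρ))) := by
      rw [h𝓙]
      refine flat_subschemeι_comp_SpecMap _ _ (Ideal.span {κ I a a}) ?_ ?_
      · rw [BlowUpProj.ideal_comap_eq, BlowUpProj.φU_SpecMap, ← Ideal.map_map,
          BlowFlat.map_algebraMap_eq I a ha]
      · letI : Algebra Γ(S, V.1) A := ρ.toAlgebra
        have hq : ∀ m, 1 ≤ m → Module.Flat Γ(S, V.1) (A ⧸ I ^ m) := fun m hm =>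
          RingHom.flat_algebraMap_iff.mp (hρq m hm)
        have hRC : algebraMap Γ(S, V.1) ↥(BlowUp.affineAlgebra A I a) = (κ I a).comp ρ :=
          IsScalarTower.algebraMap_eq _ A _
        have hRQ : algebraMap Γ(S, V.1)
            (↥(BlowUp.affineAlgebra A I a) ⧸ Ideal.span {κ I a a}) =
            (Ideal.Quotient.mk (Ideal.span {κ I a a})).comp ((κ I a).comp ρ) := by
          rw [← hRC]
          rfl
        rw [← hRQ]
        exact RingHom.flat_algebraMap_iff.mpr (BlowFlat2.flat_quotient' I a ha hq)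
    infer_instance

/-- a blow-up whose centre has flat infinitesimal neighbourhoods commutes with base change -/
theorem main {X X' S T XT XT' : Scheme.{u}} (f : X ⟶ S) (𝓘 : X.IdealSheafData)
    (hfl : ∀ m : ℕ, 1 ≤ m → Flat ((𝓘 ^ m).subschemeι ≫ f))
    (b : X' ⟶ X) (hb : BlowUp.IsBlowUp b 𝓘)
    (g : T ⟶ S) (pX : XT ⟶ X) (fT : XT ⟶ T) (hX : IsPullback pX fT f g)
    (pX' : XT' ⟶ X') (bT : XT' ⟶ XT) (hX' : IsPullback pX' bT b pX) :
    BlowUp.IsBlowUp bT (𝓘.comap pX) := by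
  have hloc := fun x' => local_data f 𝓘 hfl b hb x'
  have sqT : IsPullback pX' (bT ≫ fT) (b ≫ f) g := hX'.paste_vert hX
  constructor
  · rw [← Scheme.IdealSheafData.comap_comp, ← hX'.w, Scheme.IdealSheafData.comap_comp]
    exact isEffCartierIdeal_comap_of_isPullback (b ≫ f) g pX' (bT ≫ fT) sqT (𝓘.comap b) hloc
  · intro Y' g' hg'
    rw [← Scheme.IdealSheafData.comap_comp] at hg'
    obtain ⟨h, hh, hu⟩ := hb.2 Y' (g' ≫ pX) hg'
    refine ⟨hX'.lift h g' hh, hX'.lift_snd _ _ _, ?_⟩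
    intro h' hh'
    apply hX'.hom_ext
    · rw [hX'.lift_fst]
      apply hu
      show (h' ≫ pX') ≫ b = g' ≫ pX
      rw [Category.assoc, hX'.w, ← Category.assoc, hh']
    · rw [hX'.lift_snd]
      exact hh'

end Groth.Agent.Helper28.BlowBC2
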