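import Mathlib
import Groth.Agent.Lib.Helper28.BlowBC2
import Groth.Agent.Lib.Helper28.BlowQReg
import Groth.Prelude.Def_Mor2

/-!
# The exceptional divisor of a blow-up along a regular immersion is smooth over the centre
-/
set_option autoImplicit false
universe u
open AlgebraicGeometry CategoryTheory CategoryTheory.Limits

namespace Groth.Agent.Helper28.BlowSmooth

open Groth.Agent.Helper28 Groth.Agent.Helper28.BlowBC

section gens

variable {A : Type u} [CommRing A] (I : Ideal A)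

open Groth.Agent.Helper28.ReesChart in
/-- the degree one elements `r t`, `r` in a generating set, generate all `a t` -/
lemma tm_mem_span_of_gens (s : Set A) (hs : s ⊆ I) (hI : I ≤ Ideal.span s) (a : A) (ha : a ∈ I) :
    tm I a ha ∈ Ideal.span (Set.range fun r : s => tm I r.1 (hs r.2)) := by
  have key : ∀ x, x ∈ Ideal.span s → ∀ hx' : x ∈ I,
      tm I x hx' ∈ Ideal.span (Set.range fun r : s => tm I r.1 (hs r.2)) := by
    intro x hx
    refine Submodule.span_induction (p := fun x _ => ∀ hx' : x ∈ I,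
      tm I x hx' ∈ Ideal.span (Set.range fun r : s => tm I r.1 (hs r.2))) ?_ ?_ ?_ ?_ hx
    · intro x hxs hx'
      exact Ideal.subset_span ⟨⟨x, hxs⟩, rfl⟩
    · intro hx'
      have e : tm I 0 hx' = 0 := Subtype.ext (by rw [coe_tm]; simp)
      rw [e]
      exact Ideal.zero_mem _
    · intro x y hx hy ihx ihy hxy'
      have hxI : x ∈ I := Ideal.span_le.2 hs hx
      have hyI : y ∈ I := Ideal.span_le.2 hs hy
      have e : tm I (x + y) hxy' = tm I x hxI + tm I y hyI :=
        Subtype.ext (by simp only [Subalgebra.coe_add, coe_tm, map_add])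
      rw [e]
      exact Ideal.add_mem _ (ihx hxI) (ihy hyI)
    · intro c x hx ih hcx'
      have hxI : x ∈ I := Ideal.span_le.2 hs hx
      have e : tm I (c • x) hcx' = algebraMap A (reesAlgebra I) c * tm I x hxI :=
        Subtype.ext (by
          simp only [Subalgebra.coe_mul, coe_tm, Subalgebra.coe_algebraMap,
            Polynomial.algebraMap_eq, Polynomial.C_mul_monomial, smul_eq_mul])
      rw [e]
      exact Ideal.mul_mem_left _ _ (ih hxI)
  exact key a (hI ha) ha

open Groth.Agent.Helper28.ReesChart Groth.Agent.Helper28.BlowUpProj in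
/-- the charts attached to a generating set cover the blow-up -/
lemma exists_chart_of_gens (s : Set A) (hs : s ⊆ I) (hI : I ≤ Ideal.span s) (p : Proj (gr I)) :
    ∃ (a : A) (has : a ∈ s), p ∈ (chart I a (hs has)).opensRange := by
  have hirr : (HomogeneousIdeal.irrelevant (gr I)).toIdeal ≤
      Ideal.span (Set.range fun r : s => tm I r.1 (hs r.2)) := by
    refine (irrelevant_le_span I).trans (Ideal.span_le.2 ?_)
    rintro _ ⟨a, rfl⟩
    exact tm_mem_span_of_gens I s hs hI a.1 a.2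
  have h := Proj.iSup_basicOpen_eq_top (gr I) (fun r : s => tm I r.1 (hs r.2)) hirr
  have hp : p ∈ (⊤ : (Proj (gr I)).Opens) := trivial
  rw [← h, TopologicalSpace.Opens.mem_iSup] at hp
  obtain ⟨r, hr⟩ := hp
  exact ⟨r.1, r.2, by rw [opensRange_chart]; exact hr⟩

/-- the ideal sheaf of `I` on global sections -/
lemma 𝓘_ideal_top : (BlowUpProj.𝓘 I).ideal ⟨⊤, isAffineOpen_top _⟩ =
    I.map (Scheme.ΓSpecIso (CommRingCat.of A)).inv.hom := by
  rw [BlowUpProj.𝓘, Scheme.IdealSheafData.ofIdealTop_ideal]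
  have h3 : (homOfLE (le_top : (⊤ : (Spec (CommRingCat.of A)).Opens) ≤ ⊤)) = 𝟙 _ :=
    Subsingleton.elim _ _
  rw [h3, op_id, CategoryTheory.Functor.map_id, CommRingCat.hom_id, Ideal.map_id]

end gens

/-- local structure of an abstract blow-up over an affine open of the base, with the chart taken
from a generating set of the ideal -/
lemma exists_chart_of_isBlowUp_gens {X X' : Scheme.{u}} (𝓘 : X.IdealSheafData) (b : X' ⟶ X)
    (hb : BlowUp.IsBlowUp b 𝓘) (U : X.affineOpens) (s : Set Γ(X, U.1))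
    (hs : s ⊆ 𝓘.ideal U) (hI : 𝓘.ideal U ≤ Ideal.span s) (x' : X') (hx' : b x' ∈ U.1) :
    ∃ (a : Γ(X, U.1)) (_ : a ∈ s) (_ : a ∈ 𝓘.ideal U)
      (j : Spec (CommRingCat.of ↥(BlowUp.affineAlgebra Γ(X, U.1) (𝓘.ideal U) a)) ⟶ X'),
      IsOpenImmersion j ∧ x' ∈ Set.range j ∧
      j ≫ b = Spec.map (CommRingCat.ofHom (κ (𝓘.ideal U) a)) ≫ U.2.fromSpec := by
  have sq : IsPullback (pullback.fst U.2.fromSpec b) (pullback.snd U.2.fromSpec b)
      U.2.fromSpec b := IsPullback.of_hasPullback _ _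
  have h1 : BlowUp.IsBlowUp (pullback.fst U.2.fromSpec b) (𝓘.comap U.2.fromSpec) :=
    BlowUpExist.isBlowUp_of_isPullback_of_flat sq 𝓘 hb
  rw [AffLocalBlowUp.comap_fromSpec 𝓘 U] at h1
  obtain ⟨φ, hφ⟩ := StrictTr.exists_iso_of_isBlowUp (BlowUpProj.𝓘 (𝓘.ideal U))
    (BlowUpProj.b (𝓘.ideal U)) (pullback.fst U.2.fromSpec b)
    (BlowUpProj.isBlowUp_b (𝓘.ideal U)) h1
  have hr : b x' ∈ Set.range U.2.fromSpec := by rw [U.2.range_fromSpec]; exact hx'
  obtain ⟨y, hy⟩ := hr
  obtain ⟨p, hp1, hp2⟩ :=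
    Scheme.Pullback.exists_preimage_pullback (f := U.2.fromSpec) (g := b) y x' hy
  obtain ⟨a, has, c0, hc0⟩ := exists_chart_of_gens (𝓘.ideal U) s hs hI (φ.inv p)
  have ha : a ∈ 𝓘.ideal U := hs has
  obtain ⟨ε, hε⟩ : ∃ ε : Spec (CommRingCat.of ↥(BlowUp.affineAlgebra Γ(X, U.1) (𝓘.ideal U) a)) ⟶
      Spec (CommRingCat.of (HomogeneousLocalization.Away (ReesChart.gr (𝓘.ideal U))
        (ReesChart.tm (𝓘.ideal U) a ha))),
      ε = Spec.map (RingEquiv.toCommRingCatIso (ReesChart.awayEquiv (𝓘.ideal U) a ha)).hom :=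
    ⟨_, rfl⟩
  haveI : IsIso ε := by rw [hε]; infer_instance
  refine ⟨a, has, ha,
    ε ≫ BlowUpProj.chart (𝓘.ideal U) a ha ≫ φ.hom ≫ pullback.snd U.2.fromSpec b,
    inferInstance, ?_, ?_⟩
  · refine ⟨(inv ε) c0, ?_⟩
    have e1 : φ.hom (φ.inv p) = p := by
      rw [← Scheme.Hom.comp_apply, Iso.inv_hom_id]
      rfl
    rw [← Scheme.Hom.comp_apply, IsIso.inv_hom_id_assoc, Scheme.Hom.comp_apply,
      Scheme.Hom.comp_apply, hc0, e1]
    exact hp2
  · simp only [Category.assoc]
    rw [← pullback.condition, reassoc_of% hφ, reassoc_of% (BlowUpProj.chart_b (𝓘.ideal U) a ha),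
      ← Category.assoc]
    congr 1
    rw [hε, ← Spec.map_comp]
    congr 1
    ext r
    exact congrArg Subtype.val (ReesChart.awayEquiv_ψ (𝓘.ideal U) a ha r)

/-- smoothness can be checked on a cover of the source by open immersions -/
lemma smooth_of_local {X Y : Scheme.{u}} (f : X ⟶ Y)
    (h : ∀ x : X, ∃ (W : Scheme.{u}) (j : W ⟶ X), IsOpenImmersion j ∧ x ∈ Set.range j ∧
      Smooth (j ≫ f)) : Smooth f := by
  choose W j hj hx hf using h
  haveI : ∀ x, IsOpenImmersion (j x) := hj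
  refine IsZariskiLocalAtSource.of_iSup_eq_top (P := @Smooth) (fun x => (j x).opensRange) ?_ ?_
  · refine top_le_iff.mp fun x _ => ?_
    exact TopologicalSpace.Opens.mem_iSup.mpr ⟨x, hx x⟩
  · intro x
    rw [← Scheme.Hom.isoOpensRange_inv_comp, Category.assoc,
      MorphismProperty.cancel_left_of_respectsIso (P := @Smooth)]
    exact hf x

/-- a map between quotient rings, seen through arbitrary surjections with the right kernels -/
lemma smooth_of_alg_square {A C Ab Cb : Type u} [CommRing A] [CommRing C] [CommRing Ab]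
    [CommRing Cb] (κ : A →+* C) (I : Ideal A) (K : Ideal C) (ψ : A ⧸ I →+* C ⧸ K)
    (hψ : ψ.comp (Ideal.Quotient.mk I) = (Ideal.Quotient.mk K).comp κ) (hsm : ψ.Smooth)
    (qA : A →+* Ab) (hqA : Function.Surjective qA) (hkA : RingHom.ker qA = I)
    (qC : C →+* Cb) (hqC : Function.Surjective qC) (hkC : RingHom.ker qC = K)
    (γ : Ab →+* Cb) (hγ : γ.comp qA = qC.comp κ) : γ.Smooth := by
  subst hkA hkC
  have hsq : γ.comp (RingHom.quotientKerEquivOfSurjective hqA).toRingHom =
      (RingHom.quotientKerEquivOfSurjective hqC).toRingHom.comp ψ := by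
    apply Ideal.Quotient.ringHom_ext
    ext a
    have h1 : ψ (Ideal.Quotient.mk _ a) = Ideal.Quotient.mk _ (κ a) := DFunLike.congr_fun hψ a
    have h2 : γ (qA a) = qC (κ a) := DFunLike.congr_fun hγ a
    simp only [RingHom.comp_apply, RingEquiv.toRingHom_eq_coe, RingHom.coe_coe]
    rw [h1, RingHom.quotientKerEquivOfSurjective_apply_mk,
      RingHom.quotientKerEquivOfSurjective_apply_mk, h2]
  have hγeq : γ = ((RingHom.quotientKerEquivOfSurjective hqC).toRingHom.comp ψ).comp
      (RingHom.quotientKerEquivOfSurjective hqA).symm.toRingHom := by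
    rw [← hsq]
    ext x
    simp
  rw [hγeq]
  exact RingHom.Smooth.comp
    (RingHom.Smooth.of_bijective (RingHom.quotientKerEquivOfSurjective hqA).symm.bijective)
    (RingHom.Smooth.comp hsm
      (RingHom.Smooth.of_bijective (RingHom.quotientKerEquivOfSurjective hqC).bijective))

/-- smoothness of a morphism between closed subschemes of affine schemes -/
lemma smooth_of_square {A C : Type u} [CommRing A] [CommRing C] (κ : A →+* C) (I : Ideal A)
    (K : Ideal C) (ψ : A ⧸ I →+* C ⧸ K)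
    (hψ : ψ.comp (Ideal.Quotient.mk I) = (Ideal.Quotient.mk K).comp κ) (hsm : ψ.Smooth)
    {W Y₀ : Scheme.{u}} (cW : W ⟶ Spec (CommRingCat.of C)) [IsClosedImmersion cW]
    (m : Y₀ ⟶ Spec (CommRingCat.of A)) [IsClosedImmersion m]
    (hcW : cW.ker.ideal ⟨⊤, isAffineOpen_top _⟩ =
      K.map (Scheme.ΓSpecIso (CommRingCat.of C)).inv.hom)
    (hm : m.ker.ideal ⟨⊤, isAffineOpen_top _⟩ =
      I.map (Scheme.ΓSpecIso (CommRingCat.of A)).inv.hom)
    (g' : W ⟶ Y₀) (hg' : g' ≫ m = cW ≫ Spec.map (CommRingCat.ofHom κ)) : Smooth g' := by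
  haveI : IsAffine W := isAffine_of_isAffineHom cW
  haveI : IsAffine Y₀ := isAffine_of_isAffineHom m
  rw [HasRingHomProperty.iff_of_isAffine (P := @Smooth)]
  let eA : A ≃+* Γ(Spec (CommRingCat.of A), ⊤) :=
    (Scheme.ΓSpecIso (CommRingCat.of A)).symm.commRingCatIsoToRingEquiv
  let eC : C ≃+* Γ(Spec (CommRingCat.of C), ⊤) :=
    (Scheme.ΓSpecIso (CommRingCat.of C)).symm.commRingCatIsoToRingEquiv
  have heA : (eA : A →+* Γ(Spec (CommRingCat.of A), ⊤)) =
      (Scheme.ΓSpecIso (CommRingCat.of A)).inv.hom := rfl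
  have heC : (eC : C →+* Γ(Spec (CommRingCat.of C), ⊤)) =
      (Scheme.ΓSpecIso (CommRingCat.of C)).inv.hom := rfl
  have hkm : RingHom.ker m.appTop.hom =
      I.map (eA : A →+* Γ(Spec (CommRingCat.of A), ⊤)) := by
    rw [heA, ← hm]
    exact (m.ker_apply ⟨⊤, isAffineOpen_top _⟩).symm
  have hkc : RingHom.ker cW.appTop.hom =
      K.map (eC : C →+* Γ(Spec (CommRingCat.of C), ⊤)) := by
    rw [heC, ← hcW]
    exact (cW.ker_apply ⟨⊤, isAffineOpen_top _⟩).symm
  refine smooth_of_alg_square κ I K ψ hψ hsm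
    (m.appTop.hom.comp (eA : A →+* Γ(Spec (CommRingCat.of A), ⊤))) ?_ ?_
    (cW.appTop.hom.comp (eC : C →+* Γ(Spec (CommRingCat.of C), ⊤))) ?_ ?_ g'.appTop.hom ?_
  · exact (IsClosedImmersion.isAffine_surjective_of_isAffine m).2.comp eA.surjective
  · rw [← RingHom.comap_ker, hkm]
    exact Ideal.comap_map_of_bijective _ eA.bijective
  · exact (IsClosedImmersion.isAffine_surjective_of_isAffine cW).2.comp eC.surjective
  · rw [← RingHom.comap_ker, hkc]
    exact Ideal.comap_map_of_bijective _ eC.bijective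
  · have h1 : m.appTop ≫ g'.appTop = (Spec.map (CommRingCat.ofHom κ)).appTop ≫ cW.appTop := by
      rw [← Scheme.Hom.comp_appTop, ← Scheme.Hom.comp_appTop, hg']
    have h2 := Scheme.ΓSpecIso_inv_naturality (CommRingCat.ofHom κ)
    have h3 : (Scheme.ΓSpecIso (CommRingCat.of A)).inv ≫ m.appTop ≫ g'.appTop =
        CommRingCat.ofHom κ ≫ (Scheme.ΓSpecIso (CommRingCat.of C)).inv ≫ cW.appTop := by
      rw [h1, ← Category.assoc, ← h2, Category.assoc]
    have h4 := congrArg CommRingCat.Hom.hom h3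
    simp only [CommRingCat.hom_comp, CommRingCat.hom_ofHom] at h4
    ext a
    exact DFunLike.congr_fun h4 a

/-- the exceptional divisor of a blow-up along a regular closed immersion is smooth over the
centre -/
theorem smooth_exceptional {X X' Y : Scheme.{u}} (i : Y ⟶ X)
    (hi : Mor2.IsRegularClosedImmersion i) (b : X' ⟶ X) (hb : BlowUp.IsBlowUp b i.ker)
    (g : (i.ker.comap b).subscheme ⟶ Y)
    (hg : g ≫ i = (i.ker.comap b).subschemeι ≫ b) : Smooth g := by
  haveI : IsClosedImmersion i := hi.1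
  apply smooth_of_local
  intro e
  obtain ⟨U, hU, hzU, rs, hreg, hker⟩ := hi.2 (g e)
  have hbe : b ((i.ker.comap b).subschemeι e) ∈ U := by
    have h0 : b ((i.ker.comap b).subschemeι e) = i (g e) := by
      rw [← Scheme.Hom.comp_apply, ← hg, Scheme.Hom.comp_apply]
    rw [h0]
    exact hzU
  obtain ⟨a, has, ha, j, hj, ⟨y, hy⟩, hjb⟩ := exists_chart_of_isBlowUp_gens i.ker b hb ⟨U, hU⟩
    {r | r ∈ rs} (by rw [hker]; exact Ideal.subset_span) hker.le _ hbe
  haveI := hj
  obtain ⟨ψ, hψ, hsm⟩ :=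
    BlowQReg.exists_smooth_of_isRegular (i.ker.ideal ⟨U, hU⟩) rs hreg hker a has
  have h𝓙 : (i.ker.comap b).comap j = (BlowUpProj.𝓘 (i.ker.ideal ⟨U, hU⟩)).comap
      (Spec.map (CommRingCat.ofHom (κ (i.ker.ideal ⟨U, hU⟩) a))) := by
    rw [← Scheme.IdealSheafData.comap_comp, hjb, Scheme.IdealSheafData.comap_comp,
      AffLocalBlowUp.comap_fromSpec i.ker ⟨U, hU⟩]
  refine ⟨((i.ker.comap b).comap j).subscheme,
    ((i.ker.comap b).comapIso j).hom ≫ pullback.snd j (i.ker.comap b).subschemeι,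
    inferInstance, ?_, ?_⟩
  · obtain ⟨p, hp1, hp2⟩ :=
      Scheme.Pullback.exists_preimage_pullback (f := j) (g := (i.ker.comap b).subschemeι) y e hy
    refine ⟨((i.ker.comap b).comapIso j).inv p, ?_⟩
    rw [← Scheme.Hom.comp_apply, Iso.inv_hom_id_assoc]
    exact hp2
  · have e1 : (((i.ker.comap b).comap j).subschemeι ≫
        Spec.map (CommRingCat.ofHom (κ (i.ker.ideal ⟨U, hU⟩) a))) ≫ hU.fromSpec =
        ((((i.ker.comap b).comapIso j).hom ≫ pullback.snd j (i.ker.comap b).subschemeι) ≫ g) ≫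
          i := by
      simp only [Category.assoc]
      rw [hg, ← pullback.condition_assoc, Scheme.IdealSheafData.comapIso_hom_fst_assoc, hjb]
    obtain ⟨g', hg'1, hg'2⟩ : ∃ g' : ((i.ker.comap b).comap j).subscheme ⟶
        pullback hU.fromSpec i,
        g' ≫ pullback.fst hU.fromSpec i = ((i.ker.comap b).comap j).subschemeι ≫
          Spec.map (CommRingCat.ofHom (κ (i.ker.ideal ⟨U, hU⟩) a)) ∧
        g' ≫ pullback.snd hU.fromSpec i =
          (((i.ker.comap b).comapIso j).hom ≫ pullback.snd j (i.ker.comap b).subschemeι) ≫ g :=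
      ⟨pullback.lift _ _ e1, pullback.lift_fst _ _ _, pullback.lift_snd _ _ _⟩
    haveI : Smooth g' := by
      refine smooth_of_square (κ (i.ker.ideal ⟨U, hU⟩) a) (i.ker.ideal ⟨U, hU⟩)
        (Ideal.span {κ (i.ker.ideal ⟨U, hU⟩) a a}) ψ hψ hsm
        ((i.ker.comap b).comap j).subschemeι (pullback.fst hU.fromSpec i) ?_ ?_ g' hg'1
      · rw [Scheme.IdealSheafData.ker_subschemeι, h𝓙, BlowUpProj.ideal_comap_eq,
          BlowUpProj.φU_SpecMap, ← Ideal.map_map,
          BlowFlat.map_algebraMap_eq (i.ker.ideal ⟨U, hU⟩) a ha]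
      · rw [Scheme.IdealSheafData.ker_fst_of_isClosedImmersion,
          AffLocalBlowUp.comap_fromSpec i.ker ⟨U, hU⟩, 𝓘_ideal_top]
    rw [← hg'2]
    infer_instance

end Groth.Agent.Helper28.BlowSmooth
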