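import Mathlib

/-!
# Descent of local Noetherianity along fppf surjections (helper28)
-/
set_option autoImplicit false
universe u
open CategoryTheory AlgebraicGeometry TopologicalSpace

namespace Groth.Agent.Helper28.NoethDescent

theorem noeth_of_ff {R S : Type*} [CommRing R] [CommRing S] (f : R →+* S)
    (hf : f.FaithfullyFlat) [IsNoetherianRing S] : IsNoetherianRing R := by
  algebraize [f]
  have h1 : IsNoetherian S (TensorProduct R S R) :=
    isNoetherian_of_linearEquiv (TensorProduct.AlgebraTensorModule.rid R S S).symm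
  exact Submodule.IsNoetherian.of_isNoetherian_tensorProduct_of_faithfullyFlat (A := S) h1

theorem aux {X Y : Scheme.{u}} (f : X ⟶ Y) [Flat f] [IsLocallyNoetherian X]
    (V : Y.Opens) (U : X.Opens) (hV : IsAffineOpen V) (hU : IsAffineOpen U) (e : U ≤ f ⁻¹ᵁ V)
    (hsurj : ∀ y ∈ V, ∃ x ∈ U, f.base x = y) : IsNoetherianRing Γ(Y, V) := by
  haveI : IsAffine U.toScheme := hU
  haveI : IsAffine V.toScheme := hV
  have hs : Surjective (f.resLE V U e) := by
    refine ⟨fun y' => ?_⟩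
    have hy' : V.ι.base y' ∈ (V : Set Y) := by
      have : V.ι.base y' ∈ Set.range V.ι.base := ⟨y', rfl⟩
      rwa [Scheme.Opens.range_ι] at this
    obtain ⟨x, hxU, hx⟩ := hsurj (V.ι.base y') hy'
    obtain ⟨x', rfl⟩ : x ∈ Set.range U.ι.base := by rw [Scheme.Opens.range_ι]; exact hxU
    refine ⟨x', ?_⟩
    apply V.ι.isOpenEmbedding.injective
    rw [← Scheme.Hom.comp_apply, Scheme.Hom.resLE_comp_ι, Scheme.Hom.comp_apply]
    exact hx
  have hff : (f.resLE V U e).appTop.hom.FaithfullyFlat :=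
    (Flat.flat_and_surjective_iff_faithfullyFlat_of_isAffine (f := f.resLE V U e)).mp
      ⟨inferInstance, hs⟩
  haveI : IsNoetherianRing Γ(U.toScheme, ⊤) :=
    IsLocallyNoetherian.component_noetherian ⟨⊤, isAffineOpen_top _⟩
  haveI h1 : IsNoetherianRing Γ(V.toScheme, ⊤) := noeth_of_ff _ hff
  exact isNoetherianRing_of_ringEquiv Γ(V.toScheme, ⊤) V.topIso.commRingCatIsoToRingEquiv

theorem main {X Y : Scheme.{u}} (f : X ⟶ Y) [Surjective f] [Flat f]
    [LocallyOfFinitePresentation f] [IsLocallyNoetherian X] : IsLocallyNoetherian Y := by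
  have key : ∀ y : Y, ∃ V : Y.affineOpens, y ∈ V.1 ∧ IsNoetherianRing Γ(Y, V.1) := by
    intro y
    obtain ⟨x, rfl⟩ := f.surjective y
    obtain ⟨_, ⟨V, hV, rfl⟩, hyV, -⟩ :=
      Y.isBasis_affineOpens.exists_subset_of_mem_open (Set.mem_univ (f.base x)) isOpen_univ
    obtain ⟨_, ⟨U, hU, rfl⟩, hxU, hUV⟩ :=
      X.isBasis_affineOpens.exists_subset_of_mem_open hyV (f ⁻¹ᵁ V).isOpen
    have hopen : IsOpen (f.base '' (U : Set X)) := f.isOpenMap _ U.isOpen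
    obtain ⟨g, hgW, hyg⟩ := hV.exists_basicOpen_le
      (V := ⟨f.base '' (U : Set X), hopen⟩) ⟨f.base x, ⟨x, hxU, rfl⟩⟩ hyV
    have hV' : IsAffineOpen (Y.basicOpen g) := hV.basicOpen g
    obtain ⟨g', hg'⟩ : ∃ g' : Γ(X, U), g' = X.presheaf.map (homOfLE hUV).op (f.app V g) :=
      ⟨_, rfl⟩
    have hU' : IsAffineOpen (X.basicOpen g') := hU.basicOpen g'
    have hU'eq : X.basicOpen g' = U ⊓ f ⁻¹ᵁ (Y.basicOpen g) := by
      rw [hg', Scheme.basicOpen_res, Scheme.preimage_basicOpen]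
    have e : X.basicOpen g' ≤ f ⁻¹ᵁ (Y.basicOpen g) := by rw [hU'eq]; exact inf_le_right
    refine ⟨⟨Y.basicOpen g, hV'⟩, hyg, ?_⟩
    refine aux f (Y.basicOpen g) (X.basicOpen g') hV' hU' e ?_
    intro y hy
    obtain ⟨x0, hx0U, hx0⟩ := hgW hy
    refine ⟨x0, ?_, hx0⟩
    rw [hU'eq]
    refine ⟨hx0U, ?_⟩
    show f.base x0 ∈ Y.basicOpen g
    rw [hx0]; exact hy
  choose V hyV hN using key
  refine isLocallyNoetherian_of_affine_cover (S := V) ?_ hN
  rw [eq_top_iff]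
  intro y _
  exact TopologicalSpace.Opens.mem_iSup.mpr ⟨y, hyV y⟩

theorem exists_affine_image {X Y : Scheme.{u}} (f : Y ⟶ X) [Flat f] [Surjective f]
    [LocallyOfFinitePresentation f] (U : X.Opens) (hU : IsAffineOpen U) (x : X) (hx : x ∈ U) :
    ∃ (V : X.Opens) (W : Y.Opens), IsAffineOpen V ∧ IsAffineOpen W ∧ x ∈ V ∧ V ≤ U ∧
      f.base '' (W : Set Y) = (V : Set X) := by
  obtain ⟨y, rfl⟩ := f.surjective x
  obtain ⟨_, ⟨W0, hW0, rfl⟩, hyW0, hW0U⟩ :=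
    Y.isBasis_affineOpens.exists_subset_of_mem_open hx (f ⁻¹ᵁ U).isOpen
  have hopen : IsOpen (f.base '' (W0 : Set Y)) := f.isOpenMap _ W0.isOpen
  obtain ⟨g, hgW, hyg⟩ := hU.exists_basicOpen_le
    (V := ⟨f.base '' (W0 : Set Y), hopen⟩) ⟨f.base y, ⟨y, hyW0, rfl⟩⟩ hx
  obtain ⟨g', hg'⟩ : ∃ g' : Γ(Y, W0), g' = Y.presheaf.map (homOfLE hW0U).op (f.app U g) :=
    ⟨_, rfl⟩
  have hW'eq : Y.basicOpen g' = W0 ⊓ f ⁻¹ᵁ (X.basicOpen g) := by
    rw [hg', Scheme.basicOpen_res, Scheme.preimage_basicOpen]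
  refine ⟨X.basicOpen g, Y.basicOpen g', hU.basicOpen g, hW0.basicOpen g', hyg,
    X.basicOpen_le g, ?_⟩
  ext z
  constructor
  · rintro ⟨w, hw, rfl⟩
    have : w ∈ W0 ⊓ f ⁻¹ᵁ (X.basicOpen g) := hW'eq ▸ hw
    exact this.2
  · intro hz
    obtain ⟨w, hwW0, hw⟩ := hgW hz
    refine ⟨w, ?_, hw⟩
    show w ∈ Y.basicOpen g'
    rw [hW'eq]
    exact ⟨hwW0, by show f.base w ∈ X.basicOpen g; rw [hw]; exact hz⟩

end Groth.Agent.Helper28.NoethDescent
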