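import Mathlib
import Groth.Prelude.Def_Coh
import Groth.Agent.Lib.Helper28.AffIso
import Groth.Agent.Lib.Helper13.PullbackSections
import Groth.Agent.Lib.Helper18.RecPull

set_option autoImplicit false
set_option maxRecDepth 8000
universe u
open CategoryTheory AlgebraicGeometry Opposite TopologicalSpace TensorProduct
open Groth.Agent.Helper13.QCoh Groth.Agent.Helper13.Pullback Groth.Agent.Helper18.PbCompat

namespace Groth.Agent.Helper28.ClUnit

section Alg

variable {A B M : Type u} [CommRing A] [CommRing B] [Algebra A B] [AddCommGroup M] [Module A M]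

/-- For a surjective `A → B`, the map `M → B ⊗[A] M`, `m ↦ 1 ⊗ m` is bijective iff the kernel of
`A → B` annihilates `M`. -/
theorem bijective_one_tmul_iff (hs : Function.Surjective (algebraMap A B)) :
    Function.Bijective (fun m : M => (1 : B) ⊗ₜ[A] m) ↔
      ∀ a : A, algebraMap A B a = 0 → ∀ m : M, a • m = 0 := by
  constructor
  · rintro ⟨hinj, -⟩ a ha m
    apply hinj
    change (1 : B) ⊗ₜ[A] (a • m) = (1 : B) ⊗ₜ[A] (0 : M)
    rw [TensorProduct.tmul_zero, ← TensorProduct.smul_tmul, Algebra.smul_def, ha, zero_mul,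
      TensorProduct.zero_tmul]
  · intro H
    constructor
    · have hle : LinearMap.ker (Algebra.linearMap A B) ≤ LinearMap.ker (LinearMap.lsmul A M) := by
        intro a ha
        rw [LinearMap.mem_ker] at ha ⊢
        refine LinearMap.ext fun m => ?_
        exact H a ha m
      have hs' : Function.Surjective (Algebra.linearMap A B) := hs
      let ψ : B →ₗ[A] (M →ₗ[A] M) :=
        (Submodule.liftQ _ (LinearMap.lsmul A M) hle) ∘ₗ
          (LinearMap.quotKerEquivOfSurjective (Algebra.linearMap A B) hs').symm.toLinearMap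
      have hψ : ∀ m : M, ψ 1 m = m := by
        intro m
        have h1 : (LinearMap.quotKerEquivOfSurjective (Algebra.linearMap A B) hs').symm 1 =
            Submodule.Quotient.mk 1 := by
          have h2 := LinearMap.quotKerEquivOfSurjective_symm_apply (f := Algebra.linearMap A B) hs' 1
          rwa [Algebra.linearMap_apply, map_one] at h2
        change Submodule.liftQ _ (LinearMap.lsmul A M) hle
          ((LinearMap.quotKerEquivOfSurjective (Algebra.linearMap A B) hs').symm 1) m = m
        rw [h1, Submodule.liftQ_apply]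
        exact one_smul A m
      let r : B ⊗[A] M →ₗ[A] M := TensorProduct.lift ψ
      intro m m' hmm
      have h3 := congrArg r hmm
      change r ((1 : B) ⊗ₜ[A] m) = r ((1 : B) ⊗ₜ[A] m') at h3
      rwa [TensorProduct.lift.tmul, TensorProduct.lift.tmul, hψ, hψ] at h3
    · intro z
      induction z using TensorProduct.induction_on with
      | zero => exact ⟨0, TensorProduct.tmul_zero _ _⟩
      | tmul b m =>
        obtain ⟨a, rfl⟩ := hs b
        refine ⟨a • m, ?_⟩
        change (1 : B) ⊗ₜ[A] (a • m) = algebraMap A B a ⊗ₜ[A] m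
        rw [← TensorProduct.smul_tmul, Algebra.smul_def, mul_one]
      | add x y hx hy =>
        obtain ⟨mx, rfl⟩ := hx
        obtain ⟨my, rfl⟩ := hy
        exact ⟨mx + my, TensorProduct.tmul_add _ _ _⟩

end Alg

variable {Z X : Scheme.{u}} (i : Z ⟶ X) [IsClosedImmersion i] (G : X.Modules) [G.IsQuasicoherent]

theorem unit_app_bijective_iff {U : X.Opens} (hU : IsAffineOpen U) :
    Function.Bijective (((Scheme.Modules.pullbackPushforwardAdjunction i).unit.app G).app U) ↔
      ∀ a : Γ(X, U), a ∈ i.ker.ideal ⟨U, hU⟩ → ∀ s : Γ(G, U), a • s = 0 := by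
  have hU' : IsAffineOpen (i ⁻¹ᵁ U) := hU.preimage i
  letI alg : Algebra Γ(X, U) Γ(Z, i ⁻¹ᵁ U) := (i.appLE U (i ⁻¹ᵁ U) le_rfl).hom.toAlgebra
  have hs : Function.Surjective (algebraMap Γ(X, U) Γ(Z, i ⁻¹ᵁ U)) := by
    change Function.Surjective (i.appLE U (i ⁻¹ᵁ U) le_rfl).hom
    rw [← Scheme.Hom.app_eq_appLE]
    exact i.app_surjective U hU
  let E := sectionsPullbackEquiv i G hU' hU le_rfl
  have hE : ∀ m : Γ(G, U), E (OmegaSh.pullSect i G U m) =
      (1 : Γ(Z, i ⁻¹ᵁ U)) ⊗ₜ[Γ(X, U)] m := by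
    intro m
    have h1 := Groth.Agent.Helper18.Rec.sectionsPullbackEquiv_pullRes i G hU' hU le_rfl m
    rw [Groth.Agent.Helper18.Rec.pullRes_refl] at h1
    exact h1
  have hfun : (fun m : Γ(G, U) => (1 : Γ(Z, i ⁻¹ᵁ U)) ⊗ₜ[Γ(X, U)] m) =
      E ∘ (OmegaSh.pullSect i G U) := by
    funext m; exact (hE m).symm
  have hbij : Function.Bijective (((Scheme.Modules.pullbackPushforwardAdjunction i).unit.app G).app U) ↔
      Function.Bijective (fun m : Γ(G, U) => (1 : Γ(Z, i ⁻¹ᵁ U)) ⊗ₜ[Γ(X, U)] m) := by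
    rw [hfun]
    exact (Function.Bijective.of_comp_iff' E.bijective _).symm
  rw [hbij, bijective_one_tmul_iff hs]
  refine forall_congr' fun a => ?_
  have hmem : a ∈ i.ker.ideal ⟨U, hU⟩ ↔ algebraMap Γ(X, U) Γ(Z, i ⁻¹ᵁ U) a = 0 := by
    rw [Scheme.Hom.ker_apply, RingHom.mem_ker]
    change (i.app U).hom a = 0 ↔ (i.appLE U (i ⁻¹ᵁ U) le_rfl).hom a = 0
    rw [← Scheme.Hom.app_eq_appLE]
  rw [hmem]

omit [G.IsQuasicoherent] in
theorem main (hG : Coh.IsQCoh G) :
    IsIso ((Scheme.Modules.pullbackPushforwardAdjunction i).unit.app G) ↔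
      ∀ (U : X.affineOpens) (a : Γ(X, U.1)), a ∈ i.ker.ideal U → ∀ s : Γ(G, U.1), a • s = 0 := by
  haveI : G.IsQuasicoherent := hG
  haveI : ((Scheme.Modules.pushforward i).obj ((Scheme.Modules.pullback i).obj G)).IsQuasicoherent :=
    Groth.Agent.Helper13.QCohPush.isQuasicoherent_pushforward i _
  constructor
  · intro hiso U
    have h1 : IsIso (((Scheme.Modules.pullbackPushforwardAdjunction i).unit.app G).app U.1) :=
      Scheme.Modules.Hom.isIso_iff_isIso_app.mp hiso U.1
    rw [ConcreteCategory.isIso_iff_bijective] at h1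
    exact (unit_app_bijective_iff i G U.2).mp h1
  · intro H
    haveI h2 : ((Scheme.Modules.pullback i ⋙ Scheme.Modules.pushforward i).obj G).IsQuasicoherent :=
      Groth.Agent.Helper13.QCohPush.isQuasicoherent_pushforward i _
    haveI h3 : ((𝟭 X.Modules).obj G).IsQuasicoherent := hG
    apply Groth.Agent.Helper28.AffIso.isIso_of_app_bijective_affine
    intro x
    obtain ⟨_, ⟨U, hU, rfl⟩, hxU, -⟩ :=
      X.isBasis_affineOpens.exists_subset_of_mem_open (Set.mem_univ x) isOpen_univ
    exact ⟨U, hU, hxU, (unit_app_bijective_iff i G hU).mpr (H ⟨U, hU⟩)⟩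

end Groth.Agent.Helper28.ClUnit
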