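import Mathlib
import Groth.Agent.Lib.Helper28.BlowQReg
import Groth.Agent.Lib.Helper28.RegBC1

/-!
# Charts of the blow-up in an `H_1`-regular sequence and Tor-independent base change

`f : Fin c → A` an `H_1`-regular sequence generating `J`, `i₀ : Fin c`, `C = A[J / f i₀]`.
* `ker_Ev_le` : the kernel of `A[X] → C`, `X_j ↦ f_j / f_{i₀}`, is generated by the
  `f_{i₀} X_j - f_j` and `X_{i₀} - 1`.
* `tmul_mem_nonZeroDivisors` : if the image of `f` in an `A`-algebra `A'` is again `H_1`-regular,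
  then `1 ⊗ f_{i₀}` is a nonzerodivisor of `A' ⊗_A C`.
-/
set_option autoImplicit false
universe u
open MvPolynomial TensorProduct

namespace Groth.Agent.Helper28.BlowTor

open Groth.Agent.Helper28.BlowFlat Groth.Agent.Helper28.BlowQReg

section chart

variable {A : Type u} [CommRing A] {c : ℕ} (f : Fin c → A) (i₀ : Fin c)

/-- the relations of the chart -/
noncomputable def g (j : Fin c) : MvPolynomial (Fin c) A := C (f i₀) * X j - C (f j)

/-- the ideal of the linear relations -/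
noncomputable def K₁ : Ideal (MvPolynomial (Fin c) A) := Ideal.span (Set.range (g f i₀))

/-- the ideal of all relations -/
noncomputable def K : Ideal (MvPolynomial (Fin c) A) :=
  K₁ f i₀ ⊔ Ideal.span {(X i₀ - 1 : MvPolynomial (Fin c) A)}

lemma g_mem_K₁ (j : Fin c) : g f i₀ j ∈ K₁ f i₀ := Ideal.subset_span ⟨j, rfl⟩

lemma K₁_le_K : K₁ f i₀ ≤ K f i₀ := le_sup_left

lemma X_sub_one_mem_K : (X i₀ - 1 : MvPolynomial (Fin c) A) ∈ K f i₀ :=
  Ideal.mem_sup_right (Ideal.subset_span rfl)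

/-- substituting `X i₀ = 1` -/
noncomputable def sb : MvPolynomial (Fin c) A →ₐ[A] MvPolynomial (Fin c) A :=
  aeval (fun j => if j = i₀ then 1 else X j)

lemma sb_X_self : sb i₀ (X i₀ : MvPolynomial (Fin c) A) = 1 := by
  rw [sb, aeval_X, if_pos rfl]

lemma sb_X_ne (j : Fin c) (h : j ≠ i₀) : sb i₀ (X j : MvPolynomial (Fin c) A) = X j := by
  rw [sb, aeval_X, if_neg h]

lemma sb_C (r : A) : sb i₀ (C r : MvPolynomial (Fin c) A) = C r := by
  rw [sb, aeval_C]
  rfl

lemma sub_sb_mem (Q : MvPolynomial (Fin c) A) :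
    Q - sb i₀ Q ∈ Ideal.span {(X i₀ - 1 : MvPolynomial (Fin c) A)} := by
  have h : (Ideal.Quotient.mkₐ A (Ideal.span {(X i₀ - 1 : MvPolynomial (Fin c) A)})).comp (sb i₀) =
      Ideal.Quotient.mkₐ A (Ideal.span {(X i₀ - 1 : MvPolynomial (Fin c) A)}) := by
    apply MvPolynomial.algHom_ext
    intro j
    rw [AlgHom.comp_apply]
    by_cases hj : j = i₀
    · subst hj
      rw [sb_X_self]
      symm
      rw [Ideal.Quotient.mkₐ_eq_mk, Ideal.Quotient.eq]
      exact Ideal.subset_span rfl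
    · rw [sb_X_ne i₀ j hj]
  have h2 := DFunLike.congr_fun h Q
  rw [AlgHom.comp_apply, Ideal.Quotient.mkₐ_eq_mk] at h2
  exact Ideal.Quotient.eq.1 h2.symm

lemma sb_g (j : Fin c) : sb i₀ (g f i₀ j) = if j = i₀ then 0 else g f i₀ j := by
  by_cases hj : j = i₀
  · subst hj
    rw [if_pos rfl, g, map_sub, map_mul, sb_C, sb_X_self, mul_one, sub_self]
  · rw [if_neg hj, g, map_sub, map_mul, sb_C, sb_C, sb_X_ne i₀ j hj]

lemma sb_mem_K₁ (Q : MvPolynomial (Fin c) A) (hQ : Q ∈ K f i₀) : sb i₀ Q ∈ K₁ f i₀ := by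
  have h : (K f i₀).map (sb i₀) ≤ K₁ f i₀ := by
    rw [K, Ideal.map_sup, K₁, Ideal.map_span, Ideal.map_span]
    refine sup_le (Ideal.span_le.2 ?_) (Ideal.span_le.2 ?_)
    · rintro _ ⟨_, ⟨j, rfl⟩, rfl⟩
      show sb i₀ (g f i₀ j) ∈ _
      rw [sb_g]
      split_ifs
      · exact Ideal.zero_mem _
      · exact Ideal.subset_span ⟨j, rfl⟩
    · rintro _ ⟨_, rfl, rfl⟩
      show sb i₀ (X i₀ - 1) ∈ _
      rw [map_sub, sb_X_self, map_one, sub_self]
      exact Ideal.zero_mem _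
  exact h (Ideal.mem_map_of_mem _ hQ)

/-- `f i₀` is a nonzerodivisor modulo the relations -/
theorem nzd_mod (hf : CAlgX.IsH1Regular f) (Q : MvPolynomial (Fin c) A)
    (h : C (f i₀) * Q ∈ K f i₀) : Q ∈ K f i₀ := by
  classical
  have h1 : C (f i₀) * sb i₀ Q ∈ K₁ f i₀ := by
    have := sb_mem_K₁ f i₀ _ h
    rwa [map_mul, sb_C] at this
  obtain ⟨B, hB⟩ := Ideal.mem_span_range_iff_exists_fun.1 h1
  have hfl : CAlgX.IsH1Regular (fun i => algebraMap A (MvPolynomial (Fin c) A) (f i)) :=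
    RegBC.h1_of_flat f hf
  obtain ⟨S, hS⟩ : ∃ S, S = ∑ j, B j * X j := ⟨_, rfl⟩
  obtain ⟨D, hD⟩ : ∃ D, D = sb i₀ Q - S := ⟨_, rfl⟩
  have hrel : ∑ i, (B + Pi.single i₀ D : Fin c → MvPolynomial (Fin c) A) i * algebraMap A (MvPolynomial (Fin c) A) (f i) = 0 := by
    simp only [Pi.add_apply, add_mul, Finset.sum_add_distrib, Pi.single_apply, ite_mul, zero_mul,
      Finset.sum_ite_eq', Finset.mem_univ, if_true]
    have e1 : ∑ j, B j * g f i₀ j = C (f i₀) * S - ∑ j, B j * C (f j) := by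
      rw [hS, Finset.mul_sum, ← Finset.sum_sub_distrib]
      refine Finset.sum_congr rfl fun j _ => ?_
      rw [g]; ring
    rw [e1] at hB
    rw [hD, MvPolynomial.algebraMap_eq]
    linear_combination (-1 : MvPolynomial (Fin c) A) * hB
  have hspan := hfl _ hrel
  have hL : ∀ v ∈ Submodule.span (MvPolynomial (Fin c) A)
      {v : Fin c → MvPolynomial (Fin c) A | ∃ i j : Fin c,
        v = Pi.single i (algebraMap A (MvPolynomial (Fin c) A) (f j)) -
          Pi.single j (algebraMap A (MvPolynomial (Fin c) A) (f i))},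
      Fintype.linearCombination (MvPolynomial (Fin c) A)
        (fun i => (X i : MvPolynomial (Fin c) A)) v ∈ K₁ f i₀ := by
    intro v hv
    induction hv using Submodule.span_induction with
    | mem v hv =>
      obtain ⟨i, j, rfl⟩ := hv
      rw [map_sub, Fintype.linearCombination_apply_single, Fintype.linearCombination_apply_single,
        smul_eq_mul, smul_eq_mul, MvPolynomial.algebraMap_eq]
      have e : C (f j) * X i - C (f i) * X j = X j * g f i₀ i - X i * g f i₀ j := by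
        rw [g, g]; ring
      rw [e]
      exact Ideal.sub_mem _ (Ideal.mul_mem_left _ _ (g_mem_K₁ f i₀ i))
        (Ideal.mul_mem_left _ _ (g_mem_K₁ f i₀ j))
    | zero => rw [map_zero]; exact Ideal.zero_mem _
    | add x y _ _ hx hy => rw [map_add]; exact Ideal.add_mem _ hx hy
    | smul a x _ hx => rw [map_smul, smul_eq_mul]; exact Ideal.mul_mem_left _ _ hx
  have hLa := hL _ hspan
  rw [map_add, Fintype.linearCombination_apply_single, Fintype.linearCombination_apply,
    smul_eq_mul] at hLa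
  have hLa' : S + D * X i₀ ∈ K₁ f i₀ := by
    rw [hS]
    simpa only [smul_eq_mul] using hLa
  have e3 : sb i₀ Q = (S + D * X i₀) - D * (X i₀ - 1) := by rw [hD]; ring
  have hsb : sb i₀ Q ∈ K f i₀ := by
    rw [e3]
    exact Ideal.sub_mem _ (K₁_le_K f i₀ hLa')
      (Ideal.mul_mem_left _ _ (X_sub_one_mem_K f i₀))
  have e4 : Q = (Q - sb i₀ Q) + sb i₀ Q := by ring
  rw [e4]
  exact Ideal.add_mem _ (Ideal.mem_sup_right (sub_sb_mem i₀ Q)) hsb

theorem nzd_mod_pow (hf : CAlgX.IsH1Regular f) (N : ℕ) (Q : MvPolynomial (Fin c) A)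
    (h : C (f i₀) ^ N * Q ∈ K f i₀) : Q ∈ K f i₀ := by
  induction N with
  | zero => rwa [pow_zero, one_mul] at h
  | succ N ih =>
    apply ih
    apply nzd_mod f i₀ hf
    rw [← mul_assoc, ← pow_succ']
    exact h

/-- the relations hold in the chart algebra -/
lemma Ev_eq_zero_of_mem_K (Q : MvPolynomial (Fin c) A) (hQ : Q ∈ K f i₀) : Ev f i₀ Q = 0 := by
  have h : K f i₀ ≤ RingHom.ker (Ev f i₀) := by
    rw [K, K₁]
    refine sup_le (Ideal.span_le.2 ?_) (Ideal.span_le.2 ?_)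
    · rintro _ ⟨j, rfl⟩
      show Ev f i₀ (g f i₀ j) = 0
      rw [g, map_sub, map_mul, Ev_X]
      have hC : ∀ r : A, Ev f i₀ (C r) = algebraMap A (Cc f i₀) r := fun r => by
        rw [Ev, aeval_C]
      rw [hC, hC]
      apply vv_injective (J f) (f i₀)
      rw [map_sub, vv_mul, vv_algebraMap, vv_algebraMap, vv_gen, map_zero]
      have h := map_mul_u (f i₀)
      linear_combination (algebraMap A (Localization.Away (f i₀)) (f j)) * h
    · rintro _ rfl
      show Ev f i₀ (X i₀ - 1) = 0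
      rw [map_sub, Ev_X, gen_self, map_one, sub_self]
  exact h hQ

/-- the kernel of `A[X] → A[J / f i₀]` -/
theorem ker_Ev_le (hf : CAlgX.IsH1Regular f) (Q : MvPolynomial (Fin c) A)
    (hQ : Ev f i₀ Q = 0) : Q ∈ K f i₀ := by
  obtain ⟨n, hn⟩ : ∃ n, n = Q.totalDegree := ⟨_, rfl⟩
  obtain ⟨H, hH⟩ : ∃ H, H = hom i₀ n Q := ⟨_, rfl⟩
  have hHhom : H.IsHomogeneous n := by rw [hH]; exact hom_isHomogeneous i₀ hn.ge
  have hEvH : Ev f i₀ H = 0 := by rw [hH, Ev_hom, hQ]
  have h1 : en (f i₀) n (eval f H) = 0 := by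
    rw [← vv_Ev_of_isHomogeneous f i₀ hHhom, hEvH, map_zero]
  obtain ⟨k, hk⟩ := exists_pow_mul_eq_zero (f i₀) n _ h1
  -- the homogeneity trick
  have hφ : aeval (fun j => (X j : MvPolynomial (Fin c) A) * C (f i₀)) H = C (f i₀) ^ n * H := by
    rw [aeval_mul_of_isHomogeneous _ _ hHhom, aeval_X_left_apply]
  have hψ : aeval (fun j => (C (f j) : MvPolynomial (Fin c) A)) H = C (eval f H) := by
    have h := aeval_algebraMap_apply (R := A) (A := A) (B := MvPolynomial (Fin c) A) f H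
    rw [Function.comp_def] at h
    rw [MvPolynomial.algebraMap_eq] at h
    rw [h]
    rfl
  have hcomp : (Ideal.Quotient.mkₐ A (K₁ f i₀)).comp
      (aeval (fun j => (X j : MvPolynomial (Fin c) A) * C (f i₀))) =
      (Ideal.Quotient.mkₐ A (K₁ f i₀)).comp
        (aeval (fun j => (C (f j) : MvPolynomial (Fin c) A))) := by
    apply MvPolynomial.algHom_ext
    intro j
    rw [AlgHom.comp_apply, AlgHom.comp_apply, aeval_X, aeval_X, Ideal.Quotient.mkₐ_eq_mk,
      Ideal.Quotient.eq]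
    have e : X j * C (f i₀) - C (f j) = g f i₀ j := by rw [g]; ring
    rw [e]
    exact g_mem_K₁ f i₀ j
  have hdiff : C (f i₀) ^ n * H - C (eval f H) ∈ K₁ f i₀ := by
    have h2 := DFunLike.congr_fun hcomp H
    rw [AlgHom.comp_apply, AlgHom.comp_apply, hφ, hψ, Ideal.Quotient.mkₐ_eq_mk,
      Ideal.Quotient.eq] at h2
    exact h2
  have hH_mem : C (f i₀) ^ (k + n) * H ∈ K f i₀ := by
    have e : C (f i₀) ^ (k + n) * H =
        C (f i₀) ^ k * (C (f i₀) ^ n * H - C (eval f H)) + C (f i₀ ^ k * eval f H) := by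
      rw [map_mul, map_pow]; ring
    rw [e, hk, map_zero, add_zero]
    exact K₁_le_K f i₀ (Ideal.mul_mem_left _ _ hdiff)
  apply nzd_mod_pow f i₀ hf (k + n)
  have e5 : C (f i₀) ^ (k + n) * Q = C (f i₀) ^ (k + n) * (Q - H) + C (f i₀) ^ (k + n) * H := by
    ring
  rw [e5]
  refine Ideal.add_mem _ (Ideal.mul_mem_left _ _ ?_) hH_mem
  rw [hH]
  exact Ideal.mem_sup_right (sub_hom_mem i₀ n Q)

end chart

section basechange

variable {A : Type u} [CommRing A] {c : ℕ} (f : Fin c → A) (i₀ : Fin c)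
  (A' : Type u) [CommRing A'] [Algebra A A']

lemma map_g (j : Fin c) : MvPolynomial.map (algebraMap A A') (g f i₀ j) =
    g (fun i => algebraMap A A' (f i)) i₀ j := by
  rw [g, g, map_sub, map_mul, map_C, map_C, map_X]

lemma map_mem_K (Q : MvPolynomial (Fin c) A) (hQ : Q ∈ K f i₀) :
    MvPolynomial.map (algebraMap A A') Q ∈ K (fun i => algebraMap A A' (f i)) i₀ := by
  have h : (K f i₀).map (MvPolynomial.map (algebraMap A A')) ≤
      K (fun i => algebraMap A A' (f i)) i₀ := by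
    rw [K, Ideal.map_sup, K₁, Ideal.map_span, Ideal.map_span]
    refine sup_le (Ideal.span_le.2 ?_) (Ideal.span_le.2 ?_)
    · rintro _ ⟨_, ⟨j, rfl⟩, rfl⟩
      rw [map_g]
      exact K₁_le_K _ _ (g_mem_K₁ _ _ j)
    · rintro _ ⟨_, rfl, rfl⟩
      rw [map_sub, map_X, map_one]
      exact X_sub_one_mem_K _ _
  exact h (Ideal.mem_map_of_mem _ hQ)

/-- the base change of the chart algebra -/
noncomputable def Φ : A' ⊗[A] MvPolynomial (Fin c) A →ₐ[A] A' ⊗[A] Cc f i₀ :=
  Algebra.TensorProduct.map (AlgHom.id A A') (Ev f i₀)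

lemma Φ_tmul (a' : A') (Q : MvPolynomial (Fin c) A) :
    Φ f i₀ A' (a' ⊗ₜ[A] Q) = a' ⊗ₜ[A] Ev f i₀ Q := rfl

lemma Φ_surjective : Function.Surjective (Φ f i₀ A') :=
  TensorProduct.map_surjective Function.surjective_id (Ev_surjective f i₀)

/-- elements of `A'[X]` lying in the relation ideal die in `A' ⊗ C` -/
lemma Φ_eq_zero_of_mem (w : A' ⊗[A] MvPolynomial (Fin c) A)
    (hw : MvPolynomial.algebraTensorAlgEquiv A A' w ∈ K (fun i => algebraMap A A' (f i)) i₀) :
    Φ f i₀ A' w = 0 := by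
  -- the ideal of `A' ⊗ A[X]` generated by the relations
  have hle : (K (fun i => algebraMap A A' (f i)) i₀).comap
      (MvPolynomial.algebraTensorAlgEquiv (σ := Fin c) A A') ≤
      RingHom.ker (Φ f i₀ A') := by
    have h1 : K (fun i => algebraMap A A' (f i)) i₀ ≤ (RingHom.ker (Φ f i₀ A')).comap
        (MvPolynomial.algebraTensorAlgEquiv (σ := Fin c) A A').symm := by
      rw [K, K₁]
      refine sup_le (Ideal.span_le.2 ?_) (Ideal.span_le.2 ?_)
      · rintro _ ⟨j, rfl⟩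
        rw [← map_g]
        show Φ f i₀ A' ((MvPolynomial.algebraTensorAlgEquiv A A').symm _) = 0
        rw [MvPolynomial.algebraTensorAlgEquiv_symm_map, Φ_tmul,
          Ev_eq_zero_of_mem_K f i₀ _ (K₁_le_K f i₀ (g_mem_K₁ f i₀ j)), tmul_zero]
      · rintro _ rfl
        show Φ f i₀ A' ((MvPolynomial.algebraTensorAlgEquiv A A').symm _) = 0
        have e : (X i₀ - 1 : MvPolynomial (Fin c) A') =
            MvPolynomial.map (algebraMap A A') (X i₀ - 1) := by
          rw [map_sub, map_X, map_one]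
        rw [e, MvPolynomial.algebraTensorAlgEquiv_symm_map, Φ_tmul,
          Ev_eq_zero_of_mem_K f i₀ _ (X_sub_one_mem_K f i₀), tmul_zero]
    intro w hw
    rw [Ideal.mem_comap] at hw
    have h2 := h1 hw
    rw [Ideal.mem_comap] at h2
    have e : (MvPolynomial.algebraTensorAlgEquiv (σ := Fin c) A A').symm
        ((MvPolynomial.algebraTensorAlgEquiv (σ := Fin c) A A') w) = w :=
      (MvPolynomial.algebraTensorAlgEquiv A A').symm_apply_apply w
    rwa [e] at h2
  exact hle hw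

/-- the kernel of `A'[X] → A' ⊗ C` lies in the relation ideal -/
lemma mem_of_Φ_eq_zero (hf : CAlgX.IsH1Regular f) (w : A' ⊗[A] MvPolynomial (Fin c) A)
    (hw : Φ f i₀ A' w = 0) :
    MvPolynomial.algebraTensorAlgEquiv A A' w ∈ K (fun i => algebraMap A A' (f i)) i₀ := by
  have hker : RingHom.ker (Φ f i₀ A') = (RingHom.ker (Ev f i₀)).map
      (Algebra.TensorProduct.includeRight : MvPolynomial (Fin c) A →ₐ[A] A' ⊗[A] _) :=
    Algebra.TensorProduct.lTensor_ker (Ev f i₀) (Ev_surjective f i₀)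
  have hw' : w ∈ (RingHom.ker (Ev f i₀)).map
      (Algebra.TensorProduct.includeRight : MvPolynomial (Fin c) A →ₐ[A] A' ⊗[A] _) := by
    rw [← hker]; exact hw
  have hle : (RingHom.ker (Ev f i₀)).map
      (Algebra.TensorProduct.includeRight : MvPolynomial (Fin c) A →ₐ[A] A' ⊗[A] _) ≤
      (K (fun i => algebraMap A A' (f i)) i₀).comap
        (MvPolynomial.algebraTensorAlgEquiv (σ := Fin c) A A') := by
    rw [Ideal.map_le_iff_le_comap]
    intro Q hQ
    rw [Ideal.mem_comap, Ideal.mem_comap]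
    show MvPolynomial.algebraTensorAlgEquiv A A' ((1 : A') ⊗ₜ[A] Q) ∈ _
    rw [MvPolynomial.algebraTensorAlgEquiv_tmul, one_smul]
    exact map_mem_K f i₀ A' Q (ker_Ev_le f i₀ hf Q hQ)
  exact hle hw'

/-- **Tor-independent base change of a chart**: `f i₀` stays a nonzerodivisor on `A' ⊗ A[J/f i₀]`
as soon as the image of `f` in `A'` is `H_1`-regular. -/
theorem tmul_mem_nonZeroDivisors (hf : CAlgX.IsH1Regular f)
    (hf' : CAlgX.IsH1Regular (fun i => algebraMap A A' (f i))) :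
    (1 : A') ⊗ₜ[A] (algebraMap A (Cc f i₀) (f i₀)) ∈ nonZeroDivisors (A' ⊗[A] Cc f i₀) := by
  rw [mem_nonZeroDivisors_iff_right]
  intro z hz
  obtain ⟨w, rfl⟩ := Φ_surjective f i₀ A' z
  have h1 : Φ f i₀ A' (w * ((1 : A') ⊗ₜ[A] C (f i₀))) = 0 := by
    rw [map_mul, Φ_tmul]
    have hC : Ev f i₀ (C (f i₀)) = algebraMap A (Cc f i₀) (f i₀) := by rw [Ev, aeval_C]
    rw [hC]
    exact hz
  have h2 := mem_of_Φ_eq_zero f i₀ A' hf _ h1
  rw [map_mul, MvPolynomial.algebraTensorAlgEquiv_tmul, one_smul, map_C, mul_comm] at h2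
  exact Φ_eq_zero_of_mem f i₀ A' w (nzd_mod _ i₀ hf' _ h2)

end basechange

/-- the form used on schemes: an ideal generated by a list, and a member of the list -/
theorem tmul_mem_nonZeroDivisors_of_list {A : Type u} [CommRing A] (rs : List A) (I : Ideal A)
    (hI : I = Ideal.ofList rs) (a : A) (ha : a ∈ rs) (hf : CAlgX.IsH1Regular rs.get)
    (A' : Type u) [CommRing A'] [Algebra A A']
    (hf' : CAlgX.IsH1Regular (fun i => algebraMap A A' (rs.get i))) :
    (1 : A') ⊗ₜ[A] (algebraMap A ↥(BlowUp.affineAlgebra A I a) a) ∈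
      nonZeroDivisors (A' ⊗[A] ↥(BlowUp.affineAlgebra A I a)) := by
  obtain ⟨i₀, rfl⟩ := List.get_of_mem ha
  have hJ : I = J rs.get := by
    rw [hI, J, Set.range_list_get]
  subst hJ
  exact tmul_mem_nonZeroDivisors rs.get i₀ A' hf hf'

end Groth.Agent.Helper28.BlowTor
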