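import Mathlib
import Groth.Prelude.Def_ShStab
import Groth.Agent.Lib.Lead.ShStabPure
import Groth.Agent.Lib.Helper13.QCohExt
import Groth.Agent.Lib.Helper13.FinTypeExt
import Groth.Agent.Lib.Helper13.DimLemma
import Groth.Agent.Lib.Helper6.ParCoeff

/-!
# Extensions of slope-semistable sheaves of the same slope (S18967), modulo strict positivity (SP)
-/

set_option autoImplicit false
universe u
open CategoryTheory CategoryTheory.Limits AlgebraicGeometry Polynomial

namespace Groth.Agent.Helper28.MuExt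

open StabCat Groth.Agent.Lead.StabPoly Groth.Agent.Helper25.ShStabFormal
  Groth.Agent.Lead.ShStabHom Groth.Agent.Lead.ShStabPure

section Poly

theorem alpha_add (d : ℕ) (p q : ℚ[X]) : alpha d (p + q) = alpha d p + alpha d q := by
  unfold alpha
  rw [Polynomial.coeff_add]
  ring

theorem natDegree_le_pred (p : ℚ[X]) (n : ℕ) (hdeg : p.natDegree ≤ n)
    (h0 : p.coeff n = 0) : p.natDegree ≤ n - 1 := by
  rw [Polynomial.natDegree_le_iff_coeff_eq_zero]
  intro N hN
  by_cases hNn : N = n
  · rw [hNn]; exact h0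
  · exact Polynomial.coeff_eq_zero_of_natDegree_lt (by omega)

theorem alpha_pred_eq (n : ℕ) (p : ℚ[X]) (hp : 0 < alpha n p) :
    alpha (n - 1) p = hatSlope n p * alpha n p := by
  have hne : alpha n p ≠ 0 := hp.ne'
  show alpha (n - 1) p = alpha (n - 1) p / alpha n p * alpha n p
  field_simp

theorem hatSlope_add (n : ℕ) (p q : ℚ[X]) (hp : 0 < alpha n p) (hq : 0 < alpha n q)
    (h : hatSlope n p = hatSlope n q) : hatSlope n (p + q) = hatSlope n p := by
  have h1 := alpha_pred_eq n p hp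
  have h2 := alpha_pred_eq n q hq
  rw [← h] at h2
  have h3 : hatSlope n (p + q) = (alpha (n - 1) p + alpha (n - 1) q) / (alpha n p + alpha n q) := by
    show alpha (n - 1) (p + q) / alpha n (p + q) = _
    rw [alpha_add, alpha_add]
  have hpos : 0 < alpha n p + alpha n q := add_pos hp hq
  rw [h3, h1, h2, ← mul_add, mul_div_assoc, div_self hpos.ne', mul_one]

end Poly

variable (k : Type u) [Field k] (X : Scheme.{u}) [X.Over (Spec (CommRingCat.of k))]
  [IsProper (X ↘ Spec (CommRingCat.of k))]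

/-- an extension of coherent modules is coherent -/
theorem isCoh_mid (T : ShortComplex X.Modules) (hT : T.ShortExact) (h1 : Coh.IsCoh T.X₁)
    (h3 : Coh.IsCoh T.X₃) : Coh.IsCoh T.X₂ := by
  haveI : SheafOfModules.IsFiniteType (R := X.ringCatSheaf) T.X₁ := h1.2
  haveI : SheafOfModules.IsFiniteType (R := X.ringCatSheaf) T.X₃ := h3.2
  exact ⟨Groth.Agent.Helper13.QCohExt.main T hT h1.1 h3.1,
    Groth.Agent.Helper13.FinType.isFiniteType_of_shortExact T hT⟩

theorem support_eq_empty_of_isZero {K : X.Modules} (hz : IsZero K) : CohB1.support K = ∅ := by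
  rw [Set.eq_empty_iff_forall_notMem]
  intro x hx
  exact hx ((Groth.Agent.Helper13.QCoh.isZero_iff_stalk K).1 hz x)

/-- slope bound for coherent submodules of a pure slope-semistable module (uses SP). -/
theorem sub_slope_le (L : X.Modules) (hL : CohB1.IsAmple L) (hSP : SPHyp k X L) (n : ℕ)
    (hX : topologicalKrullDim X = (n : WithBot ℕ∞))
    (E : X.Modules) (hE : Coh.IsCoh E) (hpure : ShStab.IsPure X E n)
    (hdimE : topologicalKrullDim (CohB1.support E) = (n : WithBot ℕ∞))
    (hss : StabCat.IsMuSS Coh.IsCoh (ShStab.IsHilbPoly k X L) n E)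
    (pE : ℚ[X]) (hpE : ShStab.IsHilbPoly k X L E pE)
    (A : X.Modules) (ι : A ⟶ E) [Mono ι] (hA : Coh.IsCoh A) (pA : ℚ[X])
    (hpA : ShStab.IsHilbPoly k X L A pA) :
    0 ≤ alpha n pA ∧ alpha (n - 1) pA ≤ hatSlope n pE * alpha n pA := by
  have haE : 0 < alpha n pE := hSP E n hE hdimE pE hpE
  by_cases hz : IsZero A
  · have h0 : pA = 0 := hilbPoly_eq_zero_of_isZero k X L A hz pA hpA
    rw [h0, alpha_zero, alpha_zero, mul_zero]
    exact ⟨le_rfl, le_rfl⟩
  · have hdimA := hpure A ι inferInstance hA hz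
    have haA : 0 < alpha n pA := hSP A n hA hdimA pA hpA
    obtain ⟨hQ, hpQ⟩ := Groth.Agent.Helper6.HilbDeg.isHilbPoly_cokernel k X L hL.1 hA hE ι pA pE
      hpA hpE
    have hdimQ : topologicalKrullDim (CohB1.support (cokernel ι)) ≤ (n : WithBot ℕ∞) := by
      rw [← hX]
      exact topologicalKrullDim_subspace_le X _
    obtain ⟨pQ, dQ⟩ := pdata_of_dim_le k X L hL (cokernel ι) hQ n hdimQ
    have e1 : pQ = pE - pA := hilbPoly_unique k X L _ _ _ dQ.hp hpQ
    have hle : alpha n pA ≤ alpha n pE := by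
      have := dQ.alpha
      rw [e1, alpha_sub] at this
      linarith
    refine ⟨haA.le, ?_⟩
    have hμ := alpha_pred_eq n pE haE
    rcases lt_or_eq_of_le hle with hlt | heq
    · have h1 := hss A ι inferInstance hA pA pE hpA hpE haA hlt
      have h2 : alpha (n - 1) pA / alpha n pA ≤ hatSlope n pE := h1
      rwa [div_le_iff₀ haA] at h2
    · have h0 : alpha n pQ = 0 := by
        rw [e1, alpha_sub, heq, sub_self]
      have hc : pQ.coeff n = 0 := by
        unfold alpha at h0
        have hf : (n.factorial : ℚ) ≠ 0 := by positivity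
        exact (mul_eq_zero.1 h0).resolve_left hf
      have hdeg' := natDegree_le_pred pQ n dQ.deg hc
      have hcoef := coeff_nonneg_of_eventually_nonneg pQ (n - 1) hdeg' dQ.enn
      have hα : 0 ≤ alpha (n - 1) pQ := by
        unfold alpha
        exact mul_nonneg (by positivity) hcoef
      rw [e1, alpha_sub] at hα
      rw [heq]
      linarith

/-- S18967 modulo (SP). -/
theorem main18967 (L : X.Modules) (hL : CohB1.IsAmple L) (hSP : SPHyp k X L)
    (n : ℕ) (hX : topologicalKrullDim X = (n : WithBot ℕ∞))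
    (T : ShortComplex X.Modules) (hT : T.ShortExact)
    (hFt : ShStab.IsPure X T.X₁ n) (hGt : ShStab.IsPure X T.X₃ n)
    (hF : ShStab.IsMuSemistable k X L T.X₁ n) (hG : ShStab.IsMuSemistable k X L T.X₃ n)
    (pF pG : ℚ[X]) (hpF : ShStab.IsHilbPoly k X L T.X₁ pF) (hpG : ShStab.IsHilbPoly k X L T.X₃ pG)
    (hμ : StabCat.hatSlope n pF = StabCat.hatSlope n pG) :
    ShStab.IsMuSemistable k X L T.X₂ n ∧
      ∀ pH : ℚ[X], ShStab.IsHilbPoly k X L T.X₂ pH →
        StabCat.hatSlope n pH = StabCat.hatSlope n pF := by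
  haveI : IsLocallyNoetherian X :=
    LocallyOfFiniteType.isLocallyNoetherian (X ↘ Spec (CommRingCat.of k))
  obtain ⟨hFc, hFnz, hFd, -, hFss⟩ := hF
  obtain ⟨hGc, hGnz, hGd, -, hGss⟩ := hG
  haveI := hT.mono_f
  haveI := hT.epi_g
  have hHc : Coh.IsCoh T.X₂ := isCoh_mid X T hT hFc hGc
  have haF : 0 < alpha n pF := hSP _ n hFc hFd pF hpF
  have haG : 0 < alpha n pG := hSP _ n hGc hGd pG hpG
  have hdimle : ∀ A : X.Modules, topologicalKrullDim (CohB1.support A) ≤ (n : WithBot ℕ∞) := by
    intro A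
    rw [← hX]
    exact topologicalKrullDim_subspace_le X _
  -- additivity of Hilbert polynomials
  have hadd : ∀ pH : ℚ[X], ShStab.IsHilbPoly k X L T.X₂ pH → pH = pF + pG := by
    intro pH hpH
    apply Groth.Agent.Helper6.HilbDeg.poly_eq_of_eval_nat_eq
    intro m
    have h := Groth.Agent.Helper6.ParHilb.euler_twist_add k X L hL.1 T hT hFc hHc hGc m
    rw [Polynomial.eval_add, ← hpH m, ← hpF m, ← hpG m, h]
    exact Int.cast_add _ _
  have hslope : ∀ pH : ℚ[X], ShStab.IsHilbPoly k X L T.X₂ pH →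
      StabCat.hatSlope n pH = StabCat.hatSlope n pF := by
    intro pH hpH
    rw [hadd pH hpH]
    exact hatSlope_add n pF pG haF haG hμ
  -- dimension of the support
  have hHd : topologicalKrullDim (CohB1.support T.X₂) = (n : WithBot ℕ∞) := by
    apply le_antisymm (hdimle _)
    rw [← hFd]
    exact Groth.Agent.Helper13.DimLemma.dim_subset_le
      (Groth.Agent.Helper6.ParCoeff.support_subset_of_mono T.f)
  -- nonzero coherent submodules have support of dimension n
  have hsubdim : ∀ (K : X.Modules) (ι : K ⟶ T.X₂), Mono ι → Coh.IsCoh K → ¬ IsZero K →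
      topologicalKrullDim (CohB1.support K) = (n : WithBot ℕ∞) := by
    intro K ι hι hK hz
    haveI := hι
    apply le_antisymm (hdimle _)
    by_cases hψ : ι ≫ T.g = 0
    · let lft : K ⟶ T.X₁ := hT.exact.lift ι hψ
      have hl : lft ≫ T.f = ι := hT.exact.lift_f _ _
      haveI : Mono lft := by
        haveI : Mono (lft ≫ T.f) := by rw [hl]; infer_instance
        exact mono_of_mono lft T.f
      exact le_of_eq (hFt K lft inferInstance hK hz).symm
    · have hnz := not_isZero_coimage (ι ≫ T.g) hψ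
      have hK'c : Coh.IsCoh (kernel (ι ≫ T.g)) :=
        Groth.Agent.Lead.KerFree.isCoh_kernel hK hGc (ι ≫ T.g)
      have hIc : Coh.IsCoh (Abelian.coimage (ι ≫ T.g)) :=
        (Groth.Agent.S9514.result X hK'c hK (kernel.ι (ι ≫ T.g))).2
      have h1 := hGt (Abelian.coimage (ι ≫ T.g)) (Abelian.factorThruCoimage (ι ≫ T.g))
        inferInstance hIc hnz
      rw [← h1]
      exact Groth.Agent.Helper13.DimLemma.dim_subset_le
        (Groth.Agent.Helper6.TwistSupp.support_subset_of_epi (Abelian.coimage.π (ι ≫ T.g)))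
  have hno : ∀ (K : X.Modules) (ι : K ⟶ T.X₂), Mono ι → Coh.IsCoh K →
      topologicalKrullDim (CohB1.support K) + 1 ≠ (n : WithBot ℕ∞) := by
    intro K ι hι hK
    by_cases hz : IsZero K
    · rw [support_eq_empty_of_isZero X hz]
      exact krullDim_empty_add_one_ne X n
    · rw [hsubdim K ι hι hK hz]
      exact natCast_add_one_ne n
  -- the slope inequality
  have hss : StabCat.IsMuSS Coh.IsCoh (ShStab.IsHilbPoly k X L) n T.X₂ := by
    intro K ι hι hK pK pH hpK hpH hpos hlt
    haveI := hι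
    rw [hslope pH hpH]
    have hK'c : Coh.IsCoh (kernel (ι ≫ T.g)) :=
      Groth.Agent.Lead.KerFree.isCoh_kernel hK hGc (ι ≫ T.g)
    let lft : kernel (ι ≫ T.g) ⟶ T.X₁ :=
      hT.exact.lift (kernel.ι (ι ≫ T.g) ≫ ι) (by
        rw [Category.assoc]; exact kernel.condition (ι ≫ T.g))
    have hlft : lft ≫ T.f = kernel.ι (ι ≫ T.g) ≫ ι := hT.exact.lift_f _ _
    haveI : Mono lft := by
      haveI : Mono (lft ≫ T.f) := by rw [hlft]; infer_instance
      exact mono_of_mono lft T.f
    obtain ⟨pK', dK'⟩ := pdata_of_dim_le k X L hL (kernel (ι ≫ T.g)) hK'c n (hdimle _)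
    have hs1 := sub_slope_le k X L hL hSP n hX T.X₁ hFc hFt hFd hFss pF hpF
      (kernel (ι ≫ T.g)) lft hK'c pK' dK'.hp
    obtain ⟨hIc, hpI⟩ := Groth.Agent.Helper6.HilbDeg.isHilbPoly_cokernel k X L hL.1 hK'c hK
      (kernel.ι (ι ≫ T.g)) pK' pK dK'.hp hpK
    have hs2 := sub_slope_le k X L hL hSP n hX T.X₃ hGc hGt hGd hGss pG hpG
      (Abelian.coimage (ι ≫ T.g)) (Abelian.factorThruCoimage (ι ≫ T.g)) hIc (pK - pK') hpI
    rw [← hμ, alpha_sub, alpha_sub, mul_sub] at hs2
    have hfin : alpha (n - 1) pK ≤ hatSlope n pF * alpha n pK := by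
      linarith [hs1.2, hs2.2]
    show alpha (n - 1) pK / alpha n pK ≤ hatSlope n pF
    rw [div_le_iff₀ hpos]
    exact hfin
  exact ⟨⟨hHc, fun hz => hFnz (IsZero.of_mono T.f hz), hHd, hno, hss⟩, hslope⟩

end Groth.Agent.Helper28.MuExt
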