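import Mathlib
import Groth.Prelude.Def_HopfRep
import Groth.Prelude.Def_Hoch
import Groth.Agent.Lib.Helper29.Reynolds
set_option autoImplicit false
open TensorProduct

/-!
# Integrals on Hopf algebras: existence from linear reductivity, base change and descent

An *integral* on a `k`-bialgebra `A` is a `k`-linear `α : A → k` which is a comodule map from the
regular comodule to the trivial comodule `k`, i.e. `(α ⊗ id) (Δ a) = α a ⊗ 1`.
* `isInt_iff`: unfolding of the predicate.
* `exists_integral_of_LR`: a linearly reductive bialgebra has a normalised integral.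
* `baseChange_isInt`: the base change of an integral to `K ⊗ A`.
* `descent_isInt`: an integral on `K ⊗ A` descends along any `k`-linear retraction `K → k`.
* `monoidAlgebra_isInt`: the coefficient of `1` is an integral on `K[M]`.
* `transport_isInt`: transport along a bialgebra equivalence.
-/

namespace Groth.Agent.Helper28.IntegralDescent

universe u v w

section Basic

variable {k : Type u} [CommRing k] {A : Type v} [CommRing A] [Bialgebra k A]

/-- `α` is an integral: comodule map from the regular comodule to the trivial comodule. -/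
def IsInt (α : A →ₗ[k] k) : Prop :=
  @Hoch.IsComodHom k _ A _ _ _ A _ _ _ k _ _ (HopfRep.Comod.trivial k A k) α

theorem isInt_iff (α : A →ₗ[k] k) :
    IsInt α ↔ ∀ a : A, α.rTensor A (Coalgebra.comul (R := k) a) = α a ⊗ₜ[k] (1 : A) := by
  constructor
  · intro h a
    have := LinearMap.congr_fun h a
    exact this.symm
  · intro h
    apply LinearMap.ext
    intro a
    exact (h a).symm

end Basic

section LR

variable {k : Type u} [Field k] {A : Type u} [CommRing A] [Bialgebra k A]

open Groth.Agent.Helper29.Reynolds in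
theorem exists_integral_of_LR (hG : HopfRep.IsLinearlyReductive k A) :
    ∃ α : A →ₗ[k] k, IsInt α ∧ α 1 = 1 := by
  obtain ⟨E, hE⟩ := exists_reynolds (A := A) A hG
  have hfix : ∀ a : A, Coalgebra.comul (R := k) (E a) = E a ⊗ₜ[k] (1 : A) :=
    fun a => hE.apply_mem a
  have hcom : ∀ a : A, Coalgebra.comul (R := k) (E a) = E.rTensor A (Coalgebra.comul (R := k) a) :=
    fun a => LinearMap.congr_fun hE.1 a
  have h1 : E 1 = 1 := by
    rw [hE.2.2]
    show Coalgebra.comul (R := k) (1 : A) = (1 : A) ⊗ₜ[k] (1 : A)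
    rw [Bialgebra.comul_one]; rfl
  refine ⟨(Coalgebra.counit (R := k) (A := A)) ∘ₗ E, (isInt_iff _).2 ?_, ?_⟩
  · intro a
    rw [LinearMap.rTensor_comp, LinearMap.comp_apply, ← hcom, hfix, LinearMap.rTensor_tmul]
    rfl
  · rw [LinearMap.comp_apply, h1, Bialgebra.counit_one]

end LR

section BaseChange

variable {k : Type u} [CommRing k] {K : Type v} [CommRing K] [Algebra k K]
  {A : Type w} [CommRing A] [Bialgebra k A]

/-- `x ⊗ y ↦ (1 ⊗ x) ⊗_K (1 ⊗ y)`. -/
noncomputable def Ψ : A ⊗[k] A →ₗ[k] (K ⊗[k] A) ⊗[K] (K ⊗[k] A) :=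
  (TensorProduct.mapOfCompatibleSMul K k k (K ⊗[k] A) (K ⊗[k] A)) ∘ₗ
    TensorProduct.map (Algebra.TensorProduct.includeRight (R := k) (A := K) (B := A)).toLinearMap
      (Algebra.TensorProduct.includeRight (R := k) (A := K) (B := A)).toLinearMap

theorem Ψ_tmul (x y : A) :
    Ψ (k := k) (K := K) (x ⊗ₜ[k] y) = ((1 : K) ⊗ₜ[k] x) ⊗ₜ[K] ((1 : K) ⊗ₜ[k] y) := by
  simp [Ψ]

theorem comul_one_tmul (a : A) :
    Coalgebra.comul (R := K) ((1 : K) ⊗ₜ[k] a) = Ψ (k := k) (K := K) (Coalgebra.comul (R := k) a) := by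
  rw [TensorProduct.comul_tmul]
  have h1 : Coalgebra.comul (R := K) (1 : K) = (1 : K) ⊗ₜ[K] (1 : K) := rfl
  rw [h1]
  induction Coalgebra.comul (R := k) a using TensorProduct.induction_on with
  | zero => simp
  | tmul x y =>
    rw [Ψ_tmul]
    rfl
  | add w w' hw hw' => rw [TensorProduct.tmul_add, map_add, hw, hw', map_add]

/-- The base change of a linear form. -/
noncomputable def bc (α : A →ₗ[k] k) : K ⊗[k] A →ₗ[K] K :=
  (TensorProduct.AlgebraTensorModule.rid k K K).toLinearMap ∘ₗ
    TensorProduct.AlgebraTensorModule.map (LinearMap.id : K →ₗ[K] K) α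

theorem bc_tmul (α : A →ₗ[k] k) (c : K) (a : A) : bc (K := K) α (c ⊗ₜ[k] a) = α a • c := by
  simp [bc]

theorem baseChange_isInt (α : A →ₗ[k] k) (hα : IsInt α) : IsInt (bc (K := K) α) := by
  rw [isInt_iff] at hα ⊢
  -- reduce to elements `1 ⊗ a`
  have key : ∀ a : A, (bc (K := K) α).rTensor (K ⊗[k] A)
      (Coalgebra.comul (R := K) ((1 : K) ⊗ₜ[k] a)) =
      bc (K := K) α ((1 : K) ⊗ₜ[k] a) ⊗ₜ[K] (1 : K ⊗[k] A) := by
    intro a
    rw [comul_one_tmul]
    have hG : ∀ w : A ⊗[k] A, (bc (K := K) α).rTensor (K ⊗[k] A) (Ψ (k := k) (K := K) w) =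
        (1 : K) ⊗ₜ[K] ((1 : K) ⊗ₜ[k] (TensorProduct.lid k A (α.rTensor A w))) := by
      intro w
      induction w using TensorProduct.induction_on with
      | zero => simp
      | tmul x y =>
        rw [Ψ_tmul, LinearMap.rTensor_tmul, bc_tmul, LinearMap.rTensor_tmul, TensorProduct.lid_tmul,
          TensorProduct.tmul_smul, TensorProduct.tmul_smul, TensorProduct.smul_tmul']
      | add w w' hw hw' =>
        rw [map_add, map_add, hw, hw', map_add, map_add, TensorProduct.tmul_add,
          TensorProduct.tmul_add]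
    rw [hG, hα, TensorProduct.lid_tmul, bc_tmul, TensorProduct.tmul_smul, TensorProduct.tmul_smul,
      TensorProduct.smul_tmul']
    rfl
  intro x
  induction x using TensorProduct.induction_on with
  | zero => simp
  | tmul c a =>
    have : c ⊗ₜ[k] a = c • ((1 : K) ⊗ₜ[k] a) := by
      rw [TensorProduct.smul_tmul', smul_eq_mul, mul_one]
    rw [this, map_smul, map_smul, map_smul, key, TensorProduct.smul_tmul']
  | add x y hx hy => rw [map_add, map_add, hx, hy, map_add, TensorProduct.add_tmul]

/-- Descent of a linear form along a retraction. -/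
noncomputable def desc (β : K ⊗[k] A →ₗ[K] K) (r : K →ₗ[k] k) : A →ₗ[k] k :=
  r ∘ₗ (β.restrictScalars k) ∘ₗ
    (Algebra.TensorProduct.includeRight (R := k) (A := K) (B := A)).toLinearMap

theorem desc_apply (β : K ⊗[k] A →ₗ[K] K) (r : K →ₗ[k] k) (a : A) :
    desc β r a = r (β ((1 : K) ⊗ₜ[k] a)) := rfl

theorem descent_isInt (β : K ⊗[k] A →ₗ[K] K) (hβ : IsInt β) (r : K →ₗ[k] k) :
    IsInt (desc β r) := by
  rw [isInt_iff] at hβ ⊢
  intro a
  -- the k-linear map G
  let G : (K ⊗[k] A) ⊗[K] (K ⊗[k] A) →ₗ[k] k ⊗[k] A :=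
    (r.rTensor A) ∘ₗ ((TensorProduct.lid K (K ⊗[k] A)).toLinearMap.restrictScalars k) ∘ₗ
      ((β.rTensor (K ⊗[k] A)).restrictScalars k)
  have hG : ∀ w : A ⊗[k] A, G (Ψ (k := k) (K := K) w) = (desc β r).rTensor A w := by
    intro w
    induction w using TensorProduct.induction_on with
    | zero => simp
    | tmul x y =>
      rw [Ψ_tmul]
      show (r.rTensor A) (TensorProduct.lid K (K ⊗[k] A)
        ((β.rTensor (K ⊗[k] A)) (((1 : K) ⊗ₜ[k] x) ⊗ₜ[K] ((1 : K) ⊗ₜ[k] y)))) = _
      rw [LinearMap.rTensor_tmul, TensorProduct.lid_tmul, TensorProduct.smul_tmul', smul_eq_mul,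
        mul_one, LinearMap.rTensor_tmul, LinearMap.rTensor_tmul, desc_apply]
    | add w w' hw hw' => rw [map_add, map_add, hw, hw', map_add]
  rw [← hG, ← comul_one_tmul]
  show (r.rTensor A) (TensorProduct.lid K (K ⊗[k] A)
    ((β.rTensor (K ⊗[k] A)) (Coalgebra.comul (R := K) ((1 : K) ⊗ₜ[k] a)))) = _
  rw [hβ, TensorProduct.lid_tmul, Algebra.TensorProduct.one_def, TensorProduct.smul_tmul',
    smul_eq_mul, mul_one, LinearMap.rTensor_tmul, desc_apply]

theorem desc_one (β : K ⊗[k] A →ₗ[K] K) (hβ1 : β 1 = 1) (r : K →ₗ[k] k) (hr : r 1 = 1) :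
    desc β r 1 = 1 := by
  rw [desc_apply, ← Algebra.TensorProduct.one_def, hβ1, hr]

theorem bc_one (α : A →ₗ[k] k) (h1 : α 1 = 1) : bc (K := K) α 1 = 1 := by
  rw [Algebra.TensorProduct.one_def, bc_tmul, h1, one_smul]

end BaseChange

section Transport

variable {K : Type u} [CommRing K] {B : Type v} [CommRing B] [Bialgebra K B]
  {B' : Type w} [CommRing B'] [Bialgebra K B']

theorem transport_isInt (e : B ≃ₐc[K] B') (α : B' →ₗ[K] K) (hα : IsInt α) :
    IsInt (α ∘ₗ (e : B →ₗ[K] B')) := by
  rw [isInt_iff] at hα ⊢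
  intro x
  have hinj : Function.Injective ((e : B →ₗ[K] B').lTensor K) := by
    have : ((e : B →ₗ[K] B').lTensor K) = (LinearEquiv.lTensor K (e : B ≃ₗ[K] B') : _ →ₗ[K] _) := rfl
    rw [this]
    exact (LinearEquiv.lTensor K (e : B ≃ₗ[K] B')).injective
  apply hinj
  have hcom : TensorProduct.map (e : B →ₗ[K] B') (e : B →ₗ[K] B') (Coalgebra.comul (R := K) x) =
      Coalgebra.comul (R := K) (e x) := CoalgHomClass.map_comp_comul_apply e x
  have h1 : ((e : B →ₗ[K] B').lTensor K) ((α ∘ₗ (e : B →ₗ[K] B')).rTensor B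
      (Coalgebra.comul (R := K) x)) =
      α.rTensor B' (TensorProduct.map (e : B →ₗ[K] B') (e : B →ₗ[K] B')
        (Coalgebra.comul (R := K) x)) := by
    induction Coalgebra.comul (R := K) x using TensorProduct.induction_on with
    | zero => simp
    | tmul a b => simp
    | add w w' hw hw' => simp only [map_add, hw, hw']
  rw [h1, hcom, hα, LinearMap.lTensor_tmul, LinearMap.comp_apply]
  congr 1
  exact (map_one e).symm

end Transport

section MonoidAlg

variable {K : Type u} [CommRing K] {M : Type v} [CommMonoid M]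

/-- coefficient of `1`. -/
noncomputable def coeffOne : MonoidAlgebra K M →ₗ[K] K :=
  (Finsupp.lapply (1 : M)) ∘ₗ (MonoidAlgebra.coeffLinearEquiv K).toLinearMap

theorem coeffOne_single [DecidableEq M] (g : M) (c : K) :
    coeffOne (MonoidAlgebra.single g c) = if g = 1 then c else 0 := by
  simp [coeffOne, MonoidAlgebra.coeffLinearEquiv, Finsupp.single_apply]

theorem monoidAlgebra_isInt : IsInt (coeffOne (K := K) (M := M)) := by
  classical
  rw [isInt_iff]
  intro f
  induction f using MonoidAlgebra.induction_linear with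
  | zero => simp
  | add f g hf hg => rw [map_add, map_add, hf, hg, map_add, TensorProduct.add_tmul]
  | single g c =>
    rw [MonoidAlgebra.comul_single]
    have : Coalgebra.comul (R := K) c = (1 : K) ⊗ₜ[K] c := rfl
    rw [this, TensorProduct.map_tmul, LinearMap.rTensor_tmul, MonoidAlgebra.lsingle_apply,
      MonoidAlgebra.lsingle_apply, coeffOne_single, coeffOne_single]
    by_cases hg : g = 1
    · rw [if_pos hg, if_pos hg, hg, MonoidAlgebra.one_def]
      have h1 : (MonoidAlgebra.single (1 : M) c : MonoidAlgebra K M) =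
          c • MonoidAlgebra.single (1 : M) (1 : K) := by
        rw [MonoidAlgebra.smul_single, smul_eq_mul, mul_one]
      rw [h1, TensorProduct.tmul_smul, TensorProduct.smul_tmul', smul_eq_mul, mul_one]
    · rw [if_neg hg, if_neg hg, TensorProduct.zero_tmul, TensorProduct.zero_tmul]

theorem coeffOne_one : coeffOne (K := K) (M := M) 1 = 1 := by
  classical
  rw [MonoidAlgebra.one_def, coeffOne_single, if_pos rfl]

end MonoidAlg

end Groth.Agent.Helper28.IntegralDescent
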