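import Mathlib
import Groth.Agent.Lib.Helper28.IdealComapOld
import Groth.Agent.Lib.Helper28.EffCartierOld

set_option autoImplicit false
universe u
open CategoryTheory CategoryTheory.Limits AlgebraicGeometry TopologicalSpace

namespace Groth.Agent.Helper28.DVRFibre

section Algebra

variable {A : Type*} [CommRing A]

/-- idempotents of `A[1/π]` lift to `A` when `π` is a nonzerodivisor and `(π)` is radical -/
theorem idem_lift (π : A) (hπ : π ∈ nonZeroDivisors A)
    (hrad : (Ideal.span {π}).IsRadical) (Aπ : Type*) [CommRing Aπ] [Algebra A Aπ]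
    [IsLocalization.Away π Aπ] (e : Aπ) (he : IsIdempotentElem e) :
    ∃ e' : A, IsIdempotentElem e' ∧ algebraMap A Aπ e' = e := by
  have hinj : Function.Injective (algebraMap A Aπ) :=
    IsLocalization.injective Aπ (Submonoid.powers_le.2 hπ)
  have hu : IsUnit (algebraMap A Aπ π) := IsLocalization.Away.algebraMap_isUnit π
  have key : ∀ n : ℕ, ∀ a : A, e * algebraMap A Aπ π ^ n = algebraMap A Aπ a →
      ∃ e' : A, algebraMap A Aπ e' = e := by
    intro n
    induction n with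
    | zero =>
      intro a ha
      exact ⟨a, by rw [← ha, pow_zero, mul_one]⟩
    | succ n ih =>
      intro a ha
      have h1 : a * a = a * π ^ (n + 1) := by
        apply hinj
        rw [map_mul, map_mul, map_pow, ← ha]
        have h0 : e * e = e := he
        linear_combination (algebraMap A Aπ π ^ (n + 1)) ^ 2 * h0
      have h2 : a ∈ Ideal.span {π} := by
        apply hrad
        refine ⟨2, ?_⟩
        rw [pow_two, h1]
        apply Ideal.mul_mem_left
        rw [pow_succ]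
        exact Ideal.mul_mem_left _ _ (Ideal.mem_span_singleton_self π)
      obtain ⟨b, rfl⟩ := Ideal.mem_span_singleton'.1 h2
      apply ih b
      apply hu.mul_left_injective
      show e * algebraMap A Aπ π ^ n * algebraMap A Aπ π = algebraMap A Aπ b * algebraMap A Aπ π
      rw [← map_mul, ← ha, pow_succ, mul_assoc]
  obtain ⟨n, a, ha⟩ := IsLocalization.Away.surj π e
  obtain ⟨e', he'⟩ := key n a ha
  refine ⟨e', ?_, he'⟩
  apply hinj
  rw [map_mul, he']
  exact he

/-- in a Noetherian ring with `(π)` radical, if all `π`-power torsion is nilpotent then `π` is a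
nonzerodivisor -/
theorem mem_nonZeroDivisors_of_torsion_nilpotent [IsNoetherianRing A] (π : A)
    (hrad : (Ideal.span {π}).IsRadical)
    (hnil : ∀ t : A, ∀ n : ℕ, π ^ n * t = 0 → IsNilpotent t) :
    π ∈ nonZeroDivisors A := by
  let T : Ideal A :=
    { carrier := {t | ∃ n : ℕ, π ^ n * t = 0}
      zero_mem' := ⟨0, by simp⟩
      add_mem' := by
        rintro a b ⟨n, hn⟩ ⟨m, hm⟩
        refine ⟨n + m, ?_⟩
        rw [mul_add, pow_add, show π ^ n * π ^ m * a = π ^ m * (π ^ n * a) by ring, hn,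
          show π ^ n * π ^ m * b = π ^ n * (π ^ m * b) by ring, hm]
        simp
      smul_mem' := by
        rintro c a ⟨n, hn⟩
        refine ⟨n, ?_⟩
        rw [smul_eq_mul, show π ^ n * (c * a) = c * (π ^ n * a) by ring, hn, mul_zero] }
  have hT : ∀ t, t ∈ T ↔ ∃ n : ℕ, π ^ n * t = 0 := fun t => Iff.rfl
  have hle : T ≤ Ideal.span {π} • T := by
    intro t ht
    obtain ⟨n, hn⟩ := (hT t).1 ht
    have h1 : t ∈ Ideal.span {π} := by
      apply hrad
      obtain ⟨k, hk⟩ := hnil t n hn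
      exact ⟨k, by rw [hk]; exact Ideal.zero_mem _⟩
    obtain ⟨b, rfl⟩ := Ideal.mem_span_singleton'.1 h1
    have hb : b ∈ T := (hT b).2 ⟨n + 1, by rw [pow_succ, mul_assoc, mul_comm π b]; exact hn⟩
    rw [mul_comm]
    exact Submodule.smul_mem_smul (Ideal.mem_span_singleton_self π) hb
  obtain ⟨r, hr1, hr2⟩ := Submodule.exists_sub_one_mem_and_smul_eq_zero_of_fg_of_le_smul
    (Ideal.span {π}) T (IsNoetherian.noetherian T) hle
  obtain ⟨a, ha⟩ := Ideal.mem_span_singleton'.1 hr1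
  have hr : r = 1 + a * π := by rw [ha]; ring
  have hT0 : ∀ t ∈ T, t = 0 := by
    intro t ht
    obtain ⟨n, hn⟩ := (hT t).1 ht
    have hrt : r * t = 0 := hr2 t ht
    have hcop : IsCoprime r (π ^ n) := by
      apply IsCoprime.pow_right
      refine ⟨1, -a, ?_⟩
      rw [hr]; ring
    obtain ⟨u, v, huv⟩ := hcop
    calc t = (u * r + v * π ^ n) * t := by rw [huv, one_mul]
      _ = u * (r * t) + v * (π ^ n * t) := by ring
      _ = 0 := by rw [hrt, hn]; simp
  rw [mem_nonZeroDivisors_iff_right]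
  intro z hz
  apply hT0
  exact (hT z).2 ⟨1, by rw [pow_one, mul_comm]; exact hz⟩

end Algebra

section Core

variable {X : Scheme.{u}}

/-- local idempotent chart for a clopen decomposition of `D ∩ U` -/
lemma chart {U : X.Opens} (hU : IsAffineOpen U) (gU : Γ(X, U)) (D : X.Opens)
    (hD : X.basicOpen gU = U ⊓ D)
    (hnzd : gU ∈ nonZeroDivisors Γ(X, U))
    (hrad : (Ideal.span {gU}).IsRadical)
    (W1 W2 : X.Opens) (hdisj : W1 ⊓ W2 = ⊥) (hcov : D ≤ W1 ⊔ W2) :
    ∃ e : Γ(X, U), IsIdempotentElem e ∧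
      ∀ y : X, y ∈ U → y ∈ D → (y ∈ X.basicOpen e ↔ y ∈ W1) := by
  have hDU : IsAffineOpen (X.basicOpen gU) := hU.basicOpen gU
  let s : Set ↥(Spec Γ(X, X.basicOpen gU)) := hDU.fromSpec ⁻¹' (W1 : Set X)
  have hs_open : IsOpen s := W1.2.preimage hDU.fromSpec.continuous
  have hrange : ∀ z, hDU.fromSpec z ∈ X.basicOpen gU := by
    intro z
    have : hDU.fromSpec z ∈ Set.range hDU.fromSpec := ⟨z, rfl⟩
    rw [hDU.range_fromSpec] at this
    exact this
  have hs_compl : sᶜ = hDU.fromSpec ⁻¹' (W2 : Set X) := by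
    ext z
    have hz : hDU.fromSpec z ∈ U ⊓ D := by rw [← hD]; exact hrange z
    have hz12 := Opens.mem_sup.1 (hcov (Opens.mem_inf.1 hz).2)
    constructor
    · intro h1
      rcases hz12 with h | h
      · exact absurd h h1
      · exact h
    · intro h2 h1
      have : hDU.fromSpec z ∈ W1 ⊓ W2 := Opens.mem_inf.2 ⟨h1, h2⟩
      rw [hdisj] at this
      exact this
  have hs_closed : IsClosed s := by
    rw [← isOpen_compl_iff, hs_compl]
    exact W2.2.preimage hDU.fromSpec.continuous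
  obtain ⟨e, he, hse⟩ := (PrimeSpectrum.isClopen_iff (s := s)).1 ⟨hs_closed, hs_open⟩
  haveI := hU.isLocalization_basicOpen gU
  obtain ⟨e', he', hee'⟩ := idem_lift gU hnzd hrad Γ(X, X.basicOpen gU) e he
  have hbe : X.basicOpen e = X.basicOpen gU ⊓ X.basicOpen e' := by
    rw [← hee']
    exact X.basicOpen_res e' (homOfLE (X.basicOpen_le gU)).op
  refine ⟨e', he', ?_⟩
  intro y hyU hyD
  have hyDU : y ∈ X.basicOpen gU := by rw [hD]; exact Opens.mem_inf.2 ⟨hyU, hyD⟩
  have hyr : y ∈ Set.range hDU.fromSpec := by rw [hDU.range_fromSpec]; exact hyDU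
  obtain ⟨z, rfl⟩ := hyr
  have h1 : hDU.fromSpec z ∈ X.basicOpen e' ↔ hDU.fromSpec z ∈ X.basicOpen e := by
    rw [hbe]
    exact ⟨fun h => Opens.mem_inf.2 ⟨hyDU, h⟩, fun h => (Opens.mem_inf.1 h).2⟩
  have h2 : hDU.fromSpec z ∈ X.basicOpen e ↔ z ∈ s := by
    have h3 := hDU.fromSpec_preimage_basicOpen e
    rw [hse]
    constructor
    · intro h
      have : z ∈ hDU.fromSpec ⁻¹ᵁ X.basicOpen e := h
      rw [h3] at this
      exact this
    · intro h
      have : z ∈ hDU.fromSpec ⁻¹ᵁ X.basicOpen e := by rw [h3]; exact h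
      exact this
  rw [h1, h2]
  exact Iff.rfl

/-- density of `D` from local nonzerodivisor equations -/
theorem dense_of_charts (D : X.Opens)
    (h : ∀ U : X.affineOpens, ∃ gU : Γ(X, U.1), X.basicOpen gU = U.1 ⊓ D ∧
      gU ∈ nonZeroDivisors Γ(X, U.1)) :
    ∀ x : X, x ∈ closure (D : Set X) := by
  intro x
  rw [mem_closure_iff]
  intro o ho hxo
  obtain ⟨_, ⟨U, hU, rfl⟩, hxU, hUo⟩ :=
    X.isBasis_affineOpens.exists_subset_of_mem_open hxo ho
  obtain ⟨gU, hgD, hnzd⟩ := h ⟨U, hU⟩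
  haveI : Nonempty U := ⟨⟨x, hxU⟩⟩
  have hnt : Nontrivial Γ(X, U) := inferInstance
  have hne : X.basicOpen gU ≠ ⊥ := by
    intro hbot
    have hnil : IsNilpotent gU :=
      (Scheme.isNilpotent_iff_basicOpen_eq_bot_of_isCompact hU.isCompact gU).2 hbot
    obtain ⟨n, hn⟩ := hnil
    have h0 : (0 : Γ(X, U)) ∈ nonZeroDivisors Γ(X, U) := by
      rw [← hn]; exact pow_mem hnzd n
    exact zero_notMem_nonZeroDivisors h0
  obtain ⟨y, hy⟩ := (Opens.ne_bot_iff_nonempty _).1 hne
  have hy' : y ∈ U ⊓ D := by rw [← hgD]; exact hy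
  exact ⟨y, hUo (Opens.mem_inf.1 hy').1, (Opens.mem_inf.1 hy').2⟩

/-- core: `D` is preconnected if `X` is and `D` is locally the nonvanishing locus of a
nonzerodivisor generating a radical ideal -/
theorem isPreconnected_of_charts [PreconnectedSpace X] (D : X.Opens)
    (h : ∀ U : X.affineOpens, ∃ gU : Γ(X, U.1), X.basicOpen gU = U.1 ⊓ D ∧
      gU ∈ nonZeroDivisors Γ(X, U.1) ∧ (Ideal.span {gU}).IsRadical) :
    _root_.IsPreconnected (D : Set X) := by
  have hdense : ∀ x : X, x ∈ closure (D : Set X) :=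
    dense_of_charts D (fun U => by
      obtain ⟨gU, h1, h2, -⟩ := h U
      exact ⟨gU, h1, h2⟩)
  intro u v hu hv hDuv hDu hDv
  by_contra hcon
  rw [Set.not_nonempty_iff_eq_empty] at hcon
  let W1 : X.Opens := D ⊓ ⟨u, hu⟩
  let W2 : X.Opens := D ⊓ ⟨v, hv⟩
  have hW1 : ∀ y, y ∈ W1 ↔ y ∈ D ∧ y ∈ u := fun y => Iff.rfl
  have hW2 : ∀ y, y ∈ W2 ↔ y ∈ D ∧ y ∈ v := fun y => Iff.rfl
  have hdisj : W1 ⊓ W2 = ⊥ := by
    rw [eq_bot_iff]
    intro y hy
    have hy' : y ∈ W1 ∧ y ∈ W2 := hy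
    have : y ∈ (D : Set X) ∩ (u ∩ v) :=
      ⟨((hW1 y).1 hy'.1).1, ((hW1 y).1 hy'.1).2, ((hW2 y).1 hy'.2).2⟩
    rw [hcon] at this
    exact (Set.notMem_empty y this).elim
  have hcov : D ≤ W1 ⊔ W2 := by
    intro y hy
    rcases hDuv hy with h' | h'
    · exact Opens.mem_sup.2 (Or.inl ((hW1 y).2 ⟨hy, h'⟩))
    · exact Opens.mem_sup.2 (Or.inr ((hW2 y).2 ⟨hy, h'⟩))
  have hkey : ∀ x : X, x ∈ closure (W1 : Set X) → x ∈ closure (W2 : Set X) → False := by
    intro x hx1 hx2
    obtain ⟨_, ⟨U, hU, rfl⟩, hxU, -⟩ :=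
      X.isBasis_affineOpens.exists_subset_of_mem_open (Set.mem_univ x) isOpen_univ
    obtain ⟨gU, hgD, hnzd, hrad⟩ := h ⟨U, hU⟩
    obtain ⟨e, he, hey⟩ := chart hU gU D hgD hnzd hrad W1 W2 hdisj hcov
    have hsum : x ∈ X.basicOpen e ∨ x ∈ X.basicOpen (1 - e) := by
      have h1 : x ∈ X.basicOpen (e + (1 - e)) := by
        rw [add_sub_cancel, Scheme.basicOpen_one]
        exact hxU
      exact Opens.mem_sup.1 (X.basicOpen_add_le e (1 - e) h1)
    have hprod : X.basicOpen e ⊓ X.basicOpen (1 - e) = ⊥ := by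
      rw [← Scheme.basicOpen_mul, he.mul_one_sub_self, Scheme.basicOpen_zero]
    rcases hsum with hx | hx
    · rw [mem_closure_iff] at hx2
      obtain ⟨y, hy1, hy2⟩ := hx2 _ (X.basicOpen e).2 hx
      have hyD : y ∈ D := ((hW2 y).1 hy2).1
      have hyU : y ∈ U := X.basicOpen_le e hy1
      have hyW1 : y ∈ W1 := (hey y hyU hyD).1 hy1
      have : y ∈ W1 ⊓ W2 := Opens.mem_inf.2 ⟨hyW1, hy2⟩
      rw [hdisj] at this
      exact this
    · rw [mem_closure_iff] at hx1
      obtain ⟨y, hy1, hy2⟩ := hx1 _ (X.basicOpen (1 - e)).2 hx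
      have hyD : y ∈ D := ((hW1 y).1 hy2).1
      have hyU : y ∈ U := X.basicOpen_le (1 - e) hy1
      have hyP1 : y ∈ X.basicOpen e := (hey y hyU hyD).2 hy2
      have : y ∈ X.basicOpen e ⊓ X.basicOpen (1 - e) := Opens.mem_inf.2 ⟨hyP1, hy1⟩
      rw [hprod] at this
      exact this
  have hcover : ∀ x : X, x ∈ closure (W1 : Set X) ∨ x ∈ closure (W2 : Set X) := by
    intro x
    have hsub : (D : Set X) ⊆ (W1 : Set X) ∪ (W2 : Set X) := fun y hy =>
      Opens.mem_sup.1 (hcov hy)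
    have : x ∈ closure ((W1 : Set X) ∪ (W2 : Set X)) := closure_mono hsub (hdense x)
    rw [closure_union] at this
    exact this
  obtain ⟨y1, hy1D, hy1u⟩ := hDu
  obtain ⟨y2, hy2D, hy2v⟩ := hDv
  have hy1 : y1 ∈ closure (W1 : Set X) := subset_closure ((hW1 y1).2 ⟨hy1D, hy1u⟩)
  have hy2 : y2 ∈ closure (W2 : Set X) := subset_closure ((hW2 y2).2 ⟨hy2D, hy2v⟩)
  obtain ⟨x, -, hx1, hx2⟩ := isPreconnected_closed_iff.1
    (PreconnectedSpace.isPreconnected_univ (α := X))
    (closure (W1 : Set X)) (closure (W2 : Set X)) isClosed_closure isClosed_closure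
    (fun x _ => hcover x) ⟨y1, Set.mem_univ _, hy1⟩ ⟨y2, Set.mem_univ _, hy2⟩
  exact hkey x hx1 hx2

end Core

section Red

variable {R : Type u} [CommRing R] {X : Scheme.{u}}

lemma appLE_top_top {X Y : Scheme.{u}} (f : X ⟶ Y) (e : (⊤ : X.Opens) ≤ f ⁻¹ᵁ ⊤) :
    f.appLE ⊤ ⊤ e = f.appTop :=
  Scheme.Hom.appLE_eq_app f (U := ⊤)

/-- description of the global sections map of `fromSpecResidueField` on `Spec R` -/
lemma fromSpecResidueField_appTop (s : PrimeSpectrum R) :
    ∃ (E1 : Γ(Spec (CommRingCat.of R), ⊤) ≃+* R)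
      (E : Γ(Spec ((Spec (CommRingCat.of R)).residueField s), ⊤) ≃+* s.asIdeal.ResidueField),
      (∀ r : R, E1 ((Scheme.ΓSpecIso (CommRingCat.of R)).inv.hom r) = r) ∧
      ∀ x, E (((Spec (CommRingCat.of R)).fromSpecResidueField s).appTop.hom x) =
        algebraMap R s.asIdeal.ResidueField (E1 x) := by
  have e1 : (Spec (CommRingCat.of R)).fromSpecResidueField s =
      Spec.map (CommRingCat.ofHom (algebraMap R s.asIdeal.ResidueField) ≫
        (Scheme.Spec.residueFieldIso (CommRingCat.of R) s).inv) := by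
    rw [Spec.map_comp]
    exact (Scheme.Spec.map_residueFieldIso_inv_eq_fromSpecResidueField (CommRingCat.of R) s).symm
  have e2 : ((Spec (CommRingCat.of R)).fromSpecResidueField s).appTop =
      (Scheme.ΓSpecIso (CommRingCat.of R)).hom ≫
        (CommRingCat.ofHom (algebraMap R s.asIdeal.ResidueField) ≫
          (Scheme.Spec.residueFieldIso (CommRingCat.of R) s).inv) ≫
        (Scheme.ΓSpecIso ((Spec (CommRingCat.of R)).residueField s)).inv := by
    rw [e1, ← Scheme.ΓSpecIso_naturality_assoc, Iso.hom_inv_id, Category.comp_id]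
  let E3 := (Scheme.ΓSpecIso ((Spec (CommRingCat.of R)).residueField s)).commRingCatIsoToRingEquiv
  let E2 := (Scheme.Spec.residueFieldIso (CommRingCat.of R) s).commRingCatIsoToRingEquiv
  refine ⟨(Scheme.ΓSpecIso (CommRingCat.of R)).commRingCatIsoToRingEquiv, E3.trans E2, ?_, ?_⟩
  · intro r
    exact congrArg (fun t => t.hom r) (Scheme.ΓSpecIso (CommRingCat.of R)).inv_hom_id
  · intro y
    rw [e2]
    show E2 (E3 (E3.symm (E2.symm (algebraMap R s.asIdeal.ResidueField
      ((Scheme.ΓSpecIso (CommRingCat.of R)).commRingCatIsoToRingEquiv y))))) = _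
    rw [E3.apply_symm_apply, E2.apply_symm_apply]

/-- if the fibre over a principal maximal ideal `(ϖ)` is reduced, then `ϖ` generates a radical
ideal in the sections over every affine open -/
theorem isRadical_of_isReduced_fiber (f : X ⟶ Spec (CommRingCat.of R)) (s : PrimeSpectrum R)
    [hs : s.asIdeal.IsMaximal] (ϖ : R) (hϖ : s.asIdeal = Ideal.span {ϖ})
    (hred : AlgebraicGeometry.IsReduced (f.fiber s)) (U : X.Opens) (hU : IsAffineOpen U)
    (e : U ≤ f ⁻¹ᵁ ⊤) :
    (Ideal.span {(f.appLE ⊤ U e).hom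
      ((Scheme.ΓSpecIso (CommRingCat.of R)).inv.hom ϖ)}).IsRadical := by
  have H : IsPullback (f.fiberι s) (f.fiberToSpecResidueField s) f
      ((Spec (CommRingCat.of R)).fromSpecResidueField s) :=
    IsPullback.of_hasPullback f ((Spec (CommRingCat.of R)).fromSpecResidueField s)
  have hUST : (⊤ : (Spec ((Spec (CommRingCat.of R)).residueField s)).Opens) ≤
      ((Spec (CommRingCat.of R)).fromSpecResidueField s) ⁻¹ᵁ ⊤ := le_of_eq rfl
  have hiso := isIso_pushoutSection_of_isAffineOpen H hUST e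
    (UY := f.fiberι s ⁻¹ᵁ U ⊓ f.fiberToSpecResidueField s ⁻¹ᵁ ⊤) rfl
    (isAffineOpen_top _) (isAffineOpen_top _) hU
  have hpush := (isIso_pushoutSection_iff H hUST e rfl).1 hiso
  obtain ⟨E1, E, hE1, hE⟩ := fromSpecResidueField_appTop s
  have htop := appLE_top_top ((Spec (CommRingCat.of R)).fromSpecResidueField s) hUST
  have hsurj : Function.Surjective
      (((Spec (CommRingCat.of R)).fromSpecResidueField s).appLE ⊤ ⊤ hUST).hom := by
    rw [htop]
    intro y
    obtain ⟨r, hr⟩ := Ideal.algebraMap_residueField_surjective s.asIdeal (E y)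
    refine ⟨E1.symm r, ?_⟩
    apply E.injective
    rw [hE, E1.apply_symm_apply, hr]
  have hker : RingHom.ker (((Spec (CommRingCat.of R)).fromSpecResidueField s).appLE ⊤ ⊤ hUST).hom =
      Ideal.span {(Scheme.ΓSpecIso (CommRingCat.of R)).inv.hom ϖ} := by
    rw [htop]
    ext x
    have hx : ((Spec (CommRingCat.of R)).fromSpecResidueField s).appTop.hom x = 0 ↔
        E1 x ∈ s.asIdeal := by
      rw [← Ideal.algebraMap_residueField_eq_zero, ← hE]
      exact (map_eq_zero_iff E E.injective).symm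
    rw [RingHom.mem_ker, hx, hϖ, Ideal.mem_span_singleton, Ideal.mem_span_singleton]
    constructor
    · rintro ⟨c, hc⟩
      refine ⟨E1.symm c, ?_⟩
      apply E1.injective
      rw [map_mul, hE1, E1.apply_symm_apply, hc]
    · rintro ⟨c, rfl⟩
      exact ⟨E1 c, by rw [map_mul, hE1]⟩
  have hk := IdealComapOld.ker_inl_of_isPushout _ _ _ _ hpush hsurj
  rw [hker, Ideal.map_span, Set.image_singleton] at hk
  rw [← hk]
  haveI : _root_.IsReduced
      Γ(f.fiber s, f.fiberι s ⁻¹ᵁ U ⊓ f.fiberToSpecResidueField s ⁻¹ᵁ ⊤) :=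
    hred.component_reduced _
  intro b hb
  obtain ⟨n, hn⟩ := hb
  rw [RingHom.mem_ker] at hn ⊢
  rw [map_pow] at hn
  exact IsReduced.eq_zero _ ⟨n, hn⟩

end Red

section DVR

variable {R : Type u} [CommRing R] [IsDomain R] [IsDiscreteValuationRing R] {X : Scheme.{u}}

lemma notMem_iff_eq_bot (ϖ : R) (hϖ : Irreducible ϖ) (p : PrimeSpectrum R) :
    ϖ ∉ p.asIdeal ↔ p.asIdeal = ⊥ := by
  constructor
  · intro h
    by_contra hne
    have hmax : p.asIdeal.IsMaximal := p.2.isMaximal hne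
    have h2 : p.asIdeal = IsLocalRing.maximalIdeal R := IsLocalRing.eq_maximalIdeal hmax
    rw [h2, hϖ.maximalIdeal_eq] at h
    exact h (Ideal.mem_span_singleton_self ϖ)
  · intro h hmem
    rw [h] at hmem
    exact hϖ.ne_zero (Ideal.mem_bot.1 hmem)

lemma mem_preimage_basicOpen_iff (f : X ⟶ Spec (CommRingCat.of R)) (ϖ : R) (hϖ : Irreducible ϖ)
    (x : X) :
    x ∈ f ⁻¹ᵁ ((Spec (CommRingCat.of R)).basicOpen
      ((Scheme.ΓSpecIso (CommRingCat.of R)).inv.hom ϖ)) ↔
      (f x : PrimeSpectrum R).asIdeal = ⊥ := by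
  have h1 : (Spec (CommRingCat.of R)).basicOpen
      ((Scheme.ΓSpecIso (CommRingCat.of R)).inv.hom ϖ) =
      PrimeSpectrum.basicOpen ϖ := basicOpen_eq_of_affine (R := CommRingCat.of R) ϖ
  rw [h1]
  show ϖ ∉ (f x : PrimeSpectrum R).asIdeal ↔ _
  exact notMem_iff_eq_bot ϖ hϖ _

lemma uniformizer_mem_nonZeroDivisors (ϖ : R) (hϖ : Irreducible ϖ) :
    (Scheme.ΓSpecIso (CommRingCat.of R)).inv.hom ϖ ∈
      nonZeroDivisors Γ(Spec (CommRingCat.of R), ⊤) := by
  rw [mem_nonZeroDivisors_iff_right]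
  intro z hz
  let E1 := (Scheme.ΓSpecIso (CommRingCat.of R)).commRingCatIsoToRingEquiv
  have h0 : E1 ((Scheme.ΓSpecIso (CommRingCat.of R)).inv.hom ϖ) = ϖ :=
    congrArg (fun t => t.hom ϖ) (Scheme.ΓSpecIso (CommRingCat.of R)).inv_hom_id
  have h1 : E1 z * ϖ = 0 := by
    rw [← h0, ← map_mul, hz, map_zero]
  have h2 : E1 z = 0 := by
    rcases mul_eq_zero.1 h1 with h | h
    · exact h
    · exact absurd h hϖ.ne_zero
  exact (map_eq_zero_iff E1 E1.injective).1 h2

theorem main0421 (f : X ⟶ Spec (CommRingCat.of R)) [Flat f] [ConnectedSpace ↑X]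
    (hred : AlgebraicGeometry.IsReduced (f.fiber (IsLocalRing.closedPoint R))) :
    ConnectedSpace ↑(f.fiber (⟨⊥, Ideal.isPrime_bot⟩ : PrimeSpectrum R)) := by
  obtain ⟨ϖ, hϖ⟩ := IsDiscreteValuationRing.exists_irreducible R
  let D : X.Opens := f ⁻¹ᵁ ((Spec (CommRingCat.of R)).basicOpen
    ((Scheme.ΓSpecIso (CommRingCat.of R)).inv.hom ϖ))
  have hDset : (D : Set X) = f ⁻¹' {(⟨⊥, Ideal.isPrime_bot⟩ : PrimeSpectrum R)} := by
    ext x
    refine (mem_preimage_basicOpen_iff f ϖ hϖ x).trans ?_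
    constructor
    · intro h
      exact PrimeSpectrum.ext h
    · intro h
      have h' : (f x : PrimeSpectrum R) = ⟨⊥, Ideal.isPrime_bot⟩ := h
      rw [h']
  have hmax : (IsLocalRing.closedPoint R).asIdeal = Ideal.span {ϖ} := hϖ.maximalIdeal_eq
  have hcharts : ∀ U : X.affineOpens, ∃ gU : Γ(X, U.1), X.basicOpen gU = U.1 ⊓ D ∧
      gU ∈ nonZeroDivisors Γ(X, U.1) ∧ (Ideal.span {gU}).IsRadical := by
    intro U
    have e : U.1 ≤ f ⁻¹ᵁ ⊤ := (le_top : U.1 ≤ ⊤)
    refine ⟨(f.appLE ⊤ U.1 e).hom ((Scheme.ΓSpecIso (CommRingCat.of R)).inv.hom ϖ),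
      Scheme.basicOpen_appLE f U.1 ⊤ e _, ?_, ?_⟩
    · exact EffCartierOld.map_mem_nonZeroDivisors_of_flat _
        (HasRingHomProperty.appLE (P := @Flat) f inferInstance ⟨⊤, isAffineOpen_top _⟩ U e) _
        (uniformizer_mem_nonZeroDivisors ϖ hϖ)
    · haveI : (IsLocalRing.closedPoint R).asIdeal.IsMaximal :=
        IsLocalRing.maximalIdeal.isMaximal R
      exact isRadical_of_isReduced_fiber f (IsLocalRing.closedPoint R) ϖ hmax hred U.1 U.2 e
  have hpre : _root_.IsPreconnected (D : Set X) := isPreconnected_of_charts D hcharts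
  have hne : (D : Set X).Nonempty := by
    obtain ⟨x⟩ := (inferInstance : Nonempty X)
    have := dense_of_charts D (fun U => by
      obtain ⟨gU, h1, h2, -⟩ := hcharts U
      exact ⟨gU, h1, h2⟩) x
    exact closure_nonempty_iff.1 ⟨x, this⟩
  rw [hDset] at hpre hne
  haveI : ConnectedSpace ↥(f ⁻¹' {(⟨⊥, Ideal.isPrime_bot⟩ : PrimeSpectrum R)}) :=
    Subtype.connectedSpace ⟨hne, hpre⟩
  exact ((f.fiberHomeo _).connectedSpace_iff).2 inferInstance

theorem main3417 (A : Type u) [CommRing A] [IsDomain A] [IsDiscreteValuationRing A]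
    {X : Scheme.{u}} (f : X ⟶ Spec (CommRingCat.of A)) [LocallyOfFiniteType f]
    (hopen : IsOpenMap f.base) [PreconnectedSpace X]
    (a b : ↥(Spec (CommRingCat.of A))) (ha : IsClosed ({a} : Set ↥(Spec (CommRingCat.of A))))
    (hb : ∀ z : ↥(Spec (CommRingCat.of A)), b ⤳ z)
    (hred : AlgebraicGeometry.IsReduced (f.fiber a)) :
    PreconnectedSpace ↥(f.fiber b) := by
  obtain ⟨ϖ, hϖ⟩ := IsDiscreteValuationRing.exists_irreducible A
  have hamax : (a : PrimeSpectrum A).asIdeal.IsMaximal :=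
    (PrimeSpectrum.isClosed_singleton_iff_isMaximal (a : PrimeSpectrum A)).1 ha
  have haeq : (a : PrimeSpectrum A).asIdeal = Ideal.span {ϖ} := by
    rw [IsLocalRing.eq_maximalIdeal hamax, hϖ.maximalIdeal_eq]
  have hbbot : (b : PrimeSpectrum A).asIdeal = ⊥ := by
    have h1 := hb (⟨⊥, Ideal.isPrime_bot⟩ : PrimeSpectrum A)
    have h2 : (b : PrimeSpectrum A).asIdeal ≤ (⊥ : Ideal A) :=
      (PrimeSpectrum.le_iff_specializes (b : PrimeSpectrum A) ⟨⊥, Ideal.isPrime_bot⟩).2 h1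
    exact le_bot_iff.1 h2
  let D : X.Opens := f ⁻¹ᵁ ((Spec (CommRingCat.of A)).basicOpen
    ((Scheme.ΓSpecIso (CommRingCat.of A)).inv.hom ϖ))
  have hDmem : ∀ x : X, x ∈ D ↔ f x = b := by
    intro x
    refine (mem_preimage_basicOpen_iff f ϖ hϖ x).trans ?_
    constructor
    · intro h
      exact PrimeSpectrum.ext (h.trans hbbot.symm)
    · intro h
      rw [h]
      exact hbbot
  have hDset : (D : Set X) = f ⁻¹' {b} := by
    ext x
    exact hDmem x
  haveI : IsLocallyNoetherian X := LocallyOfFiniteType.isLocallyNoetherian f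
  have hcharts : ∀ U : X.affineOpens, ∃ gU : Γ(X, U.1), X.basicOpen gU = U.1 ⊓ D ∧
      gU ∈ nonZeroDivisors Γ(X, U.1) ∧ (Ideal.span {gU}).IsRadical := by
    intro U
    have e : U.1 ≤ f ⁻¹ᵁ ⊤ := (le_top : U.1 ≤ ⊤)
    have hgD : X.basicOpen ((f.appLE ⊤ U.1 e).hom
        ((Scheme.ΓSpecIso (CommRingCat.of A)).inv.hom ϖ)) = U.1 ⊓ D :=
      Scheme.basicOpen_appLE f U.1 ⊤ e _
    have hrad : (Ideal.span {(f.appLE ⊤ U.1 e).hom
        ((Scheme.ΓSpecIso (CommRingCat.of A)).inv.hom ϖ)}).IsRadical := by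
      haveI := hamax
      exact isRadical_of_isReduced_fiber f a ϖ haeq hred U.1 U.2 e
    refine ⟨_, hgD, ?_, hrad⟩
    haveI : IsNoetherianRing Γ(X, U.1) := IsLocallyNoetherian.component_noetherian U
    apply mem_nonZeroDivisors_of_torsion_nilpotent _ hrad
    intro t n hn
    by_contra hnot
    have hne : X.basicOpen t ≠ ⊥ := fun hbot => hnot
      ((Scheme.isNilpotent_iff_basicOpen_eq_bot_of_isCompact U.2.isCompact t).2 hbot)
    obtain ⟨y, hy⟩ := (Opens.ne_bot_iff_nonempty _).1 hne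
    have hopen' : IsOpen (f.base '' (X.basicOpen t : Set X)) := hopen _ (X.basicOpen t).2
    have hbmem : b ∈ f.base '' (X.basicOpen t : Set X) :=
      (hb (f.base y)).mem_open hopen' ⟨y, hy, rfl⟩
    obtain ⟨y', hy't, hy'b⟩ := hbmem
    have hy'U : y' ∈ U.1 := X.basicOpen_le t hy't
    have hy'D : y' ∈ D := (hDmem y').2 hy'b
    have hy'g : y' ∈ X.basicOpen ((f.appLE ⊤ U.1 e).hom
        ((Scheme.ΓSpecIso (CommRingCat.of A)).inv.hom ϖ)) := by
      rw [hgD]; exact Opens.mem_inf.2 ⟨hy'U, hy'D⟩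
    have h1 : y' ∈ X.basicOpen ((f.appLE ⊤ U.1 e).hom
        ((Scheme.ΓSpecIso (CommRingCat.of A)).inv.hom ϖ) ^ n * t) := by
      rw [Scheme.mem_basicOpen X _ y' hy'U, map_mul, map_pow]
      exact (((Scheme.mem_basicOpen X _ y' hy'U).1 hy'g).pow n).mul
        ((Scheme.mem_basicOpen X t y' hy'U).1 hy't)
    rw [hn, Scheme.basicOpen_zero] at h1
    exact h1
  have hpre : _root_.IsPreconnected (D : Set X) := isPreconnected_of_charts D hcharts
  rw [hDset] at hpre
  haveI : PreconnectedSpace ↥(f ⁻¹' {b}) := Subtype.preconnectedSpace hpre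
  exact (f.fiberHomeo b).symm.surjective.denseRange.preconnectedSpace
    (f.fiberHomeo b).symm.continuous

end DVR

end Groth.Agent.Helper28.DVRFibre
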