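import Mathlib
import Groth.Agent.Lib.Helper28.TwistTensor
import Groth.Agent.Lib.Helper28.TwistAmple
import Groth.Agent.Lib.Helper28.TwistZero
import Groth.Agent.Lib.Helper13.GlobGen
import Groth.Agent.Lib.Helper13.GlobGen2
import Groth.Agent.Lib.Helper13.FinGlobGen
import Groth.Agent.Lib.Helper13.InvTwist
import Groth.Agent.Lib.Helper13.TensorQCoh

/-!
# Serre's generation theorem on `Proj` (helper28)

For `S_+` generated by finitely many elements of degree one and `F` quasi-coherent of finite type,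
`F(n)` is a quotient of a finite free module for `n ≫ 0`, and `F` is a quotient of `O(-n)^k`.
-/

set_option autoImplicit false
universe u
open CategoryTheory CategoryTheory.Limits AlgebraicGeometry Opposite TopologicalSpace
open Groth.Agent.Helper13

namespace Groth.Agent.Helper28.TwistMul

section General

variable {X : Scheme.{u}}

/-- the maps `ι i ⊗ N : O ⊗ N ⟶ O^k ⊗ N` are jointly epimorphic. -/
theorem tensor_free_hom_ext (k : ℕ) (N G : X.Modules)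
    (g h : CohB1.tensorMod (FlatMod.freeMod X k) N ⟶ G)
    (H : ∀ i, Tensor.map (LocFree.ι k i) (𝟙 N) ≫ g = Tensor.map (LocFree.ι k i) (𝟙 N) ≫ h) :
    g = h := by
  apply Tensor.hom_ext
  intro U a b
  have ha : a = ∑ i : Fin k, (LocFree.ι k i).app U ((LocFree.π k i).app U a) := by
    have h1 := congrArg (fun φ => φ.app U a) (LocFree.total (X := X) k)
    simp only at h1
    rw [LocFree.sum_app_apply] at h1
    exact h1.symm
  rw [ha]
  have hsum := LinearMap.map_sum₂ (Tensor.tmulBilin (FlatMod.freeMod X k) N U) Finset.univ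
    (fun i => (LocFree.ι k i).app U ((LocFree.π k i).app U a)) b
  simp only [Tensor.tmulBilin_apply] at hsum
  rw [hsum, map_sum, map_sum]
  refine Finset.sum_congr rfl (fun i _ => ?_)
  have h2 := congrArg
    (fun φ => φ.app U (Tensor.tmul _ N ((LocFree.π k i).app U a) b)) (H i)
  simp only [Scheme.Modules.Hom.comp_app, ConcreteCategory.comp_apply,
    Tensor.map_app_tmul] at h2
  exact h2

/-- an epimorphism `O^k ⊗ N ↠ F` gives an epimorphism `N^{⊕ k} ↠ F`. -/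
theorem exists_epi_sigma_of_epi_tensor_free (k : ℕ) (N F : X.Modules)
    (q : CohB1.tensorMod (FlatMod.freeMod X k) N ⟶ F) [Epi q] :
    ∃ p : (∐ fun _ : Fin k => N) ⟶ F, Epi p := by
  refine ⟨Sigma.desc (fun i => (Tensor.lid N).inv ≫ Tensor.map (LocFree.ι k i) (𝟙 N) ≫ q), ?_⟩
  constructor
  intro G g h hgh
  rw [← cancel_epi q]
  apply tensor_free_hom_ext
  intro i
  have h1 := congrArg (fun φ => (Tensor.lid N).hom ≫ Sigma.ι (fun _ : Fin k => N) i ≫ φ) hgh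
  simp only [Sigma.ι_desc_assoc, Category.assoc, Iso.hom_inv_id_assoc] at h1
  exact h1

end General

variable {R A : Type u} [CommRing R] [CommRing A] [Algebra R A] (𝒜 : ℕ → Submodule R A)
  [GradedAlgebra 𝒜]

/-- **Serre**: `F(n)` is a quotient of a finite free module for `n ≫ 0`. -/
theorem exists_epi_free_twistBy (s : Finset A) (hs1 : ∀ f ∈ s, f ∈ 𝒜 1)
    (hs : (HomogeneousIdeal.irrelevant 𝒜).toIdeal = Ideal.span (s : Set A))
    (F : (Proj 𝒜).Modules) (hF : Coh.IsQCoh F) (hFT : CohB1.IsFT F) :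
    ∃ n₀ : ℕ, ∀ n : ℕ, n₀ ≤ n →
      ∃ (k : ℕ) (p : FlatMod.freeMod (Proj 𝒜) k ⟶ Twist.twistBy 𝒜 F (n : ℤ)), Epi p := by
  haveI : F.IsQuasicoherent := hF
  haveI : SheafOfModules.IsFiniteType (R := (Proj 𝒜).ringCatSheaf) F := hFT
  have hL := twist_one_isAmple 𝒜 s hs1 hs
  haveI : CompactSpace (Proj 𝒜) := hL.2.1
  have hcov : ∀ x : Proj 𝒜, ∃ f ∈ 𝒜 1, f ∉ x.asHomogeneousIdeal := fun x => by
    obtain ⟨f, hf, hfx⟩ := exists_nmem 𝒜 (s : Set A) hs.le x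
    exact ⟨f, hs1 f hf, hfx⟩
  obtain ⟨hinv, -, hpow⟩ := twist_all_of_degree_one 𝒜 hcov
  obtain ⟨n₀, hn₀⟩ := GlobGen.exists_isGloballyGenerated_twist (Twist.twist 𝒜 1) hL F
  refine ⟨n₀, fun n hn => ?_⟩
  obtain ⟨e⟩ := hpow n
  have hgg : Curv2.IsGloballyGenerated (Twist.twistBy 𝒜 F (n : ℤ)) :=
    GlobGen.isGloballyGenerated_of_iso (Tensor.mapIso (Iso.refl F) e.symm) (hn₀ n hn)
  haveI : SheafOfModules.IsFiniteType (R := (Proj 𝒜).ringCatSheaf) (Twist.twist 𝒜 (n : ℤ)) :=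
    GlobGen.isFiniteType_of_isInvertible _ (hinv n)
  haveI : SheafOfModules.IsFiniteType (R := (Proj 𝒜).ringCatSheaf)
      (Twist.twistBy 𝒜 F (n : ℤ)) := Tensor.isFiniteType_tensorMod _ _
  obtain ⟨k, t, ht⟩ := FinGlobGen.exists_fin_genOn _ ((GlobGen.isGloballyGenerated_iff _).1 hgg)
  exact ⟨k, LocFree.descSec _ t, InvTwist.epi_descSec_of_genOn _ t ht⟩

/-- **Serre**: `F` is a quotient of `O(-n)^k` for `n ≫ 0`. -/
theorem exists_epi_sigma_twist (s : Finset A) (hs1 : ∀ f ∈ s, f ∈ 𝒜 1)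
    (hs : (HomogeneousIdeal.irrelevant 𝒜).toIdeal = Ideal.span (s : Set A))
    (F : (Proj 𝒜).Modules) (hF : Coh.IsQCoh F) (hFT : CohB1.IsFT F) :
    ∃ n₀ : ℕ, ∀ n : ℕ, n₀ ≤ n →
      ∃ (k : ℕ) (p : (∐ fun _ : Fin k => Twist.twist 𝒜 (-(n : ℤ))) ⟶ F), Epi p := by
  obtain ⟨n₀, hn₀⟩ := exists_epi_free_twistBy 𝒜 s hs1 hs F hF hFT
  refine ⟨n₀, fun n hn => ?_⟩
  obtain ⟨k, p, hp⟩ := hn₀ n hn
  have hcov : ∀ x : Proj 𝒜, ∃ f ∈ 𝒜 1, f ∉ x.asHomogeneousIdeal := fun x => by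
    obtain ⟨f, hf, hfx⟩ := exists_nmem 𝒜 (s : Set A) hs.le x
    exact ⟨f, hs1 f hf, hfx⟩
  obtain ⟨-, htens, -⟩ := twist_all_of_degree_one 𝒜 hcov
  obtain ⟨e1⟩ := htens (n : ℤ) (-(n : ℤ))
  have h0 : (n : ℤ) + -(n : ℤ) = 0 := add_neg_cancel _
  let e0 : Twist.twist 𝒜 ((n : ℤ) + -(n : ℤ)) ≅ Coh.structureModule (Proj 𝒜) :=
    eqToIso (by rw [h0]) ≪≫ (zeroIso 𝒜).symm
  let u : CohB1.tensorMod (Twist.twistBy 𝒜 F (n : ℤ)) (Twist.twist 𝒜 (-(n : ℤ))) ≅ F :=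
    Tensor.assoc F (Twist.twist 𝒜 (n : ℤ)) (Twist.twist 𝒜 (-(n : ℤ))) ≪≫
      Tensor.mapIso (Iso.refl F) (e1 ≪≫ e0) ≪≫ Tensor.rid F
  haveI := InvTwist.epi_map_id p (Twist.twist 𝒜 (-(n : ℤ)))
  haveI : Epi (Tensor.map p (𝟙 (Twist.twist 𝒜 (-(n : ℤ)))) ≫ u.hom) := epi_comp _ _
  obtain ⟨p', hp'⟩ := exists_epi_sigma_of_epi_tensor_free k (Twist.twist 𝒜 (-(n : ℤ))) F
    (Tensor.map p (𝟙 (Twist.twist 𝒜 (-(n : ℤ)))) ≫ u.hom)
  exact ⟨k, p', hp'⟩

end Groth.Agent.Helper28.TwistMul
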