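import Mathlib
import Groth.Prelude.Def_Twist2
import Groth.Prelude.Def_Coh
import Groth.Prelude.Def_Pic
import Groth.Prelude.Def_ProjUP
import Groth.Agent.Lib.Helper28.TwistGen

set_option autoImplicit false
universe u
open CategoryTheory AlgebraicGeometry Opposite TopologicalSpace TopCat

namespace Groth.Agent.Helper28.TwistMul

open Groth.Agent.Helper13 Groth.Agent.Helper13.QCoh Groth.Agent.Helper13.FinType

variable {R A : Type u} [CommRing R] [CommRing A] [Algebra R A] (𝒜 : ℕ → Submodule R A)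
  [GradedAlgebra 𝒜]

open Twist

/-- `O(n)` is generated by the global sections `b/1`, `b ∈ S_n`, when the `D_+(b)` cover. -/
theorem generatedBy_globalOf' (n : ℕ)
    (hcov : ∀ x : Proj 𝒜, ∃ b ∈ 𝒜 n, b ∉ x.asHomogeneousIdeal) :
    ProjUP.GeneratedBy (Twist.twist 𝒜 (n : ℤ))
      (fun b : 𝒜 n => (Twist.globalOf 𝒜 b : ProjUP.Γm (Twist.twist 𝒜 (n : ℤ)))) := by
  intro x
  obtain ⟨b, hb, hbx⟩ := hcov x
  have h : (n : ℤ) = 0 + (n : ℤ) := (zero_add _).symm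
  have hx : x ∈ CohB1.genLocus _ (secHom 𝒜 hb h) := le_genLocus_secHom 𝒜 hb h hbx
  have hgen := GenLoc.isGen_of_mem_genLocus _ _ hx
  rw [eq_top_iff]
  rintro m -
  obtain ⟨r, rfl⟩ := hgen.2 m
  refine Submodule.smul_mem _ r (Submodule.subset_span ⟨⟨b, hb⟩, ?_⟩)
  exact congrArg (fun t => (Twist.twist 𝒜 (n : ℤ)).presheaf.germ ⊤ x trivial t)
    (secHom_app_top_one 𝒜 hb h).symm

/-- `O(n)`, `n > 0`, is ample on a quasi-compact `Proj` covered by the `D_+(b)`, `b ∈ S_n`. -/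
theorem isAmple_of_cover {n : ℕ} (hn : 0 < n) [CompactSpace (Proj 𝒜)]
    (hcov : ∀ x : Proj 𝒜, ∃ b ∈ 𝒜 n, b ∉ x.asHomogeneousIdeal) :
    CohB1.IsAmple (Twist.twist 𝒜 (n : ℤ)) := by
  refine ⟨?_, inferInstance, fun x => ?_⟩
  · intro y
    obtain ⟨b, hb, hby⟩ := hcov y
    exact ⟨Proj.basicOpen 𝒜 b, hby, twist_restrict_iso' 𝒜 hb 1 (one_mul _).symm⟩
  · obtain ⟨b, hb, hbx⟩ := hcov x
    have h : (n : ℤ) = 0 + (n : ℤ) := (zero_add _).symm
    obtain ⟨s', hs''⟩ := GenLoc.exists_tensorPow_one (Twist.twist 𝒜 (n : ℤ)) (secHom 𝒜 hb h)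
    have hgl := genLocus_secHom_eq' 𝒜 hcov hb h
    refine ⟨0, s', ?_, ?_⟩
    · rw [hs'', hgl]
      exact hbx
    · rw [hs'', hgl]
      exact Proj.isAffineOpen_basicOpen 𝒜 _ hb hn

section Lcm

variable {s : ℕ} (f : Fin s → A) (deg : Fin s → ℕ) (hdeg : ∀ i, 0 < deg i)
  (hf : ∀ i, f i ∈ 𝒜 (deg i)) (hgen : Algebra.adjoin R (Set.range f) = ⊤)

include hf hgen in
theorem exists_nmem_of_adjoin (x : Proj 𝒜) : ∃ i, f i ∉ x.asHomogeneousIdeal := by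
  have hcov := Proj.iSup_basicOpen_eq_top' 𝒜 f (fun i => ⟨deg i, hf i⟩)
    (adjoin_zero_eq_top 𝒜 f hgen)
  have hx : x ∈ (⨆ i, Proj.basicOpen 𝒜 (f i)) := by rw [hcov]; trivial
  exact Opens.mem_iSup.mp hx

include hdeg hf hgen in
theorem compactSpace_of_adjoin : CompactSpace (Proj 𝒜) := by
  constructor
  have H (i : Fin s) : IsCompact (Proj.basicOpen 𝒜 (f i) : Set (Proj 𝒜)) :=
    (Proj.isAffineOpen_basicOpen 𝒜 _ (hf i) (hdeg i)).isCompact
  have h1 : (Set.univ : Set (Proj 𝒜)) = ⋃ i, (Proj.basicOpen 𝒜 (f i) : Set (Proj 𝒜)) := by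
    ext x
    simp only [Set.mem_univ, Set.mem_iUnion, true_iff]
    exact exists_nmem_of_adjoin 𝒜 f deg hf hgen x
  rw [h1]
  exact isCompact_iUnion H

include hdeg in
theorem lcm_pos : 0 < Finset.univ.lcm deg := by
  apply Nat.pos_of_ne_zero
  intro h0
  rw [Finset.lcm_eq_zero_iff] at h0
  obtain ⟨i, -, hi⟩ := h0
  exact (hdeg i).ne' hi

include hf hgen in
theorem lcm_cover (a : ℕ) (x : Proj 𝒜) :
    ∃ b ∈ 𝒜 (a * Finset.univ.lcm deg), b ∉ x.asHomogeneousIdeal := by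
  obtain ⟨i, hi⟩ := exists_nmem_of_adjoin 𝒜 f deg hf hgen x
  obtain ⟨q, hq⟩ : deg i ∣ Finset.univ.lcm deg := Finset.dvd_lcm (Finset.mem_univ i)
  refine ⟨f i ^ (a * q), ?_, fun hmem => hi (x.isPrime.mem_of_pow_mem _ hmem)⟩
  have h1 : f i ^ (a * q) ∈ 𝒜 ((a * q) • deg i) := SetLike.pow_mem_graded _ (hf i)
  have h2 : (a * q) • deg i = a * Finset.univ.lcm deg := by
    rw [hq, smul_eq_mul]
    ring
  rwa [h2] at h1

include hdeg hf hgen in
/-- `O(al)` is ample and generated by its global sections `b/1`. -/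
theorem twist_lcm_ample_generated (a : ℕ) (ha : 0 < a) :
    CohB1.IsAmple (Twist.twist 𝒜 ((a * Finset.univ.lcm deg : ℕ) : ℤ)) ∧
      ProjUP.GeneratedBy (Twist.twist 𝒜 ((a * Finset.univ.lcm deg : ℕ) : ℤ))
        (fun b : 𝒜 (a * Finset.univ.lcm deg) =>
          (Twist.globalOf 𝒜 b : ProjUP.Γm (Twist.twist 𝒜 ((a * Finset.univ.lcm deg : ℕ) : ℤ)))) := by
  haveI := compactSpace_of_adjoin 𝒜 f deg hdeg hf hgen
  exact ⟨isAmple_of_cover 𝒜 (Nat.mul_pos ha (lcm_pos deg hdeg)) (lcm_cover 𝒜 f deg hf hgen a),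
    generatedBy_globalOf' 𝒜 _ (lcm_cover 𝒜 f deg hf hgen a)⟩

end Lcm

end Groth.Agent.Helper28.TwistMul
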