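import Mathlib
import Groth.Prelude.Def_Curves

/-!
# Absolutely integrally closed domains: sections of integral extensions
-/

set_option autoImplicit false

namespace Groth.Agent.Helper28.AICLocal

open Polynomial

universe u

variable {A : Type u} [CommRing A]

/-- Over an absolutely integrally closed ring every monic polynomial is a product of linear
factors. -/
lemma splits_of_isAIC (hA : Curves.IsAIC A) (f : A[X]) (hf : f.Monic) :
    ∃ s : Multiset A, f = (s.map fun r => X - C r).prod := by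
  rcases subsingleton_or_nontrivial A with hsub | hnt
  · exact ⟨0, Subsingleton.elim _ _⟩
  induction hn : f.natDegree generalizing f with
  | zero =>
    refine ⟨0, ?_⟩
    rw [Multiset.map_zero, Multiset.prod_zero]
    exact (hf.natDegree_eq_zero).mp hn
  | succ n ih =>
    obtain ⟨r, hr⟩ := hA f hf (by omega)
    have hdvd : X - C r ∣ f := dvd_iff_isRoot.mpr hr
    obtain ⟨q, hq⟩ := hdvd
    have hqm : q.Monic := by
      have h1 : (X - C r).Monic := monic_X_sub_C r
      rw [hq] at hf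
      exact h1.of_mul_monic_left hf
    have hqd : q.natDegree = n := by
      have := congrArg natDegree hq
      rw [(monic_X_sub_C r).natDegree_mul hqm, natDegree_X_sub_C, hn] at this
      omega
    obtain ⟨s, hs⟩ := ih q hqm hqd
    refine ⟨r ::ₘ s, ?_⟩
    rw [Multiset.map_cons, Multiset.prod_cons, ← hs, hq]

variable {B : Type u} [CommRing B]

/-- An injective integral ring map from an absolutely integrally closed ring to a domain is
surjective. -/
lemma surjective_of_isAIC [IsDomain B] (hA : Curves.IsAIC A) (φ : A →+* B) (hint : φ.IsIntegral) :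
    Function.Surjective φ := by
  intro b
  obtain ⟨f, hfm, hfb⟩ := hint b
  obtain ⟨s, hs⟩ := splits_of_isAIC hA f hfm
  rw [hs, eval₂_multiset_prod, Multiset.map_map] at hfb
  rw [Multiset.prod_eq_zero_iff] at hfb
  obtain ⟨r, -, hr⟩ := Multiset.mem_map.mp hfb
  refine ⟨r, ?_⟩
  simp only [Function.comp_apply, eval₂_sub, eval₂_X, eval₂_C] at hr
  exact (sub_eq_zero.mp hr).symm

/-- An integral ring map out of an absolutely integrally closed domain whose spectrum hits the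
generic point has a retraction. -/
lemma exists_retraction (hA : Curves.IsAIC A) (φ : A →+* B) (hint : φ.IsIntegral)
    (𝔮 : Ideal B) [𝔮.IsPrime] (h𝔮 : 𝔮.comap φ = ⊥) :
    ∃ σ : B →+* A, σ.comp φ = RingHom.id A := by
  let ψ : A →+* B ⧸ 𝔮 := (Ideal.Quotient.mk 𝔮).comp φ
  have hψi : Function.Injective ψ := by
    rw [injective_iff_map_eq_zero]
    intro a ha
    have : a ∈ 𝔮.comap φ := by
      rw [Ideal.mem_comap]
      exact Ideal.Quotient.eq_zero_iff_mem.mp ha
    rw [h𝔮] at this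
    exact this
  have hψint : ψ.IsIntegral :=
    RingHom.IsIntegral.trans _ _ hint (RingHom.isIntegral_of_surjective _ Ideal.Quotient.mk_surjective)
  have hψs : Function.Surjective ψ := surjective_of_isAIC hA ψ hψint
  let e : A ≃+* B ⧸ 𝔮 := RingEquiv.ofBijective ψ ⟨hψi, hψs⟩
  refine ⟨(e.symm : B ⧸ 𝔮 →+* A).comp (Ideal.Quotient.mk 𝔮), ?_⟩
  ext a
  simp only [RingHom.coe_comp, RingHom.coe_coe, Function.comp_apply, RingHom.id_apply]
  exact e.symm_apply_apply a

open CategoryTheory CategoryTheory.Limits AlgebraicGeometry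

lemma mem_precoverage {Q : MorphismProperty Scheme.{u}} {X : Scheme.{u}} {R : Presieve X}
    (hR : R ∈ Scheme.precoverage Q X) :
    (∀ x : X, ∃ (Y : Scheme.{u}) (f : Y ⟶ X), R f ∧ x ∈ Set.range f) ∧
      ∀ ⦃Y : Scheme.{u}⦄ ⦃f : Y ⟶ X⦄, R f → Q f := by
  refine ⟨fun x => ?_, fun Y f hf => hR.2 hf⟩
  obtain ⟨Y, f, hf, hx⟩ := (Presieve.mem_comap_jointlySurjectivePrecoverage_iff _).mp hR.1 x
  exact ⟨Y, f, hf, hx⟩

/-- The spectrum of a local ring is local for Zariski coverings. -/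
lemma zariski_local {P : Scheme.{u}} [IsAffine P] [IsLocalRing Γ(P, ⊤)] (X : Scheme.{u})
    (R : Presieve X) (hR : R ∈ Scheme.precoverage (@IsOpenImmersion ⊓ @QuasiCompact) X)
    (g : P ⟶ X) : ∃ (Y : Scheme.{u}) (w : Y ⟶ X) (h : P ⟶ Y), R w ∧ h ≫ w = g := by
  obtain ⟨hsurj, hprop⟩ := mem_precoverage hR
  let x₀ : P := P.isoSpec.inv (IsLocalRing.closedPoint Γ(P, ⊤))
  obtain ⟨Y, w, hw, hy⟩ := hsurj (g x₀)
  haveI : IsOpenImmersion w := (hprop hw).1
  have hsub : Set.range g ⊆ Set.range w := by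
    rintro _ ⟨x, rfl⟩
    have h1 : P.isoSpec.hom x ⤳ IsLocalRing.closedPoint Γ(P, ⊤) :=
      IsLocalRing.specializes_closedPoint _
    have h2 : P.isoSpec.inv (P.isoSpec.hom x) ⤳ x₀ := h1.map P.isoSpec.inv.continuous
    have h3 : P.isoSpec.inv (P.isoSpec.hom x) = x := by
      rw [← Scheme.Hom.comp_apply, Iso.hom_inv_id]; rfl
    rw [h3] at h2
    exact (h2.map g.continuous).mem_open w.isOpenEmbedding.isOpen_range hy
  exact ⟨Y, w, IsOpenImmersion.lift w g hsub, hw, IsOpenImmersion.lift_fac _ _ _⟩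

/-- The spectrum of an absolutely integrally closed domain is local for finite coverings. -/
lemma finite_local {P : Scheme.{u}} [IsAffine P] [IsDomain Γ(P, ⊤)] (hA : Curves.IsAIC Γ(P, ⊤))
    (X : Scheme.{u}) (R : Presieve X) (hR : R ∈ Scheme.precoverage @IsFinite X)
    (g : P ⟶ X) : ∃ (Y : Scheme.{u}) (w : Y ⟶ X) (h : P ⟶ Y), R w ∧ h ≫ w = g := by
  obtain ⟨hsurj, hprop⟩ := mem_precoverage hR
  let ξ : P := P.isoSpec.inv (⟨⊥, Ideal.isPrime_bot⟩ : PrimeSpectrum Γ(P, ⊤))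
  obtain ⟨Y, w, hw, y, hy⟩ := hsurj (g ξ)
  haveI : IsFinite w := hprop hw
  let p := pullback.fst g w
  haveI : IsFinite p := inferInstance
  haveI : IsAffine (pullback g w) := isAffine_of_isAffineHom p
  obtain ⟨y', hy'1, -⟩ := Scheme.Pullback.exists_preimage_pullback (f := g) (g := w) ξ y hy.symm
  have hfin : p.appTop.hom.Finite :=
    ((HasAffineProperty.iff_of_isAffine (P := @IsFinite)).mp (inferInstance : IsFinite p)).2
  let 𝔮 : Ideal Γ(pullback g w, ⊤) := ((pullback g w).isoSpec.hom y').asIdeal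
  haveI : 𝔮.IsPrime := ((pullback g w).isoSpec.hom y').isPrime
  have h𝔮 : 𝔮.comap p.appTop.hom = ⊥ := by
    have hnat := Scheme.isoSpec_hom_naturality p
    have h1 := congrArg (fun φ => φ y') hnat
    simp only [Scheme.Hom.comp_apply] at h1
    have h2 : P.isoSpec.hom (p y') = (⟨⊥, Ideal.isPrime_bot⟩ : PrimeSpectrum Γ(P, ⊤)) := by
      rw [hy'1]
      show P.isoSpec.hom (P.isoSpec.inv _) = _
      rw [← Scheme.Hom.comp_apply, Iso.inv_hom_id]; rfl
    rw [h2] at h1
    have h3 := congrArg PrimeSpectrum.asIdeal h1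
    exact h3
  obtain ⟨σ, hσ⟩ := exists_retraction hA p.appTop.hom hfin.to_isIntegral 𝔮 h𝔮
  let s : P ⟶ pullback g w :=
    P.isoSpec.hom ≫ Spec.map (CommRingCat.ofHom σ) ≫ (pullback g w).isoSpec.inv
  have hs : s ≫ p = 𝟙 P := by
    rw [← cancel_mono P.isoSpec.hom]
    simp only [s, Category.assoc, Category.id_comp]
    rw [← Scheme.isoSpec_hom_naturality p, Iso.inv_hom_id_assoc, ← Spec.map_comp]
    have : p.appTop ≫ CommRingCat.ofHom σ = 𝟙 _ := by
      ext a
      exact congrArg (fun φ => φ a) hσ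
    rw [this, Spec.map_id, Category.comp_id]
  refine ⟨Y, w, s ≫ pullback.snd g w, hw, ?_⟩
  rw [Category.assoc, ← pullback.condition, reassoc_of% hs]

/-- "local for Zariski coverings". -/
def ZarLocal (P : Scheme.{u}) : Prop :=
  ∀ (X : Scheme.{u}) (R : Presieve X),
    R ∈ Scheme.precoverage (@IsOpenImmersion ⊓ @QuasiCompact) X →
      ∀ g : P ⟶ X, ∃ (Y : Scheme.{u}) (w : Y ⟶ X) (h : P ⟶ Y), R w ∧ h ≫ w = g

/-- "local for finite coverings". -/
def FinLocal (P : Scheme.{u}) : Prop :=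
  ∀ (X : Scheme.{u}) (R : Presieve X), R ∈ Scheme.precoverage @IsFinite X →
    ∀ g : P ⟶ X, ∃ (Y : Scheme.{u}) (w : Y ⟶ X) (h : P ⟶ Y), R w ∧ h ≫ w = g

lemma isAffine_of_zarLocal {P : Scheme.{u}} [QuasiSeparatedSpace P] (hP : ZarLocal P) :
    IsAffine P := by
  let Yf : P.affineOpens → Scheme.{u} := fun U => (U.1 : Scheme.{u})
  let f : ∀ U : P.affineOpens, Yf U ⟶ P := fun U => U.1.ι
  have hmem : Presieve.ofArrows Yf f ∈
      Scheme.precoverage (@IsOpenImmersion ⊓ @QuasiCompact) P := by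
    rw [Scheme.ofArrows_mem_precoverage_iff]
    refine ⟨fun x => ?_, fun U => ⟨inferInstanceAs (IsOpenImmersion U.1.ι), ?_⟩⟩
    · obtain ⟨_, ⟨U, hU, rfl⟩, hxU, -⟩ :=
        P.isBasis_affineOpens.exists_subset_of_mem_open (Set.mem_univ x) isOpen_univ
      refine ⟨⟨U, hU⟩, ?_⟩
      show x ∈ Set.range (Scheme.Opens.ι U)
      rw [Scheme.Opens.range_ι]
      exact hxU
    · haveI : IsAffine (U.1 : Scheme.{u}) := U.2
      show QuasiCompact U.1.ι
      infer_instance
  obtain ⟨Y, w, h, hRw, hhw⟩ := hP P _ hmem (𝟙 P)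
  obtain ⟨U⟩ := hRw
  have htop : U.1 = ⊤ := by
    rw [eq_top_iff]
    intro x _
    have h1 : (f U) (h x) = x := by
      rw [← Scheme.Hom.comp_apply, hhw]; rfl
    have h2 : (f U) (h x) ∈ U.1 := (h x).2
    rw [h1] at h2
    exact h2
  have hU := U.2
  rw [htop] at hU
  haveI : IsAffine ((⊤ : P.Opens) : Scheme.{u}) := hU
  exact IsAffine.of_isIso P.topIso.inv

lemma isLocalRing_of_zarLocal {P : Scheme.{u}} [IsAffine P] (hP : ZarLocal P) :
    IsLocalRing Γ(P, ⊤) := by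
  haveI : Nonempty P := by
    by_contra hne
    haveI : IsEmpty P := not_nonempty_iff.mp hne
    obtain ⟨Y, w, h, hRw, -⟩ := hP P ⊥ (Scheme.bot_mem_precoverage _ P) (𝟙 P)
    exact hRw
  haveI : Nonempty (⊤ : P.Opens) := ⟨⟨Classical.arbitrary P, trivial⟩⟩
  haveI : Nontrivial Γ(P, ⊤) := Scheme.component_nontrivial P ⊤
  apply IsLocalRing.of_isUnit_or_isUnit_one_sub_self
  intro a
  let el : Bool → Γ(P, ⊤) := fun b => if b then a else 1 - a
  let Yf : Bool → Scheme.{u} := fun b => (P.basicOpen (el b) : Scheme.{u})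
  let f : ∀ b, Yf b ⟶ P := fun b => (P.basicOpen (el b)).ι
  have hmem : Presieve.ofArrows Yf f ∈
      Scheme.precoverage (@IsOpenImmersion ⊓ @QuasiCompact) P := by
    rw [Scheme.ofArrows_mem_precoverage_iff]
    refine ⟨fun x => ?_, fun b =>
      ⟨inferInstanceAs (IsOpenImmersion (Scheme.Opens.ι (P.basicOpen (el b)))), ?_⟩⟩
    · have h1 : x ∈ P.basicOpen (a + (1 - a)) := by
        rw [add_sub_cancel, Scheme.basicOpen_one]; trivial
      have h2 := P.basicOpen_add_le a (1 - a) h1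
      rw [← SetLike.mem_coe, TopologicalSpace.Opens.coe_sup, Set.mem_union] at h2
      rcases h2 with h | h
      · refine ⟨true, ?_⟩
        show x ∈ Set.range (Scheme.Opens.ι (P.basicOpen (el true)))
        rw [Scheme.Opens.range_ι]
        exact h
      · refine ⟨false, ?_⟩
        show x ∈ Set.range (Scheme.Opens.ι (P.basicOpen (el false)))
        rw [Scheme.Opens.range_ι]
        exact h
    · haveI : IsAffine (Yf b) := (isAffineOpen_top P).basicOpen (el b)
      show QuasiCompact (Scheme.Opens.ι (P.basicOpen (el b)))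
      infer_instance
  obtain ⟨Y, w, h, hRw, hhw⟩ := hP P _ hmem (𝟙 P)
  obtain ⟨b⟩ := hRw
  have htop : P.basicOpen (el b) = ⊤ := by
    rw [eq_top_iff]
    intro x _
    have h1 : (f b) (h x) = x := by
      rw [← Scheme.Hom.comp_apply, hhw]; rfl
    have h2 : (f b) (h x) ∈ P.basicOpen (el b) := (h x).2
    rw [h1] at h2
    exact h2
  have hu : IsUnit (el b) := by
    apply RingedSpace.isUnit_of_isUnit_germ P.toRingedSpace ⊤ (el b)
    intro x hx
    have : x ∈ P.basicOpen (el b) := by rw [htop]; trivial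
    exact (P.mem_basicOpen_top (el b) x).mp this
  cases b
  · exact Or.inr hu
  · exact Or.inl hu

lemma exists_ring_retraction {P : Scheme.{u}} [IsAffine P] {B : CommRingCat.{u}} (α : Γ(P, ⊤) ⟶ B)
    (h : P ⟶ Spec B) (hh : h ≫ Spec.map α ≫ P.isoSpec.inv = 𝟙 P) :
    ∃ ψ : B ⟶ Γ(P, ⊤), α ≫ ψ = 𝟙 _ := by
  obtain ⟨ψ, hψ⟩ := Spec.map_surjective (P.isoSpec.inv ≫ h)
  refine ⟨ψ, ?_⟩
  apply Spec.map_injective
  rw [Spec.map_comp, hψ, Spec.map_id, Category.assoc, ← cancel_mono P.isoSpec.inv,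
    Category.assoc, Category.assoc, hh, Category.comp_id, Category.id_comp]

lemma isDomain_of_finLocal {P : Scheme.{u}} [IsAffine P] [Nontrivial Γ(P, ⊤)] (hP : FinLocal P) :
    IsDomain Γ(P, ⊤) := by
  let Yf : PrimeSpectrum Γ(P, ⊤) → Scheme.{u} := fun 𝔭 => Spec (.of (Γ(P, ⊤) ⧸ 𝔭.asIdeal))
  let α : ∀ 𝔭 : PrimeSpectrum Γ(P, ⊤), Γ(P, ⊤) ⟶ CommRingCat.of (Γ(P, ⊤) ⧸ 𝔭.asIdeal) :=
    fun 𝔭 => CommRingCat.ofHom (Ideal.Quotient.mk 𝔭.asIdeal)
  let f : ∀ 𝔭, Yf 𝔭 ⟶ P := fun 𝔭 => Spec.map (α 𝔭) ≫ P.isoSpec.inv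
  have hmem : Presieve.ofArrows Yf f ∈ Scheme.precoverage @IsFinite P := by
    rw [Scheme.ofArrows_mem_precoverage_iff]
    refine ⟨fun x => ?_, fun 𝔭 => ?_⟩
    · refine ⟨P.isoSpec.hom x, ?_⟩
      haveI : (P.isoSpec.hom x).asIdeal.IsPrime := (P.isoSpec.hom x).isPrime
      refine ⟨(⟨⊥, Ideal.isPrime_bot⟩ : PrimeSpectrum (Γ(P, ⊤) ⧸ (P.isoSpec.hom x).asIdeal)), ?_⟩
      show P.isoSpec.inv ((Spec.map (α (P.isoSpec.hom x))) _) = x
      have h1 : (Spec.map (α (P.isoSpec.hom x)))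
          (⟨⊥, Ideal.isPrime_bot⟩ : PrimeSpectrum (Γ(P, ⊤) ⧸ (P.isoSpec.hom x).asIdeal)) =
          P.isoSpec.hom x := by
        apply PrimeSpectrum.ext
        show Ideal.comap (Ideal.Quotient.mk (P.isoSpec.hom x).asIdeal) ⊥ = _
        rw [← RingHom.ker_eq_comap_bot, Ideal.mk_ker]
      rw [h1, ← Scheme.Hom.comp_apply, Iso.hom_inv_id]; rfl
    · haveI : IsClosedImmersion (Spec.map (α 𝔭)) :=
        IsClosedImmersion.spec_of_surjective _ Ideal.Quotient.mk_surjective
      show IsFinite (Spec.map (α 𝔭) ≫ P.isoSpec.inv)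
      infer_instance
  obtain ⟨Y, w, h, hRw, hhw⟩ := hP P _ hmem (𝟙 P)
  obtain ⟨𝔭⟩ := hRw
  obtain ⟨ψ, hψ⟩ := exists_ring_retraction (α 𝔭) h hhw
  have hinj : Function.Injective (Ideal.Quotient.mk 𝔭.asIdeal) := by
    intro a b hab
    have h1 := congrArg (fun φ => φ.hom a) hψ
    have h2 := congrArg (fun φ => φ.hom b) hψ
    simp only [CommRingCat.hom_comp, RingHom.coe_comp, Function.comp_apply, CommRingCat.hom_id,
      RingHom.id_apply] at h1 h2
    rw [← h1, ← h2]
    exact congrArg ψ.hom hab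
  have hbot : 𝔭.asIdeal = ⊥ := by
    rw [← Ideal.mk_ker (I := 𝔭.asIdeal)]
    exact (RingHom.injective_iff_ker_eq_bot _).mp hinj
  haveI : NoZeroDivisors Γ(P, ⊤) := by
    refine ⟨fun {a b} hab => ?_⟩
    have : a * b ∈ 𝔭.asIdeal := by rw [hab]; exact Ideal.zero_mem _
    rcases 𝔭.isPrime.mem_or_mem this with h | h
    · left; rw [hbot] at h; exact h
    · right; rw [hbot] at h; exact h
  exact NoZeroDivisors.to_isDomain _

lemma isAIC_of_finLocal {P : Scheme.{u}} [IsAffine P] [IsDomain Γ(P, ⊤)] (hP : FinLocal P) :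
    Curves.IsAIC Γ(P, ⊤) := by
  intro f hf hdeg
  let B := AdjoinRoot f
  let α : Γ(P, ⊤) ⟶ CommRingCat.of B := CommRingCat.ofHom (AdjoinRoot.of f)
  let q : Spec (CommRingCat.of B) ⟶ P := Spec.map α ≫ P.isoSpec.inv
  haveI : Module.Finite Γ(P, ⊤) B := hf.finite_adjoinRoot
  have hfin : α.hom.Finite := by
    have h0 : (algebraMap Γ(P, ⊤) B).Finite := RingHom.finite_algebraMap.mpr inferInstance
    exact h0
  haveI : IsFinite (Spec.map α) := (IsFinite.SpecMap_iff α).mpr hfin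
  haveI : IsFinite q := by show IsFinite (Spec.map α ≫ P.isoSpec.inv); infer_instance
  have hinj : Function.Injective (AdjoinRoot.of f) :=
    AdjoinRoot.of.injective_of_degree_ne_zero (by
      rw [Polynomial.degree_eq_natDegree hf.ne_zero]
      exact_mod_cast hdeg.ne')
  have hsurj : Function.Surjective q.base := by
    intro x
    haveI := (P.isoSpec.hom x).isPrime
    haveI : Algebra.IsIntegral Γ(P, ⊤) B := Algebra.IsIntegral.of_finite _ _
    obtain ⟨Q, -, hQp, hQ⟩ := Ideal.exists_ideal_over_prime_of_isIntegral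
      (P.isoSpec.hom x).asIdeal (⊥ : Ideal B) (by
        rw [← RingHom.ker_eq_comap_bot, AdjoinRoot.algebraMap_eq,
          (RingHom.injective_iff_ker_eq_bot _).mp hinj]
        exact bot_le)
    refine ⟨(⟨Q, hQp⟩ : PrimeSpectrum B), ?_⟩
    show P.isoSpec.inv ((Spec.map α) _) = x
    have h1 : (Spec.map α) (⟨Q, hQp⟩ : PrimeSpectrum B) = P.isoSpec.hom x := by
      apply PrimeSpectrum.ext
      exact hQ
    rw [h1, ← Scheme.Hom.comp_apply, Iso.hom_inv_id]; rfl
  have hmem : Presieve.singleton q ∈ Scheme.precoverage @IsFinite P :=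
    (Scheme.singleton_mem_precoverage_iff _ q).mpr ⟨hsurj, inferInstance⟩
  obtain ⟨Y, w, h, hRw, hhw⟩ := hP P _ hmem (𝟙 P)
  obtain ⟨⟩ := hRw
  obtain ⟨ψ, hψ⟩ := exists_ring_retraction α h hhw
  refine ⟨ψ.hom (AdjoinRoot.root f), ?_⟩
  have h0 : f.eval₂ (AdjoinRoot.of f) (AdjoinRoot.root f) = 0 := AdjoinRoot.eval₂_root f
  have h1 := congrArg ψ.hom h0
  rw [Polynomial.hom_eval₂, map_zero] at h1
  have h2 : ψ.hom.comp (AdjoinRoot.of f) = RingHom.id _ := by
    ext a
    exact congrArg (fun φ => φ.hom a) hψ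
  rw [h2] at h1
  exact h1

end Groth.Agent.Helper28.AICLocal
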