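import Mathlib

set_option autoImplicit false
universe u
open CategoryTheory CategoryTheory.Limits AlgebraicGeometry TopologicalSpace

namespace Groth.Agent.Helper28.AdicHom

section Alg
variable {B A : Type*} [CommRing B] [CommRing A] (I : Ideal A)

lemma compat_mk (φ : B →+* A) {m n : ℕ} (hle : m ≤ n) :
    (Ideal.Quotient.factorPow I hle).comp ((Ideal.Quotient.mk (I ^ n)).comp φ) =
      (Ideal.Quotient.mk (I ^ m)).comp φ := by
  rw [← RingHom.comp_assoc, Ideal.Quotient.factor_comp_mk]

/-- ring homs into an adically complete ring are determined by their reductions -/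
theorem ringHom_ext_of_hausdorff [IsAdicComplete I A] (φ ψ : B →+* A)
    (h : ∀ n : ℕ, (Ideal.Quotient.mk (I ^ n)).comp φ = (Ideal.Quotient.mk (I ^ n)).comp ψ) :
    φ = ψ := by
  have h1 := IsAdicComplete.eq_liftRingHom I (fun n => (Ideal.Quotient.mk (I ^ n)).comp φ)
    (fun hle => compat_mk I φ hle) φ (fun n => rfl)
  have h2 := IsAdicComplete.eq_liftRingHom I (fun n => (Ideal.Quotient.mk (I ^ n)).comp φ)
    (fun hle => compat_mk I φ hle) ψ (fun n => (h n).symm)
  exact h1.trans h2.symm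

lemma compat_of_succ (f : (n : ℕ) → B →+* A ⧸ I ^ n)
    (h : ∀ n, (Ideal.Quotient.factorPow I (Nat.le_succ n)).comp (f (n + 1)) = f n) :
    ∀ {m n : ℕ} (hle : m ≤ n), (Ideal.Quotient.factorPow I hle).comp (f n) = f m := by
  intro m n hle
  induction n, hle using Nat.le_induction with
  | base =>
    ext b
    obtain ⟨a, ha⟩ := Ideal.Quotient.mk_surjective (f m b)
    rw [RingHom.comp_apply, ← ha]
    exact Ideal.Quotient.factor_mk _ a
  | succ n hmn ih =>
    rw [← ih, ← h n, ← RingHom.comp_assoc, Ideal.Quotient.factor_comp]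

end Alg

section Sch
variable (A : Type u) [CommRing A] [IsLocalRing A]

/-- the quotient map `Spec (A/m^n) → Spec A` hits only the closed point for `n ≥ 1` -/
lemma specMap_mk_apply (n : ℕ) (hn : n ≠ 0)
    (z : ↥(Spec (CommRingCat.of (A ⧸ (IsLocalRing.maximalIdeal A) ^ n)))) :
    (Spec.map (CommRingCat.ofHom (Ideal.Quotient.mk ((IsLocalRing.maximalIdeal A) ^ n)))) z =
      IsLocalRing.closedPoint A := by
  apply PrimeSpectrum.ext
  show Ideal.comap (Ideal.Quotient.mk ((IsLocalRing.maximalIdeal A) ^ n))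
    (z : PrimeSpectrum (A ⧸ (IsLocalRing.maximalIdeal A) ^ n)).asIdeal = IsLocalRing.maximalIdeal A
  haveI := (z : PrimeSpectrum (A ⧸ (IsLocalRing.maximalIdeal A) ^ n)).isPrime
  apply le_antisymm
  · exact IsLocalRing.le_maximalIdeal (Ideal.IsPrime.ne_top inferInstance)
  · have h1 : (IsLocalRing.maximalIdeal A) ^ n ≤ Ideal.comap (Ideal.Quotient.mk _)
        (z : PrimeSpectrum (A ⧸ (IsLocalRing.maximalIdeal A) ^ n)).asIdeal := by
      intro a ha
      rw [Ideal.mem_comap, Ideal.Quotient.eq_zero_iff_mem.2 ha]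
      exact Ideal.zero_mem _
    exact (Ideal.IsPrime.pow_le_iff hn).1 h1

lemma subsingleton_spec_quot (n : ℕ) (hn : n ≠ 0) :
    Subsingleton ↥(Spec (CommRingCat.of (A ⧸ (IsLocalRing.maximalIdeal A) ^ n))) := by
  constructor
  intro z w
  have hz := specMap_mk_apply A n hn z
  have hw := specMap_mk_apply A n hn w
  exact PrimeSpectrum.comap_injective_of_surjective _ Ideal.Quotient.mk_surjective
    (hz.trans hw.symm)

lemma nontrivial_quot (n : ℕ) : Nontrivial (A ⧸ (IsLocalRing.maximalIdeal A) ^ (n + 1)) := by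
  rw [Ideal.Quotient.nontrivial_iff]
  intro h
  apply (IsLocalRing.maximalIdeal.isMaximal A).ne_top
  rw [← top_le_iff, ← h]
  exact Ideal.pow_le_self (Nat.succ_ne_zero n)

variable {A}

lemma range_subset_of_closedPoint {X : Scheme.{u}} (f : Spec (CommRingCat.of A) ⟶ X) (U : X.Opens)
    (hx : f (IsLocalRing.closedPoint A) ∈ U) : Set.range f ⊆ (U : Set X) := by
  rintro _ ⟨z, rfl⟩
  have h1 : (z : PrimeSpectrum A) ⤳ IsLocalRing.closedPoint A :=
    IsLocalRing.specializes_closedPoint z
  have h2 : f z ⤳ f (IsLocalRing.closedPoint A) := h1.map f.continuous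
  exact h2.mem_open U.2 hx

theorem uniq [IsAdicComplete (IsLocalRing.maximalIdeal A) A] (X : Scheme.{u})
    (f g : Spec (CommRingCat.of A) ⟶ X)
    (h : ∀ n : ℕ,
      Spec.map (CommRingCat.ofHom (Ideal.Quotient.mk ((IsLocalRing.maximalIdeal A) ^ n))) ≫ f =
      Spec.map (CommRingCat.ofHom (Ideal.Quotient.mk ((IsLocalRing.maximalIdeal A) ^ n))) ≫ g) :
    f = g := by
  have hpt : f (IsLocalRing.closedPoint A) = g (IsLocalRing.closedPoint A) := by
    haveI := nontrivial_quot A 0
    obtain ⟨z⟩ : Nonempty (PrimeSpectrum (A ⧸ (IsLocalRing.maximalIdeal A) ^ (0 + 1))) :=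
      inferInstance
    have h1 : f ((Spec.map (CommRingCat.ofHom
        (Ideal.Quotient.mk ((IsLocalRing.maximalIdeal A) ^ (0 + 1))))) z) =
        g ((Spec.map (CommRingCat.ofHom
        (Ideal.Quotient.mk ((IsLocalRing.maximalIdeal A) ^ (0 + 1))))) z) :=
      congrArg (fun t : Spec (CommRingCat.of (A ⧸ (IsLocalRing.maximalIdeal A) ^ (0 + 1))) ⟶ X =>
        t z) (h (0 + 1))
    rwa [specMap_mk_apply A (0 + 1) (Nat.succ_ne_zero 0) z] at h1
  obtain ⟨_, ⟨U, hU, rfl⟩, hxU, -⟩ := X.isBasis_affineOpens.exists_subset_of_mem_open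
    (Set.mem_univ (f (IsLocalRing.closedPoint A))) isOpen_univ
  have hf : Set.range f ⊆ Set.range hU.fromSpec := by
    rw [hU.range_fromSpec]; exact range_subset_of_closedPoint f U hxU
  have hg : Set.range g ⊆ Set.range hU.fromSpec := by
    rw [hU.range_fromSpec]
    apply range_subset_of_closedPoint g U
    rw [← hpt]; exact hxU
  obtain ⟨φ, hφ⟩ := Spec.map_surjective (IsOpenImmersion.lift hU.fromSpec f hf)
  obtain ⟨ψ, hψ⟩ := Spec.map_surjective (IsOpenImmersion.lift hU.fromSpec g hg)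
  have hf' : f = Spec.map φ ≫ hU.fromSpec := by rw [hφ, IsOpenImmersion.lift_fac]
  have hg' : g = Spec.map ψ ≫ hU.fromSpec := by rw [hψ, IsOpenImmersion.lift_fac]
  have key : φ = ψ := by
    have h2 : ∀ n : ℕ,
        φ ≫ CommRingCat.ofHom (Ideal.Quotient.mk ((IsLocalRing.maximalIdeal A) ^ n)) =
        ψ ≫ CommRingCat.ofHom (Ideal.Quotient.mk ((IsLocalRing.maximalIdeal A) ^ n)) := by
      intro n
      apply Spec.map_injective
      rw [Spec.map_comp, Spec.map_comp, ← cancel_mono hU.fromSpec, Category.assoc,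
        Category.assoc, ← hf', ← hg']
      exact h n
    apply CommRingCat.hom_ext
    apply ringHom_ext_of_hausdorff (IsLocalRing.maximalIdeal A)
    intro n
    exact congrArg (fun t => t.hom) (h2 n)
  rw [hf', hg', key]

theorem exist [IsAdicComplete (IsLocalRing.maximalIdeal A) A] (X : Scheme.{u})
    (u : (n : ℕ) → (Spec (CommRingCat.of (A ⧸ (IsLocalRing.maximalIdeal A) ^ n)) ⟶ X))
    (hu : ∀ n : ℕ, Spec.map (CommRingCat.ofHom (Ideal.Quotient.factor
        (Ideal.pow_le_pow_right (I := IsLocalRing.maximalIdeal A) (Nat.le_succ n)))) ≫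
        u (n + 1) = u n) :
    ∃ f : Spec (CommRingCat.of A) ⟶ X, ∀ n : ℕ,
      Spec.map (CommRingCat.ofHom (Ideal.Quotient.mk ((IsLocalRing.maximalIdeal A) ^ n))) ≫ f =
        u n := by
  haveI := nontrivial_quot A 0
  obtain ⟨z1⟩ : Nonempty (PrimeSpectrum (A ⧸ (IsLocalRing.maximalIdeal A) ^ (0 + 1))) :=
    inferInstance
  obtain ⟨x, hx⟩ : ∃ x : X, x = u (0 + 1) z1 := ⟨_, rfl⟩
  have hall : ∀ n : ℕ,
      ∀ z : ↥(Spec (CommRingCat.of (A ⧸ (IsLocalRing.maximalIdeal A) ^ (n + 1)))),
      u (n + 1) z = x := by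
    intro n
    induction n with
    | zero =>
      intro z
      haveI := subsingleton_spec_quot A (0 + 1) (Nat.succ_ne_zero 0)
      rw [hx, Subsingleton.elim z z1]
    | succ n ih =>
      intro z
      haveI := nontrivial_quot A n
      obtain ⟨w⟩ : Nonempty (PrimeSpectrum (A ⧸ (IsLocalRing.maximalIdeal A) ^ (n + 1))) :=
        inferInstance
      haveI := subsingleton_spec_quot A (n + 1 + 1) (Nat.succ_ne_zero (n + 1))
      have h1 : u (n + 1 + 1) ((Spec.map (CommRingCat.ofHom (Ideal.Quotient.factor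
          (Ideal.pow_le_pow_right (I := IsLocalRing.maximalIdeal A) (Nat.le_succ (n + 1)))))) w) =
          u (n + 1) w :=
        congrArg (fun t : Spec (CommRingCat.of (A ⧸ (IsLocalRing.maximalIdeal A) ^ (n + 1))) ⟶ X =>
          t w) (hu (n + 1))
      rw [Subsingleton.elim z _, h1]
      exact ih w
  obtain ⟨_, ⟨U, hU, rfl⟩, hxU, -⟩ := X.isBasis_affineOpens.exists_subset_of_mem_open
    (Set.mem_univ x) isOpen_univ
  have hrange : ∀ n, Set.range (u n) ⊆ Set.range hU.fromSpec := by
    intro n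
    rw [hU.range_fromSpec]
    rintro _ ⟨z, rfl⟩
    cases n with
    | zero =>
      haveI : Subsingleton (A ⧸ (IsLocalRing.maximalIdeal A) ^ 0) := by
        rw [Ideal.Quotient.subsingleton_iff, pow_zero, Ideal.one_eq_top]
      have hE : IsEmpty (PrimeSpectrum (A ⧸ (IsLocalRing.maximalIdeal A) ^ 0)) := inferInstance
      exact (hE.false z).elim
    | succ n =>
      rw [hall n z]; exact hxU
  choose β hβ using fun n => Spec.map_surjective (IsOpenImmersion.lift hU.fromSpec (u n) (hrange n))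
  have hβ' : ∀ n, Spec.map (β n) ≫ hU.fromSpec = u n := by
    intro n; rw [hβ n, IsOpenImmersion.lift_fac]
  have hcomp : ∀ n, β (n + 1) ≫ CommRingCat.ofHom (Ideal.Quotient.factor
      (Ideal.pow_le_pow_right (I := IsLocalRing.maximalIdeal A) (Nat.le_succ n))) = β n := by
    intro n
    apply Spec.map_injective
    rw [Spec.map_comp, ← cancel_mono hU.fromSpec, Category.assoc, hβ', hβ']
    exact hu n
  have hsucc : ∀ n, (Ideal.Quotient.factorPow (IsLocalRing.maximalIdeal A) (Nat.le_succ n)).comp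
      (β (n + 1)).hom = (β n).hom := by
    intro n
    exact congrArg (fun t => t.hom) (hcomp n)
  let β' : Γ(X, U) →+* A := IsAdicComplete.liftRingHom (IsLocalRing.maximalIdeal A)
    (fun n => (β n).hom) (compat_of_succ (IsLocalRing.maximalIdeal A) (fun n => (β n).hom) hsucc)
  refine ⟨Spec.map (CommRingCat.ofHom β') ≫ hU.fromSpec, ?_⟩
  intro n
  rw [← Category.assoc, ← Spec.map_comp, ← hβ' n]
  congr 2
  apply CommRingCat.hom_ext
  exact IsAdicComplete.mk_comp_liftRingHom (IsLocalRing.maximalIdeal A)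
    (fun n => (β n).hom) (compat_of_succ (IsLocalRing.maximalIdeal A) (fun n => (β n).hom) hsucc) n

end Sch

end Groth.Agent.Helper28.AdicHom
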