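import Mathlib
import Groth.Agent.Lib.Helper28.IdealExt
import Groth.Agent.Lib.Helper28.BlowUpProj

/-!
# Gluing quasi-coherent ideal sheaves along a cover by pairwise disjoint opens
-/
set_option autoImplicit false
universe u
open CategoryTheory CategoryTheory.Limits AlgebraicGeometry TopologicalSpace

namespace Groth.Agent.Helper28.IdealGlue

open Groth.Agent.Helper28.IdealExt

variable {X : Scheme.{u}}

/-- an open immersion with closed range is quasi-compact -/
lemma quasiCompact_of_isClosed_range {Y : Scheme.{u}} (j : Y ⟶ X) [IsOpenImmersion j]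
    (h : IsClosed (Set.range j)) : QuasiCompact j := by
  refine ⟨fun U _ hU => ?_⟩
  have h1 : j ⁻¹' U = j ⁻¹' (U ∩ Set.range j) := by
    ext y
    simp
  rw [h1]
  exact (j.isOpenEmbedding.isInducing.isCompact_preimage_iff Set.inter_subset_right).mpr
    (hU.inter_right h)

/-- `≤` of ideal sheaves is local for covers by open immersions -/
lemma le_of_forall_comap_le {σ : Type*} (Y : σ → Scheme.{u}) (j : ∀ i, Y i ⟶ X)
    [∀ i, IsOpenImmersion (j i)] (hcov : ∀ x : X, ∃ i, x ∈ Set.range (j i))
    (P Q : X.IdealSheafData) (h : ∀ i, P.comap (j i) ≤ Q.comap (j i)) : P ≤ Q := by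
  rw [le_iff_stalk]
  intro x
  obtain ⟨i, y, rfl⟩ := hcov x
  have h1 := stalkIdeal_mono (h i) y
  rw [stalkIdeal_comap, stalkIdeal_comap] at h1
  have hb : Function.Bijective ((j i).stalkMap y).hom :=
    ConcreteCategory.bijective_of_isIso ((j i).stalkMap y)
  have h2 := Ideal.comap_mono (f := ((j i).stalkMap y).hom) h1
  rwa [Ideal.comap_map_of_bijective _ hb, Ideal.comap_map_of_bijective _ hb] at h2

lemma eq_of_forall_comap_eq {σ : Type*} (Y : σ → Scheme.{u}) (j : ∀ i, Y i ⟶ X)
    [∀ i, IsOpenImmersion (j i)] (hcov : ∀ x : X, ∃ i, x ∈ Set.range (j i))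
    (P Q : X.IdealSheafData) (h : ∀ i, P.comap (j i) = Q.comap (j i)) : P = Q :=
  le_antisymm (le_of_forall_comap_le Y j hcov P Q fun i => (h i).le)
    (le_of_forall_comap_le Y j hcov Q P fun i => (h i).ge)

section glue

variable {σ : Type*} (Y : σ → Scheme.{u}) (j : ∀ i, Y i ⟶ X) [∀ i, IsOpenImmersion (j i)]
  (hdisj : ∀ i k, i ≠ k → Disjoint (Set.range (j i)) (Set.range (j k)))
  (hcov : ∀ x : X, ∃ i, x ∈ Set.range (j i))

/-- the complementary open of the `i`-th piece -/
def compl (i : σ) : X.Opens := ⨆ (k : σ) (_ : k ≠ i), (j k).opensRange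

include hdisj hcov in
lemma coe_compl (i : σ) : (compl Y j i : Set X) = (Set.range (j i))ᶜ := by
  ext x
  simp only [compl, Opens.coe_iSup, Set.mem_iUnion, SetLike.mem_coe, Scheme.Hom.mem_opensRange,
    Set.mem_compl_iff]
  constructor
  · rintro ⟨k, hk, hx⟩ hx'
    exact Set.disjoint_left.mp (hdisj k i hk) hx hx'
  · intro hx
    obtain ⟨k, hk⟩ := hcov x
    refine ⟨k, ?_, hk⟩
    rintro rfl
    exact hx hk

include hdisj hcov in
lemma isClosed_range (i : σ) : IsClosed (Set.range (j i)) := by
  rw [← isOpen_compl_iff, ← coe_compl Y j hdisj hcov i]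
  exact (compl Y j i).isOpen

include hdisj hcov in
lemma isClosed_compl (i : σ) : IsClosed (compl Y j i : Set X) := by
  rw [coe_compl Y j hdisj hcov i, isClosed_compl_iff]
  exact (j i).isOpenEmbedding.isOpen_range

include hdisj hcov in
lemma quasiCompact_j (i : σ) : QuasiCompact (j i) :=
  quasiCompact_of_isClosed_range (j i) (isClosed_range Y j hdisj hcov i)

include hdisj hcov in
lemma quasiCompact_compl_ι (i : σ) : QuasiCompact (compl Y j i).ι :=
  quasiCompact_of_isClosed_range _ (by
    rw [Scheme.Opens.range_ι]; exact isClosed_compl Y j hdisj hcov i)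

/-- the piece of the glued ideal supported on the `i`-th component -/
noncomputable def piece (I : ∀ i, (Y i).IdealSheafData) (i : σ) : X.IdealSheafData :=
  (I i).map (j i) ⊓ (compl Y j i).ι.ker

include hdisj hcov in
lemma piece_comap_self (I : ∀ i, (Y i).IdealSheafData) (i : σ) :
    (piece Y j I i).comap (j i) = I i := by
  haveI := quasiCompact_j Y j hdisj hcov i
  haveI := quasiCompact_compl_ι Y j hdisj hcov i
  rw [piece, comap_inf_of_isOpenImmersion, comap_map_eq]
  have h1 : ((compl Y j i).ι.ker).comap (j i) = ⊤ := by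
    rw [← Scheme.IdealSheafData.support_eq_bot_iff]
    ext1
    rw [Scheme.IdealSheafData.support_comap, Closeds.coe_preimage, Scheme.Hom.support_ker,
      Scheme.Opens.range_ι, (isClosed_compl Y j hdisj hcov i).closure_eq,
      coe_compl Y j hdisj hcov i]
    ext y
    simp
  rw [h1, inf_top_eq]

lemma piece_comap_of_ne (I : ∀ i, (Y i).IdealSheafData) (i k : σ) (hik : k ≠ i) :
    (piece Y j I i).comap (j k) = ⊥ := by
  rw [eq_bot_iff]
  have hle : (j k).opensRange ≤ compl Y j i := by
    refine le_trans ?_ (le_iSup₂ (f := fun (k : σ) (_ : k ≠ i) => (j k).opensRange) k hik)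
    exact le_rfl
  have hfac : IsOpenImmersion.lift (compl Y j i).ι (j k)
      (by rw [Scheme.Opens.range_ι]; exact hle) ≫ (compl Y j i).ι = j k :=
    IsOpenImmersion.lift_fac _ _ _
  calc (piece Y j I i).comap (j k) ≤ ((compl Y j i).ι.ker).comap (j k) :=
        Scheme.IdealSheafData.comap_mono _ inf_le_right
    _ = (((compl Y j i).ι.ker).comap (compl Y j i).ι).comap (IsOpenImmersion.lift (compl Y j i).ι
          (j k) (by rw [Scheme.Opens.range_ι]; exact hle)) := by
        rw [← Scheme.IdealSheafData.comap_comp, hfac]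
    _ ≤ (⊥ : (compl Y j i).toScheme.IdealSheafData).comap _ := by
        apply Scheme.IdealSheafData.comap_mono
        rw [← Scheme.IdealSheafData.map_bot]
        exact Scheme.IdealSheafData.comap_map_le _ _
    _ = ⊥ := Scheme.IdealSheafData.comap_bot _

/-- the glued ideal sheaf -/
noncomputable def glue (I : ∀ i, (Y i).IdealSheafData) : X.IdealSheafData :=
  ⨆ i, piece Y j I i

include hdisj hcov in
theorem glue_comap (I : ∀ i, (Y i).IdealSheafData) (k : σ) :
    (glue Y j I).comap (j k) = I k := by
  rw [glue, (Scheme.IdealSheafData.map_gc (j k)).l_iSup]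
  apply le_antisymm
  · refine iSup_le fun i => ?_
    by_cases hik : k = i
    · subst hik
      rw [piece_comap_self Y j hdisj hcov]
    · rw [piece_comap_of_ne Y j I i k hik]
      exact bot_le
  · refine le_iSup_of_le k ?_
    rw [piece_comap_self Y j hdisj hcov]

end glue

end Groth.Agent.Helper28.IdealGlue
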