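import Mathlib
import Groth.Prelude.Def_W4c6modpairsegaMP
import Groth.Agent.Lib.Helper28.IdealGlue
import Groth.Agent.Lib.Helper28.AdmCalc
import Groth.Agent.Lib.Helper28.BlowUpProj

/-!
# Admissible blow-ups are stable under coproducts; the localization has binary coproducts
-/
set_option autoImplicit false
universe v u
open CategoryTheory CategoryTheory.Limits AlgebraicGeometry TopologicalSpace

namespace Groth.Agent.Helper28.AdmCoprod

open ModPair Groth.Agent.Helper28.IdealGlue

section scheme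

variable {X Y : Scheme.{u}}

/-- a property local at the target can be checked on a family of base changes along a jointly
surjective family of open immersions -/
lemma of_family (P : MorphismProperty Scheme.{u}) [IsZariskiLocalAtTarget P] (f : X ⟶ Y)
    {K : Type v} (UY : K → Scheme.{u}) (iY : ∀ k, UY k ⟶ Y) [∀ k, IsOpenImmersion (iY k)]
    (hcov : ∀ y : Y, ∃ k, y ∈ Set.range (iY k))
    (UX : K → Scheme.{u}) (iX : ∀ k, UX k ⟶ X) (f' : ∀ k, UX k ⟶ UY k)
    (h : ∀ k, IsPullback (iX k) (f' k) f (iY k)) (H : ∀ k, P (f' k)) : P f := by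
  apply IsZariskiLocalAtTarget.of_iSup_eq_top (fun k => (iY k).opensRange)
  · refine top_le_iff.mp fun y _ => ?_
    obtain ⟨k, hk⟩ := hcov y
    exact Opens.mem_iSup.mpr ⟨k, hk⟩
  · intro k
    rw [P.arrow_mk_iso_iff (morphismRestrictOpensRange f (iY k)),
      ← P.cancel_left_of_respectsIso (h k).isoPullback.hom, (h k).isoPullback_hom_snd]
    exact H k

/-- being an abstract admissible blow-up is local on the target -/
lemma isAdmBlowup_of_local {B A : Scheme.{u}} (s : B ⟶ A) (I : B.IdealSheafData)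
    (J : A.IdealSheafData) {K : Type v} (Ak : K → Scheme.{u}) (iA : ∀ k, Ak k ⟶ A)
    [∀ k, IsOpenImmersion (iA k)] (hcov : ∀ a : A, ∃ k, a ∈ Set.range (iA k))
    (Bk : K → Scheme.{u}) (iB : ∀ k, Bk k ⟶ B) [∀ k, IsOpenImmersion (iB k)]
    (sk : ∀ k, Bk k ⟶ Ak k) (h : ∀ k, IsPullback (iB k) (sk k) s (iA k))
    (H : ∀ k, IsAdmBlowup (I.comap (iB k)) (J.comap (iA k)) (sk k)) :
    IsAdmBlowup I J s := by
  have hcovB : ∀ b : B, ∃ k, b ∈ Set.range (iB k) := by
    intro b
    obtain ⟨k, a, ha⟩ := hcov (s b)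
    obtain ⟨p, hp, -⟩ := Scheme.exists_preimage_of_isPullback (h k) b a ha.symm
    exact ⟨k, p, hp⟩
  refine ⟨?_, ?_, ?_⟩
  · show I = J.comap s
    apply eq_of_forall_comap_eq Bk iB hcovB
    intro k
    have h1 : I.comap (iB k) = (J.comap (iA k)).comap (sk k) := (H k).1
    rw [h1, ← Scheme.IdealSheafData.comap_comp, ← Scheme.IdealSheafData.comap_comp, (h k).w]
  · exact of_family @IsProper s Ak iA hcov Bk iB sk h (fun k => (H k).2.1)
  · show IsIso (s ∣_ interior J)
    have hmem : ∀ k (w : Ak k), w ∈ interior (J.comap (iA k)) ↔ iA k w ∈ interior J := by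
      intro k w
      unfold ModPair.interior
      rw [Scheme.IdealSheafData.support_comap]
      rfl
    let W : ∀ k, (Ak k).Opens := fun k => interior (J.comap (iA k))
    have hrY : ∀ k, Set.range ((W k).ι ≫ iA k) ⊆ Set.range (interior J).ι := by
      intro k
      rintro _ ⟨w, rfl⟩
      rw [Scheme.Opens.range_ι]
      show iA k ((W k).ι w) ∈ interior J
      exact (hmem k _).mp w.2
    let iY : ∀ k, (W k).toScheme ⟶ (interior J).toScheme := fun k =>
      IsOpenImmersion.lift (interior J).ι ((W k).ι ≫ iA k) (hrY k)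
    have hiY : ∀ k, iY k ≫ (interior J).ι = (W k).ι ≫ iA k := fun k =>
      IsOpenImmersion.lift_fac _ _ _
    have hpt : ∀ k (x : Bk k), s (iB k x) = iA k (sk k x) := by
      intro k x
      rw [← Scheme.Hom.comp_apply, (h k).w, Scheme.Hom.comp_apply]
    have hrX : ∀ k, Set.range ((sk k ⁻¹ᵁ W k).ι ≫ iB k) ⊆ Set.range (s ⁻¹ᵁ interior J).ι := by
      intro k
      rintro _ ⟨x, rfl⟩
      rw [Scheme.Opens.range_ι]
      show s (iB k ((sk k ⁻¹ᵁ W k).ι x)) ∈ interior J
      rw [hpt]
      exact (hmem k _).mp x.2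
    let iX : ∀ k, (sk k ⁻¹ᵁ W k).toScheme ⟶ (s ⁻¹ᵁ interior J).toScheme := fun k =>
      IsOpenImmersion.lift (s ⁻¹ᵁ interior J).ι ((sk k ⁻¹ᵁ W k).ι ≫ iB k) (hrX k)
    have hiX : ∀ k, iX k ≫ (s ⁻¹ᵁ interior J).ι = (sk k ⁻¹ᵁ W k).ι ≫ iB k := fun k =>
      IsOpenImmersion.lift_fac _ _ _
    haveI : ∀ k, IsOpenImmersion (iY k) := fun k => by
      haveI : IsOpenImmersion (iY k ≫ (interior J).ι) := by rw [hiY]; infer_instance
      exact IsOpenImmersion.of_comp (iY k) (interior J).ι
    have hcovU : ∀ y : (interior J).toScheme, ∃ k, y ∈ Set.range (iY k) := by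
      intro y
      obtain ⟨k, a, ha⟩ := hcov y.1
      have haW : a ∈ W k := (hmem k a).mpr (by rw [ha]; exact y.2)
      refine ⟨k, ⟨a, haW⟩, ?_⟩
      apply (interior J).ι.isOpenEmbedding.injective
      rw [← Scheme.Hom.comp_apply, hiY]
      exact ha
    have hpb : ∀ k, IsPullback (iX k) (sk k ∣_ W k) (s ∣_ interior J) (iY k) := by
      intro k
      have outer : IsPullback ((sk k ⁻¹ᵁ W k).ι ≫ iB k) (sk k ∣_ W k) s ((W k).ι ≫ iA k) :=
        (isPullback_morphismRestrict (sk k) (W k)).flip.paste_horiz (h k)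
      rw [← hiX k, ← hiY k] at outer
      refine outer.of_right ?_ (isPullback_morphismRestrict s (interior J)).flip
      rw [← cancel_mono (interior J).ι, Category.assoc, Category.assoc, morphismRestrict_ι,
        hiY k, reassoc_of% (hiX k), (h k).w, morphismRestrict_ι_assoc]
    have := of_family (MorphismProperty.isomorphisms Scheme.{u}) (s ∣_ interior J)
      (fun k => (W k).toScheme) iY hcovU (fun k => (sk k ⁻¹ᵁ W k).toScheme) iX
      (fun k => sk k ∣_ W k) hpb (fun k => (MorphismProperty.isomorphisms.iff _).mpr (H k).2.2)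
    exact (MorphismProperty.isomorphisms.iff _).mp this

end scheme

/-! ### coproducts of modulus pairs, small index type in any universe -/

namespace CP

variable {σ : Type v} [Small.{u} σ] (F : Discrete σ ⥤ ModPair.Pair.{u})

/-- the total spaces -/
abbrev g (i : σ) : Scheme.{u} := (F.obj ⟨i⟩).total

lemma hdisj (i k : σ) (hik : i ≠ k) :
    Disjoint (Set.range (Sigma.ι (g F) i)) (Set.range (Sigma.ι (g F) k)) := by
  have := disjoint_opensRange_sigmaι (g F) i k hik
  rw [Set.disjoint_left]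
  intro x hx hx'
  exact (disjoint_iff.mp this).le ⟨hx, hx'⟩

lemma hcov (x : (∐ g F : Scheme.{u})) : ∃ i, x ∈ Set.range (Sigma.ι (g F) i) := by
  obtain ⟨i, y, hy⟩ := (sigmaOpenCover (g F)).exists_eq x
  exact ⟨i, y, hy⟩

/-- the modulus on the disjoint union -/
noncomputable def modulus : (∐ g F : Scheme.{u}).IdealSheafData :=
  glue (g F) (Sigma.ι (g F)) (fun i => (F.obj ⟨i⟩).mod)

lemma modulus_comap (i : σ) : (modulus F).comap (Sigma.ι (g F) i) = (F.obj ⟨i⟩).mod :=
  glue_comap (g F) (Sigma.ι (g F)) (hdisj F) (hcov F) _ i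

lemma modulus_isEffCartier : BlowUp.IsEffCartierIdeal (modulus F) := by
  apply Groth.Agent.Helper28.BlowUpProj.isEffCartierIdeal_of_local'
  intro x
  obtain ⟨i, hi⟩ := hcov F x
  refine ⟨g F i, Sigma.ι (g F) i, inferInstance, hi, ?_⟩
  rw [modulus_comap]
  exact (F.obj ⟨i⟩).isEffCartier

/-- the coproduct pair -/
noncomputable def pt : ModPair.Pair.{u} := ⟨∐ g F, modulus F, modulus_isEffCartier F⟩

/-- the coprojections -/
noncomputable def inj (i : σ) : F.obj ⟨i⟩ ⟶ pt F :=
  ⟨Sigma.ι (g F) i, le_of_eq (modulus_comap F i).symm⟩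

/-- the colimit cocone -/
noncomputable def cocone : Cocone F where
  pt := pt F
  ι := Discrete.natTrans fun i => by
    obtain ⟨i⟩ := i
    exact inj F i

lemma cocone_ι_app_hom (i : σ) : ((cocone F).ι.app ⟨i⟩).hom = Sigma.ι (g F) i := rfl

lemma comp_hom {P Q R : ModPair.Pair.{u}} (a : P ⟶ Q) (b : Q ⟶ R) : (a ≫ b).hom = a.hom ≫ b.hom :=
  rfl

/-- the underlying morphism of the descent morphism -/
noncomputable def descHom (s : Cocone F) : (∐ g F : Scheme.{u}) ⟶ s.pt.total :=
  Limits.Sigma.desc (fun i => (s.ι.app ⟨i⟩).hom)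

lemma ι_descHom (s : Cocone F) (i : σ) :
    Limits.Sigma.ι (g F) i ≫ descHom F s = (s.ι.app ⟨i⟩).hom :=
  Limits.Sigma.ι_desc _ _

lemma descHom_cond (s : Cocone F) : modulus F ≤ s.pt.mod.comap (descHom F s) := by
  apply le_of_forall_comap_le (g F) (Limits.Sigma.ι (g F)) (hcov F)
  intro i
  rw [modulus_comap, ← Scheme.IdealSheafData.comap_comp, ι_descHom]
  exact (s.ι.app ⟨i⟩).cond

/-- the descent morphism -/
noncomputable def desc (s : Cocone F) : pt F ⟶ s.pt :=
  ⟨descHom F s, descHom_cond F s⟩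

lemma desc_hom (s : Cocone F) : (desc F s).hom = descHom F s := rfl

/-- the cocone is a colimit -/
noncomputable def isColimit : IsColimit (cocone F) where
  desc s := desc F s
  fac s := by
    rintro ⟨i⟩
    apply ModPair.Pair.Hom.ext
    rw [comp_hom, cocone_ι_app_hom, desc_hom]
    exact ι_descHom F s i
  uniq s m hm := by
    apply ModPair.Pair.Hom.ext
    rw [desc_hom]
    refine Limits.Sigma.hom_ext (f := g F) _ _ fun i => ?_
    rw [ι_descHom, ← hm ⟨i⟩, comp_hom, cocone_ι_app_hom]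
    rfl

/-- an isomorphism of modulus pairs is minimal -/
lemma mod_eq_of_iso {P Q : ModPair.Pair.{u}} (e : P ≅ Q) : P.mod = Q.mod.comap e.hom.hom := by
  have h0 : P.mod ≤ Q.mod.comap e.hom.hom := e.hom.cond
  have h1 : Q.mod ≤ P.mod.comap e.inv.hom := e.inv.cond
  have h2 : Q.mod.comap e.hom.hom ≤ (P.mod.comap e.inv.hom).comap e.hom.hom :=
    Scheme.IdealSheafData.comap_mono e.hom.hom h1
  rw [← Scheme.IdealSheafData.comap_comp] at h2
  have h3 : e.hom.hom ≫ e.inv.hom = 𝟙 _ := congrArg ModPair.Pair.Hom.hom e.hom_inv_id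
  rw [h3, Scheme.IdealSheafData.comap_id] at h2
  exact le_antisymm h0 h2

/-- the facts about a coproduct cocone that we need -/
structure Facts (c : Cocone F) : Prop where
  oi : ∀ k, IsOpenImmersion (c.ι.app k).hom
  cov : ∀ x : c.pt.total, ∃ k, x ∈ Set.range (c.ι.app k).hom
  disj : ∀ k k', k ≠ k' → Disjoint (Set.range (c.ι.app k).hom) (Set.range (c.ι.app k').hom)
  mod : ∀ k, c.pt.mod.comap (c.ι.app k).hom = (F.obj k).mod

theorem facts (c : Cocone F) (hc : IsColimit c) : Facts F c := by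
  let e : pt F ≅ c.pt := (isColimit F).coconePointUniqueUpToIso hc
  obtain ⟨eh, heh⟩ : ∃ eh : (∐ g F : Scheme.{u}) ⟶ c.pt.total, eh = e.hom.hom := ⟨_, rfl⟩
  have he : ∀ i : σ, (c.ι.app ⟨i⟩).hom = Sigma.ι (g F) i ≫ eh := by
    intro i
    have := (isColimit F).comp_coconePointUniqueUpToIso_hom hc ⟨i⟩
    rw [← this, heh]
    rfl
  haveI : IsIso eh := by
    rw [heh]
    exact inferInstanceAs (IsIso (ModPair.Pair.forget.map e.hom))
  have hm : modulus F = c.pt.mod.comap eh := by
    rw [heh]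
    exact mod_eq_of_iso e
  have hbij : Function.Bijective eh :=
    ConcreteCategory.bijective_of_isIso eh.base
  refine ⟨?_, ?_, ?_, ?_⟩
  · rintro ⟨i⟩
    rw [he]
    infer_instance
  · intro x
    obtain ⟨y, rfl⟩ := hbij.2 x
    obtain ⟨i, z, rfl⟩ := hcov F y
    refine ⟨⟨i⟩, z, ?_⟩
    rw [he, Scheme.Hom.comp_apply]
  · rintro ⟨i⟩ ⟨i'⟩ hne
    have hii' : i ≠ i' := fun h => hne (by rw [h])
    rw [Set.disjoint_left]
    rintro _ ⟨a, rfl⟩ ⟨b, hb⟩
    rw [he, he, Scheme.Hom.comp_apply, Scheme.Hom.comp_apply] at hb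
    have := hbij.1 hb
    exact Set.disjoint_left.mp (hdisj F i i' hii') ⟨a, rfl⟩ ⟨b, this⟩
  · rintro ⟨i⟩
    rw [he, Scheme.IdealSheafData.comap_comp, ← hm]
    exact modulus_comap F i

end CP

/-! ### stability of admissible blow-ups under coproducts -/

theorem stable (K : Type v) [Small.{u} K] :
    (ModPair.Pair.admBlowup.{u}).IsStableUnderColimitsOfShape (Discrete K) where
  condition X₁ X₂ c₁ c₂ h₁ h₂ f hf φ hφ := by
    have F1 := CP.facts X₁ c₁ h₁
    have F2 := CP.facts X₂ c₂ h₂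
    show IsAdmBlowup c₁.pt.mod c₂.pt.mod φ.hom
    haveI := F1.oi
    haveI := F2.oi
    have hcomm : ∀ j, (c₁.ι.app j).hom ≫ φ.hom = (f.app j).hom ≫ (c₂.ι.app j).hom :=
      fun j => congrArg ModPair.Pair.Hom.hom (hφ j)
    have hpt : ∀ j (y : (X₁.obj j).total),
        φ.hom ((c₁.ι.app j).hom y) = (c₂.ι.app j).hom ((f.app j).hom y) := by
      intro j y
      rw [← Scheme.Hom.comp_apply, hcomm j, Scheme.Hom.comp_apply]
    refine isAdmBlowup_of_local φ.hom c₁.pt.mod c₂.pt.mod (fun k => (X₂.obj k).total)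
      (fun k => (c₂.ι.app k).hom) F2.cov (fun k => (X₁.obj k).total)
      (fun k => (c₁.ι.app k).hom) (fun k => (f.app k).hom) ?_ ?_
    · intro k
      refine (IsOpenImmersion.isPullback (f.app k).hom (c₁.ι.app k).hom (c₂.ι.app k).hom φ.hom
        (hcomm k) ?_).flip
      refine SetLike.ext fun x => ⟨fun hx => ?_, fun hx => ?_⟩
      · have hx' : φ.hom x ∈ Set.range (c₂.ι.app k).hom := hx
        show x ∈ Set.range (c₁.ι.app k).hom
        obtain ⟨j, y, rfl⟩ := F1.cov x
        have hjk : j = k := by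
          by_contra hjk
          rw [hpt] at hx'
          exact Set.disjoint_left.mp (F2.disj j k hjk) ⟨_, rfl⟩ hx'
        subst hjk
        exact ⟨y, rfl⟩
      · obtain ⟨y, rfl⟩ := hx
        show φ.hom ((c₁.ι.app k).hom y) ∈ Set.range (c₂.ι.app k).hom
        rw [hpt]
        exact ⟨_, rfl⟩
    · intro k
      rw [F1.mod k, F2.mod k]
      exact hf k

/-! ### passing to opposite categories -/

section op

variable {C : Type*} [Category C] {K : Type v}

/-- unop of a discrete diagram in the opposite category -/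
def unopFun (X : Discrete K ⥤ Cᵒᵖ) : Discrete K ⥤ C :=
  Discrete.functor (fun k => (X.obj ⟨k⟩).unop)

/-- the cocone associated to a cone in the opposite category -/
def unopCocone {X : Discrete K ⥤ Cᵒᵖ} (c : Cone X) : Cocone (unopFun X) where
  pt := c.pt.unop
  ι := Discrete.natTrans (fun k => (c.π.app k).unop)

/-- the cone associated to a cocone -/
def coneOfCocone {X : Discrete K ⥤ Cᵒᵖ} (s : Cocone (unopFun X)) : Cone X where
  pt := Opposite.op s.pt
  π := Discrete.natTrans (fun k => (s.ι.app k).op)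

/-- limit cones give colimit cocones -/
def unopIsColimit {X : Discrete K ⥤ Cᵒᵖ} {c : Cone X} (hc : IsLimit c) :
    IsColimit (unopCocone c) where
  desc s := (hc.lift (coneOfCocone s)).unop
  fac s k := congrArg Quiver.Hom.unop (hc.fac (coneOfCocone s) k)
  uniq s m hm := by
    have : m.op = hc.lift (coneOfCocone s) :=
      hc.uniq (coneOfCocone s) m.op (fun k => congrArg Quiver.Hom.op (hm k))
    exact congrArg Quiver.Hom.unop this

/-- unop of a natural transformation -/
def unopNat {X₁ X₂ : Discrete K ⥤ Cᵒᵖ} (f : X₁ ⟶ X₂) : unopFun X₂ ⟶ unopFun X₁ :=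
  Discrete.natTrans (fun k => (f.app k).unop)

end op

theorem stable_op (K : Type v) [Small.{u} K] :
    (ModPair.Pair.admBlowup.{u}).op.IsStableUnderLimitsOfShape (Discrete K) where
  condition X₁ X₂ c₁ c₂ h₁ h₂ f hf φ hφ := by
    show ModPair.Pair.admBlowup φ.unop
    exact (stable K).condition (unopFun X₂) (unopFun X₁) (unopCocone c₂) (unopCocone c₁)
      (unopIsColimit h₂) (unopIsColimit h₁) (unopNat f) (fun k => hf k) φ.unop
      (fun k => congrArg Quiver.Hom.unop (hφ k))

theorem main :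
    HasBinaryCoproducts (ModPair.Pair.admBlowup.{u}).Localization ∧
      PreservesColimitsOfShape (Discrete WalkingPair) (ModPair.Pair.admBlowup.{u}).Q := by
  haveI : (ModPair.Pair.admBlowup.{u}).ContainsIdentities :=
    ⟨Groth.Agent.Helper28.AdmCalc.admBlowup_id⟩
  haveI hcp : HasColimitsOfShape (Discrete WalkingPair) ModPair.Pair.{u} :=
    ⟨fun F => ⟨⟨⟨CP.cocone F, CP.isColimit F⟩⟩⟩⟩
  haveI : HasLimitsOfShape (Discrete WalkingPair) ModPair.Pair.{u}ᵒᵖ :=
    hasProductsOfShape_opposite WalkingPair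
  haveI : (ModPair.Pair.admBlowup.{u}).op.IsStableUnderLimitsOfShape (Discrete WalkingPair) :=
    stable_op.{0, u} WalkingPair
  have h1 : HasLimitsOfShape (Discrete WalkingPair) (ModPair.Pair.admBlowup.{u}).Localizationᵒᵖ :=
    Localization.hasProductsOfShape (ModPair.Pair.admBlowup.{u}).Q.op
      (ModPair.Pair.admBlowup.{u}).op WalkingPair
  have h2 : PreservesLimitsOfShape (Discrete WalkingPair) (ModPair.Pair.admBlowup.{u}).Q.op :=
    Localization.preservesProductsOfShape (ModPair.Pair.admBlowup.{u}).Q.op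
      (ModPair.Pair.admBlowup.{u}).op WalkingPair
  constructor
  · haveI := h1
    exact hasCoproductsOfShape_of_opposite WalkingPair
  · haveI : PreservesLimitsOfShape (Discrete WalkingPair)ᵒᵖ (ModPair.Pair.admBlowup.{u}).Q.op :=
      preservesLimitsOfShape_of_equiv (Discrete.opposite WalkingPair).symm _
    exact preservesColimitsOfShape_of_op (Discrete WalkingPair) _

end Groth.Agent.Helper28.AdmCoprod
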