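import Mathlib
import Groth.Prelude.Def_BlowUp2
import Groth.Prelude.Def_W4c6modpairsegaMP
import Groth.Agent.Lib.Helper28.BlowUpExist
import Groth.Agent.Lib.Helper28.AdmCalc3
import Groth.Agent.Lib.Helper28.EffCartierDense2
import Groth.Agent.Lib.Helper28.BlowUpProper

universe u
open AlgebraicGeometry CategoryTheory CategoryTheory.Limits

namespace Groth.Agent.Helper28.AmbProd

/-- `(A ∩ B)(A + B) = AB` when `A + B` is principal -/
lemma ideal_inf_mul_sup {R : Type*} [CommRing R] (A B : Ideal R) (e : R) (h : A ⊔ B = Ideal.span {e}) :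
    (A ⊓ B) * (A ⊔ B) = A * B := by
  apply le_antisymm
  · rw [Ideal.mul_le]
    intro r hr s hs
    obtain ⟨a, ha, b, hb, rfl⟩ := Submodule.mem_sup.mp hs
    rw [mul_add]
    refine add_mem ?_ (Ideal.mul_mem_mul hr.1 hb)
    rw [mul_comm r a]
    exact Ideal.mul_mem_mul ha hr.2
  · rw [Ideal.mul_le]
    intro x hx y hy
    have hx' : x ∈ Ideal.span {e} := h ▸ (le_sup_left : A ≤ A ⊔ B) hx
    have hy' : y ∈ Ideal.span {e} := h ▸ (le_sup_right : B ≤ A ⊔ B) hy
    obtain ⟨x', rfl⟩ := Ideal.mem_span_singleton'.mp hx'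
    obtain ⟨y', rfl⟩ := Ideal.mem_span_singleton'.mp hy'
    have : x' * e * (y' * e) = (x' * e * y') * e := by ring
    rw [this]
    refine Ideal.mul_mem_mul ⟨A.mul_mem_right _ hx, ?_⟩ (h ▸ Ideal.mem_span_singleton_self e)
    have : x' * e * y' = x' * (y' * e) := by ring
    rw [this]
    exact B.mul_mem_left _ hy

/-- `(A ⊓ B) * (A ⊔ B) = A * B` for ideal sheaves with `A ⊔ B` locally principal -/
lemma inf_mul_sup_eq_mul {X : Scheme.{u}} (A B : X.IdealSheafData)
    (h : BlowUp.IsEffCartierIdeal (A ⊔ B)) : (A ⊓ B) * (A ⊔ B) = A * B := by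
  choose U hxU t ht hIt using h
  apply Scheme.IdealSheafData.ext_of_iSup_eq_top (fun x : X => U x)
  · rw [eq_top_iff]
    intro x _
    exact TopologicalSpace.Opens.mem_iSup.mpr ⟨x, hxU x⟩
  · intro x
    have h1 := hIt x
    rw [Scheme.IdealSheafData.ideal_sup] at h1
    simp only [Scheme.IdealSheafData.ideal_mul, Scheme.IdealSheafData.ideal_inf,
      Scheme.IdealSheafData.ideal_sup, Pi.mul_apply, Pi.inf_apply, Pi.sup_apply] at h1 ⊢
    exact ideal_inf_mul_sup _ _ (t x) h1

open ModPair in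
/-- existence of the ambient product -/
theorem exists_isAmbProd {S T X : Scheme.{u}} (J : T.IdealSheafData) (I : X.IdealSheafData)
    (f : X ⟶ S) (g : T ⟶ S) :
    ∃ (Y : Scheme.{u}) (π : Y ⟶ ModPair.mprod f g I J) (K : Y.IdealSheafData),
      ModPair.IsAmbProd f g I J π K := by
  obtain ⟨Y, π, hπ⟩ := Groth.Agent.Helper28.BlowUpExist.exists_isBlowUp _ (prodCentre f g I J)
  refine ⟨Y, π, (I.comap (mprodι f g I J ≫ pullback.fst f g)).comap π ⊓
    (J.comap (mprodι f g I J ≫ pullback.snd f g)).comap π, hπ, ?_⟩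
  have h1 : (prodCentre f g I J).comap π = (I.comap (mprodι f g I J ≫ pullback.fst f g)).comap π ⊔
      (J.comap (mprodι f g I J ≫ pullback.snd f g)).comap π := by
    rw [prodCentre, Scheme.IdealSheafData.comap_sup]
  rw [h1]
  apply inf_mul_sup_eq_mul
  rw [← h1]
  exact hπ.1


open Groth.Agent.Helper28.EffCartierDense Groth.Agent.Helper28.AdmCalc
  Groth.Agent.Helper28.EffCartierOld

/-- the intersection of two quasi-compact opens is quasi-compact -/
lemma quasiCompact_ι_inf {P : Scheme.{u}} (W₁ W₂ : P.Opens) [QuasiCompact W₁.ι] [QuasiCompact W₂.ι] :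
    QuasiCompact (W₁ ⊓ W₂).ι := by
  have h1 : QuasiCompact (P.homOfLE (inf_le_left : W₁ ⊓ W₂ ≤ W₁)) :=
    MorphismProperty.of_isPullback (P := @QuasiCompact) (isPullback_opens_inf W₁ W₂).flip inferInstance
  rw [← P.homOfLE_ι (inf_le_left : W₁ ⊓ W₂ ≤ W₁)]
  infer_instance

/-- on the scheme-theoretic closure `Z` of a quasi-compact open `W ⊆ P` lying over the complement of
an effective Cartier divisor of `X`, the inverse image of the divisor is effective Cartier -/
lemma closure_effCartier' {P X : Scheme.{u}} (π₁ : P ⟶ X) (I : X.IdealSheafData)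
    (hI : BlowUp.IsEffCartierIdeal I) (W : P.Opens) [QuasiCompact W.ι]
    (hW : W ≤ π₁ ⁻¹ᵁ (I.support.compl : X.Opens)) :
    BlowUp.IsEffCartierIdeal (I.comap (W.ι.imageι ≫ π₁)) := by
  have hle : W.ι.imageι ⁻¹ᵁ W ≤ (W.ι.imageι ≫ π₁) ⁻¹ᵁ (I.support.compl : X.Opens) := by
    intro z hz
    exact hW hz
  have hdom : IsSchemeTheoreticallyDominant
      ((W.ι.imageι ≫ π₁) ⁻¹ᵁ (I.support.compl : X.Opens)).ι := by
    constructor
    have h1 := ker_preimage_ι_eq_bot W
    have h2 := Scheme.Hom.le_ker_comp (W.ι.image.homOfLE hle)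
      ((W.ι.imageι ≫ π₁) ⁻¹ᵁ (I.support.compl : X.Opens)).ι
    rw [Scheme.homOfLE_ι, h1] at h2
    exact le_bot_iff.mp h2
  exact (comap_dominant I hI (W.ι.imageι ≫ π₁)).2

/-- cancelling an effective Cartier ideal -/
lemma le_of_mul_eq_mul {Y : Scheme.{u}} (K E A B : Y.IdealSheafData) (hE : BlowUp.IsEffCartierIdeal E)
    (hBE : B ≤ E) (h : K * E = A * B) : K ≤ A := by
  choose U hxU t ht hIt using hE
  apply Scheme.IdealSheafData.le_of_iSup_eq_top (fun x : Y => U x)
  · rw [eq_top_iff]
    intro x _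
    exact TopologicalSpace.Opens.mem_iSup.mpr ⟨x, hxU x⟩
  · intro x k hk
    have h1 : K.ideal (U x) * E.ideal (U x) = A.ideal (U x) * B.ideal (U x) := by
      have := congrArg (fun I => Scheme.IdealSheafData.ideal I (U x)) h
      simpa using this
    have h2 : k * t x ∈ A.ideal (U x) * Ideal.span {t x} := by
      have : k * t x ∈ K.ideal (U x) * E.ideal (U x) :=
        Ideal.mul_mem_mul hk (hIt x ▸ Ideal.mem_span_singleton_self _)
      rw [h1] at this
      exact Ideal.mul_mono_right (hIt x ▸ hBE (U x)) this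
    obtain ⟨a, ha, hak⟩ := Ideal.mem_mul_span_singleton.mp h2
    have h3 : (a - k) * t x = 0 := by rw [sub_mul, hak, sub_self]
    have h4 := (mem_nonZeroDivisors_iff.mp (ht x)).2 _ h3
    rw [← sub_eq_zero.mp h4]
    exact ha

open ModPair in
/-- properties of an ambient product -/
theorem isAmbProd_props {S T X Y : Scheme.{u}}
    (J : T.IdealSheafData) (I : X.IdealSheafData)
    (hT : BlowUp.IsEffCartierIdeal J) (hX : BlowUp.IsEffCartierIdeal I)
    (f : X ⟶ S) (g : T ⟶ S)
    (π : Y ⟶ ModPair.mprod f g I J) (K : Y.IdealSheafData) (hY : ModPair.IsAmbProd f g I J π K) :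
    BlowUp.IsEffCartierIdeal K ∧
      ModPair.IsAmbient K I (π ≫ ModPair.mprodι f g I J ≫ pullback.fst f g) ∧
      ModPair.IsAmbient K J (π ≫ ModPair.mprodι f g I J ≫ pullback.snd f g) ∧
      ModPair.interior K = (π ≫ ModPair.mprodι f g I J) ⁻¹ᵁ ModPair.prodInterior f g I J := by
  obtain ⟨hπ, hK⟩ := hY
  set W := prodInterior f g I J with hW
  haveI q1 : QuasiCompact ((pullback.fst f g) ⁻¹ᵁ interior I).ι :=
    quasiCompact_ι_preimage_compl_support I hX _
  haveI q2 : QuasiCompact ((pullback.snd f g) ⁻¹ᵁ interior J).ι :=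
    quasiCompact_ι_preimage_compl_support J hT _
  haveI qW : QuasiCompact W.ι := quasiCompact_ι_inf _ _
  have hI' : BlowUp.IsEffCartierIdeal (I.comap (mprodι f g I J ≫ pullback.fst f g)) :=
    closure_effCartier' (pullback.fst f g) I hX W inf_le_left
  have hJ' : BlowUp.IsEffCartierIdeal (J.comap (mprodι f g I J ≫ pullback.snd f g)) :=
    closure_effCartier' (pullback.snd f g) J hT W inf_le_right
  set A := (I.comap (mprodι f g I J ≫ pullback.fst f g)).comap π with hA
  set B := (J.comap (mprodι f g I J ≫ pullback.snd f g)).comap π with hB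
  set E := (prodCentre f g I J).comap π with hE
  have hAeff : BlowUp.IsEffCartierIdeal A := isEffCartierIdeal_comap_of_isBlowUp _ π hπ _ hI'
  have hBeff : BlowUp.IsEffCartierIdeal B := isEffCartierIdeal_comap_of_isBlowUp _ π hπ _ hJ'
  have hEeq : E = A ⊔ B := by
    rw [hE, prodCentre, Scheme.IdealSheafData.comap_sup]
  have hKA : K ≤ A := le_of_mul_eq_mul K E A B hπ.1 (hEeq ▸ le_sup_right) hK
  have hKB : K ≤ B := le_of_mul_eq_mul K E B A hπ.1 (hEeq ▸ le_sup_left) (by rw [hK, mul_comm])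
  refine ⟨?_, ?_, ?_, ?_⟩
  · apply isEffCartierIdeal_left_of_mul K E
    rw [hK]
    exact isEffCartierIdeal_mul _ _ hAeff hBeff
  · show K ≤ I.comap _
    rw [Scheme.IdealSheafData.comap_comp]
    exact hKA
  · show K ≤ J.comap _
    rw [Scheme.IdealSheafData.comap_comp]
    exact hKB
  · have hsupp : (K.support : Set Y) = (A.support : Set Y) ∪ (B.support : Set Y) := by
      apply Set.Subset.antisymm
      · have h1 : (K * E).support = (A * B).support := by rw [hK]
        rw [Scheme.IdealSheafData.support_mul, Scheme.IdealSheafData.support_mul] at h1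
        intro y hy
        have : y ∈ ((K.support ⊔ E.support : TopologicalSpace.Closeds Y) : Set Y) := Or.inl hy
        rw [h1] at this
        exact this
      · exact Set.union_subset (Scheme.IdealSheafData.support_antitone hKA)
          (Scheme.IdealSheafData.support_antitone hKB)
    ext y
    have hyA : y ∈ (A.support : Set Y) ↔
        (pullback.fst f g) ((mprodι f g I J) (π y)) ∈ (I.support : Set X) := by
      rw [hA, Scheme.IdealSheafData.support_comap, Scheme.IdealSheafData.support_comap]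
      rfl
    have hyB : y ∈ (B.support : Set Y) ↔
        (pullback.snd f g) ((mprodι f g I J) (π y)) ∈ (J.support : Set T) := by
      rw [hB, Scheme.IdealSheafData.support_comap, Scheme.IdealSheafData.support_comap]
      rfl
    change y ∈ (K.support : Set Y)ᶜ ↔
      ((pullback.fst f g) ((mprodι f g I J) (π y)) ∈ (I.support : Set X)ᶜ ∧
        (pullback.snd f g) ((mprodι f g I J) (π y)) ∈ (J.support : Set T)ᶜ)
    rw [hsupp, Set.mem_compl_iff, Set.mem_union, not_or, hyA, hyB]
    rfl


open Groth.Agent.Helper28.FiniteTypeIdeal in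
lemma isFiniteTypeIdeal_of_isEffCartier {X : Scheme.{u}} (I : X.IdealSheafData)
    (hI : BlowUp.IsEffCartierIdeal I) : BlowUp.IsFiniteTypeIdeal I := by
  apply isFiniteTypeIdeal_of_local
  intro x
  obtain ⟨U, hxU, t, -, hIt⟩ := hI x
  exact ⟨U, hxU, hIt ▸ ⟨{t}, by simp⟩⟩

lemma isFiniteTypeIdeal_sup {X : Scheme.{u}} (I J : X.IdealSheafData)
    (hI : BlowUp.IsFiniteTypeIdeal I) (hJ : BlowUp.IsFiniteTypeIdeal J) :
    BlowUp.IsFiniteTypeIdeal (I ⊔ J) := by
  intro U
  rw [Scheme.IdealSheafData.ideal_sup]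
  exact Submodule.FG.sup (hI U) (hJ U)

open ModPair Groth.Agent.Helper28.FiniteTypeIdeal in
/-- the blow-up morphism of an ambient product is proper -/
lemma isProper_ambProd {S T X Y : Scheme.{u}}
    (J : T.IdealSheafData) (I : X.IdealSheafData)
    (hT : BlowUp.IsEffCartierIdeal J) (hX : BlowUp.IsEffCartierIdeal I)
    (f : X ⟶ S) (g : T ⟶ S)
    (π : Y ⟶ ModPair.mprod f g I J) (K : Y.IdealSheafData) (hY : ModPair.IsAmbProd f g I J π K) :
    IsProper π := by
  apply Groth.Agent.Helper28.BlowUpProper.isProper_of_isBlowUp _ _ π hY.1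
  apply isFiniteTypeIdeal_sup
  · exact isFiniteTypeIdeal_comap _ _ (isFiniteTypeIdeal_of_isEffCartier I hX)
  · exact isFiniteTypeIdeal_comap _ _ (isFiniteTypeIdeal_of_isEffCartier J hT)

end Groth.Agent.Helper28.AmbProd
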