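import Mathlib

open CategoryTheory CategoryTheory.Limits

namespace Groth.Agent.Helper28.LocPullback

variable {C D : Type*} [Category C] [Category D] (L : C ⥤ D) (W : MorphismProperty C)
  [L.IsLocalization W] [W.HasRightCalculusOfFractions]

/-- two morphisms out of `L.obj X` in a localization with right calculus of fractions have a common
denominator -/
lemma exists_common_denominator {X Y₁ Y₂ : C} (a : L.obj X ⟶ L.obj Y₁) (b : L.obj X ⟶ L.obj Y₂) :
    ∃ (X' : C) (s : X' ⟶ X) (_ : W s) (a' : X' ⟶ Y₁) (b' : X' ⟶ Y₂),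
      L.map s ≫ a = L.map a' ∧ L.map s ≫ b = L.map b' := by
  obtain ⟨φa, ha⟩ := Localization.exists_rightFraction L W a
  obtain ⟨φb, hb⟩ := Localization.exists_rightFraction L W b
  obtain ⟨ψ, hψ⟩ := (MorphismProperty.LeftFraction.mk φa.s φb.s φb.hs).exists_rightFraction
  dsimp at hψ
  refine ⟨ψ.X', ψ.s ≫ φa.s, W.comp_mem _ _ ψ.hs φa.hs, ψ.s ≫ φa.f, ψ.f ≫ φb.f, ?_, ?_⟩
  · rw [ha, L.map_comp, Category.assoc, MorphismProperty.RightFraction.map_s_comp_map, L.map_comp]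
  · rw [hψ, hb, L.map_comp, Category.assoc, MorphismProperty.RightFraction.map_s_comp_map,
      L.map_comp]

include W in
/-- criterion for the image of a commutative square to be a pullback in the localization -/
theorem isPullback_map_of_fractions {Y T X P : C} (pT : Y ⟶ T) (pX : Y ⟶ X) (g : T ⟶ P) (f : X ⟶ P)
    (w : pT ≫ g = pX ≫ f)
    (hE : ∀ (Z : C) (a : Z ⟶ T) (b : Z ⟶ X), a ≫ g = b ≫ f →
      ∃ (Z' : C) (t : Z' ⟶ Z) (_ : W t) (c : Z' ⟶ Y), c ≫ pT = t ≫ a ∧ c ≫ pX = t ≫ b)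
    (hU : ∀ (Z : C) (c₁ c₂ : Z ⟶ Y), c₁ ≫ pT = c₂ ≫ pT → c₁ ≫ pX = c₂ ≫ pX →
      ∃ (Z' : C) (t : Z' ⟶ Z) (_ : W t), t ≫ c₁ = t ≫ c₂) :
    IsPullback (L.map pT) (L.map pX) (L.map g) (L.map f) := by
  have hinv := Localization.inverts L W
  -- existence and uniqueness for cone points of the form `L.obj Z`
  have huniq : ∀ (Z : C) (a : L.obj Z ⟶ L.obj T) (b : L.obj Z ⟶ L.obj X)
      (c₁ c₂ : L.obj Z ⟶ L.obj Y), c₁ ≫ L.map pT = a → c₁ ≫ L.map pX = b →
      c₂ ≫ L.map pT = a → c₂ ≫ L.map pX = b → c₁ = c₂ := by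
    intro Z a b c₁ c₂ hc₁a hc₁b hc₂a hc₂b
    obtain ⟨V₁, σ, hσ, d₁, d₂, hd₁, hd₂⟩ := exists_common_denominator L W c₁ c₂
    haveI := hinv σ hσ
    have e1 : L.map (d₁ ≫ pT) = L.map (d₂ ≫ pT) := by
      rw [L.map_comp, L.map_comp, ← hd₁, ← hd₂, Category.assoc, Category.assoc, hc₁a, hc₂a]
    obtain ⟨V₂, τ₁, hτ₁, e1'⟩ := (MorphismProperty.map_eq_iff_precomp L W _ _).mp e1
    haveI := hinv τ₁ hτ₁
    have e2 : L.map (τ₁ ≫ d₁ ≫ pX) = L.map (τ₁ ≫ d₂ ≫ pX) := by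
      rw [L.map_comp, L.map_comp, L.map_comp, L.map_comp, ← hd₁, ← hd₂, Category.assoc,
        Category.assoc, hc₁b, hc₂b]
    obtain ⟨V₃, τ₂, hτ₂, e2'⟩ := (MorphismProperty.map_eq_iff_precomp L W _ _).mp e2
    haveI := hinv τ₂ hτ₂
    obtain ⟨V₄, τ₃, hτ₃, e3⟩ := hU V₃ (τ₂ ≫ τ₁ ≫ d₁) (τ₂ ≫ τ₁ ≫ d₂)
      (by simp only [Category.assoc]; rw [e1'])
      (by simp only [Category.assoc]; exact e2')
    haveI := hinv τ₃ hτ₃
    have e4 : L.map d₁ = L.map d₂ := by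
      have := congrArg L.map e3
      simp only [L.map_comp] at this
      rwa [cancel_epi, cancel_epi, cancel_epi] at this
    rw [← hd₁, ← hd₂, cancel_epi] at e4
    exact e4
  have key : ∀ (Z : C) (a : L.obj Z ⟶ L.obj T) (b : L.obj Z ⟶ L.obj X),
      a ≫ L.map g = b ≫ L.map f → ∃! c : L.obj Z ⟶ L.obj Y, c ≫ L.map pT = a ∧ c ≫ L.map pX = b := by
    intro Z a b hab
    obtain ⟨Z₁, s, hs, a', b', ha', hb'⟩ := exists_common_denominator L W a b
    haveI := hinv s hs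
    have h1 : L.map (a' ≫ g) = L.map (b' ≫ f) := by
      rw [L.map_comp, L.map_comp, ← ha', ← hb', Category.assoc, Category.assoc, hab]
    obtain ⟨Z₂, t, ht, h2⟩ := (MorphismProperty.map_eq_iff_precomp L W _ _).mp h1
    haveI := hinv t ht
    obtain ⟨Z₃, t', ht', c', hc1, hc2⟩ := hE Z₂ (t ≫ a') (t ≫ b') (by
      rw [Category.assoc, Category.assoc]; exact h2)
    haveI := hinv t' ht'
    have hA : (inv (L.map s) ≫ inv (L.map t) ≫ inv (L.map t') ≫ L.map c') ≫ L.map pT = a := by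
      rw [Category.assoc, Category.assoc, Category.assoc, ← L.map_comp, hc1, L.map_comp, L.map_comp,
        ← ha']
      simp
    have hB : (inv (L.map s) ≫ inv (L.map t) ≫ inv (L.map t') ≫ L.map c') ≫ L.map pX = b := by
      rw [Category.assoc, Category.assoc, Category.assoc, ← L.map_comp, hc2, L.map_comp, L.map_comp,
        ← hb']
      simp
    exact ⟨_, ⟨hA, hB⟩, fun c₂ hc₂ => huniq Z a b _ _ hc₂.1 hc₂.2 hA hB⟩
  -- general cone points
  have key' : ∀ (Z : D) (a : Z ⟶ L.obj T) (b : Z ⟶ L.obj X),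
      a ≫ L.map g = b ≫ L.map f → ∃! c : Z ⟶ L.obj Y, c ≫ L.map pT = a ∧ c ≫ L.map pX = b := by
    intro Z a b hab
    haveI := Localization.essSurj L W
    let e := L.objObjPreimageIso Z
    obtain ⟨c, ⟨hc1, hc2⟩, hcu⟩ := key (L.objPreimage Z) (e.hom ≫ a) (e.hom ≫ b) (by
      rw [Category.assoc, Category.assoc, hab])
    refine ⟨e.inv ≫ c, ⟨by rw [Category.assoc, hc1, e.inv_hom_id_assoc],
      by rw [Category.assoc, hc2, e.inv_hom_id_assoc]⟩, ?_⟩
    rintro c₂ ⟨h1, h2⟩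
    have := hcu (e.hom ≫ c₂) ⟨by rw [Category.assoc, h1], by rw [Category.assoc, h2]⟩
    rw [← this, e.inv_hom_id_assoc]
  refine ⟨⟨by rw [← L.map_comp, w, L.map_comp]⟩, ⟨PullbackCone.IsLimit.mk _
    (fun s => (key' s.pt s.fst s.snd s.condition).exists.choose)
    (fun s => (key' s.pt s.fst s.snd s.condition).exists.choose_spec.1)
    (fun s => (key' s.pt s.fst s.snd s.condition).exists.choose_spec.2)
    (fun s m h1 h2 => (key' s.pt s.fst s.snd s.condition).unique ⟨h1, h2⟩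
      (key' s.pt s.fst s.snd s.condition).exists.choose_spec)⟩⟩

end Groth.Agent.Helper28.LocPullback
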