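import Mathlib
import Groth.Prelude.Def_BlowUp2
import Groth.Prelude.Def_W4c6modpairsegaMP
import Groth.Agent.Lib.Helper28.AmbProd
import Groth.Agent.Lib.Helper28.LocPullback

universe u
open AlgebraicGeometry CategoryTheory CategoryTheory.Limits ModPair
  Groth.Agent.Helper28.EffCartierDense Groth.Agent.Helper28.AdmCalc
  Groth.Agent.Helper28.EffCartierOld Groth.Agent.Helper28.AmbProd Groth.Agent.Helper28.FiniteTypeIdeal

namespace Groth.Agent.Helper28.AmbProd

/-- the inverse image of an effective Cartier ideal which contains an effective Cartier ideal is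
effective Cartier -/
lemma isEffCartierIdeal_comap_of_le {W Y : Scheme.{u}} (c : W ⟶ Y) (E : Y.IdealSheafData)
    (hE : BlowUp.IsEffCartierIdeal E) (IW : W.IdealSheafData) (hIW : BlowUp.IsEffCartierIdeal IW)
    (hle : IW ≤ E.comap c) : BlowUp.IsEffCartierIdeal (E.comap c) := by
  intro w
  obtain ⟨V, hwV, e, he, hEe⟩ := hE (c w)
  obtain ⟨U, hwU, hUV, t, ht, hIt⟩ := exists_chart_le hIW w (c ⁻¹ᵁ V.1) hwV
  have hcomap := Groth.Agent.Helper28.IdealComapOld.ideal_comap c E V U hUV
  rw [hEe, Ideal.map_span, Set.image_singleton] at hcomap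
  refine ⟨U, hwU, (c.appLE V.1 U.1 hUV).hom e, ?_, hcomap⟩
  have h1 : t ∈ (E.comap c).ideal U := hle U (hIt ▸ Ideal.mem_span_singleton_self t)
  rw [hcomap] at h1
  obtain ⟨r, hr⟩ := Ideal.mem_span_singleton'.mp h1
  refine mem_nonZeroDivisors_iff_right.2 fun z hz => ?_
  have : z * t = 0 := by rw [← hr, mul_comm r, ← mul_assoc, hz, zero_mul]
  exact (mem_nonZeroDivisors_iff_right.1 ht) z this

/-- cancelling an effective Cartier ideal -/
lemma eq_of_mul_eq_mul {Y : Scheme.{u}} (K K' E : Y.IdealSheafData) (hE : BlowUp.IsEffCartierIdeal E)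
    (h : K * E = K' * E) : K = K' :=
  le_antisymm (le_of_mul_eq_mul K E K' E hE le_rfl h) (le_of_mul_eq_mul K' E K E hE le_rfl h.symm)


section

variable {S T X Y : Scheme.{u}} (J : T.IdealSheafData) (I : X.IdealSheafData)
  (hT : BlowUp.IsEffCartierIdeal J) (hX : BlowUp.IsEffCartierIdeal I) (f : X ⟶ S) (g : T ⟶ S)
  (π : Y ⟶ ModPair.mprod f g I J) (K : Y.IdealSheafData) (hY : ModPair.IsAmbProd f g I J π K)

include hT hX hY in
lemma K_le_exceptional : K ≤ (prodCentre f g I J).comap π := by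
  have h := (isAmbProd_props J I hT hX f g π K hY).2.1
  have h1 : K ≤ I.comap (π ≫ mprodι f g I J ≫ pullback.fst f g) := h
  rw [Scheme.IdealSheafData.comap_comp] at h1
  exact h1.trans (Scheme.IdealSheafData.comap_mono π le_sup_left)

include hT hX hY in
/-- (U) uniqueness of lifts to the ambient product -/
lemma ambProd_lift_unique {W : Scheme.{u}} (IW : W.IdealSheafData)
    (hIW : BlowUp.IsEffCartierIdeal IW) (c₁ c₂ : W ⟶ Y) (h₁ : IW ≤ K.comap c₁)
    (hT' : c₁ ≫ π ≫ mprodι f g I J ≫ pullback.snd f g = c₂ ≫ π ≫ mprodι f g I J ≫ pullback.snd f g)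
    (hX' : c₁ ≫ π ≫ mprodι f g I J ≫ pullback.fst f g = c₂ ≫ π ≫ mprodι f g I J ≫ pullback.fst f g) :
    c₁ = c₂ := by
  have e1 : c₁ ≫ π = c₂ ≫ π := by
    rw [← cancel_mono (mprodι f g I J)]
    apply pullback.hom_ext
    · simpa only [Category.assoc] using hX'
    · simpa only [Category.assoc] using hT'
  have hKE := K_le_exceptional J I hT hX f g π K hY
  have hE₁ : BlowUp.IsEffCartierIdeal (((prodCentre f g I J).comap π).comap c₁) :=
    isEffCartierIdeal_comap_of_le c₁ _ hY.1.1 IW hIW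
      (h₁.trans (Scheme.IdealSheafData.comap_mono c₁ hKE))
  rw [← Scheme.IdealSheafData.comap_comp] at hE₁
  obtain ⟨h, -, hu⟩ := hY.1.2 W (c₁ ≫ π) hE₁
  rw [hu c₁ rfl, hu c₂ e1.symm]

include hT hX hY in
/-- (G) existence of lifts to the ambient product after an admissible blow-up -/
lemma ambProd_exists_lift {W : Scheme.{u}} (IW : W.IdealSheafData)
    (hIW : BlowUp.IsEffCartierIdeal IW) (a : W ⟶ T) (b : W ⟶ X) (ha : IW ≤ J.comap a)
    (hb : IW ≤ I.comap b) (hab : a ≫ g = b ≫ f) :
    ∃ (W' : Scheme.{u}) (t : W' ⟶ W) (c : W' ⟶ Y), BlowUp.IsEffCartierIdeal (IW.comap t) ∧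
      IsAdmBlowup (IW.comap t) IW t ∧ IW.comap t ≤ K.comap c ∧
      c ≫ π ≫ mprodι f g I J ≫ pullback.snd f g = t ≫ a ∧
      c ≫ π ≫ mprodι f g I J ≫ pullback.fst f g = t ≫ b := by
  obtain ⟨hπ, hK⟩ := hY
  -- step 1: factor through the closure
  obtain ⟨u, hu⟩ : ∃ u : W ⟶ pullback f g, u = pullback.lift b a hab.symm := ⟨_, rfl⟩
  have hu1 : u ≫ pullback.fst f g = b := by rw [hu, pullback.lift_fst]
  have hu2 : u ≫ pullback.snd f g = a := by rw [hu, pullback.lift_snd]
  have hker : (Scheme.Opens.ι (X := W) IW.support.compl).ker = ⊥ :=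
    ker_ι_eq_bot _ (isLocallyBasicNZD_compl_support IW hIW)
  have hrange : Set.range ((Scheme.Opens.ι (X := W) IW.support.compl) ≫ u) ⊆
      Set.range (prodInterior f g I J).ι := by
    rintro _ ⟨w, rfl⟩
    rw [Scheme.Opens.range_ι]
    rw [Scheme.Hom.comp_apply]
    have hw : (Scheme.Opens.ι (X := W) IW.support.compl) w ∈ interior IW := w.2
    constructor
    · show (pullback.fst f g) (u _) ∈ interior I
      rw [← Scheme.Hom.comp_apply, hu1]
      exact interior_le_preimage IW I b hb hw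
    · show (pullback.snd f g) (u _) ∈ interior J
      rw [← Scheme.Hom.comp_apply, hu2]
      exact interior_le_preimage IW J a ha hw
  obtain ⟨c₀, hc₀⟩ := exists_factor_closed (mprodι f g I J) u
    (Scheme.Opens.ι (X := W) IW.support.compl) hker
    (IsOpenImmersion.lift (prodInterior f g I J).ι _ hrange ≫ (prodInterior f g I J).ι.toImage)
    (by rw [Category.assoc, Scheme.Hom.toImage_imageι, IsOpenImmersion.lift_fac])
  -- step 2: the centre on `W`
  have hCW : (prodCentre f g I J).comap c₀ = I.comap b ⊔ J.comap a := by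
    rw [prodCentre, Scheme.IdealSheafData.comap_sup, ← Scheme.IdealSheafData.comap_comp,
      ← Scheme.IdealSheafData.comap_comp, ← Category.assoc, ← Category.assoc, hc₀, hu1, hu2]
  obtain ⟨W', t, ht⟩ := Groth.Agent.Helper28.BlowUpExist.exists_isBlowUp W ((prodCentre f g I J).comap c₀)
  obtain ⟨c₁, hc₁, -⟩ := hπ.2 W' (t ≫ c₀) (by rw [Scheme.IdealSheafData.comap_comp]; exact ht.1)
  have hc₁' : c₁ ≫ π = t ≫ c₀ := hc₁
  have hfst : c₁ ≫ π ≫ mprodι f g I J ≫ pullback.fst f g = t ≫ b := by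
    rw [← Category.assoc, hc₁', Category.assoc, ← Category.assoc c₀, hc₀, hu1]
  have hsnd : c₁ ≫ π ≫ mprodι f g I J ≫ pullback.snd f g = t ≫ a := by
    rw [← Category.assoc, hc₁', Category.assoc, ← Category.assoc c₀, hc₀, hu2]
  have hft : BlowUp.IsFiniteTypeIdeal ((prodCentre f g I J).comap c₀) := by
    rw [hCW]
    exact isFiniteTypeIdeal_sup _ _
      (isFiniteTypeIdeal_comap _ _ (isFiniteTypeIdeal_of_isEffCartier I hX))
      (isFiniteTypeIdeal_comap _ _ (isFiniteTypeIdeal_of_isEffCartier J hT))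
  refine ⟨W', t, c₁, isEffCartierIdeal_comap_of_isBlowUp _ t ht IW hIW, ⟨rfl,
    Groth.Agent.Helper28.BlowUpProper.isProper_of_isBlowUp _ hft t ht, ?_⟩, ?_, hsnd, hfst⟩
  · -- iso over the interior
    have hiso := isIso_morphismRestrict_compl _ t ht
    have hle : interior IW ≤ (𝟙 W) ⁻¹ᵁ (((prodCentre f g I J).comap c₀).support.compl : W.Opens) := by
      intro w hw hw'
      apply hw
      rw [hCW, Scheme.IdealSheafData.support_sup] at hw'
      exact Scheme.IdealSheafData.support_antitone hb hw'.1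
    have sq : IsPullback t (𝟙 W') (𝟙 W) t := IsPullback.of_id_snd
    exact isIso_restrict_of_isPullback sq
      (((prodCentre f g I J).comap c₀).support.compl : W.Opens) hiso (interior IW) hle
  · -- the modulus condition
    have hA : IW.comap t ≤ I.comap (t ≫ b) := by
      rw [Scheme.IdealSheafData.comap_comp]; exact Scheme.IdealSheafData.comap_mono t hb
    have hB : IW.comap t ≤ J.comap (t ≫ a) := by
      rw [Scheme.IdealSheafData.comap_comp]; exact Scheme.IdealSheafData.comap_mono t ha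
    have hE' : ((prodCentre f g I J).comap π).comap c₁ = I.comap (t ≫ b) ⊔ J.comap (t ≫ a) := by
      rw [← Scheme.IdealSheafData.comap_comp, hc₁', Scheme.IdealSheafData.comap_comp, hCW,
        Scheme.IdealSheafData.comap_sup, ← Scheme.IdealSheafData.comap_comp,
        ← Scheme.IdealSheafData.comap_comp]
    have hEeff : BlowUp.IsEffCartierIdeal (I.comap (t ≫ b) ⊔ J.comap (t ≫ a)) := by
      rw [← hE', ← Scheme.IdealSheafData.comap_comp, hc₁', Scheme.IdealSheafData.comap_comp]
      exact ht.1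
    have hK' : K.comap c₁ * (I.comap (t ≫ b) ⊔ J.comap (t ≫ a)) =
        I.comap (t ≫ b) * J.comap (t ≫ a) := by
      have := congrArg (fun 𝓚 => Scheme.IdealSheafData.comap 𝓚 c₁) hK
      simp only [comap_mul] at this
      rw [hE', ← Scheme.IdealSheafData.comap_comp, ← Scheme.IdealSheafData.comap_comp,
        ← Scheme.IdealSheafData.comap_comp, ← Scheme.IdealSheafData.comap_comp, Category.assoc,
        Category.assoc, hfst, hsnd] at this
      exact this
    have hKeq : K.comap c₁ = I.comap (t ≫ b) ⊓ J.comap (t ≫ a) :=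
      eq_of_mul_eq_mul _ _ _ hEeff (hK'.trans (inf_mul_sup_eq_mul _ _ hEeff).symm)
    rw [hKeq]
    exact le_inf hA hB

end

end Groth.Agent.Helper28.AmbProd
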