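import Mathlib
import Groth.Prelude.Def_BlowUp2
import Groth.Prelude.Def_W4c6modpairsegaMP
import Groth.Agent.Lib.Helper28.AmbProd2

universe u
open AlgebraicGeometry CategoryTheory CategoryTheory.Limits ModPair
  Groth.Agent.Helper28.EffCartierDense Groth.Agent.Helper28.AdmCalc
  Groth.Agent.Helper28.EffCartierOld Groth.Agent.Helper28.AmbProd

namespace Groth.Agent.Helper28.AmbProd

/-- the ambient product gives pullbacks in the localized category -/
theorem isPullback_Q (P T X : ModPair.Pair.{u}) (f : X ⟶ P) (g : T ⟶ P)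
    {Y : Scheme.{u}} (π : Y ⟶ ModPair.mprod f.hom g.hom X.mod T.mod) (K : Y.IdealSheafData)
    (hY : ModPair.IsAmbProd f.hom g.hom X.mod T.mod π K) (hK : BlowUp.IsEffCartierIdeal K)
    (hX : ModPair.IsAmbient K X.mod (π ≫ ModPair.mprodι f.hom g.hom X.mod T.mod ≫ pullback.fst f.hom g.hom))
    (hT : ModPair.IsAmbient K T.mod (π ≫ ModPair.mprodι f.hom g.hom X.mod T.mod ≫ pullback.snd f.hom g.hom)) :
    IsPullback
      ((ModPair.Pair.admBlowup.{u}).Q.map
        (ModPair.Pair.Hom.mk (P := ModPair.Pair.mk Y K hK) (Q := T)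
          (π ≫ ModPair.mprodι f.hom g.hom X.mod T.mod ≫ pullback.snd f.hom g.hom) hT))
      ((ModPair.Pair.admBlowup.{u}).Q.map
        (ModPair.Pair.Hom.mk (P := ModPair.Pair.mk Y K hK) (Q := X)
          (π ≫ ModPair.mprodι f.hom g.hom X.mod T.mod ≫ pullback.fst f.hom g.hom) hX))
      ((ModPair.Pair.admBlowup.{u}).Q.map g) ((ModPair.Pair.admBlowup.{u}).Q.map f) := by
  haveI := Groth.Agent.Helper28.AdmCalc.hasRightCalculusOfFractions.{u}
  apply Groth.Agent.Helper28.LocPullback.isPullback_map_of_fractions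
    (ModPair.Pair.admBlowup.{u}).Q ModPair.Pair.admBlowup.{u}
  · apply ModPair.Pair.Hom.ext
    show (π ≫ ModPair.mprodι f.hom g.hom X.mod T.mod ≫ pullback.snd f.hom g.hom) ≫ g.hom =
      (π ≫ ModPair.mprodι f.hom g.hom X.mod T.mod ≫ pullback.fst f.hom g.hom) ≫ f.hom
    simp only [Category.assoc, pullback.condition]
  · intro Z a b hab
    have hab' : a.hom ≫ g.hom = b.hom ≫ f.hom := congrArg ModPair.Pair.Hom.hom hab
    obtain ⟨W', t, c, heff, hadm, hle, h1, h2⟩ :=
      Groth.Agent.Helper28.AmbProd.ambProd_exists_lift T.mod X.mod T.isEffCartier X.isEffCartier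
        f.hom g.hom π K hY Z.mod Z.isEffCartier a.hom b.hom a.cond b.cond hab'
    refine ⟨ModPair.Pair.mk W' (Z.mod.comap t) heff, ModPair.Pair.Hom.mk t le_rfl, hadm,
      ModPair.Pair.Hom.mk c hle, ?_, ?_⟩
    · apply ModPair.Pair.Hom.ext
      exact h1
    · apply ModPair.Pair.Hom.ext
      exact h2
  · intro Z c₁ c₂ e1 e2
    refine ⟨Z, 𝟙 Z, Groth.Agent.Helper28.AdmCalc.admBlowup_id Z, ?_⟩
    rw [Category.id_comp, Category.id_comp]
    apply ModPair.Pair.Hom.ext
    exact Groth.Agent.Helper28.AmbProd.ambProd_lift_unique T.mod X.mod T.isEffCartier X.isEffCartier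
      f.hom g.hom π K hY Z.mod Z.isEffCartier c₁.hom c₂.hom c₁.cond
      (congrArg ModPair.Pair.Hom.hom e1) (congrArg ModPair.Pair.Hom.hom e2)

/-- cospans coming from modulus pairs have pullbacks in the localization -/
lemma hasPullback_Q {P T X : ModPair.Pair.{u}} (f : X ⟶ P) (g : T ⟶ P) :
    HasPullback ((ModPair.Pair.admBlowup.{u}).Q.map g) ((ModPair.Pair.admBlowup.{u}).Q.map f) := by
  obtain ⟨Y, π, K, hY⟩ := exists_isAmbProd T.mod X.mod f.hom g.hom
  obtain ⟨hK, hX, hT, -⟩ := isAmbProd_props T.mod X.mod T.isEffCartier X.isEffCartier f.hom g.hom π K hY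
  exact (isPullback_Q P T X f g π K hY hK hX hT).hasPullback

/-- the terminal modulus pair -/
noncomputable def ptPair : ModPair.Pair.{u} :=
  ModPair.Pair.mk (⊤_ Scheme.{u}) ⊤ (isEffCartierIdeal_top _)

/-- the morphism to the terminal pair -/
noncomputable def toPt (Z : ModPair.Pair.{u}) : Z ⟶ ptPair.{u} :=
  ModPair.Pair.Hom.mk (terminal.from Z.total) (by
    show Z.mod ≤ Scheme.IdealSheafData.comap ⊤ _
    rw [Scheme.IdealSheafData.comap_top]; exact le_top)

lemma toPt_unique {Z : ModPair.Pair.{u}} (h : Z ⟶ ptPair.{u}) : h = toPt Z := by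
  apply ModPair.Pair.Hom.ext
  exact terminal.hom_ext (C := Scheme.{u}) _ _


lemma hom_to_Q_pt_eq (Z₀ : ModPair.Pair.{u})
    (φ : (ModPair.Pair.admBlowup.{u}).Q.obj Z₀ ⟶ (ModPair.Pair.admBlowup.{u}).Q.obj ptPair.{u}) :
    φ = (ModPair.Pair.admBlowup.{u}).Q.map (toPt Z₀) := by
  haveI := Groth.Agent.Helper28.AdmCalc.hasRightCalculusOfFractions.{u}
  obtain ⟨ψ, hψ⟩ := Localization.exists_rightFraction (ModPair.Pair.admBlowup.{u}).Q
    ModPair.Pair.admBlowup.{u} φ
  have h1 : ψ.f = ψ.s ≫ toPt Z₀ := (toPt_unique ψ.f).trans (toPt_unique (ψ.s ≫ toPt Z₀)).symm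
  haveI : IsIso ((ModPair.Pair.admBlowup.{u}).Q.map ψ.s) :=
    Localization.inverts (ModPair.Pair.admBlowup.{u}).Q ModPair.Pair.admBlowup.{u} ψ.s ψ.hs
  rw [hψ, ← cancel_epi ((ModPair.Pair.admBlowup.{u}).Q.map ψ.s),
    MorphismProperty.RightFraction.map_s_comp_map, h1, Functor.map_comp]

/-- the localization of modulus pairs at admissible blow-ups has finite limits -/
theorem hasFiniteLimits_localization : HasFiniteLimits (ModPair.Pair.admBlowup.{u}).Localization := by
  haveI := Groth.Agent.Helper28.AdmCalc.hasRightCalculusOfFractions.{u}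
  haveI hess := Localization.essSurj (ModPair.Pair.admBlowup.{u}).Q ModPair.Pair.admBlowup.{u}
  haveI : HasTerminal (ModPair.Pair.admBlowup.{u}).Localization := by
    haveI : ∀ Z : (ModPair.Pair.admBlowup.{u}).Localization,
        Nonempty (Z ⟶ (ModPair.Pair.admBlowup.{u}).Q.obj ptPair.{u}) := fun Z =>
      ⟨((ModPair.Pair.admBlowup.{u}).Q.objObjPreimageIso Z).inv ≫
        (ModPair.Pair.admBlowup.{u}).Q.map (toPt _)⟩
    haveI : ∀ Z : (ModPair.Pair.admBlowup.{u}).Localization,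
        Subsingleton (Z ⟶ (ModPair.Pair.admBlowup.{u}).Q.obj ptPair.{u}) := fun Z => ⟨fun φ₁ φ₂ => by
      rw [← cancel_epi ((ModPair.Pair.admBlowup.{u}).Q.objObjPreimageIso Z).hom,
        hom_to_Q_pt_eq _ (_ ≫ φ₁), hom_to_Q_pt_eq _ (_ ≫ φ₂)]⟩
    exact hasTerminal_of_unique ((ModPair.Pair.admBlowup.{u}).Q.obj ptPair.{u})
  haveI : HasPullbacks (ModPair.Pair.admBlowup.{u}).Localization := by
    haveI : ∀ {A B C' : (ModPair.Pair.admBlowup.{u}).Localization} {φ : A ⟶ C'} {γ : B ⟶ C'},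
        HasLimit (cospan φ γ) := by
      intro A B C' φ γ
      let eA := (ModPair.Pair.admBlowup.{u}).Q.objObjPreimageIso A
      let eB := (ModPair.Pair.admBlowup.{u}).Q.objObjPreimageIso B
      let eC := (ModPair.Pair.admBlowup.{u}).Q.objObjPreimageIso C'
      obtain ⟨ψ₁, hψ₁⟩ := Localization.exists_rightFraction (ModPair.Pair.admBlowup.{u}).Q
        ModPair.Pair.admBlowup.{u} (eA.hom ≫ φ ≫ eC.inv)
      obtain ⟨ψ₂, hψ₂⟩ := Localization.exists_rightFraction (ModPair.Pair.admBlowup.{u}).Q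
        ModPair.Pair.admBlowup.{u} (eB.hom ≫ γ ≫ eC.inv)
      haveI i1 : IsIso ((ModPair.Pair.admBlowup.{u}).Q.map ψ₁.s) :=
        Localization.inverts (ModPair.Pair.admBlowup.{u}).Q ModPair.Pair.admBlowup.{u} ψ₁.s ψ₁.hs
      haveI i2 : IsIso ((ModPair.Pair.admBlowup.{u}).Q.map ψ₂.s) :=
        Localization.inverts (ModPair.Pair.admBlowup.{u}).Q ModPair.Pair.admBlowup.{u} ψ₂.s ψ₂.hs
      haveI := hasPullback_Q ψ₂.f ψ₁.f
      have w1 : (asIso ((ModPair.Pair.admBlowup.{u}).Q.map ψ₁.s) ≪≫ eA).hom ≫ φ =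
          (ModPair.Pair.admBlowup.{u}).Q.map ψ₁.f ≫ eC.hom := by
        have := MorphismProperty.RightFraction.map_s_comp_map ψ₁ (ModPair.Pair.admBlowup.{u}).Q
          (Localization.inverts (ModPair.Pair.admBlowup.{u}).Q ModPair.Pair.admBlowup.{u})
        rw [← hψ₁] at this
        rw [← this]
        simp
      have w2 : (asIso ((ModPair.Pair.admBlowup.{u}).Q.map ψ₂.s) ≪≫ eB).hom ≫ γ =
          (ModPair.Pair.admBlowup.{u}).Q.map ψ₂.f ≫ eC.hom := by
        have := MorphismProperty.RightFraction.map_s_comp_map ψ₂ (ModPair.Pair.admBlowup.{u}).Q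
          (Localization.inverts (ModPair.Pair.admBlowup.{u}).Q ModPair.Pair.admBlowup.{u})
        rw [← hψ₂] at this
        rw [← this]
        simp
      exact hasLimit_of_iso (cospanExt (asIso ((ModPair.Pair.admBlowup.{u}).Q.map ψ₁.s) ≪≫ eA)
        (asIso ((ModPair.Pair.admBlowup.{u}).Q.map ψ₂.s) ≪≫ eB) eC w1 w2)
    exact hasPullbacks_of_hasLimit_cospan _
  exact hasFiniteLimits_of_hasTerminal_and_pullbacks

end Groth.Agent.Helper28.AmbProd
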