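import Mathlib
import Groth.Agent.Lib.Helper28.BlowSmooth
import Groth.Agent.Lib.Helper28.StrictTr

/-!
# Affine covers of a blow-up of an affine scheme

A blow-up of `Spec A` in an ideal generated by `n` elements is separated and covered by `n`
affine opens.
-/
set_option autoImplicit false
universe u
open AlgebraicGeometry CategoryTheory CategoryTheory.Limits TopologicalSpace

namespace Groth.Agent.Helper28.BlowCover

open Groth.Agent.Helper28 Groth.Agent.Helper28.ReesChart Groth.Agent.Helper28.BlowUpProj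

/-- a blow-up of `Spec A` is a separated scheme -/
theorem isSeparated_of_isBlowUp {A : Type u} [CommRing A] (I : Ideal A) {X : Scheme.{u}}
    (b : X ⟶ Spec (CommRingCat.of A)) (hb : BlowUp.IsBlowUp b (BlowUpProj.𝓘 I)) :
    X.IsSeparated := by
  obtain ⟨φ, -⟩ := StrictTr.exists_iso_of_isBlowUp (BlowUpProj.𝓘 I) (BlowUpProj.b I) b
    (BlowUpProj.isBlowUp_b I) hb
  constructor
  rw [← terminal.comp_from φ.inv]
  infer_instance

/-- in a blow-up of `Spec A` the intersection of two affine opens is affine -/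
theorem isAffineOpen_inf_of_isBlowUp {A : Type u} [CommRing A] (I : Ideal A) {X : Scheme.{u}}
    (b : X ⟶ Spec (CommRingCat.of A)) (hb : BlowUp.IsBlowUp b (BlowUpProj.𝓘 I))
    (V W : X.Opens) (hV : IsAffineOpen V) (hW : IsAffineOpen W) : IsAffineOpen (V ⊓ W) := by
  haveI : X.IsSeparated := isSeparated_of_isBlowUp I b hb
  haveI : IsClosedImmersion (pullback.diagonal (terminal.from X)) :=
    IsSeparated.isClosedImmersion_diagonal
  exact hV.inf hW

/-- a blow-up of `Spec A` in an ideal generated by `n` elements is covered by `n` affine opens -/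
theorem exists_affine_cover {A : Type u} [CommRing A] (I : Ideal A) {n : ℕ} (xs : Fin n → A)
    (hxs : Ideal.span (Set.range xs) = I) {X : Scheme.{u}}
    (b : X ⟶ Spec (CommRingCat.of A)) (hb : BlowUp.IsBlowUp b (BlowUpProj.𝓘 I)) :
    ∃ U : Fin n → X.Opens, (∀ i, IsAffineOpen (U i)) ∧ ⨆ i, U i = ⊤ := by
  obtain ⟨φ, -⟩ := StrictTr.exists_iso_of_isBlowUp (BlowUpProj.𝓘 I) (BlowUpProj.b I) b
    (BlowUpProj.isBlowUp_b I) hb
  have hs : Set.range xs ⊆ (I : Set A) := by
    rintro _ ⟨i, rfl⟩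
    rw [← hxs]
    exact Ideal.subset_span ⟨i, rfl⟩
  have hI : I ≤ Ideal.span (Set.range xs) := hxs.ge
  refine ⟨fun i => (chart I (xs i) (hs ⟨i, rfl⟩) ≫ φ.hom).opensRange, fun i => ?_, ?_⟩
  · exact isAffineOpen_opensRange _
  · rw [eq_top_iff]
    intro x _
    obtain ⟨a, ⟨i, rfl⟩, ha⟩ := BlowSmooth.exists_chart_of_gens I (Set.range xs) hs hI (φ.inv x)
    refine Opens.mem_iSup.mpr ⟨i, ?_⟩
    obtain ⟨y, hy⟩ := ha
    refine ⟨y, ?_⟩
    rw [Scheme.Hom.comp_apply, hy, ← Scheme.Hom.comp_apply, Iso.inv_hom_id]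
    rfl

end Groth.Agent.Helper28.BlowCover
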