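import Mathlib
import Groth.Agent.Lib.Helper28.BlowCM
import Groth.Agent.Lib.Lead.RLR3

/-!
# Charts of the blow-up of a regular ring in a regular sequence with regular quotient are regular
-/
set_option autoImplicit false
universe u
open RingTheory.Sequence IsLocalRing

namespace Groth.Agent.Helper28.BlowRegChart

open Groth.Agent.Helper28 Groth.Agent.Helper28.BlowFlat Groth.Agent.Helper28.BlowQReg
open Groth.Agent.Helper28.BlowCM Groth.Agent.Helper20.RE

variable {A : Type u} [CommRing A]

/-- points of the chart where `a` is invertible: the local ring is a local ring of `A` -/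
theorem exists_equiv_of_not_mem (I : Ideal A) (a : A)
    (q : Ideal ↥(BlowUp.affineAlgebra A I a)) [q.IsPrime]
    (hq : algebraMap A ↥(BlowUp.affineAlgebra A I a) a ∉ q) :
    ∃ (p : Ideal A) (_ : p.IsPrime),
      Nonempty (Localization.AtPrime p ≃+* Localization.AtPrime q) := by
  haveI hloc : IsLocalization.Away (algebraMap A ↥(BlowUp.affineAlgebra A I a) a)
      (Localization.Away a) := isLocalization_away I a
  have hdisj : Disjoint
      (Submonoid.powers (algebraMap A ↥(BlowUp.affineAlgebra A I a) a) :
        Set ↥(BlowUp.affineAlgebra A I a)) (q : Set ↥(BlowUp.affineAlgebra A I a)) := by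
    rw [Set.disjoint_left]
    rintro _ ⟨n, rfl⟩ hmem
    exact hq (Ideal.IsPrime.mem_of_pow_mem inferInstance n hmem)
  obtain ⟨q', hq'def⟩ : ∃ q' : Ideal (Localization.Away a),
      q' = q.map (algebraMap ↥(BlowUp.affineAlgebra A I a) (Localization.Away a)) := ⟨_, rfl⟩
  haveI hq' : q'.IsPrime := by
    rw [hq'def]
    exact IsLocalization.isPrime_of_isPrime_disjoint
      (Submonoid.powers (algebraMap A ↥(BlowUp.affineAlgebra A I a) a)) _ q inferInstance hdisj
  have hcomap : q'.comap (algebraMap ↥(BlowUp.affineAlgebra A I a) (Localization.Away a)) = q := by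
    rw [hq'def]
    exact IsLocalization.under_map_of_isPrime_disjoint
      (Submonoid.powers (algebraMap A ↥(BlowUp.affineAlgebra A I a) a)) _ inferInstance hdisj
  have h1 : IsLocalization.AtPrime (Localization.AtPrime q')
      (q'.comap (algebraMap ↥(BlowUp.affineAlgebra A I a) (Localization.Away a))) :=
    IsLocalization.isLocalization_isLocalization_atPrime_isLocalization
      (Submonoid.powers (algebraMap A ↥(BlowUp.affineAlgebra A I a) a))
      (Localization.AtPrime q') q'
  haveI h2 : IsLocalization.AtPrime (Localization.AtPrime q')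
      (q'.comap (algebraMap A (Localization.Away a))) :=
    IsLocalization.isLocalization_isLocalization_atPrime_isLocalization
      (Submonoid.powers a) (Localization.AtPrime q') q'
  have e : (q'.comap
      (algebraMap ↥(BlowUp.affineAlgebra A I a) (Localization.Away a))).primeCompl =
      q.primeCompl := by
    ext x
    rw [Ideal.mem_primeCompl_iff, Ideal.mem_primeCompl_iff, hcomap]
  haveI h3 : IsLocalization q.primeCompl (Localization.AtPrime q') := by
    rw [← e]
    exact h1
  refine ⟨q'.comap (algebraMap A (Localization.Away a)), inferInstance, ⟨?_⟩⟩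
  exact (IsLocalization.algEquiv (q'.comap (algebraMap A (Localization.Away a))).primeCompl
      (Localization.AtPrime (q'.comap (algebraMap A (Localization.Away a))))
      (Localization.AtPrime q')).toRingEquiv.trans
    (IsLocalization.algEquiv q.primeCompl (Localization.AtPrime q')
      (Localization.AtPrime q)).toRingEquiv

theorem reg_of_not_mem [IsRegularRing A] (I : Ideal A) (a : A)
    (q : Ideal ↥(BlowUp.affineAlgebra A I a)) [q.IsPrime]
    (hq : algebraMap A ↥(BlowUp.affineAlgebra A I a) a ∉ q) :
    IsRegularLocalRing (Localization.AtPrime q) := by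
  obtain ⟨p, hp, ⟨e⟩⟩ := exists_equiv_of_not_mem I a q hq
  haveI := hp
  exact IsRegularLocalRing.of_ringEquiv e

/-- a ring whose quotient by a nonzerodivisor `t` is regular is regular at the primes containing
`t` -/
theorem reg_of_quotient_regularRing {B : Type u} [CommRing B] [IsNoetherianRing B] (t : B)
    (ht : t ∈ nonZeroDivisors B) [IsRegularRing (B ⧸ Ideal.span {t})] (q : Ideal B) [q.IsPrime]
    (htq : t ∈ q) : IsRegularLocalRing (Localization.AtPrime q) := by
  haveI hprime : (q.map (Ideal.Quotient.mk (Ideal.span {t}))).IsPrime :=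
    Ideal.map_isPrime_of_surjective Ideal.Quotient.mk_surjective (by
      rw [Ideal.mk_ker]
      exact (Ideal.span_singleton_le_iff_mem _).mpr htq)
  obtain ⟨e⟩ := nonempty_quotLocEquiv t q htq
  haveI : IsRegularLocalRing (Localization.AtPrime (q.map (Ideal.Quotient.mk
      (Ideal.span {t})))) := inferInstance
  haveI : IsRegularLocalRing (Localization.AtPrime q ⧸ Ideal.span
      {algebraMap B (Localization.AtPrime q) t}) :=
    IsRegularLocalRing.of_ringEquiv e
  have hmem : algebraMap B (Localization.AtPrime q) t ∈
      maximalIdeal (Localization.AtPrime q) :=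
    (IsLocalization.AtPrime.to_map_mem_maximal_iff _ q _).mpr htq
  have hsr := isSMulRegular_algebraMap_localization t ht q
  have hnzd : algebraMap B (Localization.AtPrime q) t ∈
      nonZeroDivisors (Localization.AtPrime q) :=
    isRegular_iff_mem_nonZeroDivisors.mp
      ((Commute.isRegular_iff (fun b => Commute.all _ b)).mpr hsr.isLeftRegular)
  exact Groth.Agent.Lead.RLR.of_quotient_regular _ hmem hnzd

/-- points of the chart on the exceptional divisor -/
theorem reg_of_mem [IsNoetherianRing A] {c : ℕ} (f : Fin c → A) (i₀ : Fin c)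
    (hreg : IsWeaklyRegular A (List.ofFn f)) [IsRegularRing (A ⧸ J f)]
    (q : Ideal (Cc f i₀)) [q.IsPrime] (hq : algebraMap A (Cc f i₀) (f i₀) ∈ q) :
    IsRegularLocalRing (Localization.AtPrime q) := by
  have hquasi : CAlgX.IsQuasiRegular f :=
    Groth.Agent.Helper6.QReg.isQuasiRegular_of_isWeaklyRegular f hreg
  haveI : IsRegularRing (MvPolynomial (σ' i₀) (A ⧸ J f)) := inferInstance
  haveI hCbar : IsRegularRing (Cbar f i₀) :=
    IsRegularRing.of_ringEquiv
      (RingEquiv.ofBijective (Φ f i₀) ⟨Φ_injective f i₀ hquasi, Φ_surjective f i₀⟩)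
  haveI : IsNoetherianRing (Cc f i₀) :=
    isNoetherianRing_of_surjective _ _ (Ev f i₀ : MvPolynomial (Fin c) A →+* Cc f i₀)
      (Ev_surjective f i₀)
  exact reg_of_quotient_regularRing (algebraMap A (Cc f i₀) (f i₀))
    (algebraMap_mem_nonZeroDivisors _ _) q hq

/-- all local rings of a chart of the blow-up of a regular ring in a regular sequence with regular
quotient are regular -/
theorem reg_chart [IsRegularRing A] (I : Ideal A) (rs : List A)
    (hreg : IsWeaklyRegular A rs) (hI : I = Ideal.ofList rs) [IsRegularRing (A ⧸ I)] (a : A)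
    (ha : a ∈ rs) (q : Ideal ↥(BlowUp.affineAlgebra A I a)) [q.IsPrime] :
    IsRegularLocalRing (Localization.AtPrime q) := by
  by_cases hq : algebraMap A ↥(BlowUp.affineAlgebra A I a) a ∈ q
  · obtain ⟨i₀, hi₀⟩ := List.mem_iff_get.1 ha
    have hI' : I = J rs.get := by
      rw [hI, J, Set.range_list_get]
    subst hI'
    subst hi₀
    exact reg_of_mem rs.get i₀ (by rw [List.ofFn_get]; exact hreg) q hq
  · exact reg_of_not_mem I a q hq

end Groth.Agent.Helper28.BlowRegChart
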