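import Mathlib
import Groth.Agent.Lib.Helper28.BlowRegChart
import Groth.Agent.Lib.Helper28.BlowSmooth

/-!
# The blow-up of a regular scheme in a regularly embedded regular subscheme is regular
-/
set_option autoImplicit false
universe u
open AlgebraicGeometry CategoryTheory CategoryTheory.Limits

namespace Groth.Agent.Helper28.BlowRegChart

open Groth.Agent.Helper28 Groth.Agent.Helper28.BlowBC

/-- rings of sections over affine opens of a regular scheme are regular -/
theorem isRegularRing_sections {W : Scheme.{u}} [IsLocallyNoetherian W]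
    (hreg : ∀ w : W, IsRegularLocalRing (W.presheaf.stalk w)) (U : W.Opens)
    (hU : IsAffineOpen U) : IsRegularRing Γ(W, U) := by
  haveI : IsNoetherianRing Γ(W, U) := IsLocallyNoetherian.component_noetherian ⟨U, hU⟩
  rw [isRegularRing_iff]
  intro p hp
  have hy : hU.fromSpec ⟨p, hp⟩ ∈ U := by
    rw [← SetLike.mem_coe, ← hU.range_fromSpec]
    exact ⟨_, rfl⟩
  letI : Algebra Γ(W, U) (W.presheaf.stalk (hU.fromSpec ⟨p, hp⟩)) :=
    TopCat.Presheaf.algebra_section_stalk W.presheaf ⟨_, hy⟩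
  haveI hloc : IsLocalization.AtPrime (W.presheaf.stalk (hU.fromSpec ⟨p, hp⟩)) p :=
    hU.isLocalization_stalk' ⟨p, hp⟩ hy
  haveI := hreg (hU.fromSpec ⟨p, hp⟩)
  exact IsRegularLocalRing.of_ringEquiv
    (IsLocalization.algEquiv p.primeCompl (W.presheaf.stalk (hU.fromSpec ⟨p, hp⟩))
      (Localization.AtPrime p)).toRingEquiv

/-- transport along a chart -/
theorem reg_stalk_of_chart {T : Scheme.{u}} {C : Type u} [CommRing C]
    (j : Spec (CommRingCat.of C) ⟶ T) [IsOpenImmersion j] (q : Spec (CommRingCat.of C))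
    (h : IsRegularLocalRing (Localization.AtPrime q.asIdeal)) :
    IsRegularLocalRing (T.presheaf.stalk (j q)) := by
  have e1 : T.presheaf.stalk (j q) ≃+* (Spec (CommRingCat.of C)).presheaf.stalk q :=
    (asIso (j.stalkMap q)).commRingCatIsoToRingEquiv
  haveI := h
  exact IsRegularLocalRing.of_ringEquiv
    (((StructureSheaf.stalkIso C q).toRingEquiv).trans e1.symm)

theorem main_reg (W T : Scheme.{u}) [IsLocallyNoetherian W]
    (hreg : ∀ w : W, IsRegularLocalRing (W.presheaf.stalk w))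
    (I : W.IdealSheafData)
    (hI : ∀ x : W, x ∈ I.support → ∃ U : W.affineOpens, x ∈ U.1 ∧
      ∃ rs : List Γ(W, U.1), RingTheory.Sequence.IsRegular Γ(W, U.1) rs ∧
        I.ideal U = Ideal.ofList rs ∧ IsRegularRing (Γ(W, U.1) ⧸ I.ideal U))
    (π : T ⟶ W) (hπ : BlowUp.IsBlowUp π I) (t : T) :
    IsRegularLocalRing (T.presheaf.stalk t) := by
  by_cases hw : π t ∈ I.support
  · obtain ⟨U, hwU, rs, hrs, hIU, hquot⟩ := hI (π t) hw
    obtain ⟨a, has, ha, j, hj, ⟨q, hq⟩, hjb⟩ :=
      BlowSmooth.exists_chart_of_isBlowUp_gens I π hπ U {r | r ∈ rs}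
        (by rw [hIU]; exact Ideal.subset_span) hIU.le t hwU
    haveI := hj
    haveI := hquot
    haveI hA : IsRegularRing Γ(W, U.1) := isRegularRing_sections hreg U.1 U.2
    have h1 : IsRegularLocalRing (Localization.AtPrime q.asIdeal) :=
      reg_chart (I.ideal U) rs hrs.toIsWeaklyRegular hIU a has q.asIdeal
    rw [← hq]
    exact reg_stalk_of_chart j q h1
  · obtain ⟨_, ⟨U, hU, rfl⟩, hwU, -⟩ :=
      W.isBasis_affineOpens.exists_subset_of_mem_open (Set.mem_univ (π t)) isOpen_univ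
    obtain ⟨a, ha, j, hj, ⟨q, hq⟩, hjb⟩ :=
      BlowBC.exists_chart_of_isBlowUp I π hπ ⟨U, hU⟩ t hwU
    haveI := hj
    haveI hA : IsRegularRing Γ(W, U) := isRegularRing_sections hreg U hU
    have hnot : algebraMap Γ(W, U) ↥(BlowUp.affineAlgebra Γ(W, U) (I.ideal ⟨U, hU⟩) a) a ∉
        q.asIdeal := by
      intro hmem
      apply hw
      have hpt : π t = hU.fromSpec
          (Spec.map (CommRingCat.ofHom (κ (I.ideal ⟨U, hU⟩) a)) q) := by
        rw [← hq, ← Scheme.Hom.comp_apply, hjb, Scheme.Hom.comp_apply]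
      rw [Scheme.IdealSheafData.mem_support_iff_of_mem (U := ⟨U, hU⟩) hwU,
        Scheme.mem_zeroLocus_iff]
      intro g hg hgb
      have h1 : κ (I.ideal ⟨U, hU⟩) a g ∈ q.asIdeal := by
        have h2 : κ (I.ideal ⟨U, hU⟩) a g ∈ (I.ideal ⟨U, hU⟩).map
            (algebraMap Γ(W, U) ↥(BlowUp.affineAlgebra Γ(W, U) (I.ideal ⟨U, hU⟩) a)) :=
          Ideal.mem_map_of_mem _ hg
        rw [BlowFlat.map_algebraMap_eq _ a ha] at h2
        exact (Ideal.span_singleton_le_iff_mem _).mpr hmem h2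
      rw [hpt] at hgb
      have h3 : Spec.map (CommRingCat.ofHom (κ (I.ideal ⟨U, hU⟩) a)) q ∈
          hU.fromSpec ⁻¹ᵁ W.basicOpen g := hgb
      rw [hU.fromSpec_preimage_basicOpen] at h3
      exact h3 h1
    have h1 : IsRegularLocalRing (Localization.AtPrime q.asIdeal) :=
      reg_of_not_mem (I.ideal ⟨U, hU⟩) a q.asIdeal hnot
    rw [← hq]
    exact reg_stalk_of_chart j q h1

end Groth.Agent.Helper28.BlowRegChart
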