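import Mathlib
import Groth.Agent.Lib.Helper28.BlowRegChart2
import Groth.Agent.Lib.Helper28.EffCartierDense2
import Groth.Agent.Lib.Lead.RLR2
import Groth.Agent.Lib.Lead.Hom10
import Groth.Prelude.Def_CurvBase

/-!
# Blowing up a two-dimensional regular local ring in its maximal ideal
-/
set_option autoImplicit false
universe u
open AlgebraicGeometry CategoryTheory CategoryTheory.Limits TopologicalSpace IsLocalRing

namespace Groth.Agent.Helper28.BlowRegChart

open Groth.Agent.Helper28 Groth.Agent.Helper28.EffCartierDense Groth.Agent.Helper28.EffCartierOld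

/-- a blow-up of an irreducible scheme in a centre which is not everything is irreducible -/
theorem irreducibleSpace_of_isBlowUp {W T : Scheme.{u}} [IrreducibleSpace W]
    (I : W.IdealSheafData) (hne : ∃ w : W, w ∉ I.support) (π : T ⟶ W)
    (hπ : BlowUp.IsBlowUp π I) : IrreducibleSpace T := by
  obtain ⟨w, hw⟩ := hne
  obtain ⟨V, hVdef⟩ : ∃ V : W.Opens, V = I.support.compl := ⟨_, rfl⟩
  haveI : Nonempty V := ⟨⟨w, by rw [hVdef]; exact hw⟩⟩
  haveI hiso : IsIso (π ∣_ V) := by
    rw [hVdef]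
    exact isIso_morphismRestrict_compl I π hπ
  haveI : IrreducibleSpace V := V.ι.isOpenEmbedding.irreducibleSpace
  obtain ⟨k, hkdef⟩ : ∃ k : (V : Scheme.{u}) ⟶ T, k = inv (π ∣_ V) ≫ (π ⁻¹ᵁ V).ι := ⟨_, rfl⟩
  have hirr : IsIrreducible (Set.range k) := by
    rw [← Set.image_univ]
    exact (IrreducibleSpace.isIrreducible_univ _).image k k.continuous.continuousOn
  have hrange : Set.range k = ((π ⁻¹ᵁ V : T.Opens) : Set T) := by
    apply Set.eq_of_subset_of_subset
    · rintro _ ⟨v, rfl⟩
      rw [hkdef, Scheme.Hom.comp_apply]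
      exact ((inv (π ∣_ V)) v).2
    · intro x hx
      refine ⟨(π ∣_ V) ⟨x, hx⟩, ?_⟩
      rw [hkdef, Scheme.Hom.comp_apply]
      have h1 : (inv (π ∣_ V)) ((π ∣_ V) ⟨x, hx⟩) = ⟨x, hx⟩ := by
        rw [← Scheme.Hom.comp_apply, IsIso.hom_inv_id]
        rfl
      rw [h1]
      rfl
  have hE := hπ.1
  obtain ⟨O, hOdef⟩ : ∃ O : T.Opens, O = (I.comap π).support.compl := ⟨_, rfl⟩
  have hOeq : π ⁻¹ᵁ V = O := by
    rw [hVdef, hOdef]
    exact preimage_compl_support π I
  have hker : O.ι.ker = ⊥ := by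
    rw [hOdef]
    exact ker_ι_eq_bot _ (isLocallyBasicNZD_compl_support (I.comap π) hE)
  haveI hqc : QuasiCompact O.ι := by
    rw [hOdef]
    exact quasiCompact_ι_preimage_compl_support (I.comap π) hE (𝟙 T)
  have hcl : closure (Set.range O.ι) = Set.univ := by
    rw [← Scheme.Hom.support_ker, hker, Scheme.IdealSheafData.support_bot]
    rfl
  rw [Scheme.Opens.range_ι, ← hOeq] at hcl
  rw [irreducibleSpace_def]
  have h2 := isIrreducible_iff_closure.mpr hirr
  rw [hrange, hcl] at h2
  exact h2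

theorem regular_dim_two (A : Type u) [CommRing A] [IsRegularLocalRing A]
    (hA : ringKrullDim A = 2) (X : Scheme.{u}) (b : X ⟶ Spec (CommRingCat.of A))
    (hb : BlowUp.IsBlowUp b (Curv2.idealSheaf A (IsLocalRing.maximalIdeal A))) :
    IrreducibleSpace X ∧ ∀ x : X, IsRegularLocalRing (X.presheaf.stalk x) := by
  haveI : IsDomain A := Groth.Agent.Lead.RLR.isDomain A
  have hA' : ringKrullDim A = ((2 : ℕ) : WithBot ℕ∞) := hA
  have hrank : (maximalIdeal A).spanFinrank = 2 :=
    Groth.Agent.Lead.RLR.spanFinrank_maximalIdeal_eq_of_dim hA'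
  have hfg : (maximalIdeal A).FG := IsNoetherian.noetherian _
  obtain ⟨s, hcard, hspan⟩ := Submodule.FG.exists_span_finset_card_eq_spanFinrank hfg
  rw [hrank] at hcard
  obtain ⟨xs, hxsdef⟩ : ∃ xs : Fin 2 → A,
      xs = fun i => ((Finset.equivFinOfCardEq hcard).symm i : A) := ⟨_, rfl⟩
  have hxsrange : Set.range xs = (s : Set A) := by
    apply Set.eq_of_subset_of_subset
    · rintro _ ⟨i, rfl⟩
      rw [hxsdef]
      exact ((Finset.equivFinOfCardEq hcard).symm i).2
    · intro r hr
      refine ⟨Finset.equivFinOfCardEq hcard ⟨r, hr⟩, ?_⟩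
      rw [hxsdef]
      simp
  have hxsspan : Ideal.span (Set.range xs) = maximalIdeal A := by
    rw [hxsrange]
    exact hspan
  have hxsreg : RingTheory.Sequence.IsRegular A (List.ofFn xs) :=
    Groth.Agent.Lead.RLR.isRegular_ofFn hA' xs hxsspan
  have hofList : Ideal.ofList (List.ofFn xs) = maximalIdeal A := by
    rw [← hxsspan, Ideal.ofList]
    congr 1
    ext r
    show r ∈ List.ofFn xs ↔ r ∈ Set.range xs
    simp only [List.mem_ofFn, Set.mem_range]
  obtain ⟨e, hedef⟩ : ∃ e : A ≃+* Γ(Spec (CommRingCat.of A), ⊤),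
      e = (Scheme.ΓSpecIso (CommRingCat.of A)).symm.commRingCatIsoToRingEquiv := ⟨_, rfl⟩
  have hehom : (e : A →+* Γ(Spec (CommRingCat.of A), ⊤)) =
      (Scheme.ΓSpecIso (CommRingCat.of A)).inv.hom := by
    rw [hedef]
    rfl
  have hItop : (Curv2.idealSheaf A (maximalIdeal A)).ideal ⟨⊤, isAffineOpen_top _⟩ =
      (maximalIdeal A).map (e : A →+* Γ(Spec (CommRingCat.of A), ⊤)) := by
    rw [hehom]
    exact BlowSmooth.𝓘_ideal_top (maximalIdeal A)
  have hregW : ∀ w : Spec (CommRingCat.of A),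
      IsRegularLocalRing ((Spec (CommRingCat.of A)).presheaf.stalk w) := fun w => by
    haveI : IsRegularLocalRing (Localization.AtPrime w.asIdeal) :=
      Groth.Agent.Lead.Hom.isRegularLocalRing_localization w.asIdeal
    exact IsRegularLocalRing.of_ringEquiv (StructureSheaf.stalkIso A w).toRingEquiv
  have hI : ∀ x : Spec (CommRingCat.of A), x ∈ (Curv2.idealSheaf A (maximalIdeal A)).support →
      ∃ U : (Spec (CommRingCat.of A)).affineOpens, x ∈ U.1 ∧
      ∃ rs : List Γ(Spec (CommRingCat.of A), U.1),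
        RingTheory.Sequence.IsRegular Γ(Spec (CommRingCat.of A), U.1) rs ∧
        (Curv2.idealSheaf A (maximalIdeal A)).ideal U = Ideal.ofList rs ∧
        IsRegularRing (Γ(Spec (CommRingCat.of A), U.1) ⧸
          (Curv2.idealSheaf A (maximalIdeal A)).ideal U) := by
    intro x _
    refine ⟨⟨⊤, isAffineOpen_top _⟩, trivial, (List.ofFn xs).map e, ?_, ?_, ?_⟩
    · refine (AddEquiv.isRegular_congr (e := e.toAddEquiv) ?_).mp hxsreg
      refine List.forall₂_map_right_iff.mpr (List.forall₂_same.mpr fun a _ x => ?_)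
      show e (a * x) = e a * e x
      exact map_mul e a x
    · rw [hItop, ← hofList, Ideal.map_ofList]
      rfl
    · have h1 : (Curv2.idealSheaf A (maximalIdeal A)).ideal ⟨⊤, isAffineOpen_top _⟩ =
          (maximalIdeal A).map (e : A →+* Γ(Spec (CommRingCat.of A), ⊤)) := hItop
      have hres : IsRegularRing (IsLocalRing.ResidueField A) := inferInstance
      haveI : IsRegularRing (A ⧸ maximalIdeal A) := hres
      exact IsRegularRing.of_ringEquiv (Ideal.quotientEquiv (maximalIdeal A) _ e h1)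
  refine ⟨?_, fun x => main_reg _ X hregW _ hI b hb x⟩
  -- irreducibility
  haveI : IrreducibleSpace (Spec (CommRingCat.of A)) := inferInstance
  apply irreducibleSpace_of_isBlowUp (Curv2.idealSheaf A (maximalIdeal A)) ?_ b hb
  -- the generic point is not in the support
  obtain ⟨a, ham, ha0⟩ : ∃ a ∈ maximalIdeal A, a ≠ 0 := by
    by_contra hcon
    push Not at hcon
    have hbot : maximalIdeal A = ⊥ := by
      rw [eq_bot_iff]
      intro a ha
      rw [Ideal.mem_bot]
      exact hcon a ha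
    have hfield : IsField A := IsLocalRing.isField_iff_maximalIdeal_eq.mpr hbot
    have h0 : ringKrullDim A = 0 := by
      letI := hfield.toField
      exact ringKrullDim_eq_zero_of_field A
    rw [h0] at hA
    norm_num at hA
  refine ⟨⟨⊥, Ideal.isPrime_bot⟩, ?_⟩
  rw [Scheme.IdealSheafData.mem_support_iff_of_mem (U := ⟨⊤, isAffineOpen_top _⟩) trivial,
    Scheme.mem_zeroLocus_iff]
  intro h
  have h1 := h (e a) (by
    rw [SetLike.mem_coe, hItop]
    exact Ideal.mem_map_of_mem _ ham)
  apply h1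
  have h2 : e a = (Scheme.ΓSpecIso (CommRingCat.of A)).inv.hom a := by
    rw [← hehom]
    rfl
  rw [h2]
  have h3 := AlgebraicGeometry.basicOpen_eq_of_affine (R := CommRingCat.of A) a
  rw [h3]
  exact ha0

end Groth.Agent.Helper28.BlowRegChart
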