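import Mathlib
import Groth.Agent.Lib.Helper28.BlowRegChart2
import Groth.Agent.Lib.Helper3.RegImm2
import Groth.Agent.S5033

/-!
# Blowing up a regular scheme along a regular closed subscheme
-/
set_option autoImplicit false
universe u
open AlgebraicGeometry CategoryTheory CategoryTheory.Limits

namespace Groth.Agent.Helper28.BlowRegChart

/-- a closed immersion of regular schemes is locally cut out by a regular sequence, with regular
quotient -/
theorem local_data_of_closedImmersion {X Y : Scheme.{u}} [IsLocallyNoetherian X]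
    (hreg : ∀ x : X, IsRegularLocalRing (X.presheaf.stalk x))
    (i : Y ⟶ X) [IsClosedImmersion i]
    (hregY : ∀ y : Y, IsRegularLocalRing (Y.presheaf.stalk y)) :
    ∀ x : X, x ∈ i.ker.support → ∃ U : X.affineOpens, x ∈ U.1 ∧
      ∃ rs : List Γ(X, U.1), RingTheory.Sequence.IsRegular Γ(X, U.1) rs ∧
        i.ker.ideal U = Ideal.ofList rs ∧ IsRegularRing (Γ(X, U.1) ⧸ i.ker.ideal U) := by
  intro x hx
  have hx' : x ∈ Set.range i := by
    have h1 : x ∈ closure (Set.range i) := by
      rw [← Scheme.Hom.support_ker i]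
      exact hx
    rwa [i.isClosedEmbedding.isClosed_range.closure_eq] at h1
  obtain ⟨y, rfl⟩ := hx'
  haveI := hreg (i y)
  haveI := hregY y
  have hsurj : Function.Surjective (i.stalkMap y).hom := i.stalkMap_surjective y
  haveI : IsRegularLocalRing (X.presheaf.stalk (i y) ⧸ RingHom.ker (i.stalkMap y).hom) :=
    IsRegularLocalRing.of_ringEquiv (RingHom.quotientKerEquivOfSurjective hsurj).symm
  obtain ⟨rs, hrs, hker⟩ := (Groth.Agent.S5033.result (X.presheaf.stalk (i y))
    (RingHom.ker (i.stalkMap y).hom)).mp inferInstance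
  obtain ⟨V, hyV, hV⟩ := Groth.Agent.Helper3.RegImm2.backward i y rs hrs hker.symm
  obtain ⟨Wf, hyW, rs', hrs', hker'⟩ :=
    Groth.Agent.Helper3.RegImm2.exists_of_restrict i V hV y hyV
  refine ⟨Wf, hyW, rs', hrs', hker', ?_⟩
  haveI : IsLocallyNoetherian Y := LocallyOfFiniteType.isLocallyNoetherian i
  haveI : IsRegularRing Γ(Y, i ⁻¹ᵁ Wf.1) :=
    isRegularRing_sections hregY (i ⁻¹ᵁ Wf.1) (Wf.2.preimage i)
  have hsurj' : Function.Surjective (i.app Wf.1).hom := i.app_surjective Wf.1 Wf.2
  have hk : i.ker.ideal Wf = RingHom.ker (i.app Wf.1).hom := Scheme.Hom.ker_apply i Wf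
  exact IsRegularRing.of_ringEquiv
    ((RingHom.quotientKerEquivOfSurjective hsurj').symm.trans (Ideal.quotEquivOfEq hk.symm))

theorem regular_blowUp_of_closedImmersion {X Y Xt : Scheme.{u}} [IsLocallyNoetherian X]
    (hreg : ∀ x : X, IsRegularLocalRing (X.presheaf.stalk x))
    (i : Y ⟶ X) [IsClosedImmersion i]
    (hregY : ∀ y : Y, IsRegularLocalRing (Y.presheaf.stalk y))
    (π : Xt ⟶ X) (hπ : BlowUp.IsBlowUp π i.ker) (z : Xt) :
    IsRegularLocalRing (Xt.presheaf.stalk z) :=
  main_reg X Xt hreg i.ker (local_data_of_closedImmersion hreg i hregY) π hπ z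

end Groth.Agent.Helper28.BlowRegChart
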