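import Mathlib
import Groth.Agent.Lib.Helper28.BlowSmooth
import Groth.Agent.Lib.Helper28.BlowTor1
import Groth.Agent.Lib.Helper28.KosH1
import Groth.Agent.Lib.Helper28.IdealExt
import Groth.Prelude.Def_RegImm

/-!
# Blow-ups in Koszul-regular ideals commute with Tor-independent base change
-/
set_option autoImplicit false
universe u
open AlgebraicGeometry CategoryTheory CategoryTheory.Limits TensorProduct

namespace Groth.Agent.Helper28.BlowTor

open Groth.Agent.Helper28 Groth.Agent.Helper28.BlowBC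

/-- converse transport of a property of `Fin`-indexed families along `List.map` -/
theorem transport_get' {R R' : Type u} (φ : R → R') (rs : List R)
    (P : ∀ c : ℕ, (Fin c → R') → Prop)
    (h : P (rs.map φ).length (rs.map φ).get) : P rs.length (fun i => φ (rs.get i)) := by
  have hlen : (rs.map φ).length = rs.length := List.length_map ..
  have key : ∀ (c : ℕ) (hc : c = rs.length) (f : Fin c → R'),
      (∀ i : Fin c, f i = φ (rs.get (Fin.cast hc i))) → P c f →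
        P rs.length (fun i => φ (rs.get i)) := by
    intro c hc
    subst hc
    intro f hf hP
    have : f = fun i => φ (rs.get i) := funext hf
    rw [← this]; exact hP
  exact key _ hlen _ (fun i => by simp) h

/-- charts of a blow-up on which the exceptional equation stays a nonzerodivisor after the base
change pull back to an effective Cartier divisor -/
theorem isEffCartierIdeal_comap_of_nzd {Y S T YT : Scheme.{u}} (h : Y ⟶ S) (g : T ⟶ S)
    (p : YT ⟶ Y) (q : YT ⟶ T) (sq : IsPullback p q h g) (𝓙 : Y.IdealSheafData)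
    (hloc : ∀ y : Y, ∃ (V : S.affineOpens) (I : Ideal Γ(S, V.1)) (a : Γ(S, V.1))
      (_ : a ∈ I)
      (j : Spec (CommRingCat.of ↥(BlowUp.affineAlgebra Γ(S, V.1) I a)) ⟶ Y),
      IsOpenImmersion j ∧ y ∈ Set.range j ∧
      j ≫ h = Spec.map (CommRingCat.ofHom (κ I a)) ≫ V.2.fromSpec ∧
      𝓙.comap j = (BlowUpProj.𝓘 I).comap (Spec.map (CommRingCat.ofHom (κ I a))) ∧
      ∀ (VT : T.affineOpens) (hle : VT.1 ≤ g ⁻¹ᵁ V.1),
        letI : Algebra Γ(S, V.1) Γ(T, VT.1) := (g.appLE V.1 VT.1 hle).hom.toAlgebra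
        (1 : Γ(T, VT.1)) ⊗ₜ[Γ(S, V.1)] (κ I a a) ∈
          nonZeroDivisors (Γ(T, VT.1) ⊗[Γ(S, V.1)] ↥(BlowUp.affineAlgebra Γ(S, V.1) I a))) :
    BlowUp.IsEffCartierIdeal (𝓙.comap p) := by
  apply BlowUpProj.isEffCartierIdeal_of_local'
  intro z
  obtain ⟨V, I, a, ha, j, hj, ⟨y0, hy0⟩, hjh, h𝓙, hnz⟩ := hloc (p z)
  have hfs : ∀ w, V.2.fromSpec w ∈ V.1 := fun w => by
    have : V.2.fromSpec w ∈ Set.range V.2.fromSpec := ⟨w, rfl⟩
    rwa [V.2.range_fromSpec] at this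
  have htV : g (q z) ∈ V.1 := by
    have e1 : g (q z) = h (p z) := by
      rw [← Scheme.Hom.comp_apply, ← sq.w, Scheme.Hom.comp_apply]
    rw [e1, ← hy0, ← Scheme.Hom.comp_apply, hjh, Scheme.Hom.comp_apply]
    exact hfs _
  obtain ⟨_, ⟨VT, hVT, rfl⟩, hzVT, hVTle⟩ := T.isBasis_affineOpens.exists_subset_of_mem_open
    (show q z ∈ ((g ⁻¹ᵁ V.1 : T.Opens) : Set T) from htV) (g ⁻¹ᵁ V.1).isOpen
  have hVTle' : VT ≤ g ⁻¹ᵁ V.1 := hVTle
  letI : Algebra Γ(S, V.1) Γ(T, VT) := (g.appLE V.1 VT hVTle').hom.toAlgebra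
  have hnzd : (1 : Γ(T, VT)) ⊗ₜ[Γ(S, V.1)] (κ I a a) ∈
      nonZeroDivisors (Γ(T, VT) ⊗[Γ(S, V.1)] ↥(BlowUp.affineAlgebra Γ(S, V.1) I a)) :=
    hnz ⟨VT, hVT⟩ hVTle'
  have e₁ : Spec.map (CommRingCat.ofHom (algebraMap Γ(S, V.1) Γ(T, VT))) ≫ V.2.fromSpec =
      hVT.fromSpec ≫ g := IsAffineOpen.SpecMap_appLE_fromSpec g V.2 hVT hVTle'
  have e₂ : Spec.map (CommRingCat.ofHom
      (algebraMap Γ(S, V.1) ↥(BlowUp.affineAlgebra Γ(S, V.1) I a))) ≫ V.2.fromSpec = j ≫ h :=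
    hjh.symm
  obtain ⟨k₀, hk₀⟩ : ∃ k₀ : pullback (Spec.map (CommRingCat.ofHom (algebraMap Γ(S, V.1) Γ(T, VT))))
      (Spec.map (CommRingCat.ofHom
        (algebraMap Γ(S, V.1) ↥(BlowUp.affineAlgebra Γ(S, V.1) I a)))) ⟶
      pullback g h, k₀ = pullback.map _ _ g h hVT.fromSpec j V.2.fromSpec e₁ e₂ := ⟨_, rfl⟩
  haveI : IsOpenImmersion k₀ := by rw [hk₀]; infer_instance
  have hk₀snd : k₀ ≫ pullback.snd g h = pullback.snd _ _ ≫ j := by
    rw [hk₀]; exact pullback.lift_snd _ _ _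
  have hrange : Set.range k₀ = pullback.fst g h ⁻¹' Set.range hVT.fromSpec ∩
      pullback.snd g h ⁻¹' Set.range j := by
    rw [hk₀]; exact Scheme.Pullback.range_map _ _ _ _ _ _ _ _ _
  refine ⟨Spec (CommRingCat.of
      (Γ(T, VT) ⊗[Γ(S, V.1)] ↥(BlowUp.affineAlgebra Γ(S, V.1) I a))),
    (pullbackSpecIso Γ(S, V.1) Γ(T, VT) ↥(BlowUp.affineAlgebra Γ(S, V.1) I a)).inv ≫ k₀ ≫
      sq.flip.isoPullback.inv, inferInstance, ?_, ?_⟩
  · have hz0 : sq.flip.isoPullback.hom z ∈ Set.range k₀ := by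
      rw [hrange]
      constructor
      · show pullback.fst g h (sq.flip.isoPullback.hom z) ∈ Set.range hVT.fromSpec
        rw [← Scheme.Hom.comp_apply, sq.flip.isoPullback_hom_fst, hVT.range_fromSpec]
        exact hzVT
      · show pullback.snd g h (sq.flip.isoPullback.hom z) ∈ Set.range j
        rw [← Scheme.Hom.comp_apply, sq.flip.isoPullback_hom_snd]
        exact ⟨y0, hy0⟩
    obtain ⟨w, hw⟩ := hz0
    refine ⟨(pullbackSpecIso Γ(S, V.1) Γ(T, VT)
      ↥(BlowUp.affineAlgebra Γ(S, V.1) I a)).hom w, ?_⟩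
    rw [← Scheme.Hom.comp_apply, Iso.hom_inv_id_assoc, Scheme.Hom.comp_apply, hw,
      ← Scheme.Hom.comp_apply, Iso.hom_inv_id]
    rfl
  · rw [← Scheme.IdealSheafData.comap_comp]
    have hcomp : ((pullbackSpecIso Γ(S, V.1) Γ(T, VT)
        ↥(BlowUp.affineAlgebra Γ(S, V.1) I a)).inv ≫ k₀ ≫
        sq.flip.isoPullback.inv) ≫ p =
        Spec.map (CommRingCat.ofHom (RingHomClass.toRingHom
          (Algebra.TensorProduct.includeRight (R := Γ(S, V.1)) (A := Γ(T, VT))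
            (B := ↥(BlowUp.affineAlgebra Γ(S, V.1) I a))))) ≫ j := by
      simp only [Category.assoc]
      rw [sq.flip.isoPullback_inv_snd, hk₀snd, ← Category.assoc, pullbackSpecIso_inv_snd]
    rw [hcomp, Scheme.IdealSheafData.comap_comp, h𝓙, ← Scheme.IdealSheafData.comap_comp,
      ← Spec.map_comp, ← CommRingCat.ofHom_comp]
    refine BlowUpProj.isEffCartierIdeal_comap_SpecMap I _
      ((1 : Γ(T, VT)) ⊗ₜ[Γ(S, V.1)] (κ I a a)) hnzd ?_
    rw [← Ideal.map_map, BlowFlat.map_algebraMap_eq I a ha, Ideal.map_span, Set.image_singleton]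
    rfl

/-- **Blow-ups in Koszul-regular ideals commute with Tor-independent base change.** -/
theorem main {X X' B P : Scheme.{u}} (𝓘 : X.IdealSheafData)
    (h𝓘 : RegImm.IsRegularIdeal .koszul 𝓘) (g : X' ⟶ X)
    (hg : ∀ (U : X.affineOpens) (rs : List Γ(X, U.1)), LCI.IsKoszulRegularSeq Γ(X, U.1) rs →
      𝓘.ideal U = Ideal.ofList rs → ∀ (V : X'.affineOpens) (e : V.1 ≤ g ⁻¹ᵁ U.1),
        LCI.IsKoszulRegularSeq Γ(X', V.1) (rs.map fun r => (g.appLE U.1 V.1 e).hom r))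
    (b : B ⟶ X) (hb : BlowUp.IsBlowUp b 𝓘) (p : P ⟶ B) (q : P ⟶ X')
    (sq : IsPullback p q b g) :
    BlowUp.IsBlowUp q (𝓘.comap g) := by
  constructor
  · rw [← Scheme.IdealSheafData.comap_comp, ← sq.w, Scheme.IdealSheafData.comap_comp]
    refine isEffCartierIdeal_comap_of_nzd b g p q sq (𝓘.comap b) ?_
    intro y
    by_cases hy : b y ∈ 𝓘.support
    · obtain ⟨U, hyU, rs, hrs, hI⟩ := h𝓘 (b y) hy
      have hrs' : LCI.IsKoszulRegularSeq Γ(X, U.1) rs := hrs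
      obtain ⟨a, has, ha, j, hj, hyj, hjb⟩ := BlowSmooth.exists_chart_of_isBlowUp_gens 𝓘 b hb U
        {r | r ∈ rs} (by rw [hI]; exact Ideal.subset_span) hI.le y hyU
      refine ⟨U, 𝓘.ideal U, a, ha, j, hj, hyj, hjb, ?_, ?_⟩
      · rw [← Scheme.IdealSheafData.comap_comp, hjb, Scheme.IdealSheafData.comap_comp,
          AffLocalBlowUp.comap_fromSpec 𝓘 U]
      · intro VT hle
        letI : Algebra Γ(X, U.1) Γ(X', VT.1) := (g.appLE U.1 VT.1 hle).hom.toAlgebra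
        refine tmul_mem_nonZeroDivisors_of_list rs (𝓘.ideal U) hI a has
          (KosH1.h1_of_koszul rs hrs') Γ(X', VT.1) ?_
        exact transport_get' (fun r => (g.appLE U.1 VT.1 hle).hom r) rs
          (fun c f => CAlgX.IsH1Regular f)
          (KosH1.h1_of_koszul _ (hg U rs hrs' hI VT hle))
    · obtain ⟨_, ⟨U, hU, rfl⟩, hyU, hUle⟩ := X.isBasis_affineOpens.exists_subset_of_mem_open
        (show b y ∈ ((𝓘.support : Set X)ᶜ) from hy) 𝓘.support.isClosed.isOpen_compl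
      have hI : 𝓘.ideal ⟨U, hU⟩ = ⊤ := by
        apply IdealExt.ideal_eq_top_of_disjoint
        rw [Set.disjoint_left]
        intro x hx hxU
        exact hUle hxU hx
      obtain ⟨a, has, ha, j, hj, hyj, hjb⟩ := BlowSmooth.exists_chart_of_isBlowUp_gens 𝓘 b hb
        ⟨U, hU⟩ {1} (by rw [hI]; exact fun _ _ => trivial)
        (by rw [Ideal.span_singleton_one]; exact le_top) y hyU
      refine ⟨⟨U, hU⟩, 𝓘.ideal ⟨U, hU⟩, a, ha, j, hj, hyj, hjb, ?_, ?_⟩
      · rw [← Scheme.IdealSheafData.comap_comp, hjb, Scheme.IdealSheafData.comap_comp,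
          AffLocalBlowUp.comap_fromSpec 𝓘 ⟨U, hU⟩]
      · intro VT hle
        have ha1 : a = 1 := has
        subst ha1
        letI : Algebra Γ(X, U) Γ(X', VT.1) := (g.appLE U VT.1 hle).hom.toAlgebra
        have e : (1 : Γ(X', VT.1)) ⊗ₜ[Γ(X, U)] (κ (𝓘.ideal ⟨U, hU⟩) 1 1) = 1 := by
          rw [map_one]; rfl
        rw [e]
        exact one_mem _
  · intro Y' g' hg'
    rw [← Scheme.IdealSheafData.comap_comp] at hg'
    obtain ⟨h0, hh, hu⟩ := hb.2 Y' (g' ≫ g) hg'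
    refine ⟨sq.lift h0 g' hh, sq.lift_snd _ _ _, ?_⟩
    intro h' hh'
    apply sq.hom_ext
    · rw [sq.lift_fst]
      apply hu
      show (h' ≫ p) ≫ b = g' ≫ g
      rw [Category.assoc, sq.w, ← Category.assoc, hh']
    · rw [sq.lift_snd]
      exact hh'

end Groth.Agent.Helper28.BlowTor
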