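import Mathlib
import Groth.Agent.Lib.Helper13.CechAcyc
import Groth.Agent.Lib.Helper17.FCH1

/-!
# Čech `H¹` of a covering by two opens

If the difference map `P(V₀) × P(V₁) → P(V₀ ∩ V₁)` is surjective then the first Čech cohomology
group of the covering `{V₀, V₁}` vanishes.
-/

universe u
set_option autoImplicit false
open CategoryTheory CategoryTheory.Limits Opposite TopologicalSpace

namespace Groth.Agent.Helper28.CechTwo

open Groth.Agent.Helper24.CechEv Groth.Agent.Helper13.CechAcyc Groth.Agent.Helper17.FCH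

theorem subsingleton_homology_one (K : CochainComplex AddCommGrpCat.{u} ℕ)
    (h : ∀ s : K.X 1, (K.d 1 2).hom s = 0 → ∃ y : K.X 0, (K.d 0 1).hom y = s) :
    Subsingleton (K.homology 1) := by
  refine subsingleton_of_forall_eq 0 fun a => ?_
  obtain ⟨z, rfl⟩ := homologyπ_surjective K 1 a
  have hz : (K.d 1 2).hom ((K.iCycles 1).hom z) = 0 := iCycles_d_apply K 1 2 z
  obtain ⟨y, hy⟩ := h _ hz
  rw [homologyπ_eq_zero_iff K 0 1 (CochainComplex.prev_nat_succ 0)]
  refine ⟨y, iCycles_injective K 1 ?_⟩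
  rw [iCycles_toCycles]
  exact hy

variable {X : TopCat.{u}} {ι : Type u} (V : ι → Opens X) (P : (Opens X)ᵒᵖ ⥤ AddCommGrpCat.{u})

lemma pair_le {T : Opens X} {i j : ι} (hi : T ≤ V i) (hj : T ≤ V j) :
    ∀ k : Fin 2, T ≤ V (![i, j] k) :=
  Fin.forall_fin_two.2 ⟨hi, hj⟩

lemma triple_le {T : Opens X} {i j k : ι} (hi : T ≤ V i) (hj : T ≤ V j) (hk : T ≤ V k) :
    ∀ l : Fin 3, T ≤ V (![i, j, k] l) := by
  intro l
  fin_cases l
  · exact hi
  · exact hj
  · exact hk

lemma cocycle_rel (s : (cech V P).X 1) (hs : ((cech V P).d 1 2).hom s = 0) {T : Opens X}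
    {i j k : ι} (hi : T ≤ V i) (hj : T ≤ V j) (hk : T ≤ V k) :
    evT V P T ![j, k] (pair_le V hj hk) s - evT V P T ![i, k] (pair_le V hi hk) s
      + evT V P T ![i, j] (pair_le V hi hj) s = 0 := by
  have h := evT_d V P T ![i, j, k] (triple_le V hi hj hk) s
  rw [hs, map_zero] at h
  have e0 : (![i, j, k] ∘ (SimplexCategory.δ (0 : Fin 3)).toOrderHom) = ![j, k] := by
    funext x; fin_cases x <;> rfl
  have e1 : (![i, j, k] ∘ (SimplexCategory.δ (1 : Fin 3)).toOrderHom) = ![i, k] := by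
    funext x; fin_cases x <;> rfl
  have e2 : (![i, j, k] ∘ (SimplexCategory.δ (2 : Fin 3)).toOrderHom) = ![i, j] := by
    funext x; fin_cases x <;> rfl
  rw [Fin.sum_univ_three] at h
  rw [evT_congr V P T e0 _ (pair_le V hj hk), evT_congr V P T e1 _ (pair_le V hi hk),
    evT_congr V P T e2 _ (pair_le V hi hj)] at h
  simp only [Fin.val_zero, pow_zero, one_smul, Fin.val_one, pow_one, neg_smul, Fin.val_two,
    even_two, Even.neg_pow, one_pow] at h
  rw [h, sub_eq_add_neg]


lemma const_zero (s : (cech V P).X 1) (hs : ((cech V P).d 1 2).hom s = 0) {T : Opens X}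
    {i : ι} (hi : T ≤ V i) : evT V P T ![i, i] (pair_le V hi hi) s = 0 := by
  have h := cocycle_rel V P s hs hi hi hi
  rw [sub_self, zero_add] at h
  exact h

lemma antisymm (s : (cech V P).X 1) (hs : ((cech V P).d 1 2).hom s = 0) {T : Opens X}
    {i j : ι} (hi : T ≤ V i) (hj : T ≤ V j) :
    evT V P T ![j, i] (pair_le V hj hi) s = - evT V P T ![i, j] (pair_le V hi hj) s := by
  have h := cocycle_rel V P s hs hi hj hi
  rw [const_zero V P s hs hi, sub_zero] at h
  exact eq_neg_of_add_eq_zero_left h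

lemma fun_eq_pair (b : Fin 2 → ι) : b = ![b 0, b 1] := by
  funext k
  fin_cases k <;> rfl

/-- a cocycle of a covering by two opens which vanishes on the pair `(i₀, i₁)` is zero -/
theorem eq_zero_of_pair (i₀ i₁ : ι) (hι : ∀ i, i = i₀ ∨ i = i₁)
    (s : (cech V P).X 1) (hs : ((cech V P).d 1 2).hom s = 0)
    (h0 : evT V P (V i₀ ⊓ V i₁) ![i₀, i₁] (pair_le V inf_le_left inf_le_right) s = 0) : s = 0 := by
  have Z : ∀ (i j : ι) (T : Opens X) (hi : T ≤ V i) (hj : T ≤ V j),
      evT V P T ![i, j] (pair_le V hi hj) s = 0 := by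
    have h01 : ∀ (T : Opens X) (hi : T ≤ V i₀) (hj : T ≤ V i₁),
        evT V P T ![i₀, i₁] (pair_le V hi hj) s = 0 := by
      intro T hi hj
      have h := evT_res V P (le_inf hi hj) ![i₀, i₁] (pair_le V inf_le_left inf_le_right) s
      rw [h0, map_zero] at h
      exact h.symm
    intro i j T hi hj
    rcases hι i with rfl | rfl <;> rcases hι j with rfl | rfl
    · exact const_zero V P s hs hi
    · exact h01 T hi hj
    · rw [antisymm V P s hs hj hi, h01 T hj hi, neg_zero]
    · exact const_zero V P s hs hi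
  apply ext_cochain V P
  intro b
  rw [map_zero]
  rw [evT_congr V P (Va V b) (fun_eq_pair b) (Va_le V b) (pair_le V (Va_le V b 0) (Va_le V b 1))]
  exact Z (b 0) (b 1) (Va V b) (Va_le V b 0) (Va_le V b 1)

/-- the value on `(i₀, i₁)` of the coboundary of a `0`-cochain -/
lemma evT_d_zero (y : (cech V P).X 0) {T : Opens X} {i j : ι} (hi : T ≤ V i) (hj : T ≤ V j) :
    evT V P T ![i, j] (pair_le V hi hj) (((cech V P).d 0 1).hom y) =
      evT V P T (fun _ : Fin 1 => j) (fun _ => hj) y - evT V P T (fun _ : Fin 1 => i) (fun _ => hi) y := by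
  rw [evT_d]
  have e0 : (![i, j] ∘ (SimplexCategory.δ (0 : Fin 2)).toOrderHom) = fun _ : Fin 1 => j := by
    funext x; fin_cases x; rfl
  have e1 : (![i, j] ∘ (SimplexCategory.δ (1 : Fin 2)).toOrderHom) = fun _ : Fin 1 => i := by
    funext x; fin_cases x; rfl
  rw [Fin.sum_univ_two]
  rw [evT_congr V P T e0 _ (fun _ => hj), evT_congr V P T e1 _ (fun _ => hi)]
  simp only [Fin.val_zero, pow_zero, one_smul, Fin.val_one, pow_one, neg_smul]
  rw [sub_eq_add_neg]

/-- **Čech `H¹` of a two-element covering**: if every section over the intersection is a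
difference of sections over the two opens, every `1`-cocycle is a coboundary. -/
theorem exists_primitive (i₀ i₁ : ι) (hne : i₁ ≠ i₀) (hι : ∀ i, i = i₀ ∨ i = i₁)
    (hsurj : ∀ m : P.obj (op (V i₀ ⊓ V i₁)), ∃ (t₀ : P.obj (op (V i₀))) (t₁ : P.obj (op (V i₁))),
      m = rs P inf_le_right t₁ - rs P inf_le_left t₀)
    (s : (cech V P).X 1) (hs : ((cech V P).d 1 2).hom s = 0) :
    ∃ y : (cech V P).X 0, ((cech V P).d 0 1).hom y = s := by
  classical
  obtain ⟨t₀, t₁, ht⟩ := hsurj (evT V P (V i₀ ⊓ V i₁) ![i₀, i₁]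
    (pair_le V inf_le_left inf_le_right) s)
  obtain ⟨y, hy⟩ := exists_cochain V P (n := 0) (fun a =>
    if h : a 0 = i₀ then rs P ((Va_le V a 0).trans (le_of_eq (congrArg V h))) t₀
    else rs P ((Va_le V a 0).trans (le_of_eq (congrArg V ((hι (a 0)).resolve_left h)))) t₁)
  refine ⟨y, ?_⟩
  have key : s - ((cech V P).d 0 1).hom y = 0 := by
    apply eq_zero_of_pair V P i₀ i₁ hι
    · rw [map_sub, hs, zero_sub, neg_eq_zero]
      exact congrArg (fun f => f.hom y) ((cech V P).d_comp_d 0 1 2)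
    · rw [map_sub, evT_d_zero V P y (inf_le_left : V i₀ ⊓ V i₁ ≤ V i₀)
        (inf_le_right : V i₀ ⊓ V i₁ ≤ V i₁), ht]
      have h1 : evT V P (V i₀ ⊓ V i₁) (fun _ : Fin 1 => i₁) (fun _ => inf_le_right) y =
          rs P inf_le_right t₁ := by
        rw [evT_eq_rs, show evA V P (fun _ : Fin 1 => i₁) y = _ from hy _, dif_neg hne, rs_rs]
      have h2 : evT V P (V i₀ ⊓ V i₁) (fun _ : Fin 1 => i₀) (fun _ => inf_le_left) y =
          rs P inf_le_left t₀ := by
        rw [evT_eq_rs, show evA V P (fun _ : Fin 1 => i₀) y = _ from hy _, dif_pos rfl, rs_rs]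
      rw [h1, h2, sub_self]
  exact (sub_eq_zero.1 key).symm

theorem subsingleton_cechH_one (i₀ i₁ : ι) (hne : i₁ ≠ i₀) (hι : ∀ i, i = i₀ ∨ i = i₁)
    (hsurj : ∀ m : P.obj (op (V i₀ ⊓ V i₁)), ∃ (t₀ : P.obj (op (V i₀))) (t₁ : P.obj (op (V i₁))),
      m = rs P inf_le_right t₁ - rs P inf_le_left t₀) :
    Subsingleton ((cech V P).homology 1) :=
  subsingleton_homology_one _ (exists_primitive V P i₀ i₁ hne hι hsurj)

end Groth.Agent.Helper28.CechTwo
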