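import Mathlib
import Groth.Agent.Lib.Helper13.GlobGen
import Groth.Agent.Lib.Helper13.Qcqs
import Groth.Agent.Lib.Helper13.QCohStalk
import Groth.Agent.Lib.Helper28.CechTwo
import Groth.Agent.S0013

/-!
# Globally generated quasi-coherent modules on a scheme covered by two affine opens

* `gsSpan_eq_top`: over an affine open the sections of a globally generated quasi-coherent module
  are spanned by the restrictions of the global sections.
* `subsingleton_HH_one`: if `X = U₀ ∪ U₁` with `U₀ ∩ U₁` a basic open of `U₀` and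
  `O(U₀ ∩ U₁) = O(U₀) + O(U₁)`, then `H¹(X, F) = 0` for every globally generated quasi-coherent `F`.
-/

universe u
set_option autoImplicit false
open AlgebraicGeometry CategoryTheory CategoryTheory.Limits Opposite TopologicalSpace

namespace Groth.Agent.Helper28.GGSpan

open Groth.Agent.Helper13.Qcqs Groth.Agent.Helper13.QCoh Groth.Agent.Helper13.GlobGen

variable {X : Scheme.{u}} (F : X.Modules)

/-- the submodule of `Γ(F, U)` spanned by the restrictions of the global sections -/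
noncomputable def gsSpan (U : X.Opens) : Submodule Γ(X, U) Γ(F, U) :=
  Submodule.span Γ(X, U) (Set.range fun s : Γ(F, ⊤) => res F (le_top : U ≤ ⊤) s)

lemma exists_smul_mem [F.IsQuasicoherent] {U : X.Opens} (hU : IsAffineOpen U) (y : X)
    (hy : y ∈ U) (hgg : GGAt F y) (m : Γ(F, U)) :
    ∃ a : Γ(X, U), y ∈ X.basicOpen a ∧ a • m ∈ gsSpan F U := by
  have key : ∀ z : F.presheaf.stalk y,
      z ∈ Submodule.span (X.presheaf.stalk y)
        (Set.range fun t : Γ(F, ⊤) => F.presheaf.germ ⊤ y trivial t) →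
      ∃ h : Γ(X, U), y ∈ X.basicOpen h ∧ ∃ n ∈ gsSpan F U,
        F.presheaf.germ U y hy n = X.presheaf.germ U y hy h • z := by
    intro z hz
    induction hz using Submodule.span_induction with
    | mem z hz =>
      obtain ⟨t, rfl⟩ := hz
      refine ⟨1, ?_, res F le_top t, Submodule.subset_span ⟨t, rfl⟩, ?_⟩
      · rw [X.mem_basicOpen _ y hy, map_one]
        exact isUnit_one
      · rw [map_one, one_smul, res_def]
        exact TopCat.Presheaf.germ_res_apply F.presheaf (homOfLE le_top) y hy t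
    | zero =>
      refine ⟨1, ?_, 0, zero_mem _, by rw [map_zero, smul_zero]⟩
      rw [X.mem_basicOpen _ y hy, map_one]
      exact isUnit_one
    | add z₁ z₂ _ _ h₁ h₂ =>
      obtain ⟨a₁, ha₁, n₁, hn₁, e₁⟩ := h₁
      obtain ⟨a₂, ha₂, n₂, hn₂, e₂⟩ := h₂
      refine ⟨a₁ * a₂, ?_, a₂ • n₁ + a₁ • n₂,
        add_mem (Submodule.smul_mem _ _ hn₁) (Submodule.smul_mem _ _ hn₂), ?_⟩
      · rw [Scheme.basicOpen_mul]
        exact ⟨ha₁, ha₂⟩
      · rw [map_add, germ_smul, germ_smul, e₁, e₂, map_mul, smul_add, smul_smul, smul_smul,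
          mul_comm]
    | smul ρ z _ h =>
      obtain ⟨a, ha, n, hn, e⟩ := h
      obtain ⟨g, hg, b, hb⟩ : ∃ g : Γ(X, U), y ∈ X.basicOpen g ∧ ∃ b : Γ(X, U),
          ρ * X.presheaf.germ U y hy g = X.presheaf.germ U y hy b := by
        letI := X.presheaf.algebra_section_stalk ⟨y, hy⟩
        haveI := hU.isLocalization_stalk ⟨y, hy⟩
        obtain ⟨⟨b, g⟩, hbg⟩ := IsLocalization.surj
          (hU.primeIdealOf ⟨y, hy⟩).asIdeal.primeCompl ρ
        refine ⟨g.1, ?_, b, hbg⟩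
        rw [X.mem_basicOpen _ y hy]
        exact IsLocalization.map_units (X.presheaf.stalk y) g
      refine ⟨g * a, ?_, b • n, Submodule.smul_mem _ _ hn, ?_⟩
      · rw [Scheme.basicOpen_mul]
        exact ⟨hg, ha⟩
      · rw [germ_smul, e, map_mul, smul_smul, smul_smul, ← hb]
        congr 1
        ring
  have hm : F.presheaf.germ U y hy m ∈ Submodule.span (X.presheaf.stalk y)
      (Set.range fun t : Γ(F, ⊤) => F.presheaf.germ ⊤ y trivial t) := by
    unfold GGAt at hgg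
    rw [hgg]
    trivial
  obtain ⟨h, hh, n, hn, e⟩ := key _ hm
  rw [← germ_smul] at e
  have e' : F.presheaf.germ U y hy (h • m - n) = 0 := by
    rw [map_sub, e, sub_self]
  obtain ⟨g, hg, hg0⟩ := exists_smul_eq_zero_of_germ_eq_zero F hU y hy _ e'
  refine ⟨g * h, ?_, ?_⟩
  · rw [Scheme.basicOpen_mul]
    exact ⟨hg, hh⟩
  · rw [smul_sub, sub_eq_zero] at hg0
    rw [mul_smul, hg0]
    exact Submodule.smul_mem _ _ hn

theorem gsSpan_eq_top [F.IsQuasicoherent] (hgg : ∀ y, GGAt F y) {U : X.Opens}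
    (hU : IsAffineOpen U) : gsSpan F U = ⊤ := by
  rw [eq_top_iff]
  intro m _
  let ℓ : Γ(X, U) →ₗ[Γ(X, U)] Γ(F, U) := LinearMap.toSpanSingleton Γ(X, U) Γ(F, U) m
  let J : Ideal Γ(X, U) := (gsSpan F U).comap ℓ
  have hJ : J = ⊤ := by
    choose a ha1 ha2 using fun y : U => exists_smul_mem F hU y.1 y.2 (hgg y.1) m
    have hs : Ideal.span (Set.range a) = ⊤ := by
      rw [← IsAffineOpen.self_le_iSup_basicOpen_iff hU]
      intro y hy
      exact Opens.mem_iSup.2 ⟨⟨a ⟨y, hy⟩, ⟨_, rfl⟩⟩, ha1 ⟨y, hy⟩⟩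
    rw [eq_top_iff, ← hs, Ideal.span_le]
    rintro _ ⟨y, rfl⟩
    exact ha2 y
  have h1 : (1 : Γ(X, U)) ∈ J := by
    rw [hJ]
    trivial
  have h2 : ℓ 1 ∈ gsSpan F U := h1
  simpa [ℓ] using h2

theorem exists_add_of_gg [F.IsQuasicoherent] (hgg : ∀ y, GGAt F y) {U₀ U₁ W : X.Opens}
    (h₀ : IsAffineOpen U₀) (hW₀ : W ≤ U₀) (hW₁ : W ≤ U₁) (f₀ : Γ(X, U₀))
    (hW : W = X.basicOpen f₀)
    (hB : ∀ c : Γ(X, W), ∃ (c₀ : Γ(X, U₀)) (c₁ : Γ(X, U₁)), c = resO hW₀ c₀ + resO hW₁ c₁)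
    (m : Γ(F, W)) : ∃ (t₀ : Γ(F, U₀)) (t₁ : Γ(F, U₁)), m = res F hW₀ t₀ + res F hW₁ t₁ := by
  obtain ⟨n, t, ht⟩ := exists_pow_smul_eq_res_of_qcqs F h₀.isCompact h₀.isQuasiSeparated f₀ W hW
    hW₀ m
  have hu : IsUnit (resO hW₀ f₀) := by
    subst hW
    exact RingedSpace.isUnit_res_basicOpen _ f₀
  have Q : ∀ t' ∈ gsSpan F U₀, ∀ c : Γ(X, W), ∃ (t₀ : Γ(F, U₀)) (t₁ : Γ(F, U₁)),
      c • res F hW₀ t' = res F hW₀ t₀ + res F hW₁ t₁ := by
    intro t' ht'
    induction ht' using Submodule.span_induction with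
    | mem t' h =>
      obtain ⟨s, rfl⟩ := h
      intro c
      obtain ⟨c₀, c₁, rfl⟩ := hB c
      refine ⟨c₀ • res F le_top s, c₁ • res F le_top s, ?_⟩
      rw [res_smul, res_smul, res_res, res_res, add_smul]
    | zero =>
      intro c
      exact ⟨0, 0, by simp⟩
    | add a b _ _ ha hb =>
      intro c
      obtain ⟨a₀, a₁, ea⟩ := ha c
      obtain ⟨b₀, b₁, eb⟩ := hb c
      refine ⟨a₀ + b₀, a₁ + b₁, ?_⟩
      rw [map_add, smul_add, ea, eb, map_add, map_add]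
      abel
    | smul r a _ ha =>
      intro c
      obtain ⟨a₀, a₁, ea⟩ := ha (c * resO hW₀ r)
      refine ⟨a₀, a₁, ?_⟩
      rw [res_smul, smul_smul]
      exact ea
  obtain ⟨v, hv⟩ := hu.pow n
  have ht' : t ∈ gsSpan F U₀ := by
    rw [gsSpan_eq_top F hgg h₀]
    trivial
  obtain ⟨t₀, t₁, e⟩ := Q t ht' (↑v⁻¹ : Γ(X, W))
  refine ⟨t₀, t₁, ?_⟩
  rw [← e, ht, ← hv, smul_smul, Units.inv_mul, one_smul]

open Groth.Agent.Helper24.CechEv Groth.Agent.Helper17.FCH in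
/-- `H¹` of a globally generated quasi-coherent module on a scheme covered by two affine opens
with `O(U₀ ∩ U₁) = O(U₀) + O(U₁)` vanishes. -/
theorem subsingleton_HH_one (U₀ U₁ : X.Opens) (h₀ : IsAffineOpen U₀) (h₁ : IsAffineOpen U₁)
    (hcov : U₀ ⊔ U₁ = ⊤)
    (hd : ∀ V W : X.Opens, IsAffineOpen V → IsAffineOpen W → IsAffineOpen (V ⊓ W))
    (f₀ : Γ(X, U₀)) (hW : U₀ ⊓ U₁ = X.basicOpen f₀)
    (hB : ∀ c : Γ(X, U₀ ⊓ U₁), ∃ (c₀ : Γ(X, U₀)) (c₁ : Γ(X, U₁)),
      c = resO inf_le_left c₀ + resO inf_le_right c₁)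
    [F.IsQuasicoherent] (hgg : Curv2.IsGloballyGenerated F) : Subsingleton (Coh.HH X F 1) := by
  classical
  rw [isGloballyGenerated_iff] at hgg
  let U : ULift.{u} (Fin 2) → X.Opens := fun i => ![U₀, U₁] i.down
  have hUaff : ∀ i, IsAffineOpen (U i) := by
    rintro ⟨i⟩
    fin_cases i
    · exact h₀
    · exact h₁
  have hcov' : ⨆ i, U i = ⊤ := by
    apply le_antisymm le_top
    rw [← hcov]
    exact sup_le (le_iSup U ⟨0⟩) (le_iSup U ⟨1⟩)
  have hU' : ∀ s : Finset (ULift.{u} (Fin 2)), s.Nonempty → IsAffineOpen (⨅ i ∈ s, U i) := by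
    intro s hs
    induction hs using Finset.Nonempty.cons_induction with
    | singleton a =>
      have : (⨅ i ∈ ({a} : Finset (ULift.{u} (Fin 2))), U i) = U a := by simp
      rw [this]
      exact hUaff a
    | cons a s ha hs ih =>
      have : (⨅ i ∈ Finset.cons a s ha, U i) = U a ⊓ ⨅ i ∈ s, U i := by
        rw [Finset.cons_eq_insert, Finset.iInf_insert]
      rw [this]
      exact hd _ _ (hUaff a) ih
  haveI : Coh.IsQCoh F := ‹F.IsQuasicoherent›
  obtain ⟨e⟩ := Groth.Agent.S0013.result X U hcov' hU' F 1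
  have hsub : Subsingleton ((cech U F.presheaf).homology 1) := by
    apply Groth.Agent.Helper28.CechTwo.subsingleton_cechH_one U F.presheaf ⟨0⟩ ⟨1⟩
    · intro h
      have := congrArg ULift.down h
      exact absurd this (by decide)
    · rintro ⟨i⟩
      fin_cases i
      · exact Or.inl rfl
      · exact Or.inr rfl
    · intro m
      obtain ⟨t₀, t₁, ht⟩ := exists_add_of_gg F hgg (U₀ := U₀) (U₁ := U₁) (W := U₀ ⊓ U₁) h₀
        inf_le_left inf_le_right f₀ hW hB m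
      refine ⟨-t₀, t₁, ?_⟩
      rw [ht]
      change (res F (inf_le_left : U₀ ⊓ U₁ ≤ U₀) t₀ + res F (inf_le_right : U₀ ⊓ U₁ ≤ U₁) t₁ :
        Γ(F, U₀ ⊓ U₁)) = res F (inf_le_right : U₀ ⊓ U₁ ≤ U₁) t₁ -
          res F (inf_le_left : U₀ ⊓ U₁ ≤ U₀) (-t₀)
      rw [map_neg, sub_neg_eq_add, add_comm]
  haveI : Subsingleton ↑(CohB1.cechH U F 1) := hsub
  exact e.symm.toEquiv.subsingleton

end Groth.Agent.Helper28.GGSpan
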