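import Mathlib
import Groth.Agent.Lib.Helper28.GGSpan
import Groth.Agent.Lib.Helper28.BlowCover
import Groth.Agent.Lib.Helper6.ProjFrac

/-!
# Blow-ups in an ideal generated by two elements

For a blow-up `X → Spec A` in an ideal `I = (x, y)`, `H¹(X, F) = 0` for every globally generated
quasi-coherent `F`.
-/

universe u
set_option autoImplicit false
open AlgebraicGeometry CategoryTheory CategoryTheory.Limits Opposite TopologicalSpace
open Polynomial HomogeneousLocalization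

namespace Groth.Agent.Helper28.BlowTwoGen

open Groth.Agent.Helper28.ReesChart Groth.Agent.Helper28.BlowUpProj
open Groth.Agent.Helper13.Qcqs

section Alg

/-- in a graded ring generated over degree zero by two elements `u, v` of degree one,
`A_(uv) = A_(u) + A_(v)` -/
theorem away_mul_decomp {R : Type*} [CommRing R] {σ : Type*} [SetLike σ R] [AddSubgroupClass σ R]
    (𝒜 : ℕ → σ) [GradedRing 𝒜] {u v : R} (hu : u ∈ 𝒜 1) (hv : v ∈ 𝒜 1)
    (hgen : Algebra.adjoin (𝒜 0) (Set.range ![u, v]) = ⊤) (z : Away 𝒜 (u * v)) :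
    ∃ (z₀ : Away 𝒜 u) (z₁ : Away 𝒜 v),
      z = awayMap 𝒜 hv (rfl : u * v = u * v) z₀ + awayMap 𝒜 hu (mul_comm u v) z₁ := by
  have huv : u * v ∈ 𝒜 2 := SetLike.mul_mem_graded hu hv
  have hxd : ∀ i : Fin 2, ![u, v] i ∈ 𝒜 ((fun _ => 1 : Fin 2 → ℕ) i) := by
    intro i
    fin_cases i
    · exact hu
    · exact hv
  have hspan := Away.span_mk_prod_pow_eq_top (𝒜 := 𝒜) huv ![u, v] hgen (fun _ => 1) hxd
  let T : Submodule (𝒜 0) (Away 𝒜 (u * v)) :=
    LinearMap.range (awayMapₐ 𝒜 hv (rfl : u * v = u * v)).toLinearMap ⊔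
      LinearMap.range (awayMapₐ 𝒜 hu (mul_comm u v)).toLinearMap
  have hT : (⊤ : Submodule (𝒜 0) (Away 𝒜 (u * v))) ≤ T := by
    rw [← hspan]
    apply Submodule.span_le.2
    rintro _ ⟨a, ai, hai, rfl⟩
    have hai' : ai 0 + ai 1 = a * 2 := by
      simpa [Fin.sum_univ_two] using hai
    by_cases h : a ≤ ai 0
    · obtain ⟨k, hk⟩ := Nat.exists_eq_add_of_le h
      have h0 : ai 0 = ai 1 + k + k := by omega
      have ha : a = ai 1 + k := by omega
      refine Submodule.mem_sup_right ⟨Away.mk 𝒜 hv k (u ^ k) (SetLike.pow_mem_graded k hu), ?_⟩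
      change awayMap 𝒜 hu (mul_comm u v) (Away.mk 𝒜 hv k (u ^ k) _) = _
      rw [awayMap_mk]
      apply HomogeneousLocalization.val_injective
      simp only [Away.val_mk]
      rw [Localization.mk_eq_mk_iff, Localization.r_iff_exists]
      refine ⟨1, ?_⟩
      simp only [OneMemClass.coe_one, one_mul, Fin.prod_univ_two, Matrix.cons_val_zero,
        Matrix.cons_val_one]
      rw [h0, ha]
      ring
    · have h' : ai 0 ≤ a := by omega
      obtain ⟨k, hk⟩ := Nat.exists_eq_add_of_le h'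
      have h1 : ai 1 = ai 0 + k + k := by omega
      have ha : a = ai 0 + k := by omega
      refine Submodule.mem_sup_left ⟨Away.mk 𝒜 hu k (v ^ k) (SetLike.pow_mem_graded k hv), ?_⟩
      change awayMap 𝒜 hv (rfl : u * v = u * v) (Away.mk 𝒜 hu k (v ^ k) _) = _
      rw [awayMap_mk]
      apply HomogeneousLocalization.val_injective
      simp only [Away.val_mk]
      rw [Localization.mk_eq_mk_iff, Localization.r_iff_exists]
      refine ⟨1, ?_⟩
      simp only [OneMemClass.coe_one, one_mul, Fin.prod_univ_two, Matrix.cons_val_zero,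
        Matrix.cons_val_one]
      rw [h1, ha]
      ring
  obtain ⟨y₀, ⟨z₀, rfl⟩, y₁, ⟨z₁, rfl⟩, e⟩ := Submodule.mem_sup.1 (hT (Submodule.mem_top : z ∈ ⊤))
  exact ⟨z₀, z₁, e.symm⟩

variable {A : Type u} [CommRing A] (I : Ideal A)

theorem mon_mem_adjoin {x y : A} (hx : x ∈ I) (hy : y ∈ I) (hI : I = Ideal.span {x, y}) :
    ∀ (n : ℕ) (α : A) (hα : α ∈ I ^ n),
      mon I n α hα ∈ Algebra.adjoin (gr I 0) (Set.range ![tm I x hx, tm I y hy]) := by
  intro n
  induction n with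
  | zero =>
    intro α hα
    exact Subalgebra.algebraMap_mem _ (⟨mon I 0 α hα, mon_mem I 0 α hα⟩ : gr I 0)
  | succ n ih =>
    intro α hα
    have hα' : α ∈ I ^ n * I := by rwa [pow_succ] at hα
    have key : ∃ h : α ∈ I ^ (n + 1),
        mon I (n + 1) α h ∈ Algebra.adjoin (gr I 0) (Set.range ![tm I x hx, tm I y hy]) := by
      refine Submodule.mul_induction_on hα' ?_ ?_
      · intro β hβ γ hγ
        have hγ' : γ ∈ Ideal.span {x, y} := hI ▸ hγ
        obtain ⟨p, q, rfl⟩ := Ideal.mem_span_pair.1 hγ'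
        have hmem : β * (p * x + q * y) ∈ I ^ (n + 1) := by
          rw [pow_succ]
          exact Ideal.mul_mem_mul hβ hγ
        refine ⟨hmem, ?_⟩
        have e : mon I (n + 1) (β * (p * x + q * y)) hmem =
            mon I n (β * p) (Ideal.mul_mem_right _ _ hβ) * tm I x hx +
              mon I n (β * q) (Ideal.mul_mem_right _ _ hβ) * tm I y hy := by
          apply Subtype.ext
          simp only [coe_mon, Subalgebra.coe_add, Subalgebra.coe_mul, coe_tm,
            Polynomial.monomial_mul_monomial]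
          rw [← map_add]
          congr 1
          ring
        rw [e]
        exact add_mem (mul_mem (ih _ _) (Algebra.subset_adjoin ⟨0, rfl⟩))
          (mul_mem (ih _ _) (Algebra.subset_adjoin ⟨1, rfl⟩))
      · rintro a b ⟨ha, ha'⟩ ⟨hb, hb'⟩
        refine ⟨add_mem ha hb, ?_⟩
        have e : mon I (n + 1) (a + b) (add_mem ha hb) = mon I (n + 1) a ha + mon I (n + 1) b hb := by
          apply Subtype.ext
          simp only [coe_mon, Subalgebra.coe_add, map_add]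
        rw [e]
        exact add_mem ha' hb'
    obtain ⟨_, h⟩ := key
    exact h

theorem adjoin_eq_top {x y : A} (hx : x ∈ I) (hy : y ∈ I) (hI : I = Ideal.span {x, y}) :
    Algebra.adjoin (gr I 0) (Set.range ![tm I x hx, tm I y hy]) = ⊤ := by
  rw [eq_top_iff]
  intro z _
  refine DirectSum.Decomposition.inductionOn (gr I)
    (motive := fun z => z ∈ Algebra.adjoin (gr I 0) (Set.range ![tm I x hx, tm I y hy])) ?_ ?_ ?_ z
  · exact zero_mem _
  · intro i m
    obtain ⟨α, hα, e⟩ := eq_mon_of_mem I i m.1 m.2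
    rw [e]
    exact mon_mem_adjoin I hx hy hI i α hα
  · intro a b ha hb
    exact add_mem ha hb

end Alg

section Transfer

variable {X : Scheme.{u}}

lemma B_congr {W₁ W₂ U₀ U₁ : X.Opens} (h : W₁ = W₂) (h₁₀ : W₁ ≤ U₀) (h₁₁ : W₁ ≤ U₁)
    (h₂₀ : W₂ ≤ U₀) (h₂₁ : W₂ ≤ U₁)
    (hB : ∀ c : Γ(X, W₁), ∃ (c₀ : Γ(X, U₀)) (c₁ : Γ(X, U₁)), c = resO h₁₀ c₀ + resO h₁₁ c₁) :
    ∀ c : Γ(X, W₂), ∃ (c₀ : Γ(X, U₀)) (c₁ : Γ(X, U₁)), c = resO h₂₀ c₀ + resO h₂₁ c₁ := by
  subst h
  exact hB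

lemma transfer {P : Scheme.{u}} (j : X ⟶ P) [IsIso j] {U₀' U₁' W' : P.Opens} (h₀ : W' ≤ U₀')
    (h₁ : W' ≤ U₁')
    (hB : ∀ c : Γ(P, W'), ∃ (c₀ : Γ(P, U₀')) (c₁ : Γ(P, U₁')), c = resO h₀ c₀ + resO h₁ c₁) :
    ∀ c : Γ(X, j ⁻¹ᵁ W'), ∃ (c₀ : Γ(X, j ⁻¹ᵁ U₀')) (c₁ : Γ(X, j ⁻¹ᵁ U₁')),
      c = resO (show j ⁻¹ᵁ W' ≤ j ⁻¹ᵁ U₀' from fun _ hx => h₀ hx) c₀ +
        resO (show j ⁻¹ᵁ W' ≤ j ⁻¹ᵁ U₁' from fun _ hx => h₁ hx) c₁ := by
  intro c
  have hbij : Function.Bijective (j.app W').hom :=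
    ConcreteCategory.bijective_of_isIso (j.app W')
  obtain ⟨c', rfl⟩ := hbij.2 c
  obtain ⟨c₀, c₁, rfl⟩ := hB c'
  refine ⟨(j.app U₀').hom c₀, (j.app U₁').hom c₁, ?_⟩
  rw [map_add]
  congr 1
  · have e := congrArg (fun φ => φ.hom c₀) (j.naturality (homOfLE h₀).op)
    simp only [CommRingCat.hom_comp, RingHom.comp_apply] at e
    exact e
  · have e := congrArg (fun φ => φ.hom c₁) (j.naturality (homOfLE h₁).op)
    simp only [CommRingCat.hom_comp, RingHom.comp_apply] at e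
    exact e

end Transfer

section Model

variable {A : Type u} [CommRing A] (I : Ideal A)

open Groth.Agent.Helper6.ProjFrac in
theorem model_facts {x y : A} (hx : x ∈ I) (hy : y ∈ I) (hI : I = Ideal.span {x, y}) :
    ∃ f₀ : Γ(Proj (gr I), Proj.basicOpen (gr I) (tm I x hx)),
      Proj.basicOpen (gr I) (tm I x hx) ⊓ Proj.basicOpen (gr I) (tm I y hy) =
        (Proj (gr I)).basicOpen f₀ ∧
      ∀ c : Γ(Proj (gr I), Proj.basicOpen (gr I) (tm I x hx) ⊓ Proj.basicOpen (gr I) (tm I y hy)),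
        ∃ (c₀ : Γ(Proj (gr I), Proj.basicOpen (gr I) (tm I x hx)))
          (c₁ : Γ(Proj (gr I), Proj.basicOpen (gr I) (tm I y hy))),
          c = resO inf_le_left c₀ + resO inf_le_right c₁ := by
  have hu := tm_mem I x hx
  have hv := tm_mem I y hy
  have huv : tm I x hx * tm I y hy ∈ gr I 2 := SetLike.mul_mem_graded hu hv
  refine ⟨ofr (gr I) 1 (tm I y hy) (tm I x hx) hv hu (Proj.basicOpen (gr I) (tm I x hx)) le_rfl,
    (basicOpen_ofr (gr I) hv hu _ le_rfl).symm, ?_⟩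
  have hmul : Proj.basicOpen (gr I) (tm I x hx * tm I y hy) =
      Proj.basicOpen (gr I) (tm I x hx) ⊓ Proj.basicOpen (gr I) (tm I y hy) :=
    Proj.basicOpen_mul (gr I) _ _
  refine B_congr hmul (hmul.le.trans inf_le_left) (hmul.le.trans inf_le_right) inf_le_left
    inf_le_right ?_
  intro c
  let iso := Proj.basicOpenIsoAway (gr I) (tm I x hx * tm I y hy) huv (by norm_num)
  have hc : (Proj.awayToSection (gr I) (tm I x hx * tm I y hy)).hom (iso.inv.hom c) = c := by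
    have := congrArg (fun φ => φ.hom c) iso.inv_hom_id
    simpa [iso, Proj.basicOpenIsoAway_hom] using this
  obtain ⟨z₀, z₁, hz⟩ := away_mul_decomp (gr I) hu hv (adjoin_eq_top I hx hy hI) (iso.inv.hom c)
  refine ⟨(Proj.awayToSection (gr I) (tm I x hx)).hom z₀,
    (Proj.awayToSection (gr I) (tm I y hy)).hom z₁, ?_⟩
  rw [← hc, hz, map_add]
  congr 1
  · exact congrArg (fun φ => φ.hom z₀)
      (Proj.awayMap_awayToSection (gr I) hv (rfl : tm I x hx * tm I y hy = _))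
  · exact congrArg (fun φ => φ.hom z₁)
      (Proj.awayMap_awayToSection (gr I) hu (mul_comm (tm I x hx) (tm I y hy)))

end Model

section Main

variable {A : Type u} [CommRing A] (I : Ideal A)

theorem subsingleton_HH_one_of_isBlowUp {x y : A} (hx : x ∈ I) (hy : y ∈ I)
    (hI : I = Ideal.span {x, y}) {X : Scheme.{u}} (b : X ⟶ Spec (CommRingCat.of A))
    (hb : BlowUp.IsBlowUp b (BlowUpProj.𝓘 I)) (F : X.Modules) [F.IsQuasicoherent]
    (hgg : Curv2.IsGloballyGenerated F) : Subsingleton (Coh.HH X F 1) := by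
  obtain ⟨φ, -⟩ := StrictTr.exists_iso_of_isBlowUp (BlowUpProj.𝓘 I) (BlowUpProj.b I) b
    (BlowUpProj.isBlowUp_b I) hb
  obtain ⟨f₀', hA', hB'⟩ := model_facts I hx hy hI
  have hB := transfer φ.inv inf_le_left inf_le_right hB'
  have hpre : φ.inv ⁻¹ᵁ (Proj.basicOpen (gr I) (tm I x hx) ⊓ Proj.basicOpen (gr I) (tm I y hy)) =
      φ.inv ⁻¹ᵁ Proj.basicOpen (gr I) (tm I x hx) ⊓ φ.inv ⁻¹ᵁ Proj.basicOpen (gr I) (tm I y hy) :=
    rfl
  refine GGSpan.subsingleton_HH_one F (φ.inv ⁻¹ᵁ Proj.basicOpen (gr I) (tm I x hx))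
    (φ.inv ⁻¹ᵁ Proj.basicOpen (gr I) (tm I y hy)) ?_ ?_ ?_
    (BlowCover.isAffineOpen_inf_of_isBlowUp I b hb) ((φ.inv.app _).hom f₀') ?_
    (B_congr hpre _ _ inf_le_left inf_le_right hB) hgg
  · exact (Proj.isAffineOpen_basicOpen (gr I) _ (tm_mem I x hx) one_pos).preimage_of_isIso φ.inv
  · exact (Proj.isAffineOpen_basicOpen (gr I) _ (tm_mem I y hy) one_pos).preimage_of_isIso φ.inv
  · rw [eq_top_iff]
    intro q _
    have hs : ({x, y} : Set A) ⊆ I := by
      rintro a (rfl | rfl)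
      · exact hx
      · exact hy
    obtain ⟨a, has, ha⟩ := BlowSmooth.exists_chart_of_gens I {x, y} hs hI.le (φ.inv q)
    rw [opensRange_chart] at ha
    rcases has with rfl | rfl
    · exact Or.inl ha
    · exact Or.inr ha
  · rw [← Scheme.preimage_basicOpen, ← hA']
    rfl

end Main

end Groth.Agent.Helper28.BlowTwoGen
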