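import Mathlib
import Groth.Agent.Lib.Helper28.EffCartierOld
import Groth.Agent.Lib.Helper28.AdmCalc2
import Groth.Agent.Lib.Helper28.StrictTr
set_option autoImplicit false
universe u
open CategoryTheory CategoryTheory.Limits AlgebraicGeometry TopologicalSpace

namespace Groth.Agent.Helper28.BlowUpCoprime

open Groth.Agent.Helper28.EffCartierDense Groth.Agent.Helper28.EffCartierOld
  Groth.Agent.Helper28.AdmCalc

/-- being effective Cartier can be checked on an open cover -/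
lemma isEffCartierIdeal_of_local {X : Scheme.{u}} (𝓘 : X.IdealSheafData)
    (h : ∀ x : X, ∃ V : X.Opens, x ∈ V ∧ BlowUp.IsEffCartierIdeal (𝓘.comap V.ι)) :
    BlowUp.IsEffCartierIdeal 𝓘 := by
  intro x
  obtain ⟨V, hxV, hV⟩ := h x
  obtain ⟨U', hxU', f, hf, hIf⟩ := hV ⟨x, hxV⟩
  rw [Scheme.IdealSheafData.ideal_comap_of_isOpenImmersion] at hIf
  set U : X.affineOpens := ⟨V.ι ''ᵁ U'.1, U'.2.image_of_isOpenImmersion V.ι⟩ with hU
  let e : Γ(X, V.ι ''ᵁ U'.1) ≅ Γ(V, U'.1) := V.ι.appIso U'.1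
  let e' : Γ(X, V.ι ''ᵁ U'.1) ≃+* Γ(V, U'.1) := e.commRingCatIsoToRingEquiv
  have hinv : ∀ a, e.inv.hom a = e'.symm a := fun a => rfl
  refine ⟨U, ⟨⟨x, hxV⟩, hxU', rfl⟩, e'.symm f, ?_, ?_⟩
  · rw [mem_nonZeroDivisors_iff_right] at hf ⊢
    intro z hz
    have h1 : e' z * f = 0 := by
      have := congrArg e' hz
      rwa [map_mul, RingEquiv.apply_symm_apply, map_zero] at this
    have := hf _ h1
    exact (map_eq_zero_iff e' e'.injective).1 this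
  · have h1 : Ideal.map e.inv.hom (Ideal.comap e.inv.hom (𝓘.ideal U)) = 𝓘.ideal U := by
      apply Ideal.map_comap_of_surjective
      intro a
      exact ⟨e' a, by rw [hinv, RingEquiv.symm_apply_apply]⟩
    rw [← h1, hIf, Ideal.map_span, Set.image_singleton, hinv]

lemma inf_eq_mul_of_sup_eq_top {X : Scheme.{u}} (I₁ I₂ : X.IdealSheafData) (h : I₁ ⊔ I₂ = ⊤) :
    I₁ ⊓ I₂ = I₁ * I₂ := by
  apply Scheme.IdealSheafData.ext
  funext U
  rw [Scheme.IdealSheafData.ideal_inf, Scheme.IdealSheafData.ideal_mul, Pi.inf_apply, Pi.mul_apply]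
  apply Ideal.inf_eq_mul_of_isCoprime
  rw [Ideal.isCoprime_iff_sup_eq]
  have := congrArg (fun I => Scheme.IdealSheafData.ideal I U) h
  simpa [Scheme.IdealSheafData.ideal_sup] using this

/-- on the fibre product of the blow-ups of two comaximal ideals, the inverse image of the first
ideal is effective Cartier -/
lemma isEffCartier_comap_fst {X B₁ B₂ P : Scheme.{u}} (I₁ I₂ : X.IdealSheafData)
    (hdisj : I₁ ⊔ I₂ = ⊤) (σ₁ : B₁ ⟶ X) (hσ₁ : BlowUp.IsBlowUp σ₁ I₁) (σ₂ : B₂ ⟶ X)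
    (hσ₂ : BlowUp.IsBlowUp σ₂ I₂) {p₁ : P ⟶ B₁} {p₂ : P ⟶ B₂} (sq : IsPullback p₁ p₂ σ₁ σ₂) :
    BlowUp.IsEffCartierIdeal (I₁.comap (p₁ ≫ σ₁)) := by
  apply isEffCartierIdeal_of_local
  intro p
  by_cases hp : (p₁ ≫ σ₁) p ∈ I₁.support
  · have hp2 : (p₁ ≫ σ₁) p ∉ I₂.support := by
      intro h2
      have : (p₁ ≫ σ₁) p ∈ (I₁ ⊔ I₂).support := by
        rw [Scheme.IdealSheafData.support_sup]
        exact ⟨hp, h2⟩
      rw [hdisj, Scheme.IdealSheafData.support_top] at this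
      exact this
    set W₂ : X.Opens := I₂.support.compl with hW₂
    have hiso : IsIso (σ₂ ∣_ W₂) := isIso_morphismRestrict_compl I₂ σ₂ hσ₂
    set U : B₁.Opens := σ₁ ⁻¹ᵁ W₂ with hU
    have hiso' : IsIso (p₁ ∣_ U) := isIso_restrict_of_isPullback sq W₂ hiso U le_rfl
    refine ⟨p₁ ⁻¹ᵁ U, ?_, ?_⟩
    · show σ₁ (p₁ p) ∈ W₂
      rw [← Scheme.Hom.comp_apply]
      exact hp2
    · rw [← Scheme.IdealSheafData.comap_comp, ← Category.assoc, ← morphismRestrict_ι,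
        Category.assoc, Scheme.IdealSheafData.comap_comp]
      haveI : Flat ((p₁ ∣_ U) ≫ U.ι) := inferInstance
      rw [Scheme.IdealSheafData.comap_comp]
      apply isEffCartierIdeal_comap_of_flat
      apply isEffCartierIdeal_comap_of_flat
      exact hσ₁.1
  · refine ⟨(p₁ ≫ σ₁) ⁻¹ᵁ (I₁.support.compl : X.Opens), hp, ?_⟩
    rw [← Scheme.IdealSheafData.comap_comp]
    apply isEffCartierIdeal_comap_of_disjoint
    intro y
    exact y.2

/-- the fibre product of the blow-ups of two comaximal ideals is the blow-up of their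
intersection -/
theorem isBlowUp_pullback {X B₁ B₂ P : Scheme.{u}} (I₁ I₂ : X.IdealSheafData)
    (hdisj : I₁ ⊔ I₂ = ⊤) (σ₁ : B₁ ⟶ X) (hσ₁ : BlowUp.IsBlowUp σ₁ I₁) (σ₂ : B₂ ⟶ X)
    (hσ₂ : BlowUp.IsBlowUp σ₂ I₂) {p₁ : P ⟶ B₁} {p₂ : P ⟶ B₂} (sq : IsPullback p₁ p₂ σ₁ σ₂) :
    BlowUp.IsBlowUp (p₁ ≫ σ₁) (I₁ ⊓ I₂) := by
  rw [inf_eq_mul_of_sup_eq_top I₁ I₂ hdisj]
  constructor
  · rw [comap_mul]
    apply isEffCartierIdeal_mul
    · exact isEffCartier_comap_fst I₁ I₂ hdisj σ₁ hσ₁ σ₂ hσ₂ sq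
    · rw [sq.w]
      exact isEffCartier_comap_fst I₂ I₁ (by rw [sup_comm]; exact hdisj) σ₂ hσ₂ σ₁ hσ₁ sq.flip
  · intro Y g hg
    rw [comap_mul] at hg
    have h1 := isEffCartierIdeal_left_of_mul _ _ hg
    have h2 := isEffCartierIdeal_right_of_mul _ _ hg
    obtain ⟨a₁, ha₁, hu₁⟩ := hσ₁.2 Y g h1
    obtain ⟨a₂, ha₂, hu₂⟩ := hσ₂.2 Y g h2
    have hc : a₁ ≫ σ₁ = a₂ ≫ σ₂ := ha₁.trans ha₂.symm
    refine ⟨sq.lift a₁ a₂ hc, ?_, ?_⟩
    · show sq.lift a₁ a₂ hc ≫ p₁ ≫ σ₁ = g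
      rw [sq.lift_fst_assoc, ha₁]
    · intro h hh
      have hh' : h ≫ p₁ ≫ σ₁ = g := hh
      apply sq.hom_ext
      · rw [sq.lift_fst]
        exact hu₁ _ (by show (h ≫ p₁) ≫ σ₁ = g; rw [Category.assoc]; exact hh')
      · rw [sq.lift_snd]
        exact hu₂ _ (by show (h ≫ p₂) ≫ σ₂ = g; rw [Category.assoc, ← sq.w]; exact hh')

end Groth.Agent.Helper28.BlowUpCoprime
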