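import Mathlib
import Groth.Agent.Lib.Helper28.EffCartierOld
import Groth.Agent.Lib.Helper28.EffCartierDense
set_option autoImplicit false
universe u
open CategoryTheory CategoryTheory.Limits AlgebraicGeometry TopologicalSpace

namespace Groth.Agent.Helper28.BlowUpDense

open Groth.Agent.Helper28.EffCartierDense Groth.Agent.Helper28.EffCartierOld

lemma dominant_homOfLE {X : Scheme.{u}} (U V : X.Opens) (h : U ≤ V)
    [IsSchemeTheoreticallyDominant U.ι] [QuasiCompact U.ι] :
    IsSchemeTheoreticallyDominant (X.homOfLE h) := by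
  have e : U ⊓ V = U := inf_eq_left.mpr h
  haveI : IsSchemeTheoreticallyDominant (X.homOfLE (inf_le_right : U ⊓ V ≤ V)) :=
    IsSchemeTheoreticallyDominant.of_isPullback (isPullback_opens_inf U V)
  have h1 : X.homOfLE (e.ge) ≫ X.homOfLE (inf_le_right : U ⊓ V ≤ V) = X.homOfLE h :=
    Scheme.homOfLE_homOfLE _ _ _
  constructor
  have h2 := Scheme.Hom.le_ker_comp (X.homOfLE (e.le)) (X.homOfLE h)
  rw [Scheme.homOfLE_homOfLE,
    IsSchemeTheoreticallyDominant.ker_eq_bot (X.homOfLE (inf_le_right : U ⊓ V ≤ V))] at h2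
  exact le_bot_iff.mp h2

theorem preimage_dominant {X X' : Scheme.{u}} [IsNoetherian X]
    (U : X.Opens) [IsSchemeTheoreticallyDominant U.ι] (𝓘 : X.IdealSheafData)
    (hU : Disjoint (𝓘.support : Set X) (U : Set X)) (π : X' ⟶ X) (hπ : BlowUp.IsBlowUp π 𝓘) :
    IsSchemeTheoreticallyDominant (π ⁻¹ᵁ U).ι := by
  set V : X.Opens := 𝓘.support.compl with hV
  have hUV : U ≤ V := fun x hx hxs => Set.disjoint_left.mp hU hxs hx
  haveI : IsIso (π ∣_ V) := isIso_morphismRestrict_compl 𝓘 π hπ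
  haveI : QuasiCompact U.ι := inferInstance
  haveI hu : IsSchemeTheoreticallyDominant (X.homOfLE hUV) := dominant_homOfLE U V hUV
  haveI : QuasiCompact (X.homOfLE hUV) := inferInstance
  have hle : π ⁻¹ᵁ U ≤ π ⁻¹ᵁ V := fun x hx => hUV hx
  have big : IsPullback (π ∣_ U) (X'.homOfLE hle ≫ (π ⁻¹ᵁ V).ι) (X.homOfLE hUV ≫ V.ι) π := by
    rw [Scheme.homOfLE_ι, Scheme.homOfLE_ι]
    exact isPullback_morphismRestrict π U
  have bot : IsPullback (π ∣_ V) (π ⁻¹ᵁ V).ι V.ι π := isPullback_morphismRestrict π V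
  have comm : (π ∣_ U) ≫ X.homOfLE hUV = X'.homOfLE hle ≫ (π ∣_ V) := by
    rw [← cancel_mono V.ι]
    simp only [Category.assoc, Scheme.homOfLE_ι, morphismRestrict_ι, Scheme.homOfLE_ι_assoc]
  have top : IsPullback (π ∣_ U) (X'.homOfLE hle) (X.homOfLE hUV) (π ∣_ V) :=
    IsPullback.of_bot big comm bot
  haveI hj : IsSchemeTheoreticallyDominant (X'.homOfLE hle) :=
    IsSchemeTheoreticallyDominant.of_isPullback top
  haveI hW : IsSchemeTheoreticallyDominant (π ⁻¹ᵁ V).ι := by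
    constructor
    rw [hV, preimage_compl_support]
    exact ker_ι_eq_bot _ (isLocallyBasicNZD_compl_support _ hπ.1)
  rw [← Scheme.homOfLE_ι X' hle]
  infer_instance

end Groth.Agent.Helper28.BlowUpDense
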