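import Mathlib
import Groth.Prelude.Def_LCI2
import Groth.Agent.Lib.Helper13.RelAmpleComp2
import Groth.Agent.Lib.Helper13.PbAmple
import Groth.Agent.Lib.Helper13.Ample
import Groth.Agent.Lib.Helper13.AmpleTensor
import Groth.Agent.Lib.Helper13.PullbackLocal
import Groth.Agent.Lib.Helper13.TensorRestrict

set_option autoImplicit false
universe u
open CategoryTheory CategoryTheory.Limits AlgebraicGeometry Opposite TopologicalSpace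
open Groth.Agent.Helper13.Tensor Groth.Agent.Helper13.Inv Groth.Agent.Helper13.GenLoc
open Groth.Agent.Helper13.Ample Groth.Agent.Helper13.RelAmpleComp Groth.Agent.Helper13.PbAmple
open Groth.Agent.Helper13.Pullback

namespace Groth.Agent.Helper28.BoxAmple

/-- in a fibre product, the intersection of the preimages of affine opens lying over a common affine
open of the base is affine. -/
theorem isAffineOpen_pullback_inf {X Y Z : Scheme.{u}} {f : X ⟶ Z} {g : Y ⟶ Z}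
    {U : X.Opens} (hU : IsAffineOpen U) {V : Y.Opens} (hV : IsAffineOpen V)
    {W : Z.Opens} (hW : IsAffineOpen W) (hUW : U ≤ f ⁻¹ᵁ W) (hVW : V ≤ g ⁻¹ᵁ W) :
    IsAffineOpen (pullback.fst f g ⁻¹ᵁ U ⊓ pullback.snd f g ⁻¹ᵁ V) := by
  have : IsAffine U.toScheme := hU
  have : IsAffine V.toScheme := hV
  have : IsAffine W.toScheme := hW
  let f' : U.toScheme ⟶ W := f.resLE _ _ hUW
  let g' : V.toScheme ⟶ W := g.resLE _ _ hVW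
  let p : pullback f' g' ⟶ pullback f g :=
    pullback.map _ _ _ _ U.ι V.ι W.ι (by simp [f']) (by simp [g'])
  have hp := isAffineOpen_opensRange p
  convert hp using 1
  apply TopologicalSpace.Opens.ext
  simp [p, Scheme.Pullback.range_map]

/-- **Lemma A**: tensor product of pullbacks of ample modules along two maps whose "boxes" of affine
opens are affine. -/
theorem isAmple_tensor_pullback_of_affine_inf {Ω U₁ U₂ : Scheme.{u}} [CompactSpace Ω]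
    (r₁ : Ω ⟶ U₁) (r₂ : Ω ⟶ U₂) (A₁ : U₁.Modules) (A₂ : U₂.Modules)
    (hA₁ : CohB1.IsAmple A₁) (hA₂ : CohB1.IsAmple A₂)
    (haff : ∀ (B₁ : U₁.Opens) (B₂ : U₂.Opens), IsAffineOpen B₁ → IsAffineOpen B₂ →
      IsAffineOpen (r₁ ⁻¹ᵁ B₁ ⊓ r₂ ⁻¹ᵁ B₂)) :
    CohB1.IsAmple (CohB1.tensorMod ((Scheme.Modules.pullback r₁).obj A₁)
      ((Scheme.Modules.pullback r₂).obj A₂)) := by
  have h1 := Groth.Agent.Helper13.PbInv.isInvertible_pullback r₁ A₁ hA₁.1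
  have h2 := Groth.Agent.Helper13.PbInv.isInvertible_pullback r₂ A₂ hA₂.1
  refine ⟨isInvertible_tensorMod _ _ h1 h2, inferInstance, fun x => ?_⟩
  obtain ⟨n₁, s₁, hx₁, hs₁⟩ := hA₁.2.2 (r₁ x)
  obtain ⟨n₂, s₂, hx₂, hs₂⟩ := hA₂.2.2 (r₂ x)
  obtain ⟨N, σ, hσ⟩ := exists_section_tensorMod _ _ h1 h2 n₁ n₂
    (pullbackPowSec r₁ A₁ hA₁.1 (n₁ + 1) s₁) (pullbackPowSec r₂ A₂ hA₂.1 (n₂ + 1) s₂)
  rw [genLocus_pullbackPowSec, genLocus_pullbackPowSec] at hσ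
  refine ⟨N, σ, ?_, ?_⟩
  · rw [hσ]; exact ⟨hx₁, hx₂⟩
  · rw [hσ]; exact haff _ _ hs₁ hs₂

/-- preimage under a restricted map, computed in the ambient scheme. -/
theorem preimage_resLE_eq {X X₁ : Scheme.{u}} (q : X ⟶ X₁) (U₁ : X₁.Opens) (Ω : X.Opens)
    (r : Ω.toScheme ⟶ U₁.toScheme) (hr : r ≫ U₁.ι = Ω.ι ≫ q) (B : U₁.toScheme.Opens) :
    r ⁻¹ᵁ B = Ω.ι ⁻¹ᵁ (q ⁻¹ᵁ (U₁.ι ''ᵁ B)) := by
  ext z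
  change r z ∈ B ↔ q (Ω.ι z) ∈ U₁.ι ''ᵁ B
  have e : q (Ω.ι z) = U₁.ι (r z) := congrArg (fun k : Ω.toScheme ⟶ X₁ => k z) hr.symm
  rw [e]
  constructor
  · intro h
    exact ⟨_, h, rfl⟩
  · rintro ⟨w, hw, hwe⟩
    have := U₁.ι.isOpenEmbedding.injective hwe
    rw [← this]
    exact hw

/-- the box product is ample over a box lying over an affine open of the base. -/
theorem isAmple_restrict_box {X₁ X₂ S : Scheme.{u}} (b₁ : X₁ ⟶ S) (b₂ : X₂ ⟶ S)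
    (L₁ : X₁.Modules) (L₂ : X₂.Modules) (U₁ : X₁.Opens) (U₂ : X₂.Opens) (S₀ : S.Opens)
    (hS₀ : IsAffineOpen S₀) (hU₁ : U₁ ≤ b₁ ⁻¹ᵁ S₀) (hU₂ : U₂ ≤ b₂ ⁻¹ᵁ S₀)
    (hA₁ : CohB1.IsAmple (L₁.restrict U₁.ι)) (hA₂ : CohB1.IsAmple (L₂.restrict U₂.ι))
    (hc : IsCompact (pullback.fst b₁ b₂ ⁻¹ᵁ U₁ ⊓ pullback.snd b₁ b₂ ⁻¹ᵁ U₂ :
      (pullback b₁ b₂).Opens).1) :
    CohB1.IsAmple ((CohB1.tensorMod ((Scheme.Modules.pullback (pullback.fst b₁ b₂)).obj L₁)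
      ((Scheme.Modules.pullback (pullback.snd b₁ b₂)).obj L₂)).restrict
      (pullback.fst b₁ b₂ ⁻¹ᵁ U₁ ⊓ pullback.snd b₁ b₂ ⁻¹ᵁ U₂).ι) := by
  obtain ⟨Ω, hΩ⟩ : ∃ Ω : (pullback b₁ b₂).Opens,
      Ω = pullback.fst b₁ b₂ ⁻¹ᵁ U₁ ⊓ pullback.snd b₁ b₂ ⁻¹ᵁ U₂ := ⟨_, rfl⟩
  rw [← hΩ] at hc ⊢
  have hΩ₁ : Ω ≤ pullback.fst b₁ b₂ ⁻¹ᵁ U₁ := hΩ ▸ inf_le_left
  have hΩ₂ : Ω ≤ pullback.snd b₁ b₂ ⁻¹ᵁ U₂ := hΩ ▸ inf_le_right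
  haveI : CompactSpace Ω := isCompact_iff_compactSpace.mp hc
  obtain ⟨r₁, hr₁⟩ : ∃ r₁ : Ω.toScheme ⟶ U₁.toScheme, r₁ ≫ U₁.ι = Ω.ι ≫ pullback.fst b₁ b₂ :=
    ⟨(pullback.fst b₁ b₂).resLE U₁ Ω hΩ₁, Scheme.Hom.resLE_comp_ι _ _⟩
  obtain ⟨r₂, hr₂⟩ : ∃ r₂ : Ω.toScheme ⟶ U₂.toScheme, r₂ ≫ U₂.ι = Ω.ι ≫ pullback.snd b₁ b₂ :=
    ⟨(pullback.snd b₁ b₂).resLE U₂ Ω hΩ₂, Scheme.Hom.resLE_comp_ι _ _⟩
  have key := isAmple_tensor_pullback_of_affine_inf r₁ r₂ _ _ hA₁ hA₂ ?_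
  · refine isAmple_of_iso (?_ : _ ≅ _).symm key
    exact restrictIso Ω.ι _ _ ≪≫ mapIso
      ((pullbackRestrictIso (pullback.fst b₁ b₂) Ω.ι U₁.ι r₁ hr₁.symm).app L₁)
      ((pullbackRestrictIso (pullback.snd b₁ b₂) Ω.ι U₂.ι r₂ hr₂.symm).app L₂)
  · intro B₁ B₂ hB₁ hB₂
    rw [preimage_resLE_eq _ U₁ Ω r₁ hr₁ B₁, preimage_resLE_eq _ U₂ Ω r₂ hr₂ B₂]
    have hB₁' : IsAffineOpen (U₁.ι ''ᵁ B₁) := hB₁.image_of_isOpenImmersion U₁.ι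
    have hB₂' : IsAffineOpen (U₂.ι ''ᵁ B₂) := hB₂.image_of_isOpenImmersion U₂.ι
    have hle₁ : U₁.ι ''ᵁ B₁ ≤ U₁ := by
      rintro _ ⟨w, -, rfl⟩
      exact w.2
    have hle₂ : U₂.ι ''ᵁ B₂ ≤ U₂ := by
      rintro _ ⟨w, -, rfl⟩
      exact w.2
    have hT := isAffineOpen_pullback_inf (f := b₁) (g := b₂) hB₁' hB₂' hS₀
      (hle₁.trans hU₁) (hle₂.trans hU₂)
    have hTΩ : pullback.fst b₁ b₂ ⁻¹ᵁ (U₁.ι ''ᵁ B₁) ⊓ pullback.snd b₁ b₂ ⁻¹ᵁ (U₂.ι ''ᵁ B₂) ≤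
        Ω.ι.opensRange := by
      rw [Scheme.Opens.opensRange_ι, hΩ]
      exact inf_le_inf (fun z hz => hle₁ hz) (fun z hz => hle₂ hz)
    exact hT.preimage_of_isOpenImmersion Ω.ι hTΩ

/-- **EGA II 4.6.13 (iv)**: the external tensor product of relatively ample modules is ample
relative to the product morphism. -/
theorem isRelAmple_box {X₁ X₂ Y₁ Y₂ S : Scheme.{u}} (a₁ : Y₁ ⟶ S) (a₂ : Y₂ ⟶ S)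
    (f₁ : X₁ ⟶ Y₁) (f₂ : X₂ ⟶ Y₂) (L₁ : X₁.Modules) (L₂ : X₂.Modules)
    (hL₁ : RelAmple.IsRelAmple f₁ L₁) (hL₂ : RelAmple.IsRelAmple f₂ L₂)
    (F : pullback (f₁ ≫ a₁) (f₂ ≫ a₂) ⟶ pullback a₁ a₂) [QuasiCompact F]
    (hF₁ : F ≫ pullback.fst a₁ a₂ = pullback.fst (f₁ ≫ a₁) (f₂ ≫ a₂) ≫ f₁)
    (hF₂ : F ≫ pullback.snd a₁ a₂ = pullback.snd (f₁ ≫ a₁) (f₂ ≫ a₂) ≫ f₂) :
    RelAmple.IsRelAmple F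
      (CohB1.tensorMod ((Scheme.Modules.pullback (pullback.fst (f₁ ≫ a₁) (f₂ ≫ a₂))).obj L₁)
        ((Scheme.Modules.pullback (pullback.snd (f₁ ≫ a₁) (f₂ ≫ a₂))).obj L₂)) := by
  refine ⟨inferInstance, fun V => ?_⟩
  apply isAmple_restrict_preimage_of_local F _ V.1 V.2
  intro y _
  obtain ⟨_, ⟨S₀, hS₀, rfl⟩, hyS₀, -⟩ := S.isBasis_affineOpens.exists_subset_of_mem_open
    (Set.mem_univ (a₁ (pullback.fst a₁ a₂ y))) isOpen_univ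
  obtain ⟨_, ⟨W₁, hW₁, rfl⟩, hyW₁, hW₁S⟩ := Y₁.isBasis_affineOpens.exists_subset_of_mem_open
    (show pullback.fst a₁ a₂ y ∈ a₁ ⁻¹ᵁ S₀ from hyS₀) (a₁ ⁻¹ᵁ S₀).2
  have hy2 : pullback.snd a₁ a₂ y ∈ a₂ ⁻¹ᵁ S₀ := by
    change a₂ (pullback.snd a₁ a₂ y) ∈ S₀
    have e : a₂ (pullback.snd a₁ a₂ y) = a₁ (pullback.fst a₁ a₂ y) :=
      congrArg (fun k : pullback a₁ a₂ ⟶ S => k y) pullback.condition.symm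
    rw [e]
    exact hyS₀
  obtain ⟨_, ⟨W₂, hW₂, rfl⟩, hyW₂, hW₂S⟩ := Y₂.isBasis_affineOpens.exists_subset_of_mem_open
    hy2 (a₂ ⁻¹ᵁ S₀).2
  have hV'aff : IsAffineOpen (pullback.fst a₁ a₂ ⁻¹ᵁ W₁ ⊓ pullback.snd a₁ a₂ ⁻¹ᵁ W₂) :=
    isAffineOpen_pullback_inf hW₁ hW₂ hS₀ hW₁S hW₂S
  have hΩ : F ⁻¹ᵁ (pullback.fst a₁ a₂ ⁻¹ᵁ W₁ ⊓ pullback.snd a₁ a₂ ⁻¹ᵁ W₂) =
      pullback.fst (f₁ ≫ a₁) (f₂ ≫ a₂) ⁻¹ᵁ (f₁ ⁻¹ᵁ W₁) ⊓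
        pullback.snd (f₁ ≫ a₁) (f₂ ≫ a₂) ⁻¹ᵁ (f₂ ⁻¹ᵁ W₂) := by
    ext z
    change (pullback.fst a₁ a₂ (F z) ∈ W₁ ∧ pullback.snd a₁ a₂ (F z) ∈ W₂) ↔
      (f₁ (pullback.fst (f₁ ≫ a₁) (f₂ ≫ a₂) z) ∈ W₁ ∧
        f₂ (pullback.snd (f₁ ≫ a₁) (f₂ ≫ a₂) z) ∈ W₂)
    have e₁ : pullback.fst a₁ a₂ (F z) = f₁ (pullback.fst (f₁ ≫ a₁) (f₂ ≫ a₂) z) :=
      congrArg (fun k : pullback (f₁ ≫ a₁) (f₂ ≫ a₂) ⟶ Y₁ => k z) hF₁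
    have e₂ : pullback.snd a₁ a₂ (F z) = f₂ (pullback.snd (f₁ ≫ a₁) (f₂ ≫ a₂) z) :=
      congrArg (fun k : pullback (f₁ ≫ a₁) (f₂ ≫ a₂) ⟶ Y₂ => k z) hF₂
    rw [e₁, e₂]
  refine ⟨pullback.fst (f₁ ≫ a₁) (f₂ ≫ a₂) ⁻¹ᵁ (f₁ ⁻¹ᵁ W₁) ⊓
      pullback.snd (f₁ ≫ a₁) (f₂ ≫ a₂) ⁻¹ᵁ (f₂ ⁻¹ᵁ W₂),
    pullback.fst a₁ a₂ ⁻¹ᵁ W₁ ⊓ pullback.snd a₁ a₂ ⁻¹ᵁ W₂, ⟨hyW₁, hyW₂⟩, le_of_eq hΩ, ?_⟩
  apply isAmple_restrict_box (f₁ ≫ a₁) (f₂ ≫ a₂) L₁ L₂ (f₁ ⁻¹ᵁ W₁) (f₂ ⁻¹ᵁ W₂) S₀ hS₀ ?_ ?_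
    (hL₁.2 ⟨W₁, hW₁⟩) (hL₂.2 ⟨W₂, hW₂⟩) ?_
  · intro z hz
    exact hW₁S hz
  · intro z hz
    exact hW₂S hz
  · rw [← hΩ]
    exact F.isCompact_preimage hV'aff.isCompact

end Groth.Agent.Helper28.BoxAmple
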