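import Groth.Agent.Lib.Helper28.EffCartierOld
import Mathlib.RingTheory.Flat.FaithfullyFlat.Algebra
import Mathlib.RingTheory.RingHom.Flat
import Mathlib.AlgebraicGeometry.Noetherian

set_option autoImplicit false
universe u
open CategoryTheory CategoryTheory.Limits AlgebraicGeometry TopologicalSpace

namespace Groth.Agent.Helper28.CartierDescent

open Groth.Agent.Helper28

section Algebra

/-- annihilator of an element, as an ideal -/
def annIdeal {A : Type*} [CommRing A] (g : A) : Ideal A where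
  carrier := {x | x * g = 0}
  add_mem' := by
    intro a b ha hb
    simp only [Set.mem_ofPred_eq] at ha hb ⊢
    rw [add_mul, ha, hb, add_zero]
  zero_mem' := by
    simp only [Set.mem_ofPred_eq]
    exact zero_mul g
  smul_mem' := by
    intro c x hx
    simp only [Set.mem_ofPred_eq, smul_eq_mul] at hx ⊢
    rw [mul_assoc, hx, mul_zero]

lemma mem_annIdeal {A : Type*} [CommRing A] (g x : A) : x ∈ annIdeal g ↔ x * g = 0 := Iff.rfl

/-- uniform denominators on a finitely generated ideal -/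
lemma exists_mul_mem_of_fg {A : Type*} [CommRing A] (q : Ideal A) [hq : q.IsPrime] (T N : Ideal A)
    (hN : N.FG) (h : ∀ x ∈ N, ∃ u ∉ q, u * x ∈ T) : ∃ f ∉ q, ∀ x ∈ N, f * x ∈ T := by
  classical
  obtain ⟨s, rfl⟩ := hN
  have h' : ∀ x : A, ∃ u : A, x ∈ s → (u ∉ q ∧ u * x ∈ T) := by
    intro x
    by_cases hx : x ∈ s
    · obtain ⟨u, hu, hux⟩ := h x (Submodule.subset_span (Finset.mem_coe.2 hx))
      exact ⟨u, fun _ => ⟨hu, hux⟩⟩
    · exact ⟨0, fun h => absurd h hx⟩
  choose u hu using h'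
  refine ⟨∏ x ∈ s, u x, ?_, ?_⟩
  · intro hmem
    obtain ⟨x, hxs, hx⟩ := (Ideal.IsPrime.prod_mem_iff).1 hmem
    exact (hu x hxs).1 hx
  · intro x hx
    refine Submodule.span_induction (p := fun x _ => (∏ y ∈ s, u y) * x ∈ T) ?_ ?_ ?_ ?_ hx
    · intro y hy
      change (∏ y ∈ s, u y) * y ∈ T
      have hy' : y ∈ s := Finset.mem_coe.1 hy
      obtain ⟨c, hc⟩ := Finset.dvd_prod_of_mem u hy'
      rw [hc, mul_right_comm]
      exact T.mul_mem_right _ (hu y hy').2
    · change (∏ y ∈ s, u y) * 0 ∈ T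
      rw [mul_zero]
      exact T.zero_mem
    · intro a b _ _ ha hb
      change (∏ y ∈ s, u y) * (a + b) ∈ T
      rw [mul_add]
      exact T.add_mem ha hb
    · intro r a _ ha
      change (∏ y ∈ s, u y) * (r • a) ∈ T
      rw [smul_eq_mul, mul_left_comm]
      exact T.mul_mem_left _ ha

/-- if the extension of `I` is generated by a nonzerodivisor `t`, some element of `I` maps to
`b * t` with `b` outside a given prime -/
lemma exists_gen_unit {A B : Type*} [CommRing A] [CommRing B] (φ : A →+* B)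
    (q' : Ideal B) [hq' : q'.IsPrime] (I : Ideal A) (t : B) (ht : t ∈ nonZeroDivisors B)
    (hI : I.map φ = Ideal.span {t}) :
    ∃ g ∈ I, ∃ b ∉ q', φ g = b * t := by
  by_contra hcon
  push Not at hcon
  let T : Set B := {b | ∃ g ∈ I, φ g = b * t}
  have hT : Ideal.span T ≤ q' := by
    rw [Ideal.span_le]
    rintro b ⟨g, hg, hgb⟩
    by_contra hb
    exact hcon g hg b hb hgb
  have h1 : I.map φ ≤ Ideal.span {t} * Ideal.span T := by
    rw [Ideal.map_le_iff_le_comap]
    intro a ha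
    rw [Ideal.mem_comap]
    have hat : φ a ∈ Ideal.span {t} := hI ▸ Ideal.mem_map_of_mem φ ha
    obtain ⟨c, hc⟩ := Ideal.mem_span_singleton'.1 hat
    rw [Ideal.mem_span_singleton_mul]
    exact ⟨c, Ideal.subset_span ⟨a, ha, hc.symm⟩, by rw [← hc, mul_comm]⟩
  have h2 : t ∈ Ideal.span {t} * Ideal.span T := h1 (hI ▸ Ideal.mem_span_singleton_self t)
  obtain ⟨c', hc', htc'⟩ := Ideal.mem_span_singleton_mul.1 h2
  have h3 : c' = 1 := by
    have : t * c' = t * 1 := by rw [htc', mul_one]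
    exact (mul_cancel_left_mem_nonZeroDivisors ht).1 this
  rw [h3] at hc'
  exact hq'.ne_top ((Ideal.eq_top_iff_one _).2 (hT hc'))

/-- faithfully flat descent for a flat local homomorphism of local rings -/
lemma ff_descent {R S : Type*} [CommRing R] [CommRing S] [IsLocalRing R] [IsLocalRing S]
    (ψ : R →+* S) (hψ : ψ.Flat) [hloc : IsLocalHom ψ] :
    Function.Injective ψ ∧ ∀ x y : R, ψ x ∈ Ideal.span {ψ y} → x ∈ Ideal.span {y} := by
  algebraize [ψ]
  haveI : IsLocalHom (algebraMap R S) := hloc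
  haveI hff : Module.FaithfullyFlat R S := Module.FaithfullyFlat.of_flat_of_isLocalHom
  refine ⟨FaithfulSMul.algebraMap_injective R S, ?_⟩
  intro x y hxy
  have h1 := Ideal.comap_map_eq_self_of_faithfullyFlat (B := S) (Ideal.span {y})
  rw [← h1, Ideal.mem_comap, Ideal.map_span, Set.image_singleton]
  exact hxy

lemma local_generator_aux {A B Aq Bq : Type*} [CommRing A] [CommRing B] [CommRing Aq] [CommRing Bq]
    [Algebra A Aq] [Algebra B Bq] (q : Ideal A) [hq : q.IsPrime] (q' : Ideal B) [hq' : q'.IsPrime]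
    [IsLocalization.AtPrime Aq q] [IsLocalization.AtPrime Bq q']
    (φ : A →+* B) (ψ : Aq →+* Bq)
    (hψmap : ∀ x, ψ (algebraMap A Aq x) = algebraMap B Bq (φ x))
    (hinj : Function.Injective ψ)
    (hdesc : ∀ x y : Aq, ψ x ∈ Ideal.span {ψ y} → x ∈ Ideal.span {y})
    (I : Ideal A) (t : B) (ht : t ∈ nonZeroDivisors B) (hI : I.map φ = Ideal.span {t})
    (g : A) (b : B) (hb : b ∉ q') (hgb : φ g = b * t) :
    (∀ a ∈ I, ∃ u ∉ q, u * a ∈ Ideal.span {g}) ∧ (∀ h, h * g = 0 → ∃ w ∉ q, w * h = 0) := by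
  have hbu : IsUnit (algebraMap B Bq b) := IsLocalization.map_units Bq (⟨b, hb⟩ : q'.primeCompl)
  constructor
  · intro a ha
    have hat : φ a ∈ Ideal.span {t} := hI ▸ Ideal.mem_map_of_mem φ ha
    obtain ⟨c, hc⟩ := Ideal.mem_span_singleton'.1 hat
    have h1 : b * φ a = c * φ g := by rw [hgb, ← hc]; ring
    have h2 : ψ (algebraMap A Aq a) ∈ Ideal.span {ψ (algebraMap A Aq g)} := by
      rw [hψmap, hψmap, Ideal.mem_span_singleton']
      obtain ⟨ub, hub⟩ := hbu
      refine ⟨↑ub⁻¹ * algebraMap B Bq c, ?_⟩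
      have h3 := congrArg (algebraMap B Bq) h1
      rw [map_mul, map_mul, ← hub] at h3
      calc ↑ub⁻¹ * algebraMap B Bq c * algebraMap B Bq (φ g)
          = ↑ub⁻¹ * (algebraMap B Bq c * algebraMap B Bq (φ g)) := by ring
        _ = ↑ub⁻¹ * (↑ub * algebraMap B Bq (φ a)) := by rw [h3]
        _ = algebraMap B Bq (φ a) := by rw [← mul_assoc, Units.inv_mul, one_mul]
    have h4 : algebraMap A Aq a ∈ Ideal.span {algebraMap A Aq g} := hdesc _ _ h2
    obtain ⟨z, hz⟩ := Ideal.mem_span_singleton'.1 h4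
    obtain ⟨zs, hzs⟩ := IsLocalization.surj q.primeCompl z
    have h5 : algebraMap A Aq (↑zs.2 * a) = algebraMap A Aq (zs.1 * g) := by
      rw [map_mul, map_mul, ← hz, ← hzs]; ring
    obtain ⟨u', hu'⟩ := (IsLocalization.eq_iff_exists q.primeCompl Aq).1 h5
    refine ⟨↑u' * ↑zs.2, hq.mul_notMem (show (↑u' : A) ∉ q from u'.2)
      (show (↑zs.2 : A) ∉ q from zs.2.2), ?_⟩
    rw [Ideal.mem_span_singleton']
    exact ⟨↑u' * zs.1, by linear_combination (-1 : A) * hu'⟩
  · intro h hh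
    have h1 : φ h * b = 0 := by
      have : (φ h * b) * t = 0 := by
        rw [mul_assoc, ← hgb, ← map_mul, hh, map_zero]
      exact (mem_nonZeroDivisors_iff_right.1 ht) _ this
    have h2 : algebraMap B Bq (φ h) = 0 := by
      have h3 := congrArg (algebraMap B Bq) h1
      rw [map_mul, map_zero] at h3
      exact (IsUnit.mul_left_eq_zero hbu).1 h3
    have h4 : algebraMap A Aq h = 0 := by
      apply hinj
      rw [hψmap, h2, map_zero]
    obtain ⟨w, hw⟩ := (IsLocalization.map_eq_zero_iff q.primeCompl Aq h).1 h4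
    exact ⟨↑w, w.2, hw⟩

/-- flat descent of a local principal generator -/
lemma local_generator {A B : Type*} [CommRing A] [CommRing B] (φ : A →+* B) (hφ : φ.Flat)
    (q' : Ideal B) [hq' : q'.IsPrime] (I : Ideal A) (t : B) (ht : t ∈ nonZeroDivisors B)
    (hI : I.map φ = Ideal.span {t}) :
    ∃ g ∈ I, (∀ a ∈ I, ∃ u ∉ q'.comap φ, u * a ∈ Ideal.span {g}) ∧
      (∀ h, h * g = 0 → ∃ w ∉ q'.comap φ, w * h = 0) := by
  obtain ⟨g, hgI, b, hb, hgb⟩ := exists_gen_unit φ q' I t ht hI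
  haveI hqprime : (q'.comap φ).IsPrime := Ideal.IsPrime.comap φ
  have hψflat : (Localization.localRingHom (q'.comap φ) q' φ rfl).Flat :=
    RingHom.Flat.localRingHom hφ q' (q'.comap φ) rfl
  haveI hψloc : IsLocalHom (Localization.localRingHom (q'.comap φ) q' φ rfl) :=
    Localization.isLocalHom_localRingHom (q'.comap φ) q' φ rfl
  obtain ⟨hinj, hdesc⟩ := ff_descent (Localization.localRingHom (q'.comap φ) q' φ rfl) hψflat
  exact ⟨g, hgI, local_generator_aux (Aq := Localization.AtPrime (q'.comap φ))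
    (Bq := Localization.AtPrime q') (q'.comap φ) q' φ
    (Localization.localRingHom (q'.comap φ) q' φ rfl)
    (fun x => Localization.localRingHom_to_map (q'.comap φ) q' φ rfl x)
    hinj hdesc I t ht hI g b hb hgb⟩

/-- over a Noetherian ring, the local generator works on a basic open neighbourhood -/
lemma exists_away_chart {A B : Type*} [CommRing A] [CommRing B] [IsNoetherianRing A]
    (φ : A →+* B) (hφ : φ.Flat)
    (q' : Ideal B) [hq' : q'.IsPrime] (I : Ideal A) (t : B) (ht : t ∈ nonZeroDivisors B)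
    (hI : I.map φ = Ideal.span {t}) :
    ∃ f ∉ q'.comap φ, ∃ g ∈ I, (∀ a ∈ I, f * a ∈ Ideal.span {g}) ∧
      (∀ h, h * g = 0 → f * h = 0) := by
  obtain ⟨g, hgI, h1, h2⟩ := local_generator φ hφ q' I t ht hI
  haveI hqprime : (q'.comap φ).IsPrime := Ideal.IsPrime.comap φ
  obtain ⟨f₁, hf₁, hf₁'⟩ := exists_mul_mem_of_fg (q'.comap φ) (Ideal.span {g}) I
    (IsNoetherian.noetherian I) h1
  have hN : ∀ x ∈ annIdeal g, ∃ u ∉ q'.comap φ, u * x ∈ (⊥ : Ideal A) := by
    intro x hx
    obtain ⟨w, hw, hwx⟩ := h2 x ((mem_annIdeal g x).1 hx)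
    exact ⟨w, hw, by rw [hwx]; exact Ideal.zero_mem _⟩
  obtain ⟨f₂, hf₂, hf₂'⟩ := exists_mul_mem_of_fg (q'.comap φ) ⊥ (annIdeal g)
    (IsNoetherian.noetherian (annIdeal g)) hN
  refine ⟨f₁ * f₂, hqprime.mul_notMem hf₁ hf₂, g, hgI, ?_, ?_⟩
  · intro a ha
    rw [mul_right_comm]
    exact Ideal.mul_mem_right _ _ (hf₁' a ha)
  · intro h hh
    have h3 : f₂ * h ∈ (⊥ : Ideal A) := hf₂' h ((mem_annIdeal g h).2 hh)
    rw [Ideal.mem_bot] at h3
    rw [mul_assoc, h3, mul_zero]

/-- on the localization away from `f`, the ideal becomes principal generated by a nonzerodivisor -/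
lemma away_chart {A : Type*} [CommRing A] (I : Ideal A) (f g : A) (hgI : g ∈ I)
    (h2 : ∀ a ∈ I, f * a ∈ Ideal.span {g}) (h3 : ∀ h, h * g = 0 → f * h = 0)
    (Af : Type*) [CommRing Af] [Algebra A Af] [IsLocalization.Away f Af] :
    algebraMap A Af g ∈ nonZeroDivisors Af ∧
      I.map (algebraMap A Af) = Ideal.span {algebraMap A Af g} := by
  have hfu : IsUnit (algebraMap A Af f) := IsLocalization.Away.algebraMap_isUnit f
  constructor
  · rw [mem_nonZeroDivisors_iff_right]
    intro z hz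
    obtain ⟨n, a, hza⟩ := IsLocalization.Away.surj f z
    have h4 : algebraMap A Af (a * g) = 0 := by
      rw [map_mul, ← hza, mul_right_comm, hz, zero_mul]
    obtain ⟨⟨_, m, rfl⟩, hm⟩ := (IsLocalization.map_eq_zero_iff (Submonoid.powers f) Af _).1 h4
    have h5 : f * (f ^ m * a) = 0 := h3 _ (by rw [mul_assoc]; exact hm)
    have h6 : algebraMap A Af a = 0 := by
      have h7 := congrArg (algebraMap A Af) h5
      rw [map_mul, map_mul, map_pow, map_zero] at h7
      have h8 := (IsUnit.mul_right_eq_zero hfu).1 h7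
      exact (IsUnit.mul_right_eq_zero (hfu.pow m)).1 h8
    have h9 : z * algebraMap A Af f ^ n = 0 := by rw [hza, h6]
    exact (IsUnit.mul_left_eq_zero (hfu.pow n)).1 h9
  · apply le_antisymm
    · rw [Ideal.map_le_iff_le_comap]
      intro a ha
      rw [Ideal.mem_comap]
      obtain ⟨r, hr⟩ := Ideal.mem_span_singleton'.1 (h2 a ha)
      have h4 : algebraMap A Af f * algebraMap A Af a ∈ Ideal.span {algebraMap A Af g} := by
        rw [← map_mul, ← hr, map_mul]
        exact Ideal.mul_mem_left _ _ (Ideal.mem_span_singleton_self _)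
      exact (Ideal.unit_mul_mem_iff_mem _ hfu).1 h4
    · rw [Ideal.span_le, Set.singleton_subset_iff]
      exact Ideal.mem_map_of_mem _ hgI

end Algebra

section Scheme

/-- Effective Cartier ideals descend along flat surjective morphisms onto locally Noetherian
schemes. -/
theorem main {X Y : Scheme.{u}} (p : Y ⟶ X) [Flat p] [Surjective p] [IsLocallyNoetherian X]
    (𝓘 : X.IdealSheafData) (hK : BlowUp.IsEffCartierIdeal (𝓘.comap p)) :
    BlowUp.IsEffCartierIdeal 𝓘 := by
  intro x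
  obtain ⟨x', rfl⟩ := p.surjective x
  obtain ⟨U, hxU⟩ : ∃ U : X.affineOpens, p x' ∈ U.1 := by
    obtain ⟨_, ⟨U₀, hU₀, rfl⟩, hxU₀, -⟩ :=
      X.isBasis_affineOpens.exists_subset_of_mem_open (Set.mem_univ (p x')) isOpen_univ
    exact ⟨⟨U₀, hU₀⟩, hxU₀⟩
  obtain ⟨V, hx'V, hVW, t, ht, hIt⟩ := EffCartierOld.exists_chart_le hK x' (p ⁻¹ᵁ U.1) hxU
  have hcomap : (𝓘.comap p).ideal V = (𝓘.ideal U).map (p.appLE U.1 V.1 hVW).hom :=
    IdealComapOld.ideal_comap p 𝓘 U V hVW
  have hflat : (p.appLE U.1 V.1 hVW).hom.Flat :=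
    HasRingHomProperty.appLE (P := @Flat) p inferInstance U V hVW
  haveI : IsNoetherianRing Γ(X, U.1) := IsLocallyNoetherian.component_noetherian U
  have hprime := IsAffineOpen.comap_primeIdealOf_appLE (f := p) (x := x') U.1 U.2 V.1 V.2 hVW hx'V
  obtain ⟨f, hf, g, hgI, h2, h3⟩ := exists_away_chart (p.appLE U.1 V.1 hVW).hom hflat
    (V.2.primeIdealOf ⟨x', hx'V⟩).asIdeal (𝓘.ideal U) t ht (hcomap.symm.trans hIt)
  have hf' : f ∉ (U.2.primeIdealOf ⟨p x', hVW hx'V⟩).asIdeal := by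
    rw [← hprime]
    exact hf
  have hxf : p x' ∈ X.basicOpen f :=
    (EffCartierOld.mem_basicOpen_iff_notMem_primeIdealOf U.2 (p x') (hVW hx'V) f).2 hf'
  have hloc : IsLocalization.Away f Γ(X, X.basicOpen f) := U.2.isLocalization_basicOpen f
  obtain ⟨h4, h5⟩ := away_chart (𝓘.ideal U) f g hgI h2 h3 Γ(X, X.basicOpen f)
  refine ⟨X.affineBasicOpen f, hxf, algebraMap Γ(X, U.1) Γ(X, X.basicOpen f) g, h4, ?_⟩
  rw [← 𝓘.map_ideal_basicOpen U f]
  exact h5

end Scheme

end Groth.Agent.Helper28.CartierDescent
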