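import Mathlib

/-!
# Gluing sections and morphisms of modules along a system of charts (helper28)

A `ChartSys` on a scheme `X` is a family of opens `O i` covering `X`, with a module `N i` for each
chart and "transition relations" `Rel i k` between sections of `N i` and `N k` (for `k` a "basic"
chart inside `i`), functional in the second variable.  A module `L` with maps `lam i : L ⟶ N i`
is *adapted* if each `lam i` is bijective on sections over opens inside `O i` and the `lam`'s are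
related by `Rel`.  We glue sections of an adapted module from compatible families of sections of
the `N i`, and glue morphisms into an adapted module.
-/

set_option autoImplicit false
universe u
open CategoryTheory CategoryTheory.Limits AlgebraicGeometry Opposite TopologicalSpace

namespace Groth.Agent.Helper28.ChartGlue

variable {X : Scheme.{u}}

section Basic

/-- restriction of sections of a module. -/
noncomputable abbrev rs (M : X.Modules) {W W' : X.Opens} (h : W' ≤ W) (s : Γ(M, W)) : Γ(M, W') :=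
  M.presheaf.map (homOfLE h).op s

lemma rs_rs (M : X.Modules) {W W' W'' : X.Opens} (h : W' ≤ W) (h' : W'' ≤ W') (s : Γ(M, W)) :
    rs M h' (rs M h s) = rs M (h'.trans h) s := by
  have c : M.presheaf.map (homOfLE h).op ≫ M.presheaf.map (homOfLE h').op =
      M.presheaf.map (homOfLE (h'.trans h)).op := by
    rw [← M.presheaf.map_comp]; rfl
  exact congr($c s)

lemma rs_self (M : X.Modules) {W : X.Opens} (h : W ≤ W) (s : Γ(M, W)) : rs M h s = s := by
  have c : M.presheaf.map (homOfLE h).op = 𝟙 _ := by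
    rw [← M.presheaf.map_id]; rfl
  exact congr($c s)

lemma rs_add (M : X.Modules) {W W' : X.Opens} (h : W' ≤ W) (s t : Γ(M, W)) :
    rs M h (s + t) = rs M h s + rs M h t := map_add _ s t

lemma rs_smul (M : X.Modules) {W W' : X.Opens} (h : W' ≤ W) (r : Γ(X, W)) (s : Γ(M, W)) :
    rs M h (r • s) = X.presheaf.map (homOfLE h).op r • rs M h s :=
  Scheme.Modules.map_smul M (homOfLE h) r s

lemma map_eq_rs (M : X.Modules) {W W' : X.Opens} (i : W' ⟶ W) (s : Γ(M, W)) :
    M.presheaf.map i.op s = rs M i.le s := rfl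

lemma app_rs {M N : X.Modules} (φ : M ⟶ N) {W W' : X.Opens} (h : W' ≤ W) (s : Γ(M, W)) :
    φ.app W' (rs M h s) = rs N h (φ.app W s) :=
  congr($(φ.mapPresheaf.naturality (homOfLE h).op) s)

lemma sec_ext (M : X.Modules) {W : X.Opens} (s t : Γ(M, W))
    (h : ∀ x ∈ W, ∃ (V : X.Opens) (hV : V ≤ W), x ∈ V ∧ rs M hV s = rs M hV t) : s = t := by
  choose V hV hxV e using h
  apply TopCat.Sheaf.eq_of_locally_eq' ⟨M.presheaf, M.isSheaf⟩ (fun y : W => V y.1 y.2) W
    (fun y => homOfLE (hV y.1 y.2))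
  · intro y hy
    exact Opens.mem_iSup.2 ⟨⟨y, hy⟩, hxV y hy⟩
  · intro y
    exact e y.1 y.2

end Basic

/-- a system of charts with target modules and transition relations. -/
structure ChartSys (X : Scheme.{u}) where
  /-- the index type of the charts -/
  ι : Type u
  /-- the chart opens -/
  O : ι → X.Opens
  /-- the target modules -/
  N : ι → X.Modules
  /-- `basic i k`: the chart `k` is a basic sub-chart of `i` -/
  basic : ι → ι → Prop
  /-- the transition relations -/
  Rel : ∀ (i k : ι) (W : X.Opens), Γ(N i, W) → Γ(N k, W) → Prop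
  func : ∀ (i k : ι), basic i k → ∀ (W : X.Opens), W ≤ O k →
    ∀ (a : Γ(N i, W)) (b b' : Γ(N k, W)), Rel i k W a b → Rel i k W a b' → b = b'
  cover : ∀ x : X, ∃ i, x ∈ O i
  inter : ∀ (i j : ι) (x : X), x ∈ O i → x ∈ O j → ∃ k, basic i k ∧ basic j k ∧ x ∈ O k
  res_inj : ∀ (i : ι) (W W' : X.Opens) (h : W' ≤ W), W ⊓ O i ≤ W' →
    Function.Injective (rs (N i) h)

/-- a module with maps to the targets of a chart system, identified with them chartwise. -/
structure Adapted (Sys : ChartSys X) (L : X.Modules) (lam : ∀ i, L ⟶ Sys.N i) : Prop where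
  bij : ∀ i (W : X.Opens), W ≤ Sys.O i → Function.Bijective ((lam i).app W)
  compat : ∀ i k, Sys.basic i k → ∀ (W : X.Opens) (s : Γ(L, W)),
    Sys.Rel i k W ((lam i).app W s) ((lam k).app W s)

/-- a compatible family of sections of the targets over the small opens inside `W`. -/
structure Fam (Sys : ChartSys X) (W : X.Opens) where
  /-- the sections -/
  c : ∀ (i : Sys.ι) (W' : X.Opens), W' ≤ W → W' ≤ Sys.O i → Γ(Sys.N i, W')
  res : ∀ i (W' W'' : X.Opens) (h1 : W' ≤ W) (h2 : W' ≤ Sys.O i) (h : W'' ≤ W'),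
    rs (Sys.N i) h (c i W' h1 h2) = c i W'' (h.trans h1) (h.trans h2)
  rel : ∀ i k, Sys.basic i k → ∀ (W' : X.Opens) (h1 : W' ≤ W) (hi : W' ≤ Sys.O i)
    (hk : W' ≤ Sys.O k), Sys.Rel i k W' (c i W' h1 hi) (c k W' h1 hk)

section Glue

variable {Sys : ChartSys X} {L : X.Modules} {lam : ∀ i, L ⟶ Sys.N i}

theorem sec_ext_charts (hL : Adapted Sys L lam) {W : X.Opens} (s t : Γ(L, W))
    (h : ∀ i, (lam i).app (W ⊓ Sys.O i) (rs L inf_le_left s) =
      (lam i).app (W ⊓ Sys.O i) (rs L inf_le_left t)) : s = t := by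
  apply sec_ext
  intro x hx
  obtain ⟨i, hi⟩ := Sys.cover x
  exact ⟨W ⊓ Sys.O i, inf_le_left, ⟨hx, hi⟩, (hL.bij i _ inf_le_right).1 (h i)⟩

theorem exists_unique_glue (hL : Adapted Sys L lam) {W : X.Opens} (F : Fam Sys W) :
    ∃! σ : Γ(L, W), ∀ i (W' : X.Opens) (h1 : W' ≤ W) (h2 : W' ≤ Sys.O i),
      (lam i).app W' (rs L h1 σ) = F.c i W' h1 h2 := by
  have hsurj : ∀ i, ∃ s : Γ(L, W ⊓ Sys.O i),
      (lam i).app _ s = F.c i (W ⊓ Sys.O i) inf_le_left inf_le_right :=
    fun i => (hL.bij i _ inf_le_right).2 _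
  choose σi hσi using hsurj
  have key1 : ∀ i (W' : X.Opens) (h : W' ≤ W ⊓ Sys.O i),
      (lam i).app W' (rs L h (σi i)) =
        F.c i W' (h.trans inf_le_left) (h.trans inf_le_right) := by
    intro i W' h
    rw [app_rs, hσi, F.res]
  have key2 : ∀ i k (_ : Sys.basic i k) (W' : X.Opens) (h : W' ≤ W ⊓ Sys.O i)
      (hk : W' ≤ Sys.O k),
      (lam k).app W' (rs L h (σi i)) = F.c k W' (h.trans inf_le_left) hk := by
    intro i k hik W' h hk
    have r1 := hL.compat i k hik W' (rs L h (σi i))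
    rw [key1] at r1
    have r2 := F.rel i k hik W' (h.trans inf_le_left) (h.trans inf_le_right) hk
    exact Sys.func i k hik W' hk _ _ _ r1 r2
  have hcompat : TopCat.Presheaf.IsCompatible L.presheaf (fun i => W ⊓ Sys.O i) σi := by
    intro i j
    apply sec_ext
    intro x hx
    obtain ⟨k, hik, hjk, hxk⟩ := Sys.inter i j x hx.1.2 hx.2.2
    refine ⟨((W ⊓ Sys.O i) ⊓ (W ⊓ Sys.O j)) ⊓ Sys.O k, inf_le_left, ⟨hx, hxk⟩, ?_⟩
    have e1 : rs L (inf_le_left : ((W ⊓ Sys.O i) ⊓ (W ⊓ Sys.O j)) ⊓ Sys.O k ≤ _)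
        (L.presheaf.map (Opens.infLELeft (W ⊓ Sys.O i) (W ⊓ Sys.O j)).op (σi i)) =
        rs L (inf_le_left.trans inf_le_left) (σi i) := rs_rs L _ _ _
    have e2 : rs L (inf_le_left : ((W ⊓ Sys.O i) ⊓ (W ⊓ Sys.O j)) ⊓ Sys.O k ≤ _)
        (L.presheaf.map (Opens.infLERight (W ⊓ Sys.O i) (W ⊓ Sys.O j)).op (σi j)) =
        rs L (inf_le_left.trans inf_le_right) (σi j) := rs_rs L _ _ _
    rw [e1, e2]
    apply (hL.bij k _ inf_le_right).1
    rw [key2 i k hik _ _ inf_le_right, key2 j k hjk _ _ inf_le_right]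
  have hcov : W ≤ iSup (fun i => W ⊓ Sys.O i) := by
    intro x hx
    obtain ⟨i, hi⟩ := Sys.cover x
    exact Opens.mem_iSup.2 ⟨i, ⟨hx, hi⟩⟩
  obtain ⟨σ, hσ, huniq⟩ := TopCat.Sheaf.existsUnique_gluing' ⟨L.presheaf, L.isSheaf⟩
    (fun i => W ⊓ Sys.O i) W (fun i => homOfLE inf_le_left) hcov σi hcompat
  refine ⟨σ, ?_, ?_⟩
  · intro i W' h1 h2
    have h : W' ≤ W ⊓ Sys.O i := le_inf h1 h2
    have e0 : rs L (inf_le_left : W ⊓ Sys.O i ≤ W) σ = σi i := hσ i
    have e : rs L h1 σ = rs L h (σi i) := by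
      rw [← e0, rs_rs]
    rw [e, key1]
  · intro σ' hσ'
    apply huniq
    intro i
    apply (hL.bij i _ inf_le_right).1
    have e := hσ' i _ inf_le_left inf_le_right
    exact e.trans (hσi i).symm

/-- the glued section. -/
noncomputable def glueSec (hL : Adapted Sys L lam) {W : X.Opens} (F : Fam Sys W) : Γ(L, W) :=
  (exists_unique_glue hL F).choose

lemma glueSec_spec (hL : Adapted Sys L lam) {W : X.Opens} (F : Fam Sys W) (i : Sys.ι)
    (W' : X.Opens) (h1 : W' ≤ W) (h2 : W' ≤ Sys.O i) :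
    (lam i).app W' (rs L h1 (glueSec hL F)) = F.c i W' h1 h2 :=
  (exists_unique_glue hL F).choose_spec.1 i W' h1 h2

lemma glueSec_unique (hL : Adapted Sys L lam) {W : X.Opens} (F : Fam Sys W) (σ : Γ(L, W))
    (h : ∀ i (W' : X.Opens) (h1 : W' ≤ W) (h2 : W' ≤ Sys.O i),
      (lam i).app W' (rs L h1 σ) = F.c i W' h1 h2) : σ = glueSec hL F :=
  (exists_unique_glue hL F).choose_spec.2 σ h

end Glue

/-- a family of maps from the sections of `F` over small opens to the targets. -/
structure HomFam (Sys : ChartSys X) (F : X.Modules) where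
  /-- the maps -/
  θ : ∀ (i : Sys.ι) (W : X.Opens), W ≤ Sys.O i → Γ(F, W) → Γ(Sys.N i, W)
  add : ∀ i W h a b, θ i W h (a + b) = θ i W h a + θ i W h b
  smul : ∀ i W h (r : Γ(X, W)) a, θ i W h (r • a) = r • θ i W h a
  res : ∀ i (W W' : X.Opens) (h : W ≤ Sys.O i) (h' : W' ≤ W) a,
    rs (Sys.N i) h' (θ i W h a) = θ i W' (h'.trans h) (rs F h' a)
  rel : ∀ i k, Sys.basic i k → ∀ W (hi : W ≤ Sys.O i) (hk : W ≤ Sys.O k) a,
    Sys.Rel i k W (θ i W hi a) (θ k W hk a)

section GlueHom

variable {Sys : ChartSys X} {L : X.Modules} {lam : ∀ i, L ⟶ Sys.N i} {F : X.Modules}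

/-- the compatible family attached to a section. -/
noncomputable def HomFam.fam (T : HomFam Sys F) {W : X.Opens} (s : Γ(F, W)) : Fam Sys W where
  c i W' h1 h2 := T.θ i W' h2 (rs F h1 s)
  res i W' W'' h1 h2 h := by
    rw [T.res, rs_rs]
  rel i k hik W' h1 hi hk := T.rel i k hik W' hi hk _

lemma HomFam.fam_c (T : HomFam Sys F) {W : X.Opens} (s : Γ(F, W)) (i : Sys.ι) (W' : X.Opens)
    (h1 : W' ≤ W) (h2 : W' ≤ Sys.O i) : (T.fam s).c i W' h1 h2 = T.θ i W' h2 (rs F h1 s) := rfl

variable (hL : Adapted Sys L lam) (T : HomFam Sys F)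

lemma glue_add {W : X.Opens} (s t : Γ(F, W)) :
    glueSec hL (T.fam (s + t)) = glueSec hL (T.fam s) + glueSec hL (T.fam t) := by
  symm
  apply glueSec_unique
  intro i W' h1 h2
  rw [HomFam.fam_c, rs_add, map_add, glueSec_spec hL _ i W' h1 h2,
    glueSec_spec hL _ i W' h1 h2, HomFam.fam_c, HomFam.fam_c, rs_add, T.add]

lemma glue_smul {W : X.Opens} (r : Γ(X, W)) (s : Γ(F, W)) :
    glueSec hL (T.fam (r • s)) = r • glueSec hL (T.fam s) := by
  symm
  apply glueSec_unique
  intro i W' h1 h2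
  rw [HomFam.fam_c, rs_smul, Scheme.Modules.Hom.app_smul, glueSec_spec hL _ i W' h1 h2,
    HomFam.fam_c, rs_smul, T.smul]

lemma glue_res {W W' : X.Opens} (h : W' ≤ W) (s : Γ(F, W)) :
    rs L h (glueSec hL (T.fam s)) = glueSec hL (T.fam (rs F h s)) := by
  apply glueSec_unique
  intro i W'' h1 h2
  rw [HomFam.fam_c, rs_rs, rs_rs, glueSec_spec hL _ i W'' (h1.trans h) h2, HomFam.fam_c]

lemma glue_res' {W W' : X.Opens} (i : W' ⟶ W) (s : Γ(F, W)) :
    L.presheaf.map i.op (glueSec hL (T.fam s)) = glueSec hL (T.fam (F.presheaf.map i.op s)) :=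
  glue_res hL T i.le s

/-- the glued morphism. -/
noncomputable def glueHom : F ⟶ L :=
  (⟨PresheafOfModules.homMk (M₁ := F.val) (M₂ := L.val)
    { app := fun U => AddCommGrpCat.ofHom
        (AddMonoidHom.mk' (fun s : Γ(F, U.unop) => (glueSec hL (T.fam s) : Γ(L, U.unop)))
          (fun s t => glue_add hL T s t))
      naturality := fun U V i => by
        ext s
        exact (glue_res' hL T i.unop s).symm }
    (fun U r s => glue_smul hL T (W := U.unop) r s)⟩ : SheafOfModules.Hom _ _)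

lemma glueHom_app (W : X.Opens) (s : Γ(F, W)) :
    (glueHom hL T).app W s = glueSec hL (T.fam s) := rfl

lemma glueHom_spec (i : Sys.ι) (W : X.Opens) (h : W ≤ Sys.O i) (s : Γ(F, W)) :
    (lam i).app W ((glueHom hL T).app W s) = T.θ i W h s := by
  have e := glueSec_spec hL (T.fam s) i W le_rfl h
  rw [rs_self, HomFam.fam_c, rs_self] at e
  exact e

include hL in
/-- morphisms into an adapted module are determined on the small opens. -/
theorem hom_ext_charts (φ φ' : F ⟶ L)
    (h : ∀ i (W : X.Opens), W ≤ Sys.O i → ∀ s : Γ(F, W),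
      (lam i).app W (φ.app W s) = (lam i).app W (φ'.app W s)) : φ = φ' := by
  apply Scheme.Modules.hom_ext
  intro W
  ext s
  apply sec_ext_charts hL
  intro i
  rw [← app_rs, ← app_rs]
  exact h i _ inf_le_right _

end GlueHom

section Lift

variable {Sys : ChartSys X} {L : X.Modules} {lam : ∀ i, L ⟶ Sys.N i}

/-- the family of maps attached to morphisms into the targets. -/
noncomputable def homFamOfHoms {F : X.Modules} (θ : ∀ i, F ⟶ Sys.N i)
    (hθ : ∀ i k, Sys.basic i k → ∀ (W : X.Opens) (s : Γ(F, W)),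
      Sys.Rel i k W ((θ i).app W s) ((θ k).app W s)) : HomFam Sys F where
  θ i W _ s := (θ i).app W s
  add i W _ a b := map_add _ a b
  smul i W _ r a := Scheme.Modules.Hom.app_smul (θ i) r a
  res i W W' _ h' a := (app_rs (θ i) h' a).symm
  rel i k hik W _ _ a := hθ i k hik W a

/-- morphisms into an adapted module: existence and uniqueness of the lift of a compatible family
of morphisms into the targets. -/
theorem existsUnique_lift (hL : Adapted Sys L lam) (F : X.Modules) (θ : ∀ i, F ⟶ Sys.N i)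
    (hθ : ∀ i k, Sys.basic i k → ∀ (W : X.Opens) (s : Γ(F, W)),
      Sys.Rel i k W ((θ i).app W s) ((θ k).app W s)) :
    ∃! φ : F ⟶ L, ∀ i, φ ≫ lam i = θ i := by
  refine ⟨glueHom hL (homFamOfHoms θ hθ), ?_, ?_⟩
  · intro i
    apply Scheme.Modules.hom_ext
    intro W
    ext s
    apply Sys.res_inj i W (W ⊓ Sys.O i) inf_le_left le_rfl
    change rs (Sys.N i) _ ((lam i).app W ((glueHom hL (homFamOfHoms θ hθ)).app W s)) =
      rs (Sys.N i) _ ((θ i).app W s)
    rw [← app_rs, ← app_rs, ← app_rs, glueHom_spec hL _ i _ inf_le_right]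
    rfl
  · intro φ hφ
    apply hom_ext_charts hL
    intro i W hW s
    rw [glueHom_spec hL _ i W hW]
    change ((φ ≫ lam i).app W s) = _
    rw [hφ i]
    rfl

/-- two adapted modules are uniquely isomorphic. -/
theorem existsUnique_iso {L' : X.Modules} {lam' : ∀ i, L' ⟶ Sys.N i}
    (hL : Adapted Sys L lam) (hL' : Adapted Sys L' lam') :
    (∃! φ : L ⟶ L', ∀ i, φ ≫ lam' i = lam i) ∧
      ∀ φ : L ⟶ L', (∀ i, φ ≫ lam' i = lam i) → IsIso φ := by
  obtain ⟨φ, hφ, hφu⟩ := existsUnique_lift hL' L lam (fun i k hik W s => hL.compat i k hik W s)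
  obtain ⟨ψ, hψ, -⟩ := existsUnique_lift hL L' lam' (fun i k hik W s => hL'.compat i k hik W s)
  have h1 : φ ≫ ψ = 𝟙 L := by
    apply hom_ext_charts hL
    intro i W _ s
    change ((φ ≫ ψ) ≫ lam i).app W s = (𝟙 L ≫ lam i).app W s
    rw [Category.assoc, hψ i, hφ i, Category.id_comp]
  have h2 : ψ ≫ φ = 𝟙 L' := by
    apply hom_ext_charts hL'
    intro i W _ s
    change ((ψ ≫ φ) ≫ lam' i).app W s = (𝟙 L' ≫ lam' i).app W s
    rw [Category.assoc, hφ i, hψ i, Category.id_comp]
  refine ⟨⟨φ, hφ, hφu⟩, ?_⟩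
  intro φ' hφ'
  rw [hφu φ' hφ']
  exact ⟨ψ, h1, h2⟩

end Lift

end Groth.Agent.Helper28.ChartGlue
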