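import Mathlib
import Groth.Agent.Lib.Helper28.ChartGlue

/-!
# Existence of a module adapted to a system of charts (helper28)

Given a `ChartSys` whose transition relations are linear, local, transitive and bijective on the
small opens, the module of compatible families `(a i) ∈ ∏ N i` is adapted to the system.
-/

set_option autoImplicit false
universe u
open CategoryTheory CategoryTheory.Limits AlgebraicGeometry Opposite TopologicalSpace

noncomputable section

namespace Groth.Agent.Helper28.ChartGlue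

variable {X : Scheme.{u}}

/-- the extra properties of a chart system under which an adapted module exists. -/
structure Glueable (Sys : ChartSys X) : Prop where
  le : ∀ i k, Sys.basic i k → Sys.O k ≤ Sys.O i
  trans_basic : ∀ i k m, Sys.basic i k → Sys.basic k m → Sys.basic i m
  rel_zero : ∀ i k, Sys.basic i k → ∀ W : X.Opens, Sys.Rel i k W 0 0
  rel_add : ∀ i k, Sys.basic i k → ∀ (W : X.Opens) (a a' : Γ(Sys.N i, W)) (b b' : Γ(Sys.N k, W)),
    Sys.Rel i k W a b → Sys.Rel i k W a' b' → Sys.Rel i k W (a + a') (b + b')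
  rel_smul : ∀ i k, Sys.basic i k → ∀ (W : X.Opens) (c : Γ(X, W)) (a : Γ(Sys.N i, W))
    (b : Γ(Sys.N k, W)), Sys.Rel i k W a b → Sys.Rel i k W (c • a) (c • b)
  rel_res : ∀ i k, Sys.basic i k → ∀ (W W' : X.Opens) (h : W' ≤ W) (a : Γ(Sys.N i, W))
    (b : Γ(Sys.N k, W)), Sys.Rel i k W a b → Sys.Rel i k W' (rs (Sys.N i) h a) (rs (Sys.N k) h b)
  rel_local : ∀ i k, Sys.basic i k → ∀ (W : X.Opens) (a : Γ(Sys.N i, W)) (b : Γ(Sys.N k, W)),
    (∀ x ∈ W ⊓ Sys.O k, ∃ (W' : X.Opens) (h : W' ≤ W), x ∈ W' ∧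
      Sys.Rel i k W' (rs (Sys.N i) h a) (rs (Sys.N k) h b)) → Sys.Rel i k W a b
  rel_total : ∀ i k, Sys.basic i k → ∀ (W : X.Opens), W ≤ Sys.O k → ∀ a : Γ(Sys.N i, W),
    ∃ b : Γ(Sys.N k, W), Sys.Rel i k W a b
  rel_inj : ∀ i k, Sys.basic i k → ∀ (W : X.Opens), W ≤ Sys.O k → ∀ (a a' : Γ(Sys.N i, W))
    (b : Γ(Sys.N k, W)), Sys.Rel i k W a b → Sys.Rel i k W a' b → a = a'
  rel_surj : ∀ i k, Sys.basic i k → ∀ (W : X.Opens), W ≤ Sys.O k → ∀ b : Γ(Sys.N k, W),
    ∃ a : Γ(Sys.N i, W), Sys.Rel i k W a b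
  rel_trans : ∀ i k m, Sys.basic i k → Sys.basic k m → ∀ (W : X.Opens), W ≤ Sys.O m →
    ∀ (a : Γ(Sys.N i, W)) (b : Γ(Sys.N k, W)) (c : Γ(Sys.N m, W)),
      Sys.Rel i k W a b → Sys.Rel k m W b c → Sys.Rel i m W a c
  res_surj : ∀ (i : Sys.ι) (W : X.Opens),
    Function.Surjective (rs (Sys.N i) (inf_le_left : W ⊓ Sys.O i ≤ W))

section Exist

variable (Sys : ChartSys X) (G : Glueable Sys)

/-- the sections of the glued module: compatible families. -/
def secSub (W : X.Opens) : Submodule Γ(X, W) (∀ i : Sys.ι, Γ(Sys.N i, W)) where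
  carrier := {a | ∀ i k, Sys.basic i k → Sys.Rel i k W (a i) (a k)}
  zero_mem' := fun i k h => G.rel_zero i k h W
  add_mem' := fun {a b} ha hb i k h => G.rel_add i k h W _ _ _ _ (ha i k h) (hb i k h)
  smul_mem' := fun c {a} ha i k h => G.rel_smul i k h W c _ _ (ha i k h)

/-- restriction of compatible families. -/
def resSec {W W' : X.Opens} (h : W' ≤ W) (a : secSub Sys G W) : secSub Sys G W' :=
  ⟨fun i => rs (Sys.N i) h (a.1 i), fun i k hik => G.rel_res i k hik W W' h _ _ (a.2 i k hik)⟩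

/-- the presheaf of abelian groups of compatible families. -/
noncomputable def glueAb : (Opens X)ᵒᵖ ⥤ AddCommGrpCat.{u} where
  obj W := AddCommGrpCat.of (secSub Sys G W.unop)
  map {W W'} f := AddCommGrpCat.ofHom
    { toFun := resSec Sys G f.unop.le
      map_zero' := Subtype.ext (funext fun i => map_zero _)
      map_add' := fun a b => Subtype.ext (funext fun i => map_add _ _ _) }
  map_id W := by
    ext a i
    exact rs_self (Sys.N i) _ ((a : secSub Sys G W.unop).1 i)
  map_comp {W W' W''} f g := by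
    ext a i
    exact (rs_rs (Sys.N i) f.unop.le g.unop.le ((a : secSub Sys G W.unop).1 i)).symm

lemma glueAb_map_val {W W' : (Opens X)ᵒᵖ} (f : W ⟶ W') (a : secSub Sys G W.unop) (i : Sys.ι) :
    (((glueAb Sys G).map f a : secSub Sys G W'.unop)).1 i = rs (Sys.N i) f.unop.le (a.1 i) := rfl

theorem isSheaf_glueAb : TopCat.Presheaf.IsSheaf (glueAb Sys G) := by
  rw [TopCat.Presheaf.isSheaf_iff_isSheafUniqueGluing]
  intro ι U sf hsf
  have hc : ∀ i : Sys.ι, TopCat.Presheaf.IsCompatible (Sys.N i).presheaf U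
      (fun j => ((sf j : secSub Sys G (U j)).1 i : Γ(Sys.N i, U j))) := by
    intro i j j'
    have := hsf j j'
    exact congrArg (fun a : secSub Sys G (U j ⊓ U j') => a.1 i) this
  have hex := fun i : Sys.ι => TopCat.Sheaf.existsUnique_gluing
    ⟨(Sys.N i).presheaf, (Sys.N i).isSheaf⟩ U _ (hc i)
  choose g hg hguniq using hex
  have hrel : ∀ i k, Sys.basic i k → Sys.Rel i k (iSup U) (g i) (g k) := by
    intro i k hik
    apply G.rel_local i k hik
    rintro x ⟨hx, -⟩
    obtain ⟨j, hj⟩ := Opens.mem_iSup.1 hx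
    refine ⟨U j, le_iSup U j, hj, ?_⟩
    have e1 : rs (Sys.N i) (le_iSup U j) (g i) = (sf j : secSub Sys G (U j)).1 i := hg i j
    have e2 : rs (Sys.N k) (le_iSup U j) (g k) = (sf j : secSub Sys G (U j)).1 k := hg k j
    rw [e1, e2]
    exact (sf j : secSub Sys G (U j)).2 i k hik
  refine ⟨(⟨g, hrel⟩ : secSub Sys G (iSup U)), ?_, ?_⟩
  · intro j
    exact Subtype.ext (funext fun i => hg i j)
  · intro s' hs'
    refine Subtype.ext (funext fun i => ?_)
    apply hguniq i
    intro j
    exact congrArg (fun a : secSub Sys G (U j) => a.1 i) (hs' j)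

/-- the presheaf of modules of compatible families. -/
noncomputable def gluePMod : PresheafOfModules.{u} X.ringCatSheaf.obj :=
  letI (W : (Opens X)ᵒᵖ) : Module ↑(X.ringCatSheaf.obj.obj W) ↑((glueAb Sys G).obj W) :=
    inferInstanceAs (Module Γ(X, W.unop) (secSub Sys G W.unop))
  .ofPresheaf (glueAb Sys G) fun W W' f r a =>
    Subtype.ext (funext fun i => rs_smul (Sys.N i) f.unop.le r ((a : secSub Sys G W.unop).1 i))

/-- the glued module. -/
noncomputable def glueMod : X.Modules where
  val := gluePMod Sys G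
  isSheaf := isSheaf_glueAb Sys G

/-- the projections of the glued module to the targets. -/
noncomputable def proj (i : Sys.ι) : glueMod Sys G ⟶ Sys.N i :=
  (⟨PresheafOfModules.homMk (M₁ := (glueMod Sys G).val) (M₂ := (Sys.N i).val)
    { app := fun U => AddCommGrpCat.ofHom
        (AddMonoidHom.mk' (fun s : secSub Sys G U.unop => (s.1 i : Γ(Sys.N i, U.unop)))
          (fun s t => rfl))
      naturality := fun U V f => by
        ext s
        rfl }
    (fun U r s => rfl)⟩ : SheafOfModules.Hom _ _)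

lemma proj_app (i : Sys.ι) (W : X.Opens) (s : secSub Sys G W) :
    (proj Sys G i).app W s = s.1 i := rfl

end Exist

end Groth.Agent.Helper28.ChartGlue

end
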