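import Mathlib
import Groth.Agent.Lib.Helper28.ChartExist

/-!
# The module of compatible families is adapted (helper28)
-/

set_option autoImplicit false
universe u
open CategoryTheory CategoryTheory.Limits AlgebraicGeometry Opposite TopologicalSpace

noncomputable section

namespace Groth.Agent.Helper28.ChartGlue

variable {X : Scheme.{u}} (Sys : ChartSys X) (G : Glueable Sys)

theorem secSub_ext_of_eq (i₀ : Sys.ι) (W : X.Opens) (hW : W ≤ Sys.O i₀) (s s' : secSub Sys G W)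
    (h : s.1 i₀ = s'.1 i₀) : s = s' := by
  refine Subtype.ext (funext fun j => ?_)
  apply Sys.res_inj j W (W ⊓ Sys.O j) inf_le_left le_rfl
  apply sec_ext (Sys.N j)
  intro x hx
  obtain ⟨k, hik, hjk, hxk⟩ := Sys.inter i₀ j x (hW hx.1) hx.2
  refine ⟨(W ⊓ Sys.O j) ⊓ Sys.O k, inf_le_left, ⟨hx, hxk⟩, ?_⟩
  rw [rs_rs, rs_rs]
  have hV : (W ⊓ Sys.O j) ⊓ Sys.O k ≤ W := inf_le_left.trans inf_le_left
  have hVk : (W ⊓ Sys.O j) ⊓ Sys.O k ≤ Sys.O k := inf_le_right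
  have r1 := G.rel_res j k hjk W _ hV _ _ (s.2 j k hjk)
  have r1' := G.rel_res j k hjk W _ hV _ _ (s'.2 j k hjk)
  have r2 := G.rel_res i₀ k hik W _ hV _ _ (s.2 i₀ k hik)
  have r2' := G.rel_res i₀ k hik W _ hV _ _ (s'.2 i₀ k hik)
  rw [h] at r2
  have e := Sys.func i₀ k hik _ hVk _ _ _ r2 r2'
  rw [e] at r1
  exact G.rel_inj j k hjk _ hVk _ _ _ r1 r1'

theorem exists_secSub_eq (i₀ : Sys.ι) (W : X.Opens) (hW : W ≤ Sys.O i₀) (b : Γ(Sys.N i₀, W)) :
    ∃ s : secSub Sys G W, s.1 i₀ = b := by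
  classical
  have hβ : ∀ k, Sys.basic i₀ k → ∃ β : Γ(Sys.N k, W ⊓ Sys.O k),
      Sys.Rel i₀ k (W ⊓ Sys.O k) (rs (Sys.N i₀) inf_le_left b) β :=
    fun k hk => G.rel_total i₀ k hk _ inf_le_right _
  choose β hβ using hβ
  have hB : ∀ k m (hk : Sys.basic i₀ k) (hkm : Sys.basic k m) (V : X.Opens)
      (h1 : V ≤ W ⊓ Sys.O k) (h2 : V ≤ W ⊓ Sys.O m),
      Sys.Rel k m V (rs (Sys.N k) h1 (β k hk))
        (rs (Sys.N m) h2 (β m (G.trans_basic i₀ k m hk hkm))) := by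
    intro k m hk hkm V h1 h2
    have hm := G.trans_basic i₀ k m hk hkm
    obtain ⟨c, hc⟩ := G.rel_total k m hkm V (h2.trans inf_le_right) (rs (Sys.N k) h1 (β k hk))
    have r1 := G.rel_res i₀ k hk _ V h1 _ _ (hβ k hk)
    rw [rs_rs] at r1
    have r2 := G.rel_trans i₀ k m hk hkm V (h2.trans inf_le_right) _ _ _ r1 hc
    have r3 := G.rel_res i₀ m hm _ V h2 _ _ (hβ m hm)
    rw [rs_rs] at r3
    have e := Sys.func i₀ m hm V (h2.trans inf_le_right) _ _ _ r2 r3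
    rw [← e]
    exact hc
  have ht : ∀ j k (hk : Sys.basic i₀ k) (_ : Sys.basic j k),
      ∃ t : Γ(Sys.N j, W ⊓ Sys.O k), Sys.Rel j k (W ⊓ Sys.O k) t (β k hk) :=
    fun j k hk hjk => G.rel_surj j k hjk _ inf_le_right _
  choose t ht using ht
  have hC : ∀ j k m (hk : Sys.basic i₀ k) (hjk : Sys.basic j k) (hkm : Sys.basic k m)
      (V : X.Opens) (h1 : V ≤ W ⊓ Sys.O k) (h2 : V ≤ W ⊓ Sys.O m),
      Sys.Rel j m V (rs (Sys.N j) h1 (t j k hk hjk))
        (rs (Sys.N m) h2 (β m (G.trans_basic i₀ k m hk hkm))) := by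
    intro j k m hk hjk hkm V h1 h2
    have r1 := G.rel_res j k hjk _ V h1 _ _ (ht j k hk hjk)
    exact G.rel_trans j k m hjk hkm V (h2.trans inf_le_right) _ _ _ r1 (hB k m hk hkm V h1 h2)
  have hglue : ∀ j, ∃ τ : Γ(Sys.N j, W ⊓ Sys.O j),
      ∀ (k : Sys.ι) (hk : Sys.basic i₀ k) (hjk : Sys.basic j k),
        rs (Sys.N j) (inf_le_inf_left W (G.le j k hjk)) τ = t j k hk hjk := by
    intro j
    let K := {k : Sys.ι // Sys.basic i₀ k ∧ Sys.basic j k}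
    let UK : K → X.Opens := fun k => W ⊓ Sys.O k.1
    let sf : ∀ k : K, Γ(Sys.N j, UK k) := fun k => t j k.1 k.2.1 k.2.2
    have hcompat : TopCat.Presheaf.IsCompatible (Sys.N j).presheaf UK sf := by
      intro k k'
      apply sec_ext (Sys.N j)
      intro x hx
      obtain ⟨m, hkm, hk'm, hxm⟩ := Sys.inter k.1 k'.1 x hx.1.2 hx.2.2
      refine ⟨(UK k ⊓ UK k') ⊓ Sys.O m, inf_le_left, ⟨hx, hxm⟩, ?_⟩
      have e1 : rs (Sys.N j) (inf_le_left : (UK k ⊓ UK k') ⊓ Sys.O m ≤ _)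
          ((Sys.N j).presheaf.map (Opens.infLELeft (UK k) (UK k')).op (sf k)) =
          rs (Sys.N j) (inf_le_left.trans inf_le_left) (sf k) := rs_rs (Sys.N j) _ _ _
      have e2 : rs (Sys.N j) (inf_le_left : (UK k ⊓ UK k') ⊓ Sys.O m ≤ _)
          ((Sys.N j).presheaf.map (Opens.infLERight (UK k) (UK k')).op (sf k')) =
          rs (Sys.N j) (inf_le_left.trans inf_le_right) (sf k') := rs_rs (Sys.N j) _ _ _
      rw [e1, e2]
      have hV2 : (UK k ⊓ UK k') ⊓ Sys.O m ≤ W ⊓ Sys.O m :=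
        le_inf (inf_le_left.trans (inf_le_left.trans inf_le_left)) inf_le_right
      have c1 := hC j k.1 m k.2.1 k.2.2 hkm _ (inf_le_left.trans inf_le_left) hV2
      have c2 := hC j k'.1 m k'.2.1 k'.2.2 hk'm _ (inf_le_left.trans inf_le_right) hV2
      exact G.rel_inj j m (G.trans_basic j k.1 m k.2.2 hkm) _ inf_le_right _ _ _ c1 c2
    have hcov : W ⊓ Sys.O j ≤ iSup UK := by
      intro x hx
      obtain ⟨k, hik, hjk, hxk⟩ := Sys.inter i₀ j x (hW hx.1) hx.2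
      exact Opens.mem_iSup.2 ⟨⟨k, hik, hjk⟩, ⟨hx.1, hxk⟩⟩
    obtain ⟨τ, hτ, -⟩ := TopCat.Sheaf.existsUnique_gluing'
      ⟨(Sys.N j).presheaf, (Sys.N j).isSheaf⟩ UK (W ⊓ Sys.O j)
      (fun k => homOfLE (inf_le_inf_left W (G.le j k.1 k.2.2))) hcov sf hcompat
    exact ⟨τ, fun k hk hjk => hτ ⟨k, hk, hjk⟩⟩
  choose τ hτ using hglue
  have ha : ∀ j, ∃ a : Γ(Sys.N j, W), rs (Sys.N j) inf_le_left a = τ j :=
    fun j => G.res_surj j W (τ j)
  choose a ha using ha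
  have hat : ∀ j m (hm : Sys.basic i₀ m) (hjm : Sys.basic j m),
      rs (Sys.N j) (inf_le_left : W ⊓ Sys.O m ≤ W) (a j) = t j m hm hjm := by
    intro j m hm hjm
    rw [← hτ j m hm hjm, ← ha j, rs_rs]
  refine ⟨⟨a, ?_⟩, ?_⟩
  · intro j l hjl
    apply G.rel_local j l hjl
    rintro x ⟨hxW, hxl⟩
    obtain ⟨m, him, hlm, hxm⟩ := Sys.inter i₀ l x (hW hxW) hxl
    have hjm := G.trans_basic j l m hjl hlm
    refine ⟨W ⊓ Sys.O m, inf_le_left, ⟨hxW, hxm⟩, ?_⟩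
    rw [hat j m him hjm, hat l m him hlm]
    have hWl : W ⊓ Sys.O m ≤ Sys.O l := inf_le_right.trans (G.le l m hlm)
    obtain ⟨c, hc⟩ := G.rel_total j l hjl _ hWl (t j m him hjm)
    obtain ⟨d, hd⟩ := G.rel_total l m hlm _ inf_le_right c
    have r1 := G.rel_trans j l m hjl hlm _ inf_le_right _ _ _ hc hd
    have e := Sys.func j m hjm _ inf_le_right _ _ _ r1 (ht j m him hjm)
    rw [e] at hd
    have e2 := G.rel_inj l m hlm _ inf_le_right _ _ _ hd (ht l m him hlm)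
    rw [← e2]
    exact hc
  · change a i₀ = b
    apply Sys.res_inj i₀ W (W ⊓ Sys.O i₀) inf_le_left le_rfl
    rw [ha i₀]
    apply sec_ext (Sys.N i₀)
    intro x hx
    obtain ⟨k, hik, -, hxk⟩ := Sys.inter i₀ i₀ x hx.2 hx.2
    refine ⟨W ⊓ Sys.O k, inf_le_inf_left W (G.le i₀ k hik), ⟨hx.1, hxk⟩, ?_⟩
    rw [hτ i₀ k hik hik, rs_rs]
    exact G.rel_inj i₀ k hik _ inf_le_right _ _ _ (ht i₀ k hik hik) (hβ k hik)

/-- the module of compatible families is adapted to the chart system. -/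
theorem adapted_glueMod : Adapted Sys (glueMod Sys G) (proj Sys G) where
  bij := fun i₀ W hW =>
    ⟨fun s s' h => secSub_ext_of_eq Sys G i₀ W hW s s' h,
      fun b => exists_secSub_eq Sys G i₀ W hW b⟩
  compat := fun i k hik W s => (s : secSub Sys G W).2 i k hik

include G in
/-- **existence of an adapted module** for a glueable chart system. -/
theorem exists_adapted : ∃ (L : X.Modules) (lam : ∀ i, L ⟶ Sys.N i), Adapted Sys L lam :=
  ⟨glueMod Sys G, proj Sys G, adapted_glueMod Sys G⟩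

end Groth.Agent.Helper28.ChartGlue

end
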