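import Mathlib
import Groth.Agent.Lib.Helper28.ChartExist2

/-!
# Local-to-global existence for sheaf-like relations between sections of two modules (helper28)
-/

set_option autoImplicit false
universe u
open CategoryTheory CategoryTheory.Limits AlgebraicGeometry Opposite TopologicalSpace

namespace Groth.Agent.Helper28.ChartGlue

variable {X : Scheme.{u}}

/-- if a relation between sections of `M` and `N` is compatible with restriction, local, and
injective in the first variable over the opens inside `O`, then a section `b` of `N` which is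
locally related to sections of `M` is related to a section of `M`. -/
lemma exists_rel_of_local {M N : X.Modules} (R : ∀ W : X.Opens, Γ(M, W) → Γ(N, W) → Prop)
    (hres : ∀ (W W' : X.Opens) (h : W' ≤ W) (a : Γ(M, W)) (b : Γ(N, W)),
      R W a b → R W' (rs M h a) (rs N h b))
    (hloc : ∀ (W : X.Opens) (a : Γ(M, W)) (b : Γ(N, W)),
      (∀ x ∈ W, ∃ (W' : X.Opens) (h : W' ≤ W), x ∈ W' ∧ R W' (rs M h a) (rs N h b)) → R W a b)
    (O : X.Opens)
    (hinj : ∀ W : X.Opens, W ≤ O → ∀ (a a' : Γ(M, W)) (b : Γ(N, W)), R W a b → R W a' b → a = a')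
    (W : X.Opens) (hW : W ≤ O) (b : Γ(N, W))
    (h : ∀ x ∈ W, ∃ (W' : X.Opens) (hW' : W' ≤ W), x ∈ W' ∧
      ∃ a' : Γ(M, W'), R W' a' (rs N hW' b)) :
    ∃ a : Γ(M, W), R W a b := by
  choose W' hW' hxW' a' ha' using h
  let UK : W → X.Opens := fun x => W' x.1 x.2
  let sf : ∀ x : W, Γ(M, UK x) := fun x => a' x.1 x.2
  have hcompat : TopCat.Presheaf.IsCompatible M.presheaf UK sf := by
    intro x x'
    have h1 : UK x ⊓ UK x' ≤ W := inf_le_left.trans (hW' x.1 x.2)
    apply hinj (UK x ⊓ UK x') (h1.trans hW) _ _ (rs N h1 b)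
    · have := hres _ _ (inf_le_left : UK x ⊓ UK x' ≤ UK x) _ _ (ha' x.1 x.2)
      rw [rs_rs] at this
      exact this
    · have := hres _ _ (inf_le_right : UK x ⊓ UK x' ≤ UK x') _ _ (ha' x'.1 x'.2)
      rw [rs_rs] at this
      exact this
  have hcov : W ≤ iSup UK := fun x hx => Opens.mem_iSup.2 ⟨⟨x, hx⟩, hxW' x hx⟩
  obtain ⟨a, ha, -⟩ := TopCat.Sheaf.existsUnique_gluing' ⟨M.presheaf, M.isSheaf⟩ UK W
    (fun x => homOfLE (hW' x.1 x.2)) hcov sf hcompat
  refine ⟨a, hloc W a b (fun x hx => ⟨W' x hx, hW' x hx, hxW' x hx, ?_⟩)⟩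
  have e : rs M (hW' x hx) a = a' x hx := ha ⟨x, hx⟩
  rw [e]
  exact ha' x hx

end Groth.Agent.Helper28.ChartGlue
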