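import Mathlib
import Groth.Agent.S0564
import Groth.Agent.Lib.Helper23.RegPull2
import Groth.Agent.Lib.Helper7.LocClosedPt

set_option autoImplicit false
universe u
open CategoryTheory AlgebraicGeometry IsLocalRing

namespace Groth.Agent.Helper28.ClosedSpec

/-- Every point of a locally Noetherian scheme specializes to a closed point. -/
theorem exists_closed_specialization (X : Scheme.{u}) [IsLocallyNoetherian X] (x : X) :
    ∃ z : X, x ⤳ z ∧ IsClosed ({z} : Set X) := by
  obtain ⟨U, hU, hxU⟩ : ∃ U : X.Opens, IsAffineOpen U ∧ x ∈ U := by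
    obtain ⟨_, ⟨U, hU, rfl⟩, hx, -⟩ :=
      X.isBasis_affineOpens.exists_subset_of_mem_open (Set.mem_univ x) isOpen_univ
    exact ⟨U, hU, hx⟩
  let ι := hU.fromSpec
  have hι : Topology.IsOpenEmbedding ι := hU.fromSpec.isOpenEmbedding
  let p : Spec Γ(X, U) := hU.primeIdealOf ⟨x, hxU⟩
  have hp : ι p = x := hU.fromSpec_primeIdealOf ⟨x, hxU⟩
  obtain ⟨m, hm, hpm⟩ := Ideal.exists_le_maximal (p : PrimeSpectrum Γ(X, U)).asIdeal
    (p : PrimeSpectrum Γ(X, U)).2.ne_top
  let q : Spec Γ(X, U) := (⟨m, hm.isPrime⟩ : PrimeSpectrum Γ(X, U))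
  have hpq : p ⤳ q := (PrimeSpectrum.le_iff_specializes (p : PrimeSpectrum Γ(X, U)) q).1 hpm
  let y : X := ι q
  have hxy : x ⤳ y := by
    rw [← hp]
    exact hpq.map ι.continuous
  have hyU : y ∈ U := by
    have : y ∈ Set.range ι := ⟨q, rfl⟩
    rw [hU.range_fromSpec] at this
    exact this
  have hqcl : IsClosed ({q} : Set (Spec Γ(X, U))) :=
    (PrimeSpectrum.isClosed_singleton_iff_isMaximal (q : PrimeSpectrum Γ(X, U))).2 hm
  have hylc : IsLocallyClosed ({y} : Set X) := by
    refine ⟨(U : Set X), closure {y}, U.2, isClosed_closure, ?_⟩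
    ext w
    constructor
    · rintro rfl
      exact ⟨hyU, subset_closure rfl⟩
    · rintro ⟨hwU, hwc⟩
      have hwr : w ∈ Set.range ι := by rw [hU.range_fromSpec]; exact hwU
      obtain ⟨r, rfl⟩ := hwr
      have hqr : q ⤳ r := by
        rw [← hι.isInducing.specializes_iff]
        exact specializes_iff_mem_closure.2 hwc
      have : r ∈ ({q} : Set (Spec Γ(X, U))) := by
        have := hqr.mem_closed hqcl rfl
        exact this
      rw [Set.mem_singleton_iff] at this
      rw [this]
      rfl
  by_cases hycl : IsClosed ({y} : Set X)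
  · exact ⟨y, hxy, hycl⟩
  · have hne : closure ({y} : Set X) ≠ {y} := fun h => hycl (h ▸ isClosed_closure)
    have hex : ∃ z ∈ closure ({y} : Set X), z ≠ y := by
      by_contra hcon
      push_neg at hcon
      apply hne
      apply Set.Subset.antisymm
      · intro z hz
        exact hcon z hz
      · exact subset_closure
    obtain ⟨z, hz, hzy⟩ := hex
    have hyz : y ⤳ z := specializes_iff_mem_closure.2 hz
    exact ⟨z, hxy.trans hyz,
      Groth.Agent.Helper7.LocClosedPt.isClosed_singleton_of_specializes hylc hyz hzy⟩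

/-- Regularity of a stalk passes to generizations. -/
theorem isRegularLocalRing_of_specializes (X : Scheme.{u}) {x z : X} (h : x ⤳ z)
    [hz : IsRegularLocalRing (X.presheaf.stalk z)] : IsRegularLocalRing (X.presheaf.stalk x) := by
  letI alg : Algebra (X.presheaf.stalk z) (X.presheaf.stalk x) :=
    (X.presheaf.stalkSpecializes h).hom.toAlgebra
  haveI hP : (Ideal.comap (X.presheaf.stalkSpecializes h).hom
      (maximalIdeal (X.presheaf.stalk x))).IsPrime := Ideal.comap_isPrime _ _
  haveI hloc := Groth.Agent.Helper23.RegPull.isLocalization_stalkSpecializes X h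
  haveI hreg := Groth.Agent.S0564.result (X.presheaf.stalk z)
    (Ideal.comap (X.presheaf.stalkSpecializes h).hom (maximalIdeal (X.presheaf.stalk x)))
  let e := IsLocalization.algEquiv
    (Ideal.comap (X.presheaf.stalkSpecializes h).hom (maximalIdeal (X.presheaf.stalk x))).primeCompl
    (Localization.AtPrime (Ideal.comap (X.presheaf.stalkSpecializes h).hom
      (maximalIdeal (X.presheaf.stalk x)))) (X.presheaf.stalk x)
  exact IsRegularLocalRing.of_ringEquiv e.toRingEquiv

end Groth.Agent.Helper28.ClosedSpec
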