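import Mathlib
import Groth.Agent.Lib.Helper28.ClosedSpec
import Groth.Agent.Lib.Helper20.RE4

set_option autoImplicit false
universe u
open CategoryTheory AlgebraicGeometry IsLocalRing

namespace Groth.Agent.Helper28.ClosedSpec

/-- Localizations of a Cohen–Macaulay local ring at primes are Cohen–Macaulay. -/
theorem isCM_localization_atPrime (A : Type u) [CommRing A] [hA : LocCoh.IsCohenMacaulayLocalRing A]
    (P : Ideal A) [P.IsPrime] : LocCoh.IsCohenMacaulayLocalRing (Localization.AtPrime P) := by
  haveI : IsLocalRing A := inferInstance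
  haveI : IsNoetherianRing A := inferInstance
  have hunits : (maximalIdeal A).primeCompl ≤ IsUnit.submonoid A := by
    intro x hx
    have h1 : x ∉ maximalIdeal A := hx
    have h2 : IsUnit x := by
      simpa [IsLocalRing.mem_maximalIdeal, mem_nonunits_iff] using h1
    exact h2
  let e : A ≃ₐ[A] Localization.AtPrime (maximalIdeal A) :=
    IsLocalization.atUnits A (maximalIdeal A).primeCompl hunits
  haveI hm : LocCoh.IsCohenMacaulayLocalRing (Localization.AtPrime (maximalIdeal A)) :=
    Groth.Agent.Helper20.RE.isCohenMacaulayLocalRing_of_ringEquiv e.toRingEquiv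
  exact Groth.Agent.Helper20.RE.cm_localization_of_le (maximalIdeal A) P
    (IsLocalRing.le_maximalIdeal (Ideal.IsPrime.ne_top inferInstance)) hm

/-- Cohen–Macaulayness of a stalk passes to generizations. -/
theorem isCM_of_specializes (X : Scheme.{u}) {x z : X} (h : x ⤳ z)
    [hz : LocCoh.IsCohenMacaulayLocalRing (X.presheaf.stalk z)] :
    LocCoh.IsCohenMacaulayLocalRing (X.presheaf.stalk x) := by
  letI alg : Algebra (X.presheaf.stalk z) (X.presheaf.stalk x) :=
    (X.presheaf.stalkSpecializes h).hom.toAlgebra
  haveI hP : (Ideal.comap (X.presheaf.stalkSpecializes h).hom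
      (maximalIdeal (X.presheaf.stalk x))).IsPrime := Ideal.comap_isPrime _ _
  haveI hloc := Groth.Agent.Helper23.RegPull.isLocalization_stalkSpecializes X h
  haveI hreg := isCM_localization_atPrime (X.presheaf.stalk z)
    (Ideal.comap (X.presheaf.stalkSpecializes h).hom (maximalIdeal (X.presheaf.stalk x)))
  let e := IsLocalization.algEquiv
    (Ideal.comap (X.presheaf.stalkSpecializes h).hom (maximalIdeal (X.presheaf.stalk x))).primeCompl
    (Localization.AtPrime (Ideal.comap (X.presheaf.stalkSpecializes h).hom
      (maximalIdeal (X.presheaf.stalk x)))) (X.presheaf.stalk x)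
  exact Groth.Agent.Helper20.RE.isCohenMacaulayLocalRing_of_ringEquiv e.toRingEquiv

end Groth.Agent.Helper28.ClosedSpec
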