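import Mathlib
set_option autoImplicit false
open Polynomial

/-! Coefficient fields for square-zero extensions in characteristic `p`. -/

namespace Groth.Agent.Helper28.CoeffField

variable {B k : Type*} [CommRing B] [Field k] (p : ℕ) [hp : Fact p.Prime] [CharP B p]
  (f : B →+* k)

section
variable (hsq : ∀ x y, f x = 0 → f y = 0 → x * y = 0)
include hsq

omit [CharP B p] in
lemma pow_p_eq_zero {x : B} (hx : f x = 0) : x ^ p = 0 := by
  have h2 : 2 ≤ p := hp.out.two_le
  obtain ⟨m, rfl⟩ := Nat.exists_eq_add_of_le h2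
  rw [pow_add, pow_two, hsq x x hx hx, zero_mul]

omit hp [CharP B p] in
lemma exists_inv (hf : Function.Surjective f) {u : B} (hu : f u ≠ 0) : ∃ v, u * v = 1 := by
  obtain ⟨v, hv⟩ := hf (f u)⁻¹
  have h1 : f (u * v - 1) = 0 := by
    rw [map_sub, map_mul, hv, mul_inv_cancel₀ hu, map_one, sub_self]
  have hmm : (u * v - 1) * (u * v - 1) = 0 := hsq _ _ h1 h1
  refine ⟨v * (1 - (u * v - 1)), ?_⟩
  have : u * (v * (1 - (u * v - 1))) = 1 - (u * v - 1) * (u * v - 1) := by ring
  rw [this, hmm, sub_zero]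

/-- admissible subrings -/
def Adm : Set (Subring B) :=
  {K | (frobenius B p).range ≤ K ∧ ∀ x ∈ K, f x = 0 → x = 0}

lemma frob_mem_adm : (frobenius B p).range ∈ Adm p f := by
  refine ⟨le_rfl, ?_⟩
  rintro _ ⟨b, rfl⟩ hb
  rw [frobenius_def] at hb ⊢
  rw [map_pow] at hb
  exact pow_p_eq_zero p f hsq (pow_eq_zero_iff hp.out.ne_zero |>.1 hb)

lemma exists_maximal : ∃ K, Maximal (· ∈ Adm p f) K := by
  apply zorn_le₀
  intro c hcS hc
  rcases c.eq_empty_or_nonempty with rfl | hne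
  · exact ⟨_, frob_mem_adm p f hsq, by simp⟩
  · refine ⟨sSup c, ⟨?_, ?_⟩, fun K hK => le_sSup hK⟩
    · obtain ⟨K, hK⟩ := hne
      exact (hcS hK).1.trans (le_sSup hK)
    · intro x hx hfx
      obtain ⟨K, hK, hxK⟩ := (Subring.mem_sSup_of_directedOn hne hc.directedOn).1 hx
      exact (hcS hK).2 x hxK hfx

end

omit hp [CharP B p] in
lemma inv_mem_of_maximal [Fact p.Prime] [CharP B p] {K : Subring B} (hK : Maximal (· ∈ Adm p f) K)
    {a a' : B} (ha : a ∈ K) (haa' : a * a' = 1) : a' ∈ K := by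
  let K' : Subring B :=
    { carrier := {x | ∃ m : ℕ, x * a ^ m ∈ K}
      zero_mem' := ⟨0, by simp [K.zero_mem]⟩
      one_mem' := ⟨0, by simp [K.one_mem]⟩
      add_mem' := by
        rintro x y ⟨m, hm⟩ ⟨l, hl⟩
        refine ⟨m + l, ?_⟩
        have : (x + y) * a ^ (m + l) = (x * a ^ m) * a ^ l + (y * a ^ l) * a ^ m := by ring
        rw [this]
        exact K.add_mem (K.mul_mem hm (K.pow_mem ha l)) (K.mul_mem hl (K.pow_mem ha m))
      mul_mem' := by
        rintro x y ⟨m, hm⟩ ⟨l, hl⟩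
        refine ⟨m + l, ?_⟩
        have : (x * y) * a ^ (m + l) = (x * a ^ m) * (y * a ^ l) := by ring
        rw [this]; exact K.mul_mem hm hl
      neg_mem' := by
        rintro x ⟨m, hm⟩
        exact ⟨m, by rw [neg_mul]; exact K.neg_mem hm⟩ }
  have hKK' : K ≤ K' := fun x hx => ⟨0, by simpa using hx⟩
  have hK' : K' ∈ Adm p f := by
    refine ⟨hK.prop.1.trans hKK', ?_⟩
    rintro x ⟨m, hm⟩ hfx
    have h0 : x * a ^ m = 0 := hK.prop.2 _ hm (by rw [map_mul, hfx, zero_mul])
    calc x = x * (a ^ m * a' ^ m) := by rw [← mul_pow, haa', one_pow, mul_one]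
      _ = (x * a ^ m) * a' ^ m := by ring
      _ = 0 := by rw [h0, zero_mul]
  exact hK.le_of_ge hK' hKK' ⟨1, by rw [pow_one, mul_comm, haa']; exact K.one_mem⟩


lemma surj_of_maximal (hf : Function.Surjective f)
    (hsq : ∀ x y, f x = 0 → f y = 0 → x * y = 0)
    {K : Subring B} (hK : Maximal (· ∈ Adm p f) K) (y : k) : ∃ x ∈ K, f x = y := by
  classical
  by_contra hcon
  push Not at hcon
  obtain ⟨α, rfl⟩ := hf y
  have : Nontrivial B := ⟨⟨0, 1, fun h => by
    have := congrArg f h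
    rw [map_zero, map_one] at this
    exact zero_ne_one this⟩⟩
  have hKfield : IsField K :=
    { exists_pair_ne := ⟨0, 1, zero_ne_one⟩
      mul_comm := mul_comm
      mul_inv_cancel := by
        intro a ha
        have hfa : f a ≠ 0 := fun h0 => ha (Subtype.ext (hK.prop.2 a a.2 h0))
        obtain ⟨v, hv⟩ := exists_inv f hsq hf hfa
        exact ⟨⟨v, inv_mem_of_maximal p f hK a.2 hv⟩, Subtype.ext hv⟩ }
  letI : Field K := hKfield.toField
  let φ : K →+* k := f.comp K.subtype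
  letI : Algebra K k := φ.toAlgebra
  have hφ : ∀ a : K, algebraMap K k a = f a := fun a => rfl
  have hc : α ^ p ∈ K := hK.prop.1 ⟨α, frobenius_def p α⟩
  have hirr : Irreducible (X ^ p - C (⟨α ^ p, hc⟩ : K) : K[X]) := by
    refine X_pow_sub_C_irreducible_of_prime hp.out (fun b hb => ?_)
    have hb' : (b : B) ^ p = α ^ p := congrArg Subtype.val hb
    have h1 : (α - b) ^ p = 0 := by rw [sub_pow_char, hb', sub_self]
    have h2 : f (α - b) = 0 := by
      have : f (α - b) ^ p = 0 := by rw [← map_pow, h1, map_zero]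
      exact pow_eq_zero_iff hp.out.ne_zero |>.1 this
    rw [map_sub, sub_eq_zero] at h2
    exact hcon b b.2 h2.symm
  have hmonic : (X ^ p - C (⟨α ^ p, hc⟩ : K) : K[X]).Monic :=
    monic_X_pow_sub_C _ hp.out.ne_zero
  have hroot : aeval (f α) (X ^ p - C (⟨α ^ p, hc⟩ : K) : K[X]) = 0 := by
    rw [map_sub, map_pow, aeval_X, aeval_C, hφ, map_pow, sub_self]
  have hmin : minpoly K (f α) = X ^ p - C (⟨α ^ p, hc⟩ : K) :=
    (minpoly.eq_of_irreducible_of_monic hirr hroot hmonic).symm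
  let ev : K[X] →+* B := Polynomial.eval₂RingHom K.subtype α
  have hevC : ∀ a : K, ev (C a) = a := fun a => by simp [ev]
  have hevX : ev X = α := by simp [ev]
  have hKK'' : K ≤ ev.range := fun x hx => ⟨C ⟨x, hx⟩, hevC _⟩
  have hαK'' : α ∈ ev.range := ⟨X, hevX⟩
  have hfev : ∀ r : K[X], f (ev r) = aeval (f α) r := by
    intro r
    simp only [ev, coe_eval₂RingHom, aeval_def]
    rw [Polynomial.hom_eval₂]
    rfl
  have hK'' : ev.range ∈ Adm p f := by
    refine ⟨hK.prop.1.trans hKK'', ?_⟩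
    rintro _ ⟨r, rfl⟩ hfx
    have hdiv := Polynomial.modByMonic_add_div r (X ^ p - C (⟨α ^ p, hc⟩ : K))
    have hev0 : ev (X ^ p - C (⟨α ^ p, hc⟩ : K)) = 0 := by
      rw [map_sub, map_pow, hevX, hevC, sub_self]
    have hr : ev r = ev (r %ₘ (X ^ p - C (⟨α ^ p, hc⟩ : K))) := by
      conv_lhs => rw [← hdiv]
      rw [map_add, map_mul, hev0, zero_mul, add_zero]
    have hdeg : (r %ₘ (X ^ p - C (⟨α ^ p, hc⟩ : K))).degree <
        (X ^ p - C (⟨α ^ p, hc⟩ : K) : K[X]).degree := degree_modByMonic_lt r hmonic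
    have haev : aeval (f α) (r %ₘ (X ^ p - C (⟨α ^ p, hc⟩ : K))) = 0 := by
      rw [← hfev, ← hr]; exact hfx
    have hr₀0 : r %ₘ (X ^ p - C (⟨α ^ p, hc⟩ : K)) = 0 := by
      by_contra hne
      have hdvd := minpoly.dvd K (f α) haev
      rw [hmin] at hdvd
      exact absurd (Polynomial.degree_le_of_dvd hdvd hne) (not_le.2 hdeg)
    rw [hr, hr₀0, map_zero]
  have := hK.le_of_ge hK'' hKK'' hαK''
  exact hcon α this rfl

/-- A square-zero extension of a field in characteristic `p` has a ring-theoretic section. -/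
theorem exists_section {B' k' : Type*} [CommRing B'] [Field k'] (q : ℕ) [Fact q.Prime] [CharP B' q]
    (f : B' →+* k') (hf : Function.Surjective f)
    (hsq : ∀ x y, f x = 0 → f y = 0 → x * y = 0) :
    ∃ g : k' →+* B', f.comp g = RingHom.id k' := by
  obtain ⟨K, hK⟩ := exists_maximal q f hsq
  have hinj : Function.Injective (f.comp K.subtype) := by
    rw [injective_iff_map_eq_zero]
    intro x hx
    exact Subtype.ext (hK.prop.2 x x.2 hx)
  have hsurj : Function.Surjective (f.comp K.subtype) := fun y => by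
    obtain ⟨x, hx, rfl⟩ := surj_of_maximal q f hf hsq hK y
    exact ⟨⟨x, hx⟩, rfl⟩
  let e : K ≃+* k' := RingEquiv.ofBijective _ ⟨hinj, hsurj⟩
  refine ⟨K.subtype.comp e.symm.toRingHom, ?_⟩
  ext y
  show f (K.subtype (e.symm y)) = y
  exact e.apply_symm_apply y

end Groth.Agent.Helper28.CoeffField
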