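import Mathlib
import Groth.Agent.Lib.Helper28.EffCartierOld
import Groth.Agent.Lib.Helper28.AmbProd

/-!
# Colon ideal sheaves and differences of effective Cartier divisors (helper28)
-/
set_option autoImplicit false
universe u
open CategoryTheory CategoryTheory.Limits AlgebraicGeometry TopologicalSpace

namespace Groth.Agent.Helper28.ColonSheaf

open Groth.Agent.Helper28.EffCartierOld

section alg

variable {R : Type*} [CommRing R]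

theorem map_colon_away {S : Type*} [CommRing S] [Algebra R S] (f : R)
    [IsLocalization.Away f S] (I E : Ideal R) (hE : E.FG) :
    (I.colon (E : Set R)).map (algebraMap R S) =
      (I.map (algebraMap R S)).colon ((E.map (algebraMap R S) : Ideal S) : Set S) := by
  apply le_antisymm
  · rw [Ideal.map_le_iff_le_comap]
    intro a ha
    rw [Ideal.mem_comap]
    show algebraMap R S a ∈ (I.map (algebraMap R S)).colon
      ((Ideal.span (algebraMap R S '' (E : Set R)) : Ideal S) : Set S)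
    rw [Ideal.colon_span, Submodule.mem_colon]
    rintro _ ⟨c, hc, rfl⟩
    have h1 := Submodule.mem_colon.mp ha c hc
    rw [smul_eq_mul] at h1 ⊢
    rw [← map_mul]
    exact Ideal.mem_map_of_mem _ h1
  · intro y hy
    obtain ⟨T, hT⟩ := hE
    obtain ⟨⟨a, ⟨_, n, rfl⟩⟩, hya⟩ := IsLocalization.surj (Submonoid.powers f) y
    simp only at hya
    have h1 : ∀ t ∈ T, ∃ m : ℕ, f ^ m * (a * t) ∈ I := by
      intro t ht
      have htE : t ∈ E := hT ▸ Ideal.subset_span ht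
      have h2 : y • algebraMap R S t ∈ I.map (algebraMap R S) :=
        Submodule.mem_colon.mp hy _ (Ideal.mem_map_of_mem _ htE)
      have h3 : algebraMap R S (a * t) ∈ I.map (algebraMap R S) := by
        rw [map_mul, ← hya]
        have e1 : y * algebraMap R S (f ^ n) * algebraMap R S t =
            algebraMap R S (f ^ n) * (y • algebraMap R S t) := by
          rw [smul_eq_mul]; ring
        rw [e1]
        exact Ideal.mul_mem_left _ _ h2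
      obtain ⟨⟨i, ⟨_, k, rfl⟩⟩, hik⟩ :=
        (IsLocalization.mem_map_algebraMap_iff (Submonoid.powers f) S).mp h3
      simp only at hik
      rw [← map_mul] at hik
      obtain ⟨⟨_, l, rfl⟩, hl⟩ := (IsLocalization.eq_iff_exists (Submonoid.powers f) S).mp hik
      simp only at hl
      refine ⟨l + k, ?_⟩
      have e2 : f ^ (l + k) * (a * t) = f ^ l * (i : R) := by
        rw [← hl, pow_add]; ring
      rw [e2]
      exact I.mul_mem_left _ i.2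
    choose! m hm using h1
    have h4 : f ^ (T.sup m) * a ∈ I.colon (E : Set R) := by
      rw [← hT, Ideal.colon_span, Submodule.mem_colon]
      intro t ht
      have h5 := hm t ht
      have h6 : m t ≤ T.sup m := Finset.le_sup ht
      obtain ⟨d, hd⟩ := Nat.exists_eq_add_of_le h6
      have e3 : (f ^ (T.sup m) * a) • t = f ^ d * (f ^ (m t) * (a * t)) := by
        rw [smul_eq_mul, hd, pow_add]; ring
      rw [e3]
      exact I.mul_mem_left _ h5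
    have hu : IsUnit (algebraMap R S f) := IsLocalization.Away.algebraMap_isUnit f
    have h7 : y * algebraMap R S f ^ (n + T.sup m) ∈
        (I.colon (E : Set R)).map (algebraMap R S) := by
      have e4 : y * algebraMap R S f ^ (n + T.sup m) = algebraMap R S (f ^ (T.sup m) * a) := by
        rw [map_mul, ← hya, map_pow, map_pow, pow_add]; ring
      rw [e4]
      exact Ideal.mem_map_of_mem _ h4
    exact (Ideal.mul_unit_mem_iff_mem _ (hu.pow _)).mp h7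

theorem local_structure {f₁ f₂ e : R} (h₁ : f₁ ∈ nonZeroDivisors R) (h₂ : f₂ ∈ nonZeroDivisors R)
    (he : e ∈ nonZeroDivisors R) (h : Ideal.span {f₁} ⊔ Ideal.span {f₂} = Ideal.span {e}) :
    ∃ a₁ a₂ b₁ b₂ : R, f₁ = a₁ * e ∧ f₂ = a₂ * e ∧ b₁ * a₁ + b₂ * a₂ = 1 ∧
      a₁ ∈ nonZeroDivisors R ∧ a₂ ∈ nonZeroDivisors R := by
  have hf₁ : f₁ ∈ Ideal.span {e} :=
    h ▸ (le_sup_left : Ideal.span {f₁} ≤ _) (Ideal.mem_span_singleton_self f₁)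
  have hf₂ : f₂ ∈ Ideal.span {e} :=
    h ▸ (le_sup_right : Ideal.span {f₂} ≤ _) (Ideal.mem_span_singleton_self f₂)
  obtain ⟨a₁, ha₁⟩ := Ideal.mem_span_singleton'.mp hf₁
  obtain ⟨a₂, ha₂⟩ := Ideal.mem_span_singleton'.mp hf₂
  have he' : e ∈ Ideal.span {f₁} ⊔ Ideal.span {f₂} := h ▸ Ideal.mem_span_singleton_self e
  obtain ⟨x, hx, y, hy, hxy⟩ := Submodule.mem_sup.mp he'
  obtain ⟨b₁, hb₁⟩ := Ideal.mem_span_singleton'.mp hx
  obtain ⟨b₂, hb₂⟩ := Ideal.mem_span_singleton'.mp hy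
  have h1 : (b₁ * a₁ + b₂ * a₂) * e = 1 * e := by
    rw [one_mul]
    conv_rhs => rw [← hxy, ← hb₁, ← hb₂, ← ha₁, ← ha₂]
    ring
  have h2 : b₁ * a₁ + b₂ * a₂ = 1 := (mul_cancel_right_mem_nonZeroDivisors he).mp h1
  refine ⟨a₁, a₂, b₁, b₂, ha₁.symm, ha₂.symm, h2, ?_, ?_⟩
  · exact (mul_mem_nonZeroDivisors.mp (ha₁ ▸ h₁)).1
  · exact (mul_mem_nonZeroDivisors.mp (ha₂ ▸ h₂)).1

theorem colon_span_mul {a e : R} (he : e ∈ nonZeroDivisors R) :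
    (Ideal.span {a * e}).colon ((Ideal.span {e} : Ideal R) : Set R) = Ideal.span {a} := by
  ext b
  rw [Ideal.mem_colon_span_singleton, Ideal.mem_span_singleton', Ideal.mem_span_singleton']
  constructor
  · rintro ⟨c, hc⟩
    refine ⟨c, (mul_cancel_right_mem_nonZeroDivisors he).mp ?_⟩
    rw [← hc]; ring
  · rintro ⟨c, hc⟩
    refine ⟨c, ?_⟩
    rw [← hc]; ring

theorem mem_of_common {a₁ a₂ b₁ b₂ e d : R} (hb : b₁ * a₁ + b₂ * a₂ = 1)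
    (he : e ∈ nonZeroDivisors R)
    (h1 : d ∈ Ideal.span {a₁ * e}) (h2 : d ∈ Ideal.span {a₂ * e}) :
    d ∈ Ideal.span {a₁ * a₂ * e} := by
  obtain ⟨c₁, hc₁⟩ := Ideal.mem_span_singleton'.mp h1
  obtain ⟨c₂, hc₂⟩ := Ideal.mem_span_singleton'.mp h2
  have h3 : c₁ * a₁ = c₂ * a₂ :=
    (mul_cancel_right_mem_nonZeroDivisors he).mp (by rw [mul_assoc, mul_assoc, hc₁, hc₂])
  refine Ideal.mem_span_singleton'.mpr ⟨b₁ * c₂ + b₂ * c₁, ?_⟩
  calc (b₁ * c₂ + b₂ * c₁) * (a₁ * a₂ * e)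
      = (b₁ * a₁) * (c₂ * a₂) * e + (b₂ * a₂) * (c₁ * a₁) * e := by ring
    _ = (b₁ * a₁ + b₂ * a₂) * (c₁ * (a₁ * e)) := by rw [← h3]; ring
    _ = d := by rw [hb, one_mul, hc₁]

end alg

section sch

variable {X : Scheme.{u}}

theorem exists_colon (I E : X.IdealSheafData) (hE : BlowUp.IsFiniteTypeIdeal E) :
    ∃ K : X.IdealSheafData, ∀ U : X.affineOpens,
      K.ideal U = (I.ideal U).colon (E.ideal U : Set Γ(X, U.1)) := by
  refine ⟨⟨fun U => (I.ideal U).colon (E.ideal U : Set Γ(X, U.1)), ?_, _, rfl⟩, fun U => rfl⟩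
  intro U f
  letI : Algebra Γ(X, U) Γ(X, X.affineBasicOpen f) :=
    (X.presheaf.map (homOfLE (X.basicOpen_le f)).op).hom.toAlgebra
  have : IsLocalization.Away f Γ(X, X.basicOpen f) := U.2.isLocalization_of_eq_basicOpen _ _ rfl
  have h := map_colon_away (S := Γ(X, X.basicOpen f)) f (I.ideal U) (E.ideal U) (hE U)
  rw [← I.map_ideal_basicOpen U f, ← E.map_ideal_basicOpen U f]
  exact h

/-- `U` is a chart of `𝓘`: the ideal is generated by a nonzerodivisor on `U` -/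
def IsChart (𝓘 : X.IdealSheafData) (U : X.affineOpens) : Prop :=
  ∃ t ∈ nonZeroDivisors Γ(X, U.1), 𝓘.ideal U = Ideal.span {t}

lemma IsChart.restrict {𝓘 : X.IdealSheafData} {U V : X.affineOpens} (e : U ≤ V)
    (h : IsChart 𝓘 V) : IsChart 𝓘 U := by
  obtain ⟨t, ht, hI⟩ := h
  obtain ⟨h1, h2⟩ := chart_restrict 𝓘 e t ht hI
  exact ⟨_, h1, h2⟩

lemma exists_joint_chart4 {I₁ I₂ I₃ I₄ : X.IdealSheafData} (h₁ : BlowUp.IsEffCartierIdeal I₁)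
    (h₂ : BlowUp.IsEffCartierIdeal I₂) (h₃ : BlowUp.IsEffCartierIdeal I₃)
    (h₄ : BlowUp.IsEffCartierIdeal I₄) (x : X) :
    ∃ U : X.affineOpens, x ∈ U.1 ∧ IsChart I₁ U ∧ IsChart I₂ U ∧ IsChart I₃ U ∧ IsChart I₄ U := by
  obtain ⟨U₁, hx₁, t₁, ht₁, hI₁⟩ := h₁ x
  obtain ⟨U₂, hx₂, hle₂, t₂, ht₂, hI₂⟩ := exists_chart_le h₂ x U₁.1 hx₁
  obtain ⟨U₃, hx₃, hle₃, t₃, ht₃, hI₃⟩ := exists_chart_le h₃ x U₂.1 hx₂
  obtain ⟨U₄, hx₄, hle₄, t₄, ht₄, hI₄⟩ := exists_chart_le h₄ x U₃.1 hx₃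
  have c₁ : IsChart I₁ U₁ := ⟨t₁, ht₁, hI₁⟩
  have c₂ : IsChart I₂ U₂ := ⟨t₂, ht₂, hI₂⟩
  have c₃ : IsChart I₃ U₃ := ⟨t₃, ht₃, hI₃⟩
  have e21 : U₂ ≤ U₁ := hle₂
  have e32 : U₃ ≤ U₂ := hle₃
  have e43 : U₄ ≤ U₃ := hle₄
  exact ⟨U₄, hx₄, c₁.restrict (e43.trans (e32.trans e21)), c₂.restrict (e43.trans e32),
    c₃.restrict e43, ⟨t₄, ht₄, hI₄⟩⟩

theorem main (I₁ I₂ : X.IdealSheafData)
    (h₁ : BlowUp.IsEffCartierIdeal I₁) (h₂ : BlowUp.IsEffCartierIdeal I₂)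
    (hE : BlowUp.IsEffCartierIdeal (I₁ ⊔ I₂)) :
    ∃ I₁' I₂' : X.IdealSheafData, BlowUp.IsEffCartierIdeal I₁' ∧ BlowUp.IsEffCartierIdeal I₂' ∧
      I₁ = I₁' * (I₁ ⊔ I₂) ∧ I₂ = I₂' * (I₁ ⊔ I₂) ∧ I₁' ⊔ I₂' = ⊤ ∧
      ∀ D : X.IdealSheafData, BlowUp.IsEffCartierIdeal D → D ≤ I₁ → D ≤ I₂ →
        D ≤ I₁' * I₂' * (I₁ ⊔ I₂) := by
  have hft := Groth.Agent.Helper28.AmbProd.isFiniteTypeIdeal_of_isEffCartier (I₁ ⊔ I₂) hE
  obtain ⟨K₁, hK₁⟩ := exists_colon I₁ (I₁ ⊔ I₂) hft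
  obtain ⟨K₂, hK₂⟩ := exists_colon I₂ (I₁ ⊔ I₂) hft
  have key : ∀ U : X.affineOpens, IsChart I₁ U → IsChart I₂ U → IsChart (I₁ ⊔ I₂) U →
      ∃ a₁ a₂ b₁ b₂ e : Γ(X, U.1), e ∈ nonZeroDivisors Γ(X, U.1) ∧
        a₁ ∈ nonZeroDivisors Γ(X, U.1) ∧ a₂ ∈ nonZeroDivisors Γ(X, U.1) ∧
        b₁ * a₁ + b₂ * a₂ = 1 ∧ I₁.ideal U = Ideal.span {a₁ * e} ∧
        I₂.ideal U = Ideal.span {a₂ * e} ∧ (I₁ ⊔ I₂).ideal U = Ideal.span {e} ∧
        K₁.ideal U = Ideal.span {a₁} ∧ K₂.ideal U = Ideal.span {a₂} := by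
    rintro U ⟨f₁, hf₁, e₁⟩ ⟨f₂, hf₂, e₂⟩ ⟨e, he, e₃⟩
    have hsup : Ideal.span {f₁} ⊔ Ideal.span {f₂} = Ideal.span {e} := by
      rw [← e₁, ← e₂, ← e₃]; rfl
    obtain ⟨a₁, a₂, b₁, b₂, rfl, rfl, hb, ha₁, ha₂⟩ := local_structure hf₁ hf₂ he hsup
    refine ⟨a₁, a₂, b₁, b₂, e, he, ha₁, ha₂, hb, e₁, e₂, e₃, ?_, ?_⟩
    · rw [hK₁, e₁, e₃]; exact colon_span_mul he
    · rw [hK₂, e₂, e₃]; exact colon_span_mul he
  choose U hxU c₁ c₂ c₃ _ using fun x : X => exists_joint_chart4 h₁ h₂ hE h₁ x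
  have hcover : ⨆ x, (U x).1 = ⊤ :=
    eq_top_iff.mpr (fun x _ => Opens.mem_iSup.mpr ⟨x, hxU x⟩)
  refine ⟨K₁, K₂, ?_, ?_, ?_, ?_, ?_, ?_⟩
  · intro x
    obtain ⟨a₁, a₂, b₁, b₂, e, he, ha₁, ha₂, hb, e₁, e₂, e₃, k₁, k₂⟩ :=
      key (U x) (c₁ x) (c₂ x) (c₃ x)
    exact ⟨U x, hxU x, a₁, ha₁, k₁⟩
  · intro x
    obtain ⟨a₁, a₂, b₁, b₂, e, he, ha₁, ha₂, hb, e₁, e₂, e₃, k₁, k₂⟩ :=
      key (U x) (c₁ x) (c₂ x) (c₃ x)
    exact ⟨U x, hxU x, a₂, ha₂, k₂⟩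
  · refine Scheme.IdealSheafData.ext_of_iSup_eq_top U hcover (fun x => ?_)
    obtain ⟨a₁, a₂, b₁, b₂, e, he, ha₁, ha₂, hb, e₁, e₂, e₃, k₁, k₂⟩ :=
      key (U x) (c₁ x) (c₂ x) (c₃ x)
    show I₁.ideal (U x) = K₁.ideal (U x) * (I₁ ⊔ I₂).ideal (U x)
    rw [e₁, k₁, e₃, Ideal.span_singleton_mul_span_singleton]
  · refine Scheme.IdealSheafData.ext_of_iSup_eq_top U hcover (fun x => ?_)
    obtain ⟨a₁, a₂, b₁, b₂, e, he, ha₁, ha₂, hb, e₁, e₂, e₃, k₁, k₂⟩ :=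
      key (U x) (c₁ x) (c₂ x) (c₃ x)
    show I₂.ideal (U x) = K₂.ideal (U x) * (I₁ ⊔ I₂).ideal (U x)
    rw [e₂, k₂, e₃, Ideal.span_singleton_mul_span_singleton]
  · refine Scheme.IdealSheafData.ext_of_iSup_eq_top U hcover (fun x => ?_)
    obtain ⟨a₁, a₂, b₁, b₂, e, he, ha₁, ha₂, hb, e₁, e₂, e₃, k₁, k₂⟩ :=
      key (U x) (c₁ x) (c₂ x) (c₃ x)
    show K₁.ideal (U x) ⊔ K₂.ideal (U x) = ⊤
    rw [k₁, k₂, Ideal.eq_top_iff_one, ← hb]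
    exact Submodule.add_mem_sup (Ideal.mul_mem_left _ b₁ (Ideal.mem_span_singleton_self a₁))
      (Ideal.mul_mem_left _ b₂ (Ideal.mem_span_singleton_self a₂))
  · intro D hD hD₁ hD₂
    choose U' hxU' d₁ d₂ d₃ d₄ using fun x : X => exists_joint_chart4 h₁ h₂ hE hD x
    have hcover' : ⨆ x, (U' x).1 = ⊤ :=
      eq_top_iff.mpr (fun x _ => Opens.mem_iSup.mpr ⟨x, hxU' x⟩)
    refine Scheme.IdealSheafData.le_of_iSup_eq_top U' hcover' (fun x => ?_)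
    obtain ⟨a₁, a₂, b₁, b₂, e, he, ha₁, ha₂, hb, e₁, e₂, e₃, k₁, k₂⟩ :=
      key (U' x) (d₁ x) (d₂ x) (d₃ x)
    obtain ⟨d, hd, hDd⟩ := d₄ x
    show D.ideal (U' x) ≤ K₁.ideal (U' x) * K₂.ideal (U' x) * (I₁ ⊔ I₂).ideal (U' x)
    rw [k₁, k₂, e₃, Ideal.span_singleton_mul_span_singleton,
      Ideal.span_singleton_mul_span_singleton, hDd, Ideal.span_singleton_le_iff_mem]
    have m₁ : d ∈ Ideal.span {a₁ * e} := by
      rw [← e₁]; exact hD₁ (U' x) (hDd ▸ Ideal.mem_span_singleton_self d)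
    have m₂ : d ∈ Ideal.span {a₂ * e} := by
      rw [← e₂]; exact hD₂ (U' x) (hDd ▸ Ideal.mem_span_singleton_self d)
    exact mem_of_common hb he m₁ m₂

end sch

end Groth.Agent.Helper28.ColonSheaf
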