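import Mathlib
import Groth.Prelude.Def_LCI2
import Groth.Agent.Lib.Helper13.AmpleLocal

/-!
# Relative ampleness on a disjoint union (helper28)
-/

set_option autoImplicit false
universe u
open CategoryTheory CategoryTheory.Limits AlgebraicGeometry Opposite TopologicalSpace

noncomputable section

namespace Groth.Agent.Helper28.CoprodAmple

open Groth.Agent.Helper13 Groth.Agent.Helper13.Ample

section Idem

variable {T : Scheme.{u}}

/-- the idempotent function of a clopen decomposition. -/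
lemma exists_section_basicOpen_eq (U₁ U₂ : T.Opens) (hdisj : U₁ ⊓ U₂ = ⊥) (hcov : U₁ ⊔ U₂ = ⊤) :
    ∃ e : Γ(T, ⊤), T.basicOpen e = U₁ := by
  let U : Bool → T.Opens := fun b => Bool.rec U₂ U₁ b
  let sf : ∀ b : Bool, Γ(T, U b) := fun b =>
    Bool.rec (motive := fun b => Γ(T, U b)) (0 : Γ(T, U₂)) (1 : Γ(T, U₁)) b
  have hsub : Subsingleton Γ(T, U₁ ⊓ U₂) := by rw [hdisj]; infer_instance
  have hsub' : Subsingleton Γ(T, U₂ ⊓ U₁) := by rw [inf_comm, hdisj]; infer_instance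
  have hcompat : TopCat.Presheaf.IsCompatible T.sheaf.1 U sf := by
    intro i j
    cases i <;> cases j
    · rfl
    · exact hsub'.elim _ _
    · exact hsub.elim _ _
    · rfl
  have hcover : (⊤ : T.Opens) ≤ iSup U := by
    rw [iSup_bool_eq]
    exact hcov.ge
  obtain ⟨e, he, -⟩ := T.sheaf.existsUnique_gluing' U ⊤ (fun b => homOfLE le_top) hcover sf hcompat
  have e1 : T.presheaf.map (homOfLE (le_top : U₁ ≤ ⊤)).op e = (1 : Γ(T, U₁)) := he true
  have e2 : T.presheaf.map (homOfLE (le_top : U₂ ≤ ⊤)).op e = (0 : Γ(T, U₂)) := he false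
  refine ⟨e, ?_⟩
  have h1 : U₁ ⊓ T.basicOpen e = U₁ := by
    have := T.basicOpen_res e (homOfLE (le_top : U₁ ≤ ⊤)).op
    rw [e1] at this
    rw [← this]
    exact T.basicOpen_of_isUnit isUnit_one
  have h2 : U₂ ⊓ T.basicOpen e = ⊥ := by
    have := T.basicOpen_res e (homOfLE (le_top : U₂ ≤ ⊤)).op
    rw [e2] at this
    rw [← this]
    exact T.basicOpen_zero U₂
  apply le_antisymm
  · intro x hx
    have hx' : x ∈ U₁ ⊔ U₂ := by rw [hcov]; trivial
    rcases hx' with h | h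
    · exact h
    · have h3 : x ∈ U₂ ⊓ T.basicOpen e := ⟨h, hx⟩
      rw [h2] at h3
      exact h3.elim
  · intro x hx
    have h3 : x ∈ U₁ ⊓ T.basicOpen e := by rw [h1]; exact hx
    exact h3.2

end Idem

section A

variable {T T₁ T₂ : Scheme.{u}}

/-- ampleness on a scheme which is the disjoint union of two open subschemes. -/
theorem isAmple_of_disjoint_cover (j₁ : T₁ ⟶ T) (j₂ : T₂ ⟶ T) [IsOpenImmersion j₁]
    [IsOpenImmersion j₂] [CompactSpace T₁] [CompactSpace T₂]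
    (hdisj : ∀ (a : T₁) (b : T₂), j₁.base a ≠ j₂.base b)
    (hcov : ∀ t : T, t ∈ Set.range j₁.base ∨ t ∈ Set.range j₂.base) (M : T.Modules)
    (h₁ : CohB1.IsAmple (M.restrict j₁)) (h₂ : CohB1.IsAmple (M.restrict j₂)) :
    CohB1.IsAmple M := by
  have hd : j₁.opensRange ⊓ j₂.opensRange = ⊥ := by
    rw [eq_bot_iff]
    rintro x ⟨⟨a, ha⟩, ⟨b, hb⟩⟩
    exact (hdisj a b (ha.trans hb.symm)).elim
  have hc : j₁.opensRange ⊔ j₂.opensRange = ⊤ := by
    rw [eq_top_iff]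
    intro x _
    rcases hcov x with h | h
    · exact Or.inl h
    · exact Or.inr h
  have hK₁ : IsCompact (Set.range j₁.base) := isCompact_range j₁.continuous
  have hK₂ : IsCompact (Set.range j₂.base) := isCompact_range j₂.continuous
  haveI : CompactSpace T := by
    constructor
    have : (Set.univ : Set T) = Set.range j₁.base ∪ Set.range j₂.base := by
      ext t
      simp only [Set.mem_univ, Set.mem_union, true_iff]
      exact hcov t
    rw [this]
    exact hK₁.union hK₂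
  obtain ⟨e₁, he₁⟩ := exists_section_basicOpen_eq j₁.opensRange j₂.opensRange hd hc
  obtain ⟨e₂, he₂⟩ := exists_section_basicOpen_eq j₂.opensRange j₁.opensRange
    (by rw [inf_comm]; exact hd) (by rw [sup_comm]; exact hc)
  apply isAmple_of_basicOpen_cover
  intro x
  rcases hcov x with hx | hx
  · refine ⟨e₁, by rw [he₁]; exact hx, ?_⟩
    haveI : CompactSpace ((T.basicOpen e₁ : T.Opens) : Scheme.{u}) := by
      rw [he₁]
      exact isCompact_iff_compactSpace.mp (by rw [Scheme.Hom.coe_opensRange]; exact hK₁)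
    exact isAmple_restrict_of_factor j₁ (T.basicOpen e₁).ι
      (by rw [Scheme.Opens.range_ι, he₁, Scheme.Hom.coe_opensRange]) M h₁
  · refine ⟨e₂, by rw [he₂]; exact hx, ?_⟩
    haveI : CompactSpace ((T.basicOpen e₂ : T.Opens) : Scheme.{u}) := by
      rw [he₂]
      exact isCompact_iff_compactSpace.mp (by rw [Scheme.Hom.coe_opensRange]; exact hK₂)
    exact isAmple_restrict_of_factor j₂ (T.basicOpen e₂).ι
      (by rw [Scheme.Opens.range_ι, he₂, Scheme.Hom.coe_opensRange]) M h₂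

end A

section B

variable {X W Y : Scheme.{u}} (ι : X ⟶ W) [IsOpenImmersion ι] (g : W ⟶ Y) (V : Y.Opens)

lemma range_subset :
    Set.range (((ι ≫ g) ⁻¹ᵁ V).ι ≫ ι).base ⊆ Set.range (g ⁻¹ᵁ V).ι.base := by
  rintro _ ⟨x, rfl⟩
  rw [Scheme.Opens.range_ι]
  exact x.2

/-- the induced open immersion `(ι ≫ g)⁻¹ V ⟶ g⁻¹ V`. -/
def kmap : ((ι ≫ g) ⁻¹ᵁ V : Scheme.{u}) ⟶ (g ⁻¹ᵁ V : Scheme.{u}) :=
  IsOpenImmersion.lift (g ⁻¹ᵁ V).ι (((ι ≫ g) ⁻¹ᵁ V).ι ≫ ι) (range_subset ι g V)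

lemma kmap_fac : kmap ι g V ≫ (g ⁻¹ᵁ V).ι = ((ι ≫ g) ⁻¹ᵁ V).ι ≫ ι :=
  IsOpenImmersion.lift_fac _ _ _

instance : IsOpenImmersion (kmap ι g V) := by
  haveI : IsOpenImmersion (kmap ι g V ≫ (g ⁻¹ᵁ V).ι) := by rw [kmap_fac]; infer_instance
  exact IsOpenImmersion.of_comp (kmap ι g V) (g ⁻¹ᵁ V).ι

lemma kmap_base (a : ((ι ≫ g) ⁻¹ᵁ V : Scheme.{u})) :
    (g ⁻¹ᵁ V).ι.base ((kmap ι g V).base a) = ι.base (((ι ≫ g) ⁻¹ᵁ V).ι.base a) := by
  have := congrArg (fun φ => φ.base a) (kmap_fac ι g V)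
  exact this

lemma mem_range_kmap (z : (g ⁻¹ᵁ V : Scheme.{u})) :
    z ∈ Set.range (kmap ι g V).base ↔ (g ⁻¹ᵁ V).ι.base z ∈ Set.range ι.base := by
  constructor
  · rintro ⟨a, rfl⟩
    exact ⟨((ι ≫ g) ⁻¹ᵁ V).ι.base a, (kmap_base ι g V a).symm⟩
  · rintro ⟨x, hx⟩
    have hxV : x ∈ (ι ≫ g) ⁻¹ᵁ V := by
      change g.base (ι.base x) ∈ V
      rw [hx]
      exact z.2
    refine ⟨⟨x, hxV⟩, ?_⟩
    apply (g ⁻¹ᵁ V).ι.isOpenEmbedding.injective
    exact (kmap_base ι g V ⟨x, hxV⟩).trans hx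

/-- restriction of the inverse image to `(ι ≫ g)⁻¹ V`, as a restriction of the restriction to
`g⁻¹ V`. -/
def isoB (L'' : W.Modules) :
    ((Scheme.Modules.pullback ι).obj L'').restrict ((ι ≫ g) ⁻¹ᵁ V).ι ≅
      (L''.restrict (g ⁻¹ᵁ V).ι).restrict (kmap ι g V) :=
  (Scheme.Modules.restrictFunctor ((ι ≫ g) ⁻¹ᵁ V).ι).mapIso
      ((Scheme.Modules.restrictFunctorIsoPullback ι).app L'').symm ≪≫
    restrictRestrictIso ((ι ≫ g) ⁻¹ᵁ V).ι ι (((ι ≫ g) ⁻¹ᵁ V).ι ≫ ι) rfl L'' ≪≫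
    (restrictRestrictIso (kmap ι g V) (g ⁻¹ᵁ V).ι (((ι ≫ g) ⁻¹ᵁ V).ι ≫ ι)
      (kmap_fac ι g V) L'').symm

end B

section Main

variable {X X' Y : Scheme.{u}}

theorem isRelAmple_coprod_iff (f : X ⟶ Y) (f' : X' ⟶ Y) [QuasiCompact f] [QuasiCompact f']
    (g : X ⨿ X' ⟶ Y) (hf : coprod.inl ≫ g = f) (hf' : coprod.inr ≫ g = f')
    (L'' : (X ⨿ X').Modules) :
    RelAmple.IsRelAmple g L'' ↔
      RelAmple.IsRelAmple f ((Scheme.Modules.pullback (coprod.inl : X ⟶ X ⨿ X')).obj L'') ∧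
        RelAmple.IsRelAmple f'
          ((Scheme.Modules.pullback (coprod.inr : X' ⟶ X ⨿ X')).obj L'') := by
  subst hf hf'
  have hK : ∀ V : Y.affineOpens,
      CompactSpace (((coprod.inl : X ⟶ X ⨿ X') ≫ g) ⁻¹ᵁ V.1 : Scheme.{u}) := fun V =>
    isCompact_iff_compactSpace.mp
      ((quasiCompact_iff_forall_isAffineOpen.1 inferInstance) V.1 V.2)
  have hK' : ∀ V : Y.affineOpens,
      CompactSpace (((coprod.inr : X' ⟶ X ⨿ X') ≫ g) ⁻¹ᵁ V.1 : Scheme.{u}) := fun V =>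
    isCompact_iff_compactSpace.mp
      ((quasiCompact_iff_forall_isAffineOpen.1 inferInstance) V.1 V.2)
  constructor
  · rintro ⟨-, hamp⟩
    refine ⟨⟨inferInstance, fun V => ?_⟩, ⟨inferInstance, fun V => ?_⟩⟩
    · haveI := hK V
      exact isAmple_of_iso (isoB coprod.inl g V.1 L'').symm
        (isAmple_restrict (kmap coprod.inl g V.1) _ (hamp V))
    · haveI := hK' V
      exact isAmple_of_iso (isoB coprod.inr g V.1 L'').symm
        (isAmple_restrict (kmap coprod.inr g V.1) _ (hamp V))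
  · rintro ⟨⟨-, h1⟩, ⟨-, h2⟩⟩
    have hamp : ∀ V : Y.affineOpens, CohB1.IsAmple (L''.restrict (g ⁻¹ᵁ V.1).ι) := by
      intro V
      haveI := hK V
      haveI := hK' V
      refine isAmple_of_disjoint_cover (kmap coprod.inl g V.1) (kmap coprod.inr g V.1) ?_ ?_ _
        (isAmple_of_iso (isoB coprod.inl g V.1 L'') (h1 V))
        (isAmple_of_iso (isoB coprod.inr g V.1 L'') (h2 V))
      · intro a b hab
        have e1 := kmap_base coprod.inl g V.1 a
        have e2 := kmap_base coprod.inr g V.1 b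
        rw [hab] at e1
        exact inl_ne_inr X X' _ _ (e1.symm.trans e2)
      · intro z
        have hz := (isCompl_range_inl_inr X X').sup_eq_top
        have hz' : (g ⁻¹ᵁ V.1).ι.base z ∈
            Set.range (coprod.inl : X ⟶ X ⨿ X').base ∪ Set.range (coprod.inr : X' ⟶ X ⨿ X').base := by
          have : (g ⁻¹ᵁ V.1).ι.base z ∈ (⊤ : Set ↥(X ⨿ X')) := trivial
          rw [← hz] at this
          exact this
        rcases hz' with h | h
        · exact Or.inl ((mem_range_kmap coprod.inl g V.1 z).2 h)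
        · exact Or.inr ((mem_range_kmap coprod.inr g V.1 z).2 h)
    exact ⟨quasiCompact_iff_forall_isAffineOpen.2
      (fun U hU => isCompact_iff_compactSpace.mpr (hamp ⟨U, hU⟩).2.1), hamp⟩

end Main

end Groth.Agent.Helper28.CoprodAmple

end
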