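import Mathlib
import Groth.Prelude.Def_W4c6modpairsegaMP
import Groth.Agent.Lib.Helper28.AdmCalc3
set_option autoImplicit false
universe u
open CategoryTheory CategoryTheory.Limits AlgebraicGeometry TopologicalSpace

namespace Groth.Agent.Helper28.CoprodClosure

open ModPair Groth.Agent.Helper28.EffCartierDense Groth.Agent.Helper28.AdmCalc
open Groth.Agent.Helper28.EffCartierOld Groth.Agent.Helper28.IdealComapOld

/-- effective Cartier-ness can be checked on an open immersion neighbourhood -/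
lemma exists_chart_of_openImmersion {Y₀ Y : Scheme.{u}} (j : Y₀ ⟶ Y) [IsOpenImmersion j]
    (K : Y.IdealSheafData) (hK : BlowUp.IsEffCartierIdeal (K.comap j)) (x₀ : Y₀) :
    ∃ U : Y.affineOpens, j x₀ ∈ U.1 ∧
      ∃ g ∈ nonZeroDivisors Γ(Y, U.1), K.ideal U = Ideal.span {g} := by
  obtain ⟨V₀, hxV₀, t₀, ht₀, hKt₀⟩ := hK x₀
  let A : Y.affineOpens := ⟨j ''ᵁ V₀.1, V₀.2.image_of_isOpenImmersion j⟩
  have e : V₀.1 ≤ j ⁻¹ᵁ A.1 := (Scheme.Hom.preimage_image_eq j V₀.1).ge
  have hc := ideal_comap j K A V₀ e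
  let φ := j.appIso V₀.1
  have hφ : j.appLE A.1 V₀.1 e = φ.hom := (Scheme.Hom.appIso_hom' j V₀.1).symm
  rw [hφ, hKt₀] at hc
  refine ⟨A, ⟨x₀, hxV₀, rfl⟩, φ.inv.hom t₀, ?_, ?_⟩
  · rw [mem_nonZeroDivisors_iff_right]
    intro z hz
    have h1 := congrArg φ.hom.hom hz
    rw [map_mul, map_zero] at h1
    have h2 : φ.hom.hom (φ.inv.hom t₀) = t₀ := Iso.inv_hom_id_apply φ t₀
    rw [h2] at h1
    have h3 := (mem_nonZeroDivisors_iff_right.mp ht₀) _ h1
    have h4 := congrArg φ.inv.hom h3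
    rw [map_zero] at h4
    rw [← h4]
    exact (Iso.hom_inv_id_apply φ z).symm
  · have h5 := congrArg (Ideal.map φ.inv.hom) hc
    rw [Ideal.map_map, Ideal.map_span, Set.image_singleton] at h5
    have h6 : φ.inv.hom.comp φ.hom.hom = RingHom.id _ := by
      ext z
      exact Iso.hom_inv_id_apply φ z
    rw [h6, Ideal.map_id] at h5
    exact h5.symm

lemma isIso_restrict_of_openImmersion_cover {A Y X : Scheme.{u}} (j : A ⟶ Y) [IsOpenImmersion j]
    (p : Y ⟶ X) (O : X.Opens) (hsurj : ∀ y : Y, y ∈ p ⁻¹ᵁ O → y ∈ Set.range j)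
    (ha : IsIso ((j ≫ p) ∣_ O)) : IsIso (p ∣_ O) := by
  rw [morphismRestrict_comp] at ha
  haveI : IsOpenImmersion (j ∣_ (p ⁻¹ᵁ O)) := inferInstance
  haveI : Surjective (j ∣_ (p ⁻¹ᵁ O)) := by
    constructor
    intro y'
    obtain ⟨a, ha'⟩ := hsurj y'.1 y'.2
    have haO : a ∈ j ⁻¹ᵁ (p ⁻¹ᵁ O) := by
      show j a ∈ p ⁻¹ᵁ O
      rw [ha']; exact y'.2
    refine ⟨⟨a, haO⟩, ?_⟩
    apply Subtype.ext
    rw [morphismRestrict_base_coe]
    exact ha'
  have i1 : IsIso (j ∣_ (p ⁻¹ᵁ O)) :=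
    (isIso_iff_isOpenImmersion_and_surjective _).mpr ⟨inferInstance, inferInstance⟩
  exact @IsIso.of_isIso_comp_left _ _ _ _ _ (j ∣_ (p ⁻¹ᵁ O)) (p ∣_ O) i1 ha


section Decomp

variable {X : Scheme.{u}} (I : X.IdealSheafData) (hI : BlowUp.IsEffCartierIdeal I)
  (U₀ U₁ : X.Opens) (hU : U₀ ⊔ U₁ = ModPair.interior I) (hd : Disjoint U₀ U₁)

include hI hU hd in
lemma quasiCompact_ι_left : QuasiCompact U₀.ι := by
  choose V hxV t ht hUV using isLocallyBasicNZD_compl_support I hI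
  have hcover : ⨆ x, (V x).1 = ⊤ := by
    rw [eq_top_iff]
    intro x _
    rw [Opens.mem_iSup]
    exact ⟨x, hxV x⟩
  rw [HasAffineProperty.iff_of_iSup_eq_top (P := @QuasiCompact) V hcover]
  intro y
  show CompactSpace ↥(U₀.ι ⁻¹ᵁ (V y).1)
  refine isCompact_iff_compactSpace.mp
    (?_ : IsCompact ((U₀.ι ⁻¹ᵁ (V y).1 : U₀.toScheme.Opens) : Set U₀.toScheme))
  rw [U₀.ι.isOpenEmbedding.isEmbedding.isCompact_iff]
  have himg : U₀.ι '' ((U₀.ι ⁻¹ᵁ (V y).1 : U₀.toScheme.Opens) : Set U₀.toScheme) =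
      ((X.basicOpen (t y) : X.Opens) : Set X) ∩ (U₁ : Set X)ᶜ := by
    show U₀.ι '' (U₀.ι ⁻¹' ((V y).1 : Set X)) = _
    rw [Set.image_preimage_eq_inter_range, Scheme.Opens.range_ι, ← hUV y]
    ext z
    simp only [Set.mem_inter_iff, SetLike.mem_coe, Opens.coe_inf, Set.mem_compl_iff]
    constructor
    · rintro ⟨hzV, hz0⟩
      refine ⟨⟨?_, hzV⟩, ?_⟩
      · have : z ∈ ModPair.interior I := hU ▸ (Or.inl hz0 : z ∈ U₀ ⊔ U₁)
        exact this
      · intro hz1
        exact (Set.disjoint_left.mp ((Opens.coe_disjoint).mpr hd)) hz0 hz1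
    · rintro ⟨⟨hzU, hzV⟩, hz1⟩
      refine ⟨hzV, ?_⟩
      have : z ∈ U₀ ⊔ U₁ := hU ▸ (hzU : z ∈ ModPair.interior I)
      rcases this with h | h
      · exact h
      · exact absurd h hz1
  rw [himg]
  exact ((V y).2.basicOpen _).isCompact.inter_right U₁.isOpen.isClosed_compl

include hI hU hd in
lemma preimage_right_eq_bot : U₀.ι.imageι ⁻¹ᵁ U₁ = ⊥ := by
  haveI := quasiCompact_ι_left I hI U₀ U₁ hU hd
  by_contra hne
  have hne' : ((U₀.ι.imageι ⁻¹ᵁ U₁ : U₀.ι.image.Opens) : Set U₀.ι.image).Nonempty := by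
    rw [Set.nonempty_iff_ne_empty]
    intro h
    apply hne
    ext z
    simp only [Opens.coe_bot]
    rw [h]
  obtain ⟨w, hw⟩ := (U₀.ι.toImage.denseRange).exists_mem_open (U₀.ι.imageι ⁻¹ᵁ U₁).isOpen hne'
  have h1 : U₀.ι.imageι (U₀.ι.toImage w) ∈ U₁ := hw
  rw [← Scheme.Hom.comp_apply, Scheme.Hom.toImage_imageι] at h1
  exact (Set.disjoint_left.mp ((Opens.coe_disjoint).mpr hd)) w.2 h1

include hI hU hd in
lemma isEffCartier_left : BlowUp.IsEffCartierIdeal (I.comap U₀.ι.imageι) := by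
  haveI := quasiCompact_ι_left I hI U₀ U₁ hU hd
  have hpre : U₀.ι.imageι ⁻¹ᵁ (I.support.compl : X.Opens) = U₀.ι.imageι ⁻¹ᵁ U₀ := by
    have h1 : (I.support.compl : X.Opens) = U₀ ⊔ U₁ := hU.symm
    rw [h1]
    ext z
    have h0 := preimage_right_eq_bot I hI U₀ U₁ hU hd
    constructor
    · rintro (h | h)
      · exact h
      · have : z ∈ (U₀.ι.imageι ⁻¹ᵁ U₁ : U₀.ι.image.Opens) := h
        rw [h0] at this
        exact absurd this (by simp)
    · intro h
      exact Or.inl h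
  haveI hdom : IsSchemeTheoreticallyDominant
      (U₀.ι.imageι ⁻¹ᵁ (I.support.compl : X.Opens)).ι := by
    rw [hpre]
    exact ⟨ker_preimage_ι_eq_bot U₀⟩
  exact (comap_dominant I hI U₀.ι.imageι).2

include hI hU hd in
theorem coprod_closures :
    BlowUp.IsEffCartierIdeal (I.comap (coprod.desc U₀.ι.imageι U₁.ι.imageι)) ∧
      ModPair.IsAdmBlowup (I.comap (coprod.desc U₀.ι.imageι U₁.ι.imageι)) I
        (coprod.desc U₀.ι.imageι U₁.ι.imageι) := by
  have hU' : U₁ ⊔ U₀ = ModPair.interior I := by rw [sup_comm]; exact hU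
  have hd' : Disjoint U₁ U₀ := hd.symm
  have hrange : ∀ y : (U₀.ι.image ⨿ U₁.ι.image : Scheme.{u}),
      y ∈ Set.range (coprod.inl : U₀.ι.image ⟶ U₀.ι.image ⨿ U₁.ι.image) ∨
      y ∈ Set.range (coprod.inr : U₁.ι.image ⟶ U₀.ι.image ⨿ U₁.ι.image) := by
    intro y
    have := (isCompl_range_inl_inr U₀.ι.image U₁.ι.image).sup_eq_top
    have hy : y ∈ (Set.range (coprod.inl : U₀.ι.image ⟶ U₀.ι.image ⨿ U₁.ι.image)) ⊔
        (Set.range (coprod.inr : U₁.ι.image ⟶ U₀.ι.image ⨿ U₁.ι.image)) := by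
      rw [this]; trivial
    exact hy
  refine ⟨?_, rfl, ?_, ?_⟩
  · intro y
    rcases hrange y with ⟨x₀, rfl⟩ | ⟨x₁, rfl⟩
    · apply exists_chart_of_openImmersion coprod.inl
      rw [← Scheme.IdealSheafData.comap_comp, coprod.inl_desc]
      exact isEffCartier_left I hI U₀ U₁ hU hd
    · apply exists_chart_of_openImmersion coprod.inr
      rw [← Scheme.IdealSheafData.comap_comp, coprod.inr_desc]
      exact isEffCartier_left I hI U₁ U₀ hU' hd'
  · haveI : IsFinite (coprod.desc U₀.ι.imageι U₁.ι.imageι) := inferInstance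
    infer_instance
  · have h0 : IsIso (coprod.desc U₀.ι.imageι U₁.ι.imageι ∣_ U₀) := by
      apply isIso_restrict_of_openImmersion_cover coprod.inl
      · intro y hy
        rcases hrange y with h | ⟨x₁, rfl⟩
        · exact h
        · exfalso
          have h1 : (coprod.inr ≫ coprod.desc U₀.ι.imageι U₁.ι.imageι) x₁ ∈ U₀ := hy
          rw [coprod.inr_desc] at h1
          have h2 : x₁ ∈ (U₁.ι.imageι ⁻¹ᵁ U₀ : U₁.ι.image.Opens) := h1
          rw [preimage_right_eq_bot I hI U₁ U₀ hU' hd'] at h2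
          exact absurd h2 (by simp)
      · rw [coprod.inl_desc]
        exact isIso_imageι_restrict U₀
    have h1 : IsIso (coprod.desc U₀.ι.imageι U₁.ι.imageι ∣_ U₁) := by
      apply isIso_restrict_of_openImmersion_cover coprod.inr
      · intro y hy
        rcases hrange y with ⟨x₀, rfl⟩ | h
        · exfalso
          have h1 : (coprod.inl ≫ coprod.desc U₀.ι.imageι U₁.ι.imageι) x₀ ∈ U₁ := hy
          rw [coprod.inl_desc] at h1
          have h2 : x₀ ∈ (U₀.ι.imageι ⁻¹ᵁ U₁ : U₀.ι.image.Opens) := h1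
          rw [preimage_right_eq_bot I hI U₀ U₁ hU hd] at h2
          exact absurd h2 (by simp)
        · exact h
      · rw [coprod.inr_desc]
        exact isIso_imageι_restrict U₁
    have key : ∀ (O : X.Opens), O ≤ ModPair.interior I →
        IsIso (coprod.desc U₀.ι.imageι U₁.ι.imageι ∣_ O) →
        (MorphismProperty.isomorphisms Scheme.{u})
          (coprod.desc U₀.ι.imageι U₁.ι.imageι ∣_ ModPair.interior I ∣_
            ((ModPair.interior I).ι ⁻¹ᵁ O)) := by
      intro O hO hiso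
      rw [(MorphismProperty.isomorphisms Scheme.{u}).arrow_mk_iso_iff
        (morphismRestrictRestrict _ _ _)]
      have e : (ModPair.interior I).ι ''ᵁ ((ModPair.interior I).ι ⁻¹ᵁ O) = O := by
        rw [Scheme.Hom.image_preimage_eq_opensRange_inf, Scheme.Opens.opensRange_ι]
        exact inf_eq_right.mpr hO
      rw [e]
      exact hiso
    have : (MorphismProperty.isomorphisms Scheme.{u})
        (coprod.desc U₀.ι.imageι U₁.ι.imageι ∣_ ModPair.interior I) := by
      apply IsZariskiLocalAtTarget.of_iSup_eq_top (P := MorphismProperty.isomorphisms Scheme.{u})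
        (fun b : Bool => (ModPair.interior I).ι ⁻¹ᵁ (if b then U₁ else U₀))
      · rw [eq_top_iff]
        intro z _
        have hz : z.1 ∈ U₀ ⊔ U₁ := by rw [hU]; exact z.2
        rw [Opens.mem_iSup]
        rcases hz with h | h
        · exact ⟨false, h⟩
        · exact ⟨true, h⟩
      · intro b
        cases b
        · exact key U₀ (hU ▸ le_sup_left) h0
        · exact key U₁ (hU ▸ le_sup_right) h1
    exact this

end Decomp

end Groth.Agent.Helper28.CoprodClosure
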