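import Mathlib
import Groth.Prelude.Def_W4c6modpairsegaMP
import Groth.Agent.Lib.Helper28.IdealGlue

/-!
# Coproducts of modulus pairs
-/
set_option autoImplicit false
universe u
open CategoryTheory CategoryTheory.Limits AlgebraicGeometry TopologicalSpace

namespace Groth.Agent.Helper28.CoprodPair

open ModPair Groth.Agent.Helper28.IdealGlue

variable {σ : Type u} (F : Discrete σ ⥤ ModPair.Pair.{u})

/-- the total spaces -/
abbrev g (i : σ) : Scheme.{u} := (F.obj ⟨i⟩).total

lemma hdisj (i k : σ) (hik : i ≠ k) :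
    Disjoint (Set.range (Sigma.ι (g F) i)) (Set.range (Sigma.ι (g F) k)) := by
  have := disjoint_opensRange_sigmaι (g F) i k hik
  rw [Set.disjoint_left]
  intro x hx hx'
  exact (disjoint_iff.mp this).le ⟨hx, hx'⟩

lemma hcov (x : (∐ g F : Scheme.{u})) : ∃ i, x ∈ Set.range (Sigma.ι (g F) i) := by
  obtain ⟨i, y, hy⟩ := (sigmaOpenCover (g F)).exists_eq x
  exact ⟨i, y, hy⟩

/-- the modulus on the disjoint union -/
noncomputable def modulus : (∐ g F : Scheme.{u}).IdealSheafData :=
  glue (g F) (Sigma.ι (g F)) (fun i => (F.obj ⟨i⟩).mod)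

lemma modulus_comap (i : σ) : (modulus F).comap (Sigma.ι (g F) i) = (F.obj ⟨i⟩).mod :=
  glue_comap (g F) (Sigma.ι (g F)) (hdisj F) (hcov F) _ i

lemma modulus_isEffCartier : BlowUp.IsEffCartierIdeal (modulus F) := by
  apply Groth.Agent.Helper28.BlowUpProj.isEffCartierIdeal_of_local'
  intro x
  obtain ⟨i, hi⟩ := hcov F x
  refine ⟨g F i, Sigma.ι (g F) i, inferInstance, hi, ?_⟩
  rw [modulus_comap]
  exact (F.obj ⟨i⟩).isEffCartier

/-- the coproduct pair -/
noncomputable def pt : ModPair.Pair.{u} := ⟨∐ g F, modulus F, modulus_isEffCartier F⟩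

/-- the coprojections -/
noncomputable def inj (i : σ) : F.obj ⟨i⟩ ⟶ pt F :=
  ⟨Sigma.ι (g F) i, le_of_eq (modulus_comap F i).symm⟩

/-- the colimit cocone -/
noncomputable def cocone : Cocone F where
  pt := pt F
  ι := Discrete.natTrans fun i => by
    obtain ⟨i⟩ := i
    exact inj F i

lemma cocone_ι_app_hom (i : σ) : ((cocone F).ι.app ⟨i⟩).hom = Sigma.ι (g F) i := rfl

lemma comp_hom {P Q R : ModPair.Pair.{u}} (a : P ⟶ Q) (b : Q ⟶ R) : (a ≫ b).hom = a.hom ≫ b.hom :=
  rfl

/-- the underlying morphism of the descent morphism -/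
noncomputable def descHom (s : Cocone F) : (∐ g F : Scheme.{u}) ⟶ s.pt.total :=
  Limits.Sigma.desc (fun i => (s.ι.app ⟨i⟩).hom)

lemma ι_descHom (s : Cocone F) (i : σ) :
    Limits.Sigma.ι (g F) i ≫ descHom F s = (s.ι.app ⟨i⟩).hom :=
  Limits.Sigma.ι_desc _ _

lemma descHom_cond (s : Cocone F) : modulus F ≤ s.pt.mod.comap (descHom F s) := by
  apply le_of_forall_comap_le (g F) (Limits.Sigma.ι (g F)) (hcov F)
  intro i
  rw [modulus_comap, ← Scheme.IdealSheafData.comap_comp, ι_descHom]
  exact (s.ι.app ⟨i⟩).cond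

/-- the descent morphism -/
noncomputable def desc (s : Cocone F) : pt F ⟶ s.pt :=
  ⟨descHom F s, descHom_cond F s⟩

lemma desc_hom (s : Cocone F) : (desc F s).hom = descHom F s := rfl

/-- the cocone is a colimit -/
noncomputable def isColimit : IsColimit (cocone F) where
  desc s := desc F s
  fac s := by
    rintro ⟨i⟩
    apply ModPair.Pair.Hom.ext
    rw [comp_hom, cocone_ι_app_hom, desc_hom]
    exact ι_descHom F s i
  uniq s m hm := by
    apply ModPair.Pair.Hom.ext
    rw [desc_hom]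
    refine Limits.Sigma.hom_ext (f := g F) _ _ fun i => ?_
    rw [ι_descHom, ← hm ⟨i⟩, comp_hom, cocone_ι_app_hom]
    rfl

/-- the image cocone in schemes is a colimit -/
noncomputable def isColimitForget : IsColimit (ModPair.Pair.forget.mapCocone (cocone F)) where
  desc s := Limits.Sigma.desc (f := g F) (fun i => s.ι.app ⟨i⟩)
  fac s := by
    rintro ⟨i⟩
    exact Limits.Sigma.ι_desc (f := g F) _ _
  uniq s m hm := by
    refine Limits.Sigma.hom_ext (f := g F) _ _ fun i => ?_
    rw [Limits.Sigma.ι_desc]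
    exact hm ⟨i⟩

theorem main (σ : Type u) :
    HasColimitsOfShape (Discrete σ) ModPair.Pair.{u} ∧
      PreservesColimitsOfShape (Discrete σ) ModPair.Pair.forget.{u} := by
  refine ⟨⟨fun F => ⟨⟨⟨cocone F, isColimit F⟩⟩⟩⟩, ⟨fun {F} => ?_⟩⟩
  exact preservesColimit_of_preserves_colimit_cocone (isColimit F) (isColimitForget F)

end Groth.Agent.Helper28.CoprodPair
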