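import Mathlib
import Groth.Prelude.Def_RelProj
import Groth.Agent.Lib.Helper28.CoprodAmple
import Groth.Agent.Lib.Helper13.QAffRel

/-!
# Quasi-projectivity of a disjoint union (helper28)
-/

set_option autoImplicit false
universe u
open CategoryTheory CategoryTheory.Limits AlgebraicGeometry Opposite TopologicalSpace

noncomputable section

namespace Groth.Agent.Helper28.CoprodAmple

open Groth.Agent.Helper13 Groth.Agent.Helper13.Ample

section Cat

universe v w

variable {C : Type w} [Category.{v} C] [HasZeroMorphisms C] [HasBinaryCoproducts C]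

/-- `A ⨿ Z ≅ A` for a zero object `Z`. -/
def coprodZeroIso (A Z : C) (hZ : IsZero Z) : A ⨿ Z ≅ A where
  hom := coprod.desc (𝟙 A) 0
  inv := coprod.inl
  hom_inv_id := by
    apply coprod.hom_ext
    · rw [← Category.assoc, coprod.inl_desc, Category.id_comp, Category.comp_id]
    · exact hZ.eq_of_src _ _
  inv_hom_id := coprod.inl_desc _ _

/-- `Z ⨿ A ≅ A` for a zero object `Z`. -/
def zeroCoprodIso (Z A : C) (hZ : IsZero Z) : Z ⨿ A ≅ A where
  hom := coprod.desc 0 (𝟙 A)
  inv := coprod.inr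
  hom_inv_id := by
    apply coprod.hom_ext
    · exact hZ.eq_of_src _ _
    · rw [← Category.assoc, coprod.inr_desc, Category.id_comp, Category.comp_id]
  inv_hom_id := coprod.inr_desc _ _

end Cat

section Zero

variable {X : Scheme.{u}}

lemma isZero_of_subsingleton_sections (M : X.Modules)
    (h : ∀ U : X.Opens, Subsingleton Γ(M, U)) : IsZero M := by
  rw [IsZero.iff_id_eq_zero]
  apply Scheme.Modules.hom_ext
  intro U
  ext s
  exact (h U).elim _ _

lemma subsingleton_sections_bot (M : X.Modules) (U : X.Opens) (hU : U = ⊥) :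
    Subsingleton Γ(M, U) := by
  subst hU
  haveI : Subsingleton Γ(X, (⊥ : X.Opens)) := inferInstance
  exact Module.subsingleton Γ(X, (⊥ : X.Opens)) Γ(M, (⊥ : X.Opens))

end Zero

section Disjoint

variable {T T₁ T₂ : Scheme.{u}} (j₁ : T₁ ⟶ T) (j₂ : T₂ ⟶ T) [IsOpenImmersion j₁]
  [IsOpenImmersion j₂]

lemma isZero_restrict_pushforward (hdisj : ∀ (a : T₁) (b : T₂), j₁.base a ≠ j₂.base b)
    (N : T₂.Modules) :
    IsZero ((Scheme.Modules.restrictFunctor j₁).obj ((Scheme.Modules.pushforward j₂).obj N)) := by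
  apply isZero_of_subsingleton_sections
  intro U
  have h : j₂ ⁻¹ᵁ (j₁ ''ᵁ U) = ⊥ := by
    rw [eq_bot_iff]
    rintro b ⟨a, -, hab⟩
    exact (hdisj a b hab).elim
  exact subsingleton_sections_bot N _ h

/-- the module on `T` with prescribed restrictions to two disjoint open subschemes. -/
def glue2 (N₁ : T₁.Modules) (N₂ : T₂.Modules) : T.Modules :=
  (Scheme.Modules.pushforward j₁).obj N₁ ⨿ (Scheme.Modules.pushforward j₂).obj N₂

def glue2RestrictIso₁ (hdisj : ∀ (a : T₁) (b : T₂), j₁.base a ≠ j₂.base b)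
    (N₁ : T₁.Modules) (N₂ : T₂.Modules) :
    (Scheme.Modules.restrictFunctor j₁).obj (glue2 j₁ j₂ N₁ N₂) ≅ N₁ :=
  (PreservesColimitPair.iso (Scheme.Modules.restrictFunctor j₁) _ _).symm ≪≫
    coprodZeroIso _ _ (isZero_restrict_pushforward j₁ j₂ hdisj N₂) ≪≫
    (Scheme.Modules.restrictFunctorAdjCounitIso j₁).app N₁

def glue2RestrictIso₂ (hdisj : ∀ (a : T₁) (b : T₂), j₁.base a ≠ j₂.base b)
    (N₁ : T₁.Modules) (N₂ : T₂.Modules) :
    (Scheme.Modules.restrictFunctor j₂).obj (glue2 j₁ j₂ N₁ N₂) ≅ N₂ :=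
  (PreservesColimitPair.iso (Scheme.Modules.restrictFunctor j₂) _ _).symm ≪≫
    zeroCoprodIso _ _ (isZero_restrict_pushforward j₂ j₁ (fun b a h => hdisj a b h.symm) N₁) ≪≫
    (Scheme.Modules.restrictFunctorAdjCounitIso j₂).app N₂

end Disjoint

section Main

variable {X X' Y : Scheme.{u}}

theorem isQuasiProjective_coprod (f : X ⟶ Y) (f' : X' ⟶ Y)
    (hf : RelProj.IsQuasiProjective f) (hf' : RelProj.IsQuasiProjective f') :
    RelProj.IsQuasiProjective (coprod.desc f f') := by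
  obtain ⟨hlft, hqc, L, hL⟩ := hf
  obtain ⟨hlft', hqc', L', hL'⟩ := hf'
  haveI := hqc
  haveI := hqc'
  have hdisj : ∀ (a : X) (b : X'),
      (coprod.inl : X ⟶ X ⨿ X').base a ≠ (coprod.inr : X' ⟶ X ⨿ X').base b :=
    fun a b => inl_ne_inr X X' a b
  obtain ⟨L'', hL''⟩ : ∃ L'' : (X ⨿ X').Modules,
      L'' = glue2 (coprod.inl : X ⟶ X ⨿ X') (coprod.inr : X' ⟶ X ⨿ X') L L' := ⟨_, rfl⟩
  have e1 : (Scheme.Modules.pullback (coprod.inl : X ⟶ X ⨿ X')).obj L'' ≅ L := by
    rw [hL'']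
    exact ((Scheme.Modules.restrictFunctorIsoPullback (coprod.inl : X ⟶ X ⨿ X')).app _).symm ≪≫
      glue2RestrictIso₁ _ _ hdisj L L'
  have e2 : (Scheme.Modules.pullback (coprod.inr : X' ⟶ X ⨿ X')).obj L'' ≅ L' := by
    rw [hL'']
    exact ((Scheme.Modules.restrictFunctorIsoPullback (coprod.inr : X' ⟶ X ⨿ X')).app _).symm ≪≫
      glue2RestrictIso₂ _ _ hdisj L L'
  have hamp : RelAmple.IsRelAmple (coprod.desc f f') L'' :=
    (isRelAmple_coprod_iff f f' _ (coprod.inl_desc f f') (coprod.inr_desc f f') L'').2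
      ⟨QAffRel.isRelAmple_of_iso f e1.symm hL, QAffRel.isRelAmple_of_iso f' e2.symm hL'⟩
  refine ⟨?_, hamp.1, L'', hamp⟩
  apply IsZariskiLocalAtSource.of_openCover (P := @LocallyOfFiniteType) (coprodOpenCover.{u, 0} X X')
  rintro (⟨⟩ | ⟨⟩)
  · change LocallyOfFiniteType (coprod.inl ≫ coprod.desc f f')
    rw [coprod.inl_desc]
    exact hlft
  · change LocallyOfFiniteType (coprod.inr ≫ coprod.desc f f')
    rw [coprod.inr_desc]
    exact hlft'

end Main

end Groth.Agent.Helper28.CoprodAmple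

end
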