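import Mathlib
set_option autoImplicit false
universe w v u
open CategoryTheory CategoryTheory.Limits

namespace Groth.Agent.Lib.Helper28.Cosheaf

variable {C : Type u} [Category.{v} C] [HasPullbacks C] (W : MorphismProperty C)
  [W.IsStableUnderBaseChange] [W.IsStableUnderComposition] (D : ObjectProperty C)

def IsCosh (F : C ⥤ AddCommGrpCat.{w}) : Prop :=
  ∀ ⦃Y X : C⦄ (π : Y ⟶ X), W π → Function.Surjective (F.map π).hom ∧
    (F.map π).hom.ker = ((F.map (pullback.fst π π)).hom - (F.map (pullback.snd π π)).hom).range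

variable {W D} (hD : ∀ X : C, ∃ (Y : C) (π : Y ⟶ X), W π ∧ D Y)
  {F G : C ⥤ AddCommGrpCat.{w}} (hF : IsCosh W F) (γ : D.ι ⋙ F ⟶ D.ι ⋙ G)

include hD hF in
lemma L1 {Y X : C} (π : Y ⟶ X) (hπ : W π) (hY : D Y) :
    ∃ β : F.obj X ⟶ G.obj X, F.map π ≫ β = γ.app ⟨Y, hY⟩ ≫ G.map π := by
  obtain ⟨hs, hk⟩ := hF π hπ
  have hker : (F.map π).hom.ker ≤ (γ.app ⟨Y, hY⟩ ≫ G.map π).hom.ker := by
    rw [hk]
    rintro _ ⟨z, rfl⟩
    obtain ⟨Z, ρ, hρ, hZ⟩ := hD (pullback π π)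
    obtain ⟨z', rfl⟩ := (hF ρ hρ).1 z
    rw [AddMonoidHom.mem_ker]
    have n1 := γ.naturality (X := ⟨Z, hZ⟩) (Y := ⟨Y, hY⟩) (ObjectProperty.homMk (ρ ≫ pullback.fst π π))
    have n2 := γ.naturality (X := ⟨Z, hZ⟩) (Y := ⟨Y, hY⟩) (ObjectProperty.homMk (ρ ≫ pullback.snd π π))
    simp only [Functor.comp_obj, ObjectProperty.ι_obj, Functor.comp_map, ObjectProperty.ι_map,
      ObjectProperty.homMk_hom] at n1 n2
    have e1 : (γ.app ⟨Y, hY⟩ ≫ G.map π).hom ((F.map (pullback.fst π π)).hom ((F.map ρ).hom z'))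
        = (γ.app ⟨Z, hZ⟩ ≫ G.map (ρ ≫ pullback.fst π π ≫ π)).hom z' := by
      have : F.map ρ ≫ F.map (pullback.fst π π) ≫ γ.app ⟨Y, hY⟩ ≫ G.map π =
          γ.app ⟨Z, hZ⟩ ≫ G.map (ρ ≫ pullback.fst π π ≫ π) := by
        rw [← Category.assoc (F.map ρ), ← F.map_comp, reassoc_of% n1, ← G.map_comp, Category.assoc]
      exact congrArg (fun f => f.hom z') this
    have e2 : (γ.app ⟨Y, hY⟩ ≫ G.map π).hom ((F.map (pullback.snd π π)).hom ((F.map ρ).hom z'))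
        = (γ.app ⟨Z, hZ⟩ ≫ G.map (ρ ≫ pullback.fst π π ≫ π)).hom z' := by
      have : F.map ρ ≫ F.map (pullback.snd π π) ≫ γ.app ⟨Y, hY⟩ ≫ G.map π =
          γ.app ⟨Z, hZ⟩ ≫ G.map (ρ ≫ pullback.fst π π ≫ π) := by
        rw [← Category.assoc (F.map ρ), ← F.map_comp, reassoc_of% n2, ← G.map_comp, Category.assoc,
          pullback.condition]
      exact congrArg (fun f => f.hom z') this
    have e0 : ((F.map (pullback.fst π π)).hom - (F.map (pullback.snd π π)).hom) ((F.map ρ).hom z') =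
        (F.map (pullback.fst π π)).hom ((F.map ρ).hom z') -
          (F.map (pullback.snd π π)).hom ((F.map ρ).hom z') := rfl
    rw [e0]
    refine (map_sub (γ.app ⟨Y, hY⟩ ≫ G.map π).hom _ _).trans ?_
    rw [e1, e2, sub_self]
  refine ⟨AddCommGrpCat.ofHom ((F.map π).hom.liftOfSurjective hs
    ⟨(γ.app ⟨Y, hY⟩ ≫ G.map π).hom, hker⟩), ?_⟩
  ext y
  exact AddMonoidHom.liftOfRightInverse_comp_apply (F.map π).hom (Function.surjInv hs)
    (Function.rightInverse_surjInv hs) ⟨(γ.app ⟨Y, hY⟩ ≫ G.map π).hom, hker⟩ y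

include hD hF in
lemma L2 {Y' X' : C} (π : Y' ⟶ X') (hπ : W π) (hY' : D Y') (β : F.obj X' ⟶ G.obj X')
    (hβ : F.map π ≫ β = γ.app ⟨Y', hY'⟩ ≫ G.map π) {Y : C} (hY : D Y) (h : Y ⟶ X') :
    F.map h ≫ β = γ.app ⟨Y, hY⟩ ≫ G.map h := by
  obtain ⟨Z, ρ, hρ, hZ⟩ := hD (pullback h π)
  have hq : W (ρ ≫ pullback.fst h π) :=
    W.comp_mem _ _ hρ (MorphismProperty.pullback_fst h π hπ)
  have hepi : Epi (F.map (ρ ≫ pullback.fst h π)) :=
    (AddCommGrpCat.epi_iff_surjective _).mpr (hF _ hq).1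
  rw [← cancel_epi (F.map (ρ ≫ pullback.fst h π))]
  have n1 := γ.naturality (X := ⟨Z, hZ⟩) (Y := ⟨Y, hY⟩) (ObjectProperty.homMk (ρ ≫ pullback.fst h π))
  have n2 := γ.naturality (X := ⟨Z, hZ⟩) (Y := ⟨Y', hY'⟩) (ObjectProperty.homMk (ρ ≫ pullback.snd h π))
  simp only [Functor.comp_obj, ObjectProperty.ι_obj, Functor.comp_map, ObjectProperty.ι_map,
    ObjectProperty.homMk_hom] at n1 n2
  calc F.map (ρ ≫ pullback.fst h π) ≫ F.map h ≫ β
      = F.map (ρ ≫ pullback.snd h π) ≫ F.map π ≫ β := by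
        rw [← Category.assoc, ← F.map_comp, ← Category.assoc, ← F.map_comp, Category.assoc,
          Category.assoc, pullback.condition]
    _ = γ.app ⟨Z, hZ⟩ ≫ G.map (ρ ≫ pullback.snd h π) ≫ G.map π := by
        rw [hβ, reassoc_of% n2]
    _ = γ.app ⟨Z, hZ⟩ ≫ G.map (ρ ≫ pullback.fst h π) ≫ G.map h := by
        rw [← G.map_comp, ← G.map_comp, Category.assoc, Category.assoc, pullback.condition]
    _ = F.map (ρ ≫ pullback.fst h π) ≫ γ.app ⟨Y, hY⟩ ≫ G.map h := by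
        rw [reassoc_of% n1]

include hD hF in
lemma full_aux : ∃ α : F ⟶ G, Functor.whiskerLeft D.ι α = γ := by
  choose Yc πc hπc hYc using hD
  have hD' : ∀ X : C, ∃ (Y : C) (π : Y ⟶ X), W π ∧ D Y := fun X => ⟨Yc X, πc X, hπc X, hYc X⟩
  choose β hβ using fun X => L1 hD' hF γ (πc X) (hπc X) (hYc X)
  refine ⟨{ app := β, naturality := ?_ }, ?_⟩
  · intro X X' f
    have hepi : Epi (F.map (πc X)) :=
      (AddCommGrpCat.epi_iff_surjective _).mpr (hF _ (hπc X)).1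
    rw [← cancel_epi (F.map (πc X))]
    have := L2 hD' hF γ (πc X') (hπc X') (hYc X') (β X') (hβ X') (hYc X) (πc X ≫ f)
    rw [← Category.assoc, ← F.map_comp, this, reassoc_of% hβ X, G.map_comp]
  · ext X : 2
    have := L2 hD' hF γ (πc X.obj) (hπc X.obj) (hYc X.obj) (β X.obj) (hβ X.obj) X.property (𝟙 X.obj)
    simpa using this

omit [W.IsStableUnderBaseChange] [W.IsStableUnderComposition] in
include hD hF in
lemma faithful_aux (α₁ α₂ : F ⟶ G)
    (h : Functor.whiskerLeft D.ι α₁ = Functor.whiskerLeft D.ι α₂) : α₁ = α₂ := by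
  ext X : 2
  obtain ⟨Y, π, hπ, hY⟩ := hD X
  have hepi : Epi (F.map π) := (AddCommGrpCat.epi_iff_surjective _).mpr (hF _ hπ).1
  rw [← cancel_epi (F.map π), α₁.naturality, α₂.naturality]
  have := congrArg (fun t => t.app ⟨Y, hY⟩) h
  simp only [Functor.whiskerLeft_app, ObjectProperty.ι_obj] at this
  rw [this]

end Groth.Agent.Lib.Helper28.Cosheaf
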