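import Mathlib

set_option autoImplicit false
universe u
open CategoryTheory CategoryTheory.Limits AlgebraicGeometry TopologicalSpace

namespace Groth.Agent.Helper28.CurveDominant

section Top
variable {X Y : Type*} [TopologicalSpace X] [TopologicalSpace Y]

/-- in a Jacobson space with a generic point and no chains of length two ending in a closed point,
all non-generic points are closed -/
lemma isClosed_of_ne_generic [JacobsonSpace X] (ξ : X) (hξ : ∀ x : X, ξ ⤳ x)
    (H1 : ∀ z1 z2 x : X, IsClosed ({x} : Set X) → z1 ⤳ z2 → z2 ⤳ x → z1 ≠ z2 → z2 ≠ x → False)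
    (z : X) (hz : z ≠ ξ) : IsClosed ({z} : Set X) := by
  obtain ⟨x, hxz, hx⟩ := nonempty_inter_closedPoints (X := X) (Z := closure {z})
    ⟨z, subset_closure rfl⟩ isClosed_closure.isLocallyClosed
  have hx' : IsClosed ({x} : Set X) := mem_closedPoints_iff.1 hx
  have hzx : z ⤳ x := specializes_iff_mem_closure.2 hxz
  by_cases h : z = x
  · rw [h]; exact hx'
  · exact (H1 ξ z x hx' (hξ z) hzx (Ne.symm hz) h).elim

/-- closed sets avoiding the generic point are finite -/
lemma finite_of_notMem [NoetherianSpace X] [QuasiSober X] (ξ : X)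
    (hcl : ∀ z : X, z ≠ ξ → IsClosed ({z} : Set X)) (Z : Set X) (hZ : IsClosed Z) (hξZ : ξ ∉ Z) :
    Z.Finite := by
  obtain ⟨S, hSfin, hScl, hSirr, rfl⟩ := NoetherianSpace.exists_finite_set_isClosed_irreducible hZ
  apply Set.Finite.sUnion hSfin
  intro t ht
  obtain ⟨c, hc⟩ := QuasiSober.sober (hSirr t ht) (hScl t ht)
  have hct : c ∈ t := by rw [← hc.def]; exact subset_closure rfl
  have hcξ : c ≠ ξ := by
    intro h
    apply hξZ
    rw [← h]
    exact Set.mem_sUnion.2 ⟨t, ht, hct⟩
  have : t = {c} := by rw [← hc.def]; exact (hcl c hcξ).closure_eq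
  rw [this]
  exact Set.finite_singleton c

theorem denseRange_iff_finite_fibres [NoetherianSpace X] [QuasiSober X] [T0Space X]
    [JacobsonSpace X] [JacobsonSpace Y] [T0Space Y]
    (ξ : X) (hξ : ∀ x : X, ξ ⤳ x) (η : Y) (hη : ∀ y : Y, η ⤳ y)
    (HX1 : ∀ z1 z2 x : X, IsClosed ({x} : Set X) → z1 ⤳ z2 → z2 ⤳ x → z1 ≠ z2 → z2 ≠ x → False)
    (HX2 : ∀ x : X, IsClosed ({x} : Set X) → (∀ y, y ⤳ x → y = x) → False)
    (HY1 : ∀ z1 z2 x : Y, IsClosed ({x} : Set Y) → z1 ⤳ z2 → z2 ⤳ x → z1 ≠ z2 → z2 ≠ x → False)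
    (HY2 : ∀ x : Y, IsClosed ({x} : Set Y) → (∀ y, y ⤳ x → y = x) → False)
    (f : X → Y) (hf : Continuous f)
    (hfc : ∀ x : X, IsClosed ({x} : Set X) → IsClosed ({f x} : Set Y)) :
    DenseRange f ↔ ∀ y : Y, (f ⁻¹' {y}).Finite := by
  have hXcl := isClosed_of_ne_generic ξ hξ HX1
  have hYcl := isClosed_of_ne_generic η hη HY1
  have hξncl : ¬ IsClosed ({ξ} : Set X) := fun h =>
    HX2 ξ h (fun y hy => (hy.antisymm (hξ y)).eq)
  have hηncl : ¬ IsClosed ({η} : Set Y) := fun h =>
    HY2 η h (fun y hy => (hy.antisymm (hη y)).eq)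
  constructor
  · intro hd y
    have hfξ : f ξ = η := by
      have h1 : ∀ y : Y, f ξ ⤳ y := by
        intro y
        rw [specializes_iff_mem_closure]
        have hsub : closure (Set.range f) ⊆ closure {f ξ} := by
          apply closure_minimal _ isClosed_closure
          rintro _ ⟨x, rfl⟩
          exact specializes_iff_mem_closure.1 ((hξ x).map hf)
        exact hsub (hd y)
      exact ((h1 η).antisymm (hη (f ξ))).eq
    by_cases hy : y = η
    · apply Set.Finite.subset (Set.finite_singleton ξ)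
      intro z hz
      have hz' : f z = y := hz
      by_contra hzξ
      have hzcl : IsClosed ({z} : Set X) := hXcl z hzξ
      have h2 := hfc z hzcl
      rw [hz', hy] at h2
      exact hηncl h2
    · have hycl : IsClosed ({y} : Set Y) := hYcl y hy
      apply finite_of_notMem ξ hXcl _ (hycl.preimage hf)
      intro h
      have h' : f ξ = y := h
      exact hy (h'.symm.trans hfξ)
  · intro hfin
    by_contra hnd
    have hfξ : f ξ ≠ η := by
      intro h
      apply hnd
      intro y
      have hmem : η ∈ Set.range f := ⟨ξ, h⟩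
      exact closure_mono (Set.singleton_subset_iff.2 hmem)
        (specializes_iff_mem_closure.1 (hη y))
    have hcl : IsClosed ({f ξ} : Set Y) := hYcl _ hfξ
    have hall : ∀ x : X, f x = f ξ := by
      intro x
      have h1 : f ξ ⤳ f x := (hξ x).map hf
      have h2 : f x ∈ closure ({f ξ} : Set Y) := specializes_iff_mem_closure.1 h1
      rw [hcl.closure_eq] at h2
      exact h2
    have hXfin : (Set.univ : Set X).Finite := by
      apply Set.Finite.subset (hfin (f ξ))
      intro x _
      exact hall x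
    have hcompl : IsClosed ({ξ}ᶜ : Set X) := by
      have hfin' : ({ξ}ᶜ : Set X).Finite := hXfin.subset (Set.subset_univ _)
      have h3 := hfin'.isClosed_biUnion (f := fun z => ({z} : Set X)) (fun z hz => hXcl z hz)
      rwa [Set.biUnion_of_singleton] at h3
    have hopen : IsOpen ({ξ} : Set X) := by
      rw [← isClosed_compl_iff]; exact hcompl
    exact hξncl (isClosed_singleton_of_isLocallyClosed_singleton hopen.isLocallyClosed)

end Top

section Sch
variable {X : Scheme.{u}}

lemma exists_prime_of_specializes (x y : X) (hy : y ⤳ x) :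
    ∃ p : PrimeSpectrum (X.presheaf.stalk x), X.fromSpecStalk x p = y := by
  have : y ∈ Set.range (X.fromSpecStalk x) := by rw [Scheme.range_fromSpecStalk]; exact hy
  exact this

/-- a chain of two proper specializations ending at `x` forces the stalk to have dimension `≠ 1` -/
lemma ringKrullDim_stalk_ne_one_of_chain (z1 z2 x : X) (h12 : z1 ⤳ z2) (h2x : z2 ⤳ x)
    (hne1 : z1 ≠ z2) (hne2 : z2 ≠ x) : ringKrullDim (X.presheaf.stalk x) ≠ 1 := by
  have hemb : Topology.IsEmbedding (X.fromSpecStalk x) := (X.fromSpecStalk x).isEmbedding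
  obtain ⟨p1, hp1⟩ := exists_prime_of_specializes x z1 (h12.trans h2x)
  obtain ⟨p2, hp2⟩ := exists_prime_of_specializes x z2 h2x
  obtain ⟨p3, hp3⟩ := exists_prime_of_specializes x x specializes_rfl
  have hi12 : X.fromSpecStalk x p1 ⤳ X.fromSpecStalk x p2 := by rw [hp1, hp2]; exact h12
  have hi23 : X.fromSpecStalk x p2 ⤳ X.fromSpecStalk x p3 := by rw [hp2, hp3]; exact h2x
  have hs12 : p1 ⤳ p2 := hemb.isInducing.specializes_iff.1 hi12
  have hs23 : p2 ⤳ p3 := hemb.isInducing.specializes_iff.1 hi23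
  have hle12 : p1 ≤ p2 := (PrimeSpectrum.le_iff_specializes p1 p2).2 hs12
  have hle23 : p2 ≤ p3 := (PrimeSpectrum.le_iff_specializes p2 p3).2 hs23
  have hlt12 : p1 < p2 := lt_of_le_of_ne hle12 (fun h => hne1 (by rw [← hp1, ← hp2, h]))
  have hlt23 : p2 < p3 := lt_of_le_of_ne hle23 (fun h => hne2 (hp2.symm.trans ((congrArg (fun t => X.fromSpecStalk x t) h).trans hp3)))
  have h1 : Order.height p1 + 1 ≤ Order.height p2 := Order.height_add_one_le hlt12
  have h2 : Order.height p2 + 1 ≤ Order.height p3 := Order.height_add_one_le hlt23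
  have h4 : (1 : ℕ∞) ≤ Order.height p2 := le_trans le_add_self h1
  have h5 : (1 : ℕ∞) + 1 ≤ Order.height p2 + 1 := by gcongr
  have h3 : (2 : ℕ∞) ≤ Order.height p3 := by
    calc (2 : ℕ∞) = 1 + 1 := by norm_num
      _ ≤ Order.height p2 + 1 := h5
      _ ≤ Order.height p3 := h2
  intro hdim
  have h6 : ((Order.height p3 : ℕ∞) : WithBot ℕ∞) ≤ ringKrullDim (X.presheaf.stalk x) :=
    Order.height_le_krullDim p3
  rw [hdim] at h6
  have h7 : Order.height p3 ≤ 1 := by exact_mod_cast h6
  exact absurd (h3.trans h7) (by norm_num)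

/-- a point without proper generizations has a zero-dimensional stalk -/
lemma ringKrullDim_stalk_ne_one_of_forall (x : X) (h : ∀ y : X, y ⤳ x → y = x) :
    ringKrullDim (X.presheaf.stalk x) ≠ 1 := by
  have hemb : Topology.IsEmbedding (X.fromSpecStalk x) := (X.fromSpecStalk x).isEmbedding
  haveI : Subsingleton (PrimeSpectrum (X.presheaf.stalk x)) := by
    constructor
    intro p q
    apply hemb.injective
    have hp : X.fromSpecStalk x p ⤳ x := by
      have : X.fromSpecStalk x p ∈ Set.range (X.fromSpecStalk x) := ⟨p, rfl⟩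
      rw [Scheme.range_fromSpecStalk] at this
      exact this
    have hq : X.fromSpecStalk x q ⤳ x := by
      have : X.fromSpecStalk x q ∈ Set.range (X.fromSpecStalk x) := ⟨q, rfl⟩
      rw [Scheme.range_fromSpecStalk] at this
      exact this
    exact (h _ hp).trans (h _ hq).symm
  intro hdim
  have h0 : ringKrullDim (X.presheaf.stalk x) ≤ 0 := Order.krullDim_nonpos_of_subsingleton
  rw [hdim] at h0
  have h1 : ((1 : ℕ∞) : WithBot ℕ∞) ≤ ((0 : ℕ∞) : WithBot ℕ∞) := h0
  exact absurd (le_zero_iff.1 (WithBot.coe_le_coe.1 h1)) one_ne_zero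

theorem main (k : Type u) [Field k] (X Y : Scheme.{u}) (p : X ⟶ Spec (CommRingCat.of k))
    (q : Y ⟶ Spec (CommRingCat.of k)) [LocallyOfFiniteType p] [QuasiCompact p]
    [LocallyOfFiniteType q] [IrreducibleSpace X] [IrreducibleSpace Y]
    (hX : ∀ x : X, IsClosed ({x} : Set X) → ringKrullDim (X.presheaf.stalk x) = 1)
    (hY : ∀ x : Y, IsClosed ({x} : Set Y) → ringKrullDim (Y.presheaf.stalk x) = 1)
    (f : X ⟶ Y) (hf : f ≫ q = p) :
    IsDominant f ↔ ∀ y : Y, (f.base ⁻¹' {y}).Finite := by
  haveI : JacobsonSpace X := LocallyOfFiniteType.jacobsonSpace p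
  haveI : JacobsonSpace Y := LocallyOfFiniteType.jacobsonSpace q
  haveI : IsLocallyNoetherian X := LocallyOfFiniteType.isLocallyNoetherian p
  haveI : CompactSpace X := QuasiCompact.compactSpace_of_compactSpace p
  haveI : IsNoetherian X := {}
  haveI : LocallyOfFiniteType (f ≫ q) := by rw [hf]; infer_instance
  haveI : LocallyOfFiniteType f := locallyOfFiniteType_of_comp f q
  rw [isDominant_iff]
  exact denseRange_iff_finite_fibres (genericPoint X)
    (fun x => (genericPoint_spec X).specializes trivial) (genericPoint Y)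
    (fun y => (genericPoint_spec Y).specializes trivial)
    (fun z1 z2 x hx h12 h2x hne1 hne2 =>
      ringKrullDim_stalk_ne_one_of_chain z1 z2 x h12 h2x hne1 hne2 (hX x hx))
    (fun x hx h => ringKrullDim_stalk_ne_one_of_forall x h (hX x hx))
    (fun z1 z2 x hx h12 h2x hne1 hne2 =>
      ringKrullDim_stalk_ne_one_of_chain z1 z2 x h12 h2x hne1 hne2 (hY x hx))
    (fun x hx h => ringKrullDim_stalk_ne_one_of_forall x h (hY x hx))
    f.base f.continuous
    (fun x hx => f.closePoints_subset_preimage_closedPoints hx)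

end Sch

end Groth.Agent.Helper28.CurveDominant
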