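import Mathlib.AlgebraicGeometry.ZariskisMainTheorem
import Mathlib.AlgebraicGeometry.Morphisms.QuasiFinite
import Mathlib.AlgebraicGeometry.Morphisms.Proper
import Mathlib.AlgebraicGeometry.Noetherian
import Mathlib.Topology.KrullDimension
import Mathlib.Topology.NoetherianSpace
import Mathlib.Topology.Sober

set_option autoImplicit false
universe u
open CategoryTheory CategoryTheory.Limits AlgebraicGeometry TopologicalSpace

namespace Groth.Agent.Helper28.CurveFinite

section Topology

variable {X : Type*} [TopologicalSpace X]

lemma no_chain (hdim : topologicalKrullDim X ≤ 1) (A B C : Set X) (hA : IsIrreducible A)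
    (hAc : IsClosed A) (hB : IsIrreducible B) (hBc : IsClosed B) (hC : IsIrreducible C)
    (hCc : IsClosed C) (hAB : A ⊆ B) (hAB' : A ≠ B) (hBC : B ⊆ C) (hBC' : B ≠ C) : False := by
  let a : IrreducibleCloseds X := ⟨A, hA, hAc⟩
  let b : IrreducibleCloseds X := ⟨B, hB, hBc⟩
  let c : IrreducibleCloseds X := ⟨C, hC, hCc⟩
  rcases (Order.krullDim_le_one_iff.1 hdim) b with hmin | hmax
  · have hab : a ≤ b := fun w hw => hAB hw
    have hba : b ≤ a := hmin hab
    exact hAB' (Set.Subset.antisymm hAB (fun w hw => hba hw))
  · have hbc : b ≤ c := fun w hw => hBC hw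
    have hcb : c ≤ b := hmax hbc
    exact hBC' (Set.Subset.antisymm hBC (fun w hw => hcb hw))

lemma eq_of_closure_eq [T0Space X] {a b : X} (e : closure ({a} : Set X) = closure {b}) : a = b :=
  ((specializes_iff_closure_subset.2 e.ge).antisymm (specializes_iff_closure_subset.2 e.le)).eq

lemma closure_singleton_eq [T0Space X] (hdim : topologicalKrullDim X ≤ 1) (Z : Set X)
    (hZ : IsIrreducible Z) (hZc : IsClosed Z) (z : X) (hz : z ∈ Z) (hne : closure {z} ≠ Z) :
    closure {z} = {z} := by
  refine Set.Subset.antisymm ?_ subset_closure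
  intro w hw
  have hwz : closure {w} ⊆ closure {z} :=
    closure_minimal (Set.singleton_subset_iff.2 hw) isClosed_closure
  have hzZ : closure {z} ⊆ Z := closure_minimal (Set.singleton_subset_iff.2 hz) hZc
  by_cases heq : closure {w} = closure {z}
  · exact eq_of_closure_eq heq
  · exact (no_chain hdim _ _ _ isIrreducible_singleton.closure isClosed_closure
      isIrreducible_singleton.closure isClosed_closure hZ hZc hwz heq hzZ hne).elim

lemma finite_of_ne [NoetherianSpace X] [T0Space X] (hdim : topologicalKrullDim X ≤ 1) (Z : Set X)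
    (hZ : IsIrreducible Z) (hZc : IsClosed Z) (C : Set X) (hC : IsClosed C) (hCZ : C ⊆ Z)
    (hne : C ≠ Z) : C.Finite := by
  obtain ⟨S, hSfin, hScl, hSirr, rfl⟩ := NoetherianSpace.exists_finite_set_isClosed_irreducible hC
  apply Set.Finite.sUnion hSfin
  intro t ht
  have htZ : t ⊆ Z := (Set.subset_sUnion_of_mem ht).trans hCZ
  have htne : t ≠ Z := by
    rintro rfl
    exact hne (Set.Subset.antisymm hCZ (Set.subset_sUnion_of_mem ht))
  have key : ∀ c ∈ t, closure {c} = t := by
    intro c hc
    have hct : closure {c} ⊆ t :=
      closure_minimal (Set.singleton_subset_iff.2 hc) (hScl t ht)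
    by_contra hcne
    exact no_chain hdim _ _ _ isIrreducible_singleton.closure isClosed_closure (hSirr t ht)
      (hScl t ht) hZ hZc hct hcne htZ htne
  have hsub : t.Subsingleton := by
    intro c1 hc1 c2 hc2
    exact eq_of_closure_eq ((key c1 hc1).trans (key c2 hc2).symm)
  exact hsub.finite

/-- Finiteness of fibres for a closed map from a Noetherian sober space of dimension at most one
which contracts no one-dimensional component. -/
theorem finite_fibre {Y : Type*} [TopologicalSpace Y] [NoetherianSpace X] [T0Space X]
    [QuasiSober X] [T0Space Y] (hdim : topologicalKrullDim X ≤ 1) (f : X → Y)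
    (hcont : Continuous f) (hclosed : IsClosedMap f)
    (h : ∀ Z ∈ irreducibleComponents X, topologicalKrullDim Z = 1 → (f '' Z).Nontrivial) (y : Y) :
    (f ⁻¹' {y}).Finite := by
  have hfin : (irreducibleComponents X).Finite := NoetherianSpace.finite_irreducibleComponents
  have hcover : f ⁻¹' {y} ⊆ ⋃ Z ∈ irreducibleComponents X, (Z ∩ f ⁻¹' {y}) := by
    intro x hx
    have hxu : x ∈ ⋃₀ irreducibleComponents X := by
      rw [sUnion_irreducibleComponents]; trivial
    obtain ⟨Z, hZ, hxZ⟩ := hxu
    exact Set.mem_biUnion hZ ⟨hxZ, hx⟩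
  refine Set.Finite.subset (Set.Finite.biUnion hfin (fun Z hZ => ?_)) hcover
  have hZirr : IsIrreducible Z := hZ.1
  have hZcl : IsClosed Z := isClosed_of_mem_irreducibleComponents Z hZ
  obtain ⟨ζ, hζ⟩ := QuasiSober.sober hZirr hZcl
  have hζZ : closure {ζ} = Z := hζ.def
  have hζmem : ζ ∈ Z := by
    rw [← hζZ]; exact subset_closure (Set.mem_singleton ζ)
  by_cases hsing : ∀ z ∈ Z, closure {z} = Z
  · have hsub : Z ⊆ {ζ} := by
      intro z hz
      exact eq_of_closure_eq ((hsing z hz).trans hζZ.symm)
    exact (Set.finite_singleton ζ).subset (Set.inter_subset_left.trans hsub)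
  · push Not at hsing
    obtain ⟨z0, hz0, hz0ne⟩ := hsing
    have hd1 : topologicalKrullDim Z = 1 := by
      apply le_antisymm ((topologicalKrullDim_subspace_le X Z).trans hdim)
      haveI : IrreducibleSpace Z := Subtype.irreducibleSpace hZirr
      let a0 : IrreducibleCloseds Z :=
        ⟨closure {⟨z0, hz0⟩}, isIrreducible_singleton.closure, isClosed_closure⟩
      let a1 : IrreducibleCloseds Z :=
        ⟨Set.univ, IrreducibleSpace.isIrreducible_univ Z, isClosed_univ⟩
      refine Order.one_le_krullDim_iff.2 ⟨a0, a1, lt_of_le_of_ne (fun w _ => Set.mem_univ w) ?_⟩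
      intro e
      apply hz0ne
      apply Set.Subset.antisymm (closure_minimal (Set.singleton_subset_iff.2 hz0) hZcl)
      intro w hw
      have hw' : (⟨w, hw⟩ : Z) ∈ closure ({⟨z0, hz0⟩} : Set Z) := by
        have hmem : (⟨w, hw⟩ : Z) ∈ a1 := Set.mem_univ _
        rw [← e] at hmem
        exact hmem
      rw [closure_subtype] at hw'
      simpa using hw'
    have hnt := h Z hZ hd1
    by_cases hζy : f ζ = y
    · have hsub : Z ∩ f ⁻¹' {y} ⊆ {ζ} := by
        rintro z ⟨hz, hzy⟩
        by_contra hzne
        have hzcl : closure {z} ≠ Z := by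
          intro e
          exact hzne (eq_of_closure_eq (e.trans hζZ.symm))
        have hzpt : closure {z} = {z} := closure_singleton_eq hdim Z hZirr hZcl z hz hzcl
        have hzclosed : IsClosed ({z} : Set X) := by
          rw [← hzpt]; exact isClosed_closure
        have hyclosed : IsClosed ({y} : Set Y) := by
          have h1 := hclosed _ hzclosed
          rwa [Set.image_singleton, show f z = y from hzy] at h1
        have himg : f '' Z ⊆ {y} := by
          rintro _ ⟨w, hw, rfl⟩
          have h1 : f ζ ⤳ f w := (hζ.specializes hw).map hcont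
          rw [hζy] at h1
          have hmem : f w ∈ closure ({y} : Set Y) := specializes_iff_mem_closure.1 h1
          rwa [hyclosed.closure_eq] at hmem
        exact hnt.not_subsingleton (Set.subsingleton_singleton.anti himg)
      exact (Set.finite_singleton ζ).subset hsub
    · refine Set.Finite.subset (finite_of_ne hdim Z hZirr hZcl (closure (Z ∩ f ⁻¹' {y}))
        isClosed_closure (closure_minimal Set.inter_subset_left hZcl) ?_) subset_closure
      intro e
      apply hζy
      have h1 : closure (Z ∩ f ⁻¹' {y}) ⊆ f ⁻¹' (closure {y}) :=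
        closure_minimal (fun w hw => subset_closure hw.2) (isClosed_closure.preimage hcont)
      have h2 : f ζ ∈ closure ({y} : Set Y) := h1 (by rw [e]; exact hζmem)
      have s1 : y ⤳ f ζ := specializes_iff_mem_closure.2 h2
      have hne : (Z ∩ f ⁻¹' {y}).Nonempty := by
        by_contra hemp
        rw [Set.not_nonempty_iff_eq_empty] at hemp
        rw [hemp, closure_empty] at e
        rw [← e] at hζmem
        exact hζmem
      obtain ⟨z, hz, hzy⟩ := hne
      have s2 : f ζ ⤳ y := by
        have h3 := (hζ.specializes hz).map hcont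
        rwa [show f z = y from hzy] at h3
      exact (s2.antisymm s1).eq

end Topology

section Scheme

theorem main (k : Type u) [Field k] (X Y : Scheme.{u}) (p : X ⟶ Spec (CommRingCat.of k))
    (q : Y ⟶ Spec (CommRingCat.of k)) [IsProper p] [IsSeparated q] (f : X ⟶ Y) (hf : f ≫ q = p)
    (hdim : topologicalKrullDim X ≤ 1)
    (h : ∀ Z ∈ irreducibleComponents (X : Type u), topologicalKrullDim Z = 1 →
      (f.base '' Z).Nontrivial) : IsFinite f := by
  haveI : IsProper (f ≫ q) := by rw [hf]; infer_instance
  haveI : IsProper f := IsProper.of_comp f q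
  haveI : IsLocallyNoetherian (Spec (CommRingCat.of k)) := inferInstance
  haveI : IsLocallyNoetherian X := LocallyOfFiniteType.isLocallyNoetherian p
  haveI : CompactSpace X := QuasiCompact.compactSpace_of_compactSpace p
  haveI : IsNoetherian X := {}
  haveI : LocallyQuasiFinite f := by
    rw [locallyQuasiFinite_iff_finite_preimage_singleton]
    intro y
    exact finite_fibre hdim f.base f.continuous f.isClosedMap h y
  exact IsFinite.of_isProper_of_locallyQuasiFinite f

end Scheme

end Groth.Agent.Helper28.CurveFinite
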