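import Mathlib.AlgebraicGeometry.Morphisms.Flat
import Mathlib.AlgebraicGeometry.FunctionField
import Mathlib.AlgebraicGeometry.Noetherian
import Mathlib.AlgebraicGeometry.Properties
import Mathlib.RingTheory.Flat.TorsionFree
import Mathlib.RingTheory.DedekindDomain.Basic
import Mathlib.RingTheory.KrullDimension.Basic
import Mathlib.RingTheory.Ideal.KrullsHeightTheorem
import Mathlib.Topology.KrullDimension

set_option autoImplicit false
universe u
open CategoryTheory CategoryTheory.Limits AlgebraicGeometry TopologicalSpace

namespace Groth.Agent.Helper28.CurveFlat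

section Algebra

lemma injective_of_isField {K C : Type*} [CommRing K] [CommRing C] [Nontrivial C] (hK : IsField K)
    (φ : K →+* C) : Function.Injective φ := by
  rw [injective_iff_map_eq_zero]
  intro a ha
  by_contra hne
  obtain ⟨b, hb⟩ := hK.mul_inv_cancel hne
  have h1 : φ 1 = 0 := by rw [← hb, map_mul, ha, zero_mul]
  rw [map_one] at h1
  exact one_ne_zero h1

/-- An injective homomorphism from a normal Noetherian domain of dimension at most one to a domain
is flat. -/
lemma flat_of_dim_le_one {B C : Type*} [CommRing B] [CommRing C] [IsDomain B] [IsNoetherianRing B]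
    [IsIntegrallyClosed B] (hdim : ringKrullDim B ≤ 1) [IsDomain C] (φ : B →+* C)
    (hφ : Function.Injective φ) : φ.Flat := by
  haveI h1 : Ring.KrullDimLE 1 B := Ring.krullDimLE_iff.2 (by exact_mod_cast hdim)
  haveI h2 : Ring.DimensionLEOne B :=
    ⟨fun {p} hp hprime => Ring.krullDimLE_one_iff_of_noZeroDivisors.1 h1 p hp hprime⟩
  haveI h3 : IsDedekindDomain B :=
    (isDedekindDomain_iff B (FractionRing B)).2 ⟨inferInstance, inferInstance, h2,
      fun {x} hx => (isIntegrallyClosed_iff (FractionRing B)).1 inferInstance hx⟩
  algebraize [φ]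
  have h4 : Module.Flat B C := by
    rw [IsDedekindDomain.flat_iff_torsion_eq_bot, eq_bot_iff]
    intro x hx
    rw [Submodule.mem_torsion_iff] at hx
    obtain ⟨a, ha⟩ := hx
    rw [Submodule.mem_bot]
    have h5 : φ (a : B) * x = 0 := by
      rw [← ha]
      rfl
    rcases mul_eq_zero.1 h5 with h6 | h6
    · exact absurd (hφ (h6.trans (map_zero φ).symm)) (nonZeroDivisors.coe_ne_zero a)
    · exact h6
  exact h4

end Algebra

section Topology

lemma closure_eq_univ_of_nontrivial {Y : Type*} [TopologicalSpace Y] [T0Space Y] [IrreducibleSpace Y]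
    (hY : topologicalKrullDim Y ≤ 1) (y : Y) (S : Set Y) (hS : S ⊆ closure {y})
    (hnt : S.Nontrivial) : closure {y} = Set.univ := by
  by_contra hne
  let a : IrreducibleCloseds Y := ⟨closure {y}, isIrreducible_singleton.closure, isClosed_closure⟩
  have h1 := (Order.krullDim_le_one_iff.1 hY) a
  rcases h1 with hmin | hmax
  · have key : ∀ z ∈ S, z = y := by
      intro z hz
      let c : IrreducibleCloseds Y :=
        ⟨closure {z}, isIrreducible_singleton.closure, isClosed_closure⟩
      have hzy : closure {z} ⊆ closure {y} :=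
        closure_minimal (Set.singleton_subset_iff.2 (hS hz)) isClosed_closure
      have hca : c ≤ a := fun w hw => hzy hw
      have hac : a ≤ c := hmin hca
      have hyz : closure {y} ⊆ closure {z} := fun w hw => hac hw
      have s1 : z ⤳ y := specializes_iff_closure_subset.2 hyz
      have s2 : y ⤳ z := specializes_iff_closure_subset.2 hzy
      exact (s1.antisymm s2).eq
    obtain ⟨z1, hz1, z2, hz2, hne12⟩ := hnt
    exact hne12 ((key z1 hz1).trans (key z2 hz2).symm)
  · let b : IrreducibleCloseds Y :=
      ⟨Set.univ, IrreducibleSpace.isIrreducible_univ Y, isClosed_univ⟩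
    have hab : a ≤ b := fun w _ => Set.mem_univ w
    have hba : b ≤ a := hmax hab
    apply hne
    apply Set.eq_univ_of_univ_subset
    exact fun w hw => hba hw

end Topology

section Scheme

theorem ringKrullDim_stalk_le (X : Scheme.{u}) (x : X) :
    ringKrullDim (X.presheaf.stalk x) ≤ topologicalKrullDim X := by
  obtain ⟨_, ⟨U, hU, rfl⟩, hxU, -⟩ :=
    X.isBasis_affineOpens.exists_subset_of_mem_open (Set.mem_univ x) isOpen_univ
  letI : Algebra Γ(X, U) (X.presheaf.stalk x) :=
    TopCat.Presheaf.algebra_section_stalk X.presheaf ⟨x, hxU⟩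
  haveI := hU.isLocalization_stalk ⟨x, hxU⟩
  rw [IsLocalization.AtPrime.ringKrullDim_eq_height (hU.primeIdealOf ⟨x, hxU⟩).asIdeal]
  have h1 : topologicalKrullDim (U : Set X) = ringKrullDim Γ(X, U) := by
    rw [← PrimeSpectrum.topologicalKrullDim_eq_ringKrullDim Γ(X, U)]
    change _ = topologicalKrullDim (Spec Γ(X, U))
    exact IsHomeomorph.topologicalKrullDim_eq _ hU.isoSpec.hom.homeomorph.isHomeomorph
  calc ((hU.primeIdealOf ⟨x, hxU⟩).asIdeal.height : WithBot ℕ∞)
      ≤ ringKrullDim Γ(X, U) := Ideal.height_le_ringKrullDim_of_isPrime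
    _ = topologicalKrullDim (U : Set X) := h1.symm
    _ ≤ topologicalKrullDim X := topologicalKrullDim_subspace_le X U

lemma stalkSpecializes_injective (Y : Scheme.{u}) [IsIntegral Y] {y z : Y} (h : z ⤳ y) :
    Function.Injective (Y.presheaf.stalkSpecializes h).hom := by
  rw [injective_iff_map_eq_zero]
  intro b hb
  obtain ⟨V, hyV, s, rfl⟩ := Y.presheaf.exists_germ_eq b
  have h1 : (Y.presheaf.germ V z (h.mem_open V.isOpen hyV)).hom s = 0 := by
    rw [← TopCat.Presheaf.germ_stalkSpecializes Y.presheaf hyV h]
    exact hb
  have h2 : s = 0 := by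
    apply germ_injective_of_isIntegral Y z (h.mem_open V.isOpen hyV)
    rw [h1, map_zero]
  rw [h2, map_zero]

lemma stalkMap_injective {X Y : Scheme.{u}} [IsIntegral X] [IsIntegral Y] (f : X ⟶ Y)
    (hdom : closure {f (genericPoint X)} = Set.univ) (x : X) :
    Function.Injective (f.stalkMap x).hom := by
  have hξx : genericPoint X ⤳ x := (genericPoint_spec X).specializes trivial
  have hsq := f.stalkSpecializes_stalkMap (genericPoint X) x hξx
  have h1 : Function.Injective
      (Y.presheaf.stalkSpecializes (f.base.hom.map_specializes hξx)).hom :=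
    stalkSpecializes_injective Y _
  have hfield : IsField (Y.presheaf.stalk (f (genericPoint X))) :=
    isField_stalk_of_closure_mem_irreducibleComponents Y _
      (by rw [hdom, irreducibleComponents_eq_singleton]; exact Set.mem_singleton _)
  have h2 : Function.Injective (f.stalkMap (genericPoint X)).hom :=
    injective_of_isField hfield _
  have h3 : Function.Injective
      ((X.presheaf.stalkSpecializes hξx).hom ∘ (f.stalkMap x).hom) := by
    have h4 : (X.presheaf.stalkSpecializes hξx).hom ∘ (f.stalkMap x).hom =
        (f.stalkMap (genericPoint X)).hom ∘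
          (Y.presheaf.stalkSpecializes (f.base.hom.map_specializes hξx)).hom := by
      funext b
      have := congrArg (fun t => t.hom b) hsq
      simp only [CommRingCat.hom_comp, RingHom.comp_apply] at this
      exact this.symm
    rw [h4]
    exact h2.comp h1
  exact Function.Injective.of_comp h3

/-- A dominant-in-the-weak-sense (nonconstant) morphism of integral schemes onto a normal locally
Noetherian target of dimension at most one is flat. -/
theorem flat_of_curves {X Y : Scheme.{u}} [IsIntegral X] [IsIntegral Y] [IsLocallyNoetherian Y]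
    (hY : topologicalKrullDim Y ≤ 1) (hN : ∀ y : Y, IsIntegrallyClosed (Y.presheaf.stalk y))
    (f : X ⟶ Y) (hnc : (Set.range f.base).Nontrivial) : Flat f := by
  have hS : Set.range f.base ⊆ closure {f (genericPoint X)} := by
    rintro _ ⟨x, rfl⟩
    have hξx : genericPoint X ⤳ x := (genericPoint_spec X).specializes trivial
    exact specializes_iff_mem_closure.1 (hξx.map f.continuous)
  have hdom : closure {f (genericPoint X)} = Set.univ :=
    closure_eq_univ_of_nontrivial hY _ _ hS hnc
  apply Flat.of_stalkMap
  intro x
  haveI := hN (f x)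
  exact flat_of_dim_le_one ((ringKrullDim_stalk_le Y (f x)).trans hY) _
    (stalkMap_injective f hdom x)

end Scheme

end Groth.Agent.Helper28.CurveFlat
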