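import Mathlib
import Groth.Prelude.Def_W4c6equivkfinstabCyc
set_option autoImplicit false
open Polynomial W4c6equivkfinstab

namespace Groth.Agent.Helper28.CycUnit

universe u v

/-- In a commutative ring where `n` is invertible, if `Φ_n(t) = 0` and `t^j ≠ 1` "formally"
(`n ∤ j`), then `t ^ j - 1` is a unit. -/
theorem isUnit_pow_sub_one {S : Type*} [CommRing S] {Λ : Type*} [CommRing Λ] [Algebra Λ S]
    (n : ℕ) (hn0 : n ≠ 0) (hn : IsUnit (n : Λ)) (t : S) (ht : aeval t (cyclotomic n Λ) = 0)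
    (j : ℕ) (hj : ¬ n ∣ j) : IsUnit (t ^ j - 1) := by
  have hnpos : 0 < n := Nat.pos_of_ne_zero hn0
  have htn : t ^ n = 1 := by
    have h1 : cyclotomic n Λ ∣ X ^ n - 1 := cyclotomic.dvd_X_pow_sub_one n Λ
    obtain ⟨q, hq⟩ := h1
    have := congrArg (aeval t) hq
    rw [map_mul, ht, zero_mul] at this
    simpa [sub_eq_zero] using this
  set d := Nat.gcd j n with hd
  have hdn : d ∣ n := Nat.gcd_dvd_right j n
  have hdlt : d < n := by
    rcases (Nat.le_of_dvd hnpos hdn).lt_or_eq with h | h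
    · exact h
    · exact absurd (h ▸ Nat.gcd_dvd_left j n) hj
  have hmem : d ∈ n.properDivisors := Nat.mem_properDivisors.2 ⟨hdn, hdlt⟩
  have hsep : (X ^ n - 1 : Λ[X]).Separable := by
    have := separable_X_pow_sub_C_unit (1 : Λˣ) hn
    simpa using this
  have hcop : IsCoprime (X ^ d - 1 : Λ[X]) (cyclotomic n Λ) :=
    (hsep.of_dvd (X_pow_sub_one_mul_cyclotomic_dvd_X_pow_sub_one_of_dvd Λ hmem)).isCoprime
  obtain ⟨a, b, hab⟩ := hcop
  have h2 := congrArg (aeval t) hab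
  rw [map_add, map_mul, map_mul, ht, mul_zero, add_zero, map_one] at h2
  have h3 : IsUnit (t ^ d - 1) := by
    refine IsUnit.of_mul_eq_one (aeval t a) ?_
    rw [mul_comm]
    simpa using h2
  -- `t^j - 1 ∣ t^d - 1`
  have h4 : t ^ j - 1 ∣ t ^ d - 1 := by
    rw [← Ideal.mem_span_singleton, ← Ideal.Quotient.eq_zero_iff_mem, map_sub, map_pow, map_one,
      sub_eq_zero]
    rw [hd, pow_gcd_eq_one]
    constructor
    · rw [← map_pow, ← sub_eq_zero, ← map_one (Ideal.Quotient.mk _), ← map_sub,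
        Ideal.Quotient.eq_zero_iff_mem]
      exact Ideal.mem_span_singleton_self _
    · rw [← map_pow, htn, map_one]
  exact isUnit_of_dvd_unit h4 h3


theorem exists_nat_generator (C : Type*) [AddCommGroup C] [Finite C] [IsAddCyclic C] :
    ∃ g : C, AddSubgroup.zmultiples g = ⊤ ∧ ∀ c : C, ∃ j : ℕ, j • g = c := by
  obtain ⟨g, hg⟩ := IsAddCyclic.exists_zsmul_surjective (G := C)
  refine ⟨g, (AddSubgroup.eq_top_iff' _).2 fun x => AddSubgroup.mem_zmultiples_iff.2 (hg x), ?_⟩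
  intro c
  obtain ⟨z, hz⟩ := hg c
  have hn : (Nat.card C : ℤ) ≠ 0 := by exact_mod_cast Nat.card_pos.ne'
  refine ⟨(z % (Nat.card C : ℤ)).toNat, ?_⟩
  rw [← natCast_zsmul, Int.toNat_of_nonneg (Int.emod_nonneg _ hn), mod_natCard_zsmul]
  exact hz

theorem isUnit_mk_single_sub_one (Λ : Type*) [CommRing Λ] (C : Type*) [AddCommGroup C] [Finite C]
    [IsAddCyclic C] (hn : IsUnit ((Nat.card C : ℕ) : Λ)) (c : C) (hc : c ≠ 0) :
    IsUnit (Ideal.Quotient.mk (cycIdeal Λ C) (AddMonoidAlgebra.single c (1 : Λ) - 1)) := by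
  obtain ⟨g, hgtop, hg⟩ := exists_nat_generator C
  obtain ⟨j, hj⟩ := hg c
  have hΦ : aeval (AddMonoidAlgebra.single g (1 : Λ)) (cyclotomic (Nat.card C) Λ) ∈ cycIdeal Λ C :=
    Ideal.subset_span ⟨g, hgtop, rfl⟩
  have ht : aeval (Ideal.Quotient.mk (cycIdeal Λ C) (AddMonoidAlgebra.single g (1 : Λ)))
      (cyclotomic (Nat.card C) Λ) = 0 := by
    have := Polynomial.aeval_algHom_apply (Ideal.Quotient.mkₐ Λ (cycIdeal Λ C))
      (AddMonoidAlgebra.single g (1 : Λ)) (cyclotomic (Nat.card C) Λ)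
    rw [Ideal.Quotient.mkₐ_eq_mk] at this
    rw [this, Ideal.Quotient.eq_zero_iff_mem]
    exact hΦ
  have hndvd : ¬ Nat.card C ∣ j := by
    rintro ⟨q, rfl⟩
    apply hc
    rw [← hj, mul_smul, card_nsmul_eq_zero']
  have := isUnit_pow_sub_one (Λ := Λ) (Nat.card C) Nat.card_pos.ne' hn _ ht j hndvd
  rw [← map_pow, AddMonoidAlgebra.single_pow, one_pow, hj, ← map_one (Ideal.Quotient.mk _),
    ← map_sub] at this
  exact this


theorem quotMap_single (Λ : Type*) [CommRing Λ] (M : Type*) [AddCommGroup M] (B : AddSubgroup M)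
    (b : M) (r : Λ) :
    quotMap Λ M B (AddMonoidAlgebra.single b r) = AddMonoidAlgebra.single (b : M ⧸ B) r := by
  simp [quotMap, AddMonoidAlgebra.mapDomain_single]

theorem quotMap_surjective (Λ : Type*) [CommRing Λ] (M : Type*) [AddCommGroup M]
    (B : AddSubgroup M) : Function.Surjective (quotMap Λ M B) := by
  intro y
  induction y using AddMonoidAlgebra.induction_on with
  | of c =>
    obtain ⟨b, rfl⟩ := QuotientAddGroup.mk_surjective c
    exact ⟨AddMonoidAlgebra.single b 1, quotMap_single Λ M B b 1⟩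
  | add x y hx hy =>
    obtain ⟨x', rfl⟩ := hx
    obtain ⟨y', rfl⟩ := hy
    exact ⟨x' + y', map_add _ _ _⟩
  | smul r x hx =>
    obtain ⟨x', rfl⟩ := hx
    refine ⟨AddMonoidAlgebra.single 0 r * x', ?_⟩
    rw [map_mul, quotMap_single, Algebra.smul_def, AddMonoidAlgebra.coe_algebraMap]
    rfl

theorem cycQuotMap_surjective (Λ : Type*) [CommRing Λ] (M : Type*) [AddCommGroup M]
    (B : AddSubgroup M) : Function.Surjective (cycQuotMap Λ M B) :=
  Ideal.Quotient.mk_surjective.comp (quotMap_surjective Λ M B)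

/-- If `b ∉ B`, some multiple of `[b] - 1` lies in the multiplicative set attached to `B`. -/
theorem exists_mul_mem_locSubmonoid (Λ : Type*) [CommRing Λ] (M : Type*) [AddCommGroup M]
    (B : AddSubgroup M) [B.FiniteIndex] [IsAddCyclic (M ⧸ B)] (hu : IsUnit ((B.index : ℕ) : Λ))
    (b : M) (hb : b ∉ B) :
    ∃ v : AddMonoidAlgebra Λ M,
      v * (AddMonoidAlgebra.single b (1 : Λ) - 1) ∈ locSubmonoid Λ M B := by
  have : Finite (M ⧸ B) := AddSubgroup.finite_quotient_of_finiteIndex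
  have hc : ((b : M) : M ⧸ B) ≠ 0 := by
    rwa [Ne, QuotientAddGroup.eq_zero_iff]
  have hn : IsUnit ((Nat.card (M ⧸ B) : ℕ) : Λ) := by
    rw [← AddSubgroup.index_eq_card]; exact hu
  obtain ⟨w, hw⟩ := (isUnit_mk_single_sub_one Λ (M ⧸ B) hn _ hc).exists_left_inv
  obtain ⟨v, rfl⟩ := cycQuotMap_surjective Λ M B w
  refine ⟨v, ?_⟩
  show cycQuotMap Λ M B _ = 1
  rw [map_mul, ← hw]
  congr 1
  show Ideal.Quotient.mk _ (quotMap Λ M B _) = _
  rw [map_sub, quotMap_single, map_one]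

end Groth.Agent.Helper28.CycUnit
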