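import Mathlib
import Groth.Agent.Lib.Helper28.CycUnit
set_option autoImplicit false
open Polynomial W4c6equivkfinstab

namespace Groth.Agent.Helper28.CycDecomp
open Groth.Agent.Helper28.CycUnit

section G
variable (Λ : Type*) [CommRing Λ] (M : Type*) [AddCommGroup M]

/-- The kernel of `Λ[M] → Λ[M/B]` is generated by the `[b] - 1`, `b ∈ B`. -/
theorem mem_span_of_quotMap_eq_zero (B : AddSubgroup M) (x : AddMonoidAlgebra Λ M)
    (hx : quotMap Λ M B x = 0) :
    x ∈ Ideal.span (Set.range fun b : B => AddMonoidAlgebra.single (b : M) (1 : Λ) - 1) := by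
  classical
  set I := Ideal.span (Set.range fun b : B => AddMonoidAlgebra.single (b : M) (1 : Λ) - 1)
  let σ : M ⧸ B → M := Quotient.out
  have hσ : ∀ m : M, m - σ (m : M ⧸ B) ∈ B := by
    intro m
    have : ((σ (m : M ⧸ B) : M) : M ⧸ B) = (m : M ⧸ B) := Quotient.out_eq _
    rw [← QuotientAddGroup.eq_zero_iff, QuotientAddGroup.mk_sub, this, sub_self]
  have key : ∀ y : AddMonoidAlgebra Λ M,
      y - AddMonoidAlgebra.mapDomain σ (quotMap Λ M B y) ∈ I := by
    intro y
    induction y using AddMonoidAlgebra.induction_linear with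
    | zero => simp [AddMonoidAlgebra.mapDomain_zero]
    | add y z hy hz =>
      rw [map_add, AddMonoidAlgebra.mapDomain_add]
      have : y + z - (AddMonoidAlgebra.mapDomain σ (quotMap Λ M B y) +
          AddMonoidAlgebra.mapDomain σ (quotMap Λ M B z)) =
          (y - AddMonoidAlgebra.mapDomain σ (quotMap Λ M B y)) +
          (z - AddMonoidAlgebra.mapDomain σ (quotMap Λ M B z)) := by ring
      rw [this]
      exact I.add_mem hy hz
    | single m r =>
      rw [quotMap_single, AddMonoidAlgebra.mapDomain_single]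
      have h1 : AddMonoidAlgebra.single m r - AddMonoidAlgebra.single (σ (m : M ⧸ B)) r =
          AddMonoidAlgebra.single (σ (m : M ⧸ B)) r *
            (AddMonoidAlgebra.single (m - σ (m : M ⧸ B)) (1 : Λ) - 1) := by
        rw [mul_sub, mul_one, AddMonoidAlgebra.single_mul_single, mul_one]
        congr 2
        abel
      rw [h1]
      exact I.mul_mem_left _ (Ideal.subset_span ⟨⟨_, hσ m⟩, rfl⟩)
  have := key x
  rwa [hx, AddMonoidAlgebra.mapDomain_zero, sub_zero] at this

end G



section S
variable (Λ : Type*) [CommRing Λ] {C : Type*} [AddCommGroup C] (p : ℕ) [NeZero p]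

/-- `∑_{k : ZMod p} [k.val • v]`. -/
noncomputable def S (v : C) : AddMonoidAlgebra Λ C :=
  ∑ k : ZMod p, AddMonoidAlgebra.single (k.val • v) (1 : Λ)

variable {p}

theorem mod_smul {v : C} (hv : p • v = 0) (m : ℕ) : (m % p) • v = m • v := by
  conv_rhs => rw [← Nat.mod_add_div m p, add_smul, mul_comm, mul_smul, hv, smul_zero, add_zero]

theorem val_add_smul {v : C} (hv : p • v = 0) (k j : ZMod p) :
    (k + j).val • v = k.val • v + j.val • v := by
  rw [ZMod.val_add, mod_smul hv, add_smul]

theorem val_mul_smul {v : C} (hv : p • v = 0) (k j : ZMod p) :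
    (k * j).val • v = k.val • (j.val • v) := by
  rw [ZMod.val_mul, mod_smul hv, mul_smul]

theorem S_mul_single {v : C} (hv : p • v = 0) (j : ZMod p) :
    S Λ p v * AddMonoidAlgebra.single (j.val • v) (1 : Λ) = S Λ p v := by
  unfold S
  rw [Finset.sum_mul]
  simp only [AddMonoidAlgebra.single_mul_single, mul_one, ← val_add_smul hv]
  exact Fintype.sum_equiv (Equiv.addRight j) _ _ (fun k => rfl)

theorem intCast_val_smul {v : C} (hv : p • v = 0) (z : ℤ) :
    ((z : ZMod p).val) • v = z • v := by
  have h1 : (((z : ZMod p).val : ℕ) : ℤ) = z % (p : ℤ) := ZMod.val_intCast z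
  rw [← natCast_zsmul, h1]
  conv_rhs => rw [← Int.emod_add_mul_ediv z p, add_smul, mul_comm, mul_smul, natCast_zsmul, hv, smul_zero, add_zero]

theorem S_mul_sub {v : C} (hv : p • v = 0) (h : C) (hh : h ∈ AddSubgroup.zmultiples v) :
    S Λ p v * (AddMonoidAlgebra.single h (1 : Λ) - 1) = 0 := by
  obtain ⟨z, rfl⟩ := AddSubgroup.mem_zmultiples_iff.1 hh
  rw [mul_sub, mul_one, ← intCast_val_smul hv z, S_mul_single Λ hv, sub_self]

theorem S_mul_eq_zero_of_mem_span {v : C} (hv : p • v = 0) (y : AddMonoidAlgebra Λ C)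
    (hy : y ∈ Ideal.span (Set.range fun h : AddSubgroup.zmultiples v =>
      AddMonoidAlgebra.single (h : C) (1 : Λ) - 1)) :
    S Λ p v * y = 0 := by
  induction hy using Submodule.span_induction with
  | mem x hx =>
    obtain ⟨h, rfl⟩ := hx
    exact S_mul_sub Λ hv h h.2
  | zero => simp
  | add x y _ _ hx hy => rw [mul_add, hx, hy, add_zero]
  | smul a x _ hx => rw [smul_eq_mul, mul_left_comm, hx, mul_zero]

theorem lines_identity [Fact p.Prime] {a b : C} (hb : p • b = 0) :
    ∑ i : ZMod p, S Λ p (a + i.val • b) + S Λ p b =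
      (p : AddMonoidAlgebra Λ C) + S Λ p a * S Λ p b := by
  classical
  have h1 : ∑ i : ZMod p, S Λ p (a + i.val • b) =
      ∑ k : ZMod p, ∑ i : ZMod p,
        AddMonoidAlgebra.single (k.val • a + (k * i).val • b) (1 : Λ) := by
    unfold S
    rw [Finset.sum_comm]
    refine Finset.sum_congr rfl fun k _ => Finset.sum_congr rfl fun i _ => ?_
    rw [smul_add, val_mul_smul hb]
  have h2 : S Λ p a * S Λ p b = ∑ k : ZMod p, ∑ j : ZMod p,
      AddMonoidAlgebra.single (k.val • a + j.val • b) (1 : Λ) := by
    unfold S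
    rw [Finset.sum_mul_sum]
    simp only [AddMonoidAlgebra.single_mul_single, mul_one]
  have h3 : ∀ k : ZMod p, k ≠ 0 →
      ∑ i : ZMod p, AddMonoidAlgebra.single (k.val • a + (k * i).val • b) (1 : Λ) =
      ∑ j : ZMod p, AddMonoidAlgebra.single (k.val • a + j.val • b) (1 : Λ) := by
    intro k hk
    exact Fintype.sum_equiv (Equiv.mulLeft₀ k hk) _ _ (fun i => rfl)
  rw [h1, h2, ← Finset.add_sum_erase _ _ (Finset.mem_univ (0 : ZMod p)),
    ← Finset.add_sum_erase (Finset.univ) (fun k => ∑ j : ZMod p,
      AddMonoidAlgebra.single (k.val • a + j.val • b) (1 : Λ)) (Finset.mem_univ (0 : ZMod p))]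
  have h4 : ∑ i : ZMod p, AddMonoidAlgebra.single ((0 : ZMod p).val • a + ((0 : ZMod p) * i).val • b)
      (1 : Λ) = (p : AddMonoidAlgebra Λ C) := by
    simp only [zero_mul, ZMod.val_zero, zero_smul, add_zero, Finset.sum_const, Finset.card_univ,
      ZMod.card, ← AddMonoidAlgebra.one_def, nsmul_eq_mul, mul_one]
  have h5 : ∑ j : ZMod p, AddMonoidAlgebra.single ((0 : ZMod p).val • a + j.val • b) (1 : Λ) =
      S Λ p b := by
    unfold S
    simp only [ZMod.val_zero, zero_smul, zero_add]
  rw [h4, h5]
  have h6 : ∑ k ∈ Finset.univ.erase (0 : ZMod p), ∑ i : ZMod p,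
      AddMonoidAlgebra.single (k.val • a + (k * i).val • b) (1 : Λ) =
      ∑ k ∈ Finset.univ.erase (0 : ZMod p), ∑ j : ZMod p,
        AddMonoidAlgebra.single (k.val • a + j.val • b) (1 : Λ) :=
    Finset.sum_congr rfl fun k hk => h3 k (Finset.ne_of_mem_erase hk)
  rw [h6]
  ring

end S



theorem int_mod_smul {C : Type*} [AddCommGroup C] {p : ℕ} {v : C} (hv : p • v = 0) (z : ℤ) :
    (z % (p : ℤ)) • v = z • v := by
  conv_rhs => rw [← Int.emod_add_mul_ediv z p, add_smul, mul_comm, mul_smul, natCast_zsmul, hv,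
    smul_zero, add_zero]

/-- A finite abelian group is cyclic or contains two "independent" elements of some prime order. -/
theorem cyclic_or_exists (C : Type*) [AddCommGroup C] [Finite C] :
    IsAddCyclic C ∨ ∃ p : ℕ, p.Prime ∧ ∃ a b : C, p • a = 0 ∧ p • b = 0 ∧ b ≠ 0 ∧
      a ∉ AddSubgroup.zmultiples b := by
  classical
  by_contra hcon
  rw [not_or] at hcon
  obtain ⟨hnc, hno⟩ := hcon
  apply hnc
  have : Fintype C := Fintype.ofFinite C
  have hprime : ∀ p : ℕ, p.Prime → (Finset.univ.filter fun a : C => p • a = 0).card ≤ p := by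
    intro p hp
    by_cases hex : ∃ b : C, p • b = 0 ∧ b ≠ 0
    · obtain ⟨b, hb, hb0⟩ := hex
      have hsub : (Finset.univ.filter fun a : C => p • a = 0) ⊆
          (Finset.range p).image (fun k => k • b) := by
        intro a ha
        rw [Finset.mem_filter] at ha
        have hmem : a ∈ AddSubgroup.zmultiples b := by
          by_contra hna
          exact hno ⟨p, hp, a, b, ha.2, hb, hb0, hna⟩
        obtain ⟨z, rfl⟩ := AddSubgroup.mem_zmultiples_iff.1 hmem
        rw [Finset.mem_image]
        have hp0 : (p : ℤ) ≠ 0 := by exact_mod_cast hp.ne_zero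
        refine ⟨(z % (p : ℤ)).toNat, ?_, ?_⟩
        · rw [Finset.mem_range]
          have h1 := Int.emod_lt_of_pos z (by exact_mod_cast hp.pos : (0 : ℤ) < p)
          have h2 := Int.emod_nonneg z hp0
          omega
        · show (z % (p : ℤ)).toNat • b = z • b
          rw [← natCast_zsmul, Int.toNat_of_nonneg (Int.emod_nonneg z hp0), int_mod_smul hb]
      calc _ ≤ ((Finset.range p).image (fun k => k • b)).card := Finset.card_le_card hsub
        _ ≤ (Finset.range p).card := Finset.card_image_le
        _ = p := Finset.card_range p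
    · have hsub : (Finset.univ.filter fun a : C => p • a = 0) ⊆ {0} := by
        intro a ha
        rw [Finset.mem_filter] at ha
        rw [Finset.mem_singleton]
        by_contra ha0
        exact hex ⟨a, ha.2, ha0⟩
      calc _ ≤ ({0} : Finset C).card := Finset.card_le_card hsub
        _ = 1 := Finset.card_singleton 0
        _ ≤ p := hp.pos
  apply isAddCyclic_of_card_nsmul_eq_zero_le
  intro n
  induction n using Nat.strong_induction_on with
  | _ n ih =>
    intro hn
    rcases Nat.lt_or_ge n 2 with h2 | h2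
    · have hn1 : n = 1 := by omega
      subst hn1
      have hsub : (Finset.univ.filter fun a : C => 1 • a = 0) ⊆ {0} := by
        intro a ha
        rw [Finset.mem_filter, one_smul] at ha
        rw [Finset.mem_singleton]; exact ha.2
      calc _ ≤ ({0} : Finset C).card := Finset.card_le_card hsub
        _ = 1 := Finset.card_singleton 0
    · have hp : n.minFac.Prime := Nat.minFac_prime (by omega)
      set p := n.minFac with hpdef
      obtain ⟨m, hm⟩ : p ∣ n := Nat.minFac_dvd n
      have hmpos : 0 < m := by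
        rcases Nat.eq_zero_or_pos m with h | h
        · subst h; omega
        · exact h
      have hmlt : m < n := by
        rw [hm]
        calc m = 1 * m := (one_mul m).symm
          _ < p * m := Nat.mul_lt_mul_of_pos_right hp.one_lt hmpos
      have ihm := ih m hmlt hmpos
      by_contra hlt
      rw [not_le] at hlt
      have hmaps : ∀ a ∈ (Finset.univ.filter fun a : C => n • a = 0),
          p • a ∈ (Finset.univ.filter fun a : C => m • a = 0) := by
        intro a ha
        rw [Finset.mem_filter] at ha ⊢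
        refine ⟨Finset.mem_univ _, ?_⟩
        rw [← mul_smul, mul_comm, ← hm]; exact ha.2
      have hcard : (Finset.univ.filter fun a : C => m • a = 0).card * p <
          (Finset.univ.filter fun a : C => n • a = 0).card := by
        calc _ ≤ m * p := Nat.mul_le_mul_right p ihm
          _ = n := by rw [hm, mul_comm]
          _ < _ := hlt
      obtain ⟨y, _, hy⟩ := Finset.exists_lt_card_fiber_of_mul_lt_card_of_maps_to hmaps hcard
      have hne : ((Finset.univ.filter fun a : C => n • a = 0).filter fun x => p • x = y).Nonempty := by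
        rw [← Finset.card_pos]; omega
      obtain ⟨a₀, ha₀⟩ := hne
      rw [Finset.mem_filter] at ha₀
      have hle : ((Finset.univ.filter fun a : C => n • a = 0).filter fun x => p • x = y).card ≤
          (Finset.univ.filter fun a : C => p • a = 0).card := by
        apply Finset.card_le_card_of_injOn (fun x => x - a₀)
        · intro x hx
          rw [Finset.mem_coe, Finset.mem_filter] at hx
          rw [Finset.mem_coe, Finset.mem_filter]
          refine ⟨Finset.mem_univ _, ?_⟩
          rw [smul_sub, hx.2, ha₀.2, sub_self]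
        · intro x _ x' _ hxx
          exact sub_left_injective hxx
      have := hprime p hp
      omega



theorem X_pow_sub_one_dvd_cyclotomic_mul_prod (R : Type*) [CommRing R] {n : ℕ} (hn : 0 < n) :
    (X ^ n - 1 : R[X]) ∣
      cyclotomic n R * ∏ p ∈ n.primeFactors, (X ^ (n / p) - 1 : R[X]) := by
  classical
  have h1 : (X ^ n - 1 : R[X]) = cyclotomic n R * ∏ d ∈ n.properDivisors, cyclotomic d R := by
    rw [← prod_cyclotomic_eq_X_pow_sub_one hn R, ← Nat.cons_self_properDivisors hn.ne',
      Finset.prod_cons]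
  rw [h1]
  apply mul_dvd_mul_left
  -- the map `d ↦ minFac (n / d)`
  have hmaps : ∀ d ∈ n.properDivisors, (n / d).minFac ∈ n.primeFactors := by
    intro d hd
    rw [Nat.mem_properDivisors] at hd
    obtain ⟨⟨q, hq⟩, hdlt⟩ := hd
    have hdpos : 0 < d := Nat.pos_of_ne_zero (by rintro rfl; simp at hq; omega)
    have hq1 : n / d = q := by rw [hq]; exact Nat.mul_div_cancel_left q hdpos
    have hq2 : q ≠ 1 := by rintro rfl; omega
    rw [hq1, Nat.mem_primeFactors]
    exact ⟨Nat.minFac_prime hq2, (Nat.minFac_dvd q).trans ⟨d, by rw [hq, mul_comm]⟩, hn.ne'⟩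
  rw [← Finset.prod_fiberwise_of_maps_to hmaps]
  apply Finset.prod_dvd_prod_of_dvd
  intro p hp
  rw [Nat.mem_primeFactors] at hp
  have hnp : 0 < n / p := Nat.div_pos (Nat.le_of_dvd hn hp.2.1) hp.1.pos
  rw [← prod_cyclotomic_eq_X_pow_sub_one hnp R]
  apply Finset.prod_dvd_prod_of_subset
  intro d hd
  rw [Finset.mem_filter, Nat.mem_properDivisors] at hd
  obtain ⟨⟨⟨q, hq⟩, hdlt⟩, hpd⟩ := hd
  have hdpos : 0 < d := Nat.pos_of_ne_zero (by rintro rfl; simp at hq; omega)
  have hq1 : n / d = q := by rw [hq]; exact Nat.mul_div_cancel_left q hdpos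
  rw [hq1] at hpd
  rw [Nat.mem_divisors]
  refine ⟨?_, hnp.ne'⟩
  obtain ⟨r, hr⟩ : p ∣ q := hpd ▸ Nat.minFac_dvd q
  refine ⟨r, ?_⟩
  rw [hq, hr, ← mul_assoc, mul_comm d p, mul_assoc, Nat.mul_div_cancel_left _ hp.1.pos]


end Groth.Agent.Helper28.CycDecomp
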