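import Mathlib
import Groth.Agent.Lib.Helper28.CycDecomp
set_option autoImplicit false
open Polynomial W4c6equivkfinstab

namespace Groth.Agent.Helper28.CycDecomp
open Groth.Agent.Helper28.CycUnit

theorem exists_nat_smul_of_zmultiples_eq_top {C : Type*} [AddCommGroup C] [Finite C] {g : C}
    (hg : AddSubgroup.zmultiples g = ⊤) (c : C) : ∃ j : ℕ, j • g = c := by
  have hc : c ∈ AddSubgroup.zmultiples g := hg ▸ AddSubgroup.mem_top c
  obtain ⟨z, hz⟩ := AddSubgroup.mem_zmultiples_iff.1 hc
  have hn : (Nat.card C : ℤ) ≠ 0 := by exact_mod_cast Nat.card_pos.ne'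
  refine ⟨(z % (Nat.card C : ℤ)).toNat, ?_⟩
  rw [← natCast_zsmul, Int.toNat_of_nonneg (Int.emod_nonneg _ hn), mod_natCard_zsmul]
  exact hz

theorem cyclic_case (Λ : Type*) [CommRing Λ] (C : Type*) [AddCommGroup C] [Finite C]
    [IsAddCyclic C] (hn : IsUnit ((Nat.card C : ℕ) : Λ)) (y : AddMonoidAlgebra Λ C)
    (hy : y ∈ cycIdeal Λ C)
    (hS : ∀ (p : ℕ) [NeZero p] (v : C), p.Prime → p • v = 0 → v ≠ 0 → S Λ p v * y = 0) :
    y = 0 := by
  classical
  obtain ⟨g, hgtop, hg⟩ := exists_nat_generator C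
  set n := Nat.card C with hndef
  have hnpos : 0 < n := Nat.card_pos
  have hng : ∀ c : C, n • c = 0 := fun c => card_nsmul_eq_zero'
  have hord : addOrderOf g = n :=
    addOrderOf_eq_card_of_forall_mem_zmultiples (fun x => hgtop ▸ AddSubgroup.mem_top x)
  -- the elements `e q`
  let cst : ℕ → AddMonoidAlgebra Λ C := fun q => algebraMap Λ _ (Ring.inverse (q : Λ))
  let f : ℕ → AddMonoidAlgebra Λ C := fun q =>
    if hq : q = 0 then 1 else
      haveI : NeZero q := ⟨hq⟩
      1 - cst q * S Λ q ((n / q) • g)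
  have hqunit : ∀ q ∈ n.primeFactors, IsUnit (q : Λ) := by
    intro q hq
    rw [Nat.mem_primeFactors] at hq
    obtain ⟨r, hr⟩ := hq.2.1
    rw [hr, Nat.cast_mul] at hn
    exact isUnit_of_mul_isUnit_left hn
  have hcst : ∀ q ∈ n.primeFactors, cst q * (q : AddMonoidAlgebra Λ C) = 1 := by
    intro q hq
    have : (q : AddMonoidAlgebra Λ C) = algebraMap Λ _ (q : Λ) := (map_natCast _ q).symm
    rw [this, ← map_mul, Ring.inverse_mul_cancel _ (hqunit q hq), map_one]
  -- Claim A
  have hA : ∀ q ∈ n.primeFactors, f q * y = y := by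
    intro q hq
    have hq' := Nat.mem_primeFactors.1 hq
    have hq0 : q ≠ 0 := hq'.1.ne_zero
    simp only [f, dif_neg hq0]
    have : NeZero q := ⟨hq0⟩
    have hv0 : q • ((n / q) • g) = 0 := by
      rw [← mul_smul, Nat.mul_div_cancel' hq'.2.1]; exact hng g
    have hvne : (n / q) • g ≠ 0 := by
      intro h0
      have h1 := (addOrderOf_dvd_iff_nsmul_eq_zero).2 h0
      rw [hord] at h1
      have h2 : n / q < n := Nat.div_lt_self hnpos hq'.1.one_lt
      have h3 : 0 < n / q := Nat.div_pos (Nat.le_of_dvd hnpos hq'.2.1) hq'.1.pos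
      exact absurd (Nat.le_of_dvd h3 h1) (not_le.2 h2)
    rw [sub_mul, one_mul, mul_assoc, hS q _ hq'.1 hv0 hvne, mul_zero, sub_zero]
  have hA' : (∏ q ∈ n.primeFactors, f q) * y = y := by
    have : ∀ s : Finset ℕ, s ⊆ n.primeFactors → (∏ q ∈ s, f q) * y = y := by
      intro s
      induction s using Finset.induction_on with
      | empty => intro _; simp
      | insert a s ha ih =>
        intro hs
        rw [Finset.prod_insert ha, mul_assoc, ih (fun x hx => hs (Finset.mem_insert_of_mem hx)),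
          hA a (hs (Finset.mem_insert_self a s))]
    exact this _ (Finset.Subset.refl _)
  -- Claim B
  have hB : ∀ g' : C, AddSubgroup.zmultiples g' = ⊤ → ∀ q ∈ n.primeFactors,
      (AddMonoidAlgebra.single g' (1 : Λ) ^ (n / q) - 1) ∣ f q := by
    intro g' hg' q hq
    have hq' := Nat.mem_primeFactors.1 hq
    have hq0 : q ≠ 0 := hq'.1.ne_zero
    simp only [f, dif_neg hq0]
    have : NeZero q := ⟨hq0⟩
    obtain ⟨j, hj⟩ := exists_nat_smul_of_zmultiples_eq_top hg' g
    have h1 : (1 : AddMonoidAlgebra Λ C) - cst q * S Λ q ((n / q) • g) =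
        cst q * ∑ k : ZMod q, (1 - AddMonoidAlgebra.single (k.val • ((n / q) • g)) (1 : Λ)) := by
      rw [Finset.sum_sub_distrib, Finset.sum_const, Finset.card_univ, ZMod.card, nsmul_eq_mul,
        mul_one, mul_sub, hcst q hq]
      rfl
    rw [h1]
    apply Dvd.dvd.mul_left
    apply Finset.dvd_sum
    intro k _
    have h2 : AddMonoidAlgebra.single (k.val • ((n / q) • g)) (1 : Λ) =
        (AddMonoidAlgebra.single g' (1 : Λ) ^ (n / q)) ^ (k.val * j) := by
      rw [← pow_mul, AddMonoidAlgebra.single_pow, one_pow, ← hj]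
      congr 1
      rw [← mul_smul, ← mul_smul]
      congr 1
      ring
    rw [h2, ← neg_sub, neg_dvd]
    exact one_sub_dvd_one_sub_pow _ _
  -- Claim C
  have hC : ∀ g' : C, AddSubgroup.zmultiples g' = ⊤ →
      (∏ q ∈ n.primeFactors, f q) *
        aeval (AddMonoidAlgebra.single g' (1 : Λ)) (cyclotomic n Λ) = 0 := by
    intro g' hg'
    set t := AddMonoidAlgebra.single g' (1 : Λ) with ht
    have htn : t ^ n - 1 = 0 := by
      rw [ht, AddMonoidAlgebra.single_pow, one_pow, hng g', AddMonoidAlgebra.one_def, sub_self]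
    have h1 := map_dvd (aeval t) (X_pow_sub_one_dvd_cyclotomic_mul_prod Λ hnpos)
    simp only [map_sub, map_pow, aeval_X, map_one, map_mul, map_prod] at h1
    rw [htn, zero_dvd_iff] at h1
    have h2 : (aeval t (cyclotomic n Λ)) * ∏ q ∈ n.primeFactors, (t ^ (n / q) - 1) ∣
        (∏ q ∈ n.primeFactors, f q) * aeval t (cyclotomic n Λ) := by
      rw [mul_comm]
      exact mul_dvd_mul_right (Finset.prod_dvd_prod_of_dvd _ _ (fun q hq => hB g' hg' q hq)) _
    rw [h1, zero_dvd_iff] at h2
    exact h2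
  -- Claim D
  have hD : ∀ z ∈ cycIdeal Λ C, (∏ q ∈ n.primeFactors, f q) * z = 0 := by
    intro z hz
    unfold cycIdeal at hz
    induction hz using Submodule.span_induction with
    | mem x hx =>
      obtain ⟨g', hg', rfl⟩ := hx
      exact hC g' hg'
    | zero => simp
    | add x y _ _ hx hy => rw [mul_add, hx, hy, add_zero]
    | smul a x _ hx => rw [smul_eq_mul, mul_left_comm, hx, mul_zero]
  rw [← hA', hD y hy]


section Main
variable (Λ : Type*) [CommRing Λ] (M : Type*) [AddCommGroup M]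

theorem step1 (B₀ : AddSubgroup M) (v : M ⧸ B₀) (p : ℕ) [NeZero p] (hv : p • v = 0)
    (x : AddMonoidAlgebra Λ M)
    (hx : quotMap Λ M ((AddSubgroup.zmultiples v).comap (QuotientAddGroup.mk' B₀)) x = 0) :
    S Λ p v * quotMap Λ M B₀ x = 0 := by
  have h1 := mem_span_of_quotMap_eq_zero Λ M _ x hx
  have h2 := Ideal.mem_map_of_mem (quotMap Λ M B₀) h1
  rw [Ideal.map_span] at h2
  apply S_mul_eq_zero_of_mem_span Λ hv
  refine Ideal.span_mono ?_ h2
  rintro _ ⟨_, ⟨⟨b, hb⟩, rfl⟩, rfl⟩
  refine ⟨⟨(b : M ⧸ B₀), hb⟩, ?_⟩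
  show _ = quotMap Λ M B₀ _
  rw [map_sub, quotMap_single, map_one]

theorem quotMap_eq_zero_aux : ∀ (N : ℕ) (B₀ : AddSubgroup M) [B₀.FiniteIndex], B₀.index = N →
    IsUnit ((B₀.index : ℕ) : Λ) → ∀ x : AddMonoidAlgebra Λ M,
    (∀ B : AddSubgroup M, B₀ ≤ B → IsAddCyclic (M ⧸ B) → cycQuotMap Λ M B x = 0) →
    quotMap Λ M B₀ x = 0 := by
  intro N
  induction N using Nat.strong_induction_on with
  | _ N ih =>
    intro B₀ _ hN hu x hx
    have hfin : Finite (M ⧸ B₀) := AddSubgroup.finite_quotient_of_finiteIndex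
    have hcard : Nat.card (M ⧸ B₀) = B₀.index := (AddSubgroup.index_eq_card B₀).symm
    have key : ∀ (p : ℕ) [NeZero p] (v : M ⧸ B₀), p.Prime → p • v = 0 → v ≠ 0 →
        S Λ p v * quotMap Λ M B₀ x = 0 := by
      intro p _ v _ hv hv0
      apply step1 Λ M B₀ v p hv
      set B₁ := (AddSubgroup.zmultiples v).comap (QuotientAddGroup.mk' B₀) with hB₁
      have hle : B₀ ≤ B₁ := by
        have := AddMonoidHom.ker_le_comap (QuotientAddGroup.mk' B₀) (AddSubgroup.zmultiples v)
        rwa [QuotientAddGroup.ker_mk'] at this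
      have hfi : B₁.FiniteIndex := AddSubgroup.finiteIndex_of_le hle
      have hidx : B₁.index = (AddSubgroup.zmultiples v).index :=
        AddSubgroup.index_comap_of_surjective _ (QuotientAddGroup.mk'_surjective B₀)
      have hlt : B₁.index < N := by
        rw [hidx, ← hN, ← hcard, ← AddSubgroup.index_mul_card (AddSubgroup.zmultiples v)]
        have h1 : 1 < Nat.card (AddSubgroup.zmultiples v) := by
          rw [Nat.card_zmultiples]
          have h0 : addOrderOf v ≠ 0 := (addOrderOf_pos v).ne'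
          have h1 : addOrderOf v ≠ 1 := by
            rw [Ne, AddMonoid.addOrderOf_eq_one_iff]; exact hv0
          omega
        have h2 : 0 < (AddSubgroup.zmultiples v).index := by
          have : (AddSubgroup.zmultiples v).FiniteIndex := inferInstance
          exact Nat.pos_of_ne_zero AddSubgroup.FiniteIndex.index_ne_zero
        calc (AddSubgroup.zmultiples v).index = (AddSubgroup.zmultiples v).index * 1 := (mul_one _).symm
          _ < _ := Nat.mul_lt_mul_of_pos_left h1 h2
      have hu₁ : IsUnit ((B₁.index : ℕ) : Λ) := by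
        obtain ⟨r, hr⟩ := AddSubgroup.index_dvd_of_le hle
        rw [hr, Nat.cast_mul] at hu
        exact isUnit_of_mul_isUnit_left hu
      exact ih B₁.index hlt B₁ rfl hu₁ x (fun B hB hc => hx B (hle.trans hB) hc)
    have hn : IsUnit ((Nat.card (M ⧸ B₀) : ℕ) : Λ) := by rw [hcard]; exact hu
    rcases cyclic_or_exists (M ⧸ B₀) with hcyc | ⟨p, hp, a, b, ha, hb, hb0, hab⟩
    · have hy : quotMap Λ M B₀ x ∈ cycIdeal Λ (M ⧸ B₀) := by
        have := hx B₀ le_rfl hcyc
        rwa [cycQuotMap, RingHom.comp_apply, Ideal.Quotient.eq_zero_iff_mem] at this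
      exact cyclic_case Λ (M ⧸ B₀) hn _ hy key
    · have : Fact p.Prime := ⟨hp⟩
      have hid := lines_identity Λ (a := a) hb
      have hpu : IsUnit ((p : ℕ) : AddMonoidAlgebra Λ (M ⧸ B₀)) := by
        have h1 : p ∣ Nat.card (M ⧸ B₀) := by
          rw [← addOrderOf_eq_prime hb hb0]; exact addOrderOf_dvd_natCard b
        obtain ⟨r, hr⟩ := h1
        rw [hr, Nat.cast_mul] at hn
        have h2 : IsUnit ((p : ℕ) : Λ) := isUnit_of_mul_isUnit_left hn
        have h3 := h2.map (algebraMap Λ (AddMonoidAlgebra Λ (M ⧸ B₀)))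
        rwa [map_natCast] at h3
      have h0 : ((p : ℕ) : AddMonoidAlgebra Λ (M ⧸ B₀)) * quotMap Λ M B₀ x = 0 := by
        have h4 := congrArg (· * quotMap Λ M B₀ x) hid
        simp only [add_mul, Finset.sum_mul] at h4
        rw [key p b hp hb hb0, mul_assoc, key p b hp hb hb0, mul_zero, add_zero, add_zero,
          Finset.sum_eq_zero] at h4
        · exact h4.symm
        · intro i _
          apply key p _ hp
          · rw [smul_add, ha, smul_comm, hb, smul_zero, add_zero]
          · intro h5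
            apply hab
            rw [eq_neg_of_add_eq_zero_left h5]
            exact (AddSubgroup.zmultiples b).neg_mem
              ((AddSubgroup.zmultiples b).nsmul_mem (AddSubgroup.mem_zmultiples b) _)
      exact (hpu.mul_right_eq_zero).1 h0

theorem quotMap_eq_zero (B₀ : AddSubgroup M) [B₀.FiniteIndex]
    (hu : IsUnit ((B₀.index : ℕ) : Λ)) (x : AddMonoidAlgebra Λ M)
    (hx : ∀ B : AddSubgroup M, B₀ ≤ B → IsAddCyclic (M ⧸ B) → cycQuotMap Λ M B x = 0) :
    quotMap Λ M B₀ x = 0 :=
  quotMap_eq_zero_aux Λ M _ B₀ rfl hu x hx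

end Main

end Groth.Agent.Helper28.CycDecomp
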