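import Mathlib
import Groth.Agent.Lib.Helper28.CycDecomp2
set_option autoImplicit false
open Polynomial W4c6equivkfinstab

namespace Groth.Agent.Helper28.CycDecomp
open Groth.Agent.Helper28.CycUnit

section CRT
variable (Λ : Type*) [CommRing Λ] (M : Type*) [AddCommGroup M]

theorem cycQuotMap_single_sub_one_eq_zero (B : AddSubgroup M) (b : M) (hb : b ∈ B) :
    cycQuotMap Λ M B (AddMonoidAlgebra.single b (1 : Λ) - 1) = 0 := by
  show Ideal.Quotient.mk _ (quotMap Λ M B _) = 0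
  rw [map_sub, quotMap_single, map_one, (QuotientAddGroup.eq_zero_iff b).2 hb,
    AddMonoidAlgebra.one_def, sub_self, map_zero]

theorem isCoprime_ker_aux (B B' : AddSubgroup M) [B'.FiniteIndex] [IsAddCyclic (M ⧸ B')]
    (hu' : IsUnit ((B'.index : ℕ) : Λ)) (hle : ¬ B ≤ B') :
    IsCoprime (RingHom.ker (cycQuotMap Λ M B)) (RingHom.ker (cycQuotMap Λ M B')) := by
  obtain ⟨b, hb0, hb⟩ := SetLike.not_le_iff_exists.1 hle
  obtain ⟨v, hv⟩ := exists_mul_mem_locSubmonoid Λ M B' hu' b hb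
  have hv1 : cycQuotMap Λ M B' (v * (AddMonoidAlgebra.single b (1 : Λ) - 1)) = 1 := hv
  rw [Ideal.isCoprime_iff_exists]
  refine ⟨v * (AddMonoidAlgebra.single b (1 : Λ) - 1), ?_,
    1 - v * (AddMonoidAlgebra.single b (1 : Λ) - 1), ?_, by ring⟩
  · rw [RingHom.mem_ker, map_mul, cycQuotMap_single_sub_one_eq_zero Λ M B b hb0, mul_zero]
  · rw [RingHom.mem_ker, map_sub, map_one, hv1, sub_self]

theorem isCoprime_ker (B B' : AddSubgroup M) [B.FiniteIndex] [B'.FiniteIndex]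
    [IsAddCyclic (M ⧸ B)] [IsAddCyclic (M ⧸ B')]
    (hu : IsUnit ((B.index : ℕ) : Λ)) (hu' : IsUnit ((B'.index : ℕ) : Λ)) (hne : B ≠ B') :
    IsCoprime (RingHom.ker (cycQuotMap Λ M B)) (RingHom.ker (cycQuotMap Λ M B')) := by
  by_cases hle : B ≤ B'
  · have hle' : ¬ B' ≤ B := fun h => hne (le_antisymm hle h)
    exact (isCoprime_ker_aux Λ M B' B hu hle').symm
  · exact isCoprime_ker_aux Λ M B B' hu' hle

theorem quotMap_eq_zero_of_le {B₀ B : AddSubgroup M} (hle : B₀ ≤ B) (x : AddMonoidAlgebra Λ M)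
    (hx : quotMap Λ M B₀ x = 0) : quotMap Λ M B x = 0 := by
  have h1 := mem_span_of_quotMap_eq_zero Λ M B₀ x hx
  have h2 : Ideal.span (Set.range fun b : B₀ => AddMonoidAlgebra.single (b : M) (1 : Λ) - 1) ≤
      RingHom.ker (quotMap Λ M B) := by
    rw [Ideal.span_le]
    rintro _ ⟨b, rfl⟩
    rw [SetLike.mem_coe, RingHom.mem_ker, map_sub, quotMap_single, map_one,
      (QuotientAddGroup.eq_zero_iff (b : M)).2 (hle b.2), AddMonoidAlgebra.one_def, sub_self]
  exact h2 h1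

end CRT

end Groth.Agent.Helper28.CycDecomp
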