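import Mathlib

/-!
# The rank two algebra `R ⊕ M` attached to a pairing `M × M → R` on a "rank one" module (algebra)
-/

set_option autoImplicit false
universe u

namespace Groth.Agent.Helper28.DblAlg

/-- a symmetric bilinear pairing on a module satisfying the rank-one identity. -/
structure Pairing (R M : Type*) [CommRing R] [AddCommGroup M] [Module R M] where
  μ : M →ₗ[R] M →ₗ[R] R
  symm : ∀ a b, μ a b = μ b a
  assoc : ∀ a b c, μ a b • c = μ b c • a

/-- the underlying type of the algebra `R ⊕ M`. -/
def DblRing {R M : Type*} [CommRing R] [AddCommGroup M] [Module R M] (_ : Pairing R M) : Type _ :=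
  R × M

namespace DblRing

variable {R M : Type*} [CommRing R] [AddCommGroup M] [Module R M] (P : Pairing R M)

instance : AddCommGroup (DblRing P) := inferInstanceAs (AddCommGroup (R × M))
instance : Mul (DblRing P) := ⟨fun x y => (x.1 * y.1 + P.μ x.2 y.2, x.1 • y.2 + y.1 • x.2)⟩
instance : One (DblRing P) := ⟨((1 : R), (0 : M))⟩

variable {P}

@[ext] lemma ext {x y : DblRing P} (h1 : x.1 = y.1) (h2 : x.2 = y.2) : x = y := Prod.ext h1 h2

@[simp] lemma fst_mul (x y : DblRing P) : (x * y).1 = x.1 * y.1 + P.μ x.2 y.2 := rfl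
@[simp] lemma snd_mul (x y : DblRing P) : (x * y).2 = x.1 • y.2 + y.1 • x.2 := rfl
@[simp] lemma fst_add (x y : DblRing P) : (x + y).1 = x.1 + y.1 := rfl
@[simp] lemma snd_add (x y : DblRing P) : (x + y).2 = x.2 + y.2 := rfl
@[simp] lemma fst_zero : (0 : DblRing P).1 = 0 := rfl
@[simp] lemma snd_zero : (0 : DblRing P).2 = 0 := rfl
@[simp] lemma fst_one : (1 : DblRing P).1 = 1 := rfl
@[simp] lemma snd_one : (1 : DblRing P).2 = 0 := rfl

variable (P)

instance : CommRing (DblRing P) :=
  { (inferInstance : AddCommGroup (DblRing P)) with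
    mul := (· * ·)
    one := 1
    mul_assoc := fun x y z => by
      ext
      · simp only [fst_mul, snd_mul, map_add, map_smul, LinearMap.add_apply, LinearMap.smul_apply,
          smul_eq_mul]
        ring
      · simp only [fst_mul, snd_mul, add_smul, smul_add, smul_smul]
        rw [P.assoc x.2 y.2 z.2]
        module
    one_mul := fun x => by
      ext
      · simp
      · simp
    mul_one := fun x => by
      ext
      · simp
      · simp
    left_distrib := fun x y z => by
      ext
      · simp only [fst_mul, fst_add, snd_add, map_add]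
        ring
      · simp only [snd_mul, fst_add, snd_add, smul_add, add_smul]
        abel
    right_distrib := fun x y z => by
      ext
      · simp only [fst_mul, fst_add, snd_add, map_add, LinearMap.add_apply]
        ring
      · simp only [snd_mul, fst_add, snd_add, smul_add, add_smul]
        abel
    zero_mul := fun x => by
      ext
      · simp
      · simp
    mul_zero := fun x => by
      ext
      · simp
      · simp
    mul_comm := fun x y => by
      ext
      · simp only [fst_mul]
        rw [P.symm x.2 y.2, mul_comm]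
      · simp only [snd_mul]
        abel }

/-- the inclusion of the ring. -/
def inlHom : R →+* DblRing P where
  toFun r := ((r, 0) : R × M)
  map_one' := rfl
  map_mul' a b := by
    ext
    · show a * b = a * b + P.μ 0 0
      simp
    · show (0 : M) = a • (0 : M) + b • (0 : M)
      simp
  map_zero' := rfl
  map_add' a b := by
    ext
    · rfl
    · show (0 : M) = 0 + 0
      simp

/-- the inclusion of the module. -/
def inrHom : M →+ DblRing P where
  toFun l := ((0, l) : R × M)
  map_zero' := rfl
  map_add' a b := by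
    ext
    · show (0 : R) = 0 + 0
      simp
    · rfl

@[simp] lemma inlHom_fst (r : R) : (inlHom P r).1 = r := rfl
@[simp] lemma inlHom_snd (r : R) : (inlHom P r).2 = 0 := rfl
@[simp] lemma inrHom_fst (l : M) : (inrHom P l).1 = 0 := rfl
@[simp] lemma inrHom_snd (l : M) : (inrHom P l).2 = l := rfl

lemma inlHom_mul_inrHom (r : R) (l : M) : inlHom P r * inrHom P l = inrHom P (r • l) := by
  ext
  · simp
  · simp

lemma inrHom_mul_inrHom (l l' : M) : inrHom P l * inrHom P l' = inlHom P (P.μ l l') := by
  ext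
  · simp
  · simp

lemma inlHom_pow_fst (r : R) (n : ℕ) : (inlHom P r ^ n).1 = r ^ n := by
  rw [← map_pow]; rfl

lemma inlHom_pow_snd (r : R) (n : ℕ) : (inlHom P r ^ n).2 = 0 := by
  rw [← map_pow]; rfl

variable {P}
variable {R' M' : Type*} [CommRing R'] [AddCommGroup M'] [Module R' M'] {P' : Pairing R' M'}

/-- functoriality. -/
def map (f : R →+* R') (g : M →+ M') (hg : ∀ r a, g (r • a) = f r • g a)
    (hμ : ∀ a b, P'.μ (g a) (g b) = f (P.μ a b)) : DblRing P →+* DblRing P' where
  toFun x := ((f x.1, g x.2) : R' × M')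
  map_one' := by
    ext
    · exact map_one f
    · exact map_zero g
  map_mul' x y := by
    ext
    · show f (x.1 * y.1 + P.μ x.2 y.2) = f x.1 * f y.1 + P'.μ (g x.2) (g y.2)
      rw [map_add, map_mul, hμ]
    · show g (x.1 • y.2 + y.1 • x.2) = f x.1 • g y.2 + f y.1 • g x.2
      rw [map_add, hg, hg]
  map_zero' := by
    ext
    · exact map_zero f
    · exact map_zero g
  map_add' x y := by
    ext
    · exact map_add f x.1 y.1
    · exact map_add g x.2 y.2

@[simp] lemma map_fst (f : R →+* R') (g : M →+ M') (hg : ∀ r a, g (r • a) = f r • g a)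
    (hμ : ∀ a b, P'.μ (g a) (g b) = f (P.μ a b)) (x : DblRing P) :
    (map f g hg hμ x).1 = f x.1 := rfl

@[simp] lemma map_snd (f : R →+* R') (g : M →+ M') (hg : ∀ r a, g (r • a) = f r • g a)
    (hμ : ∀ a b, P'.μ (g a) (g b) = f (P.μ a b)) (x : DblRing P) :
    (map f g hg hμ x).2 = g x.2 := rfl

lemma isLocalization_map (f : R →+* R') (g : M →+ M') (hg : ∀ r a, g (r • a) = f r • g a)
    (hμ : ∀ a b, P'.μ (g a) (g b) = f (P.μ a b)) (r : R)
    (hunit : IsUnit (f r))
    (hsurjR : ∀ s' : R', ∃ (s : R) (n : ℕ), s' * f r ^ n = f s)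
    (heqR : ∀ s t : R, f s = f t → ∃ n : ℕ, r ^ n * s = r ^ n * t)
    (hsurjM : ∀ l' : M', ∃ (l : M) (n : ℕ), f r ^ n • l' = g l)
    (heqM : ∀ l k : M, g l = g k → ∃ n : ℕ, r ^ n • l = r ^ n • k) :
    letI := (map f g hg hμ).toAlgebra
    IsLocalization.Away (inlHom P r) (DblRing P') := by
  letI := (map f g hg hμ).toAlgebra
  have hmapinl : ∀ n : ℕ, map f g hg hμ (inlHom P r ^ n) = inlHom P' (f r) ^ n := by
    intro n
    rw [map_pow]
    congr 1
    ext
    · rfl
    · exact map_zero g
  refine ⟨?_, ?_, ?_⟩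
  · rintro ⟨_, n, rfl⟩
    show IsUnit (map f g hg hμ (inlHom P r ^ n))
    rw [hmapinl]
    exact (hunit.map (inlHom P')).pow n
  · intro z
    obtain ⟨s, a, hs⟩ := hsurjR z.1
    obtain ⟨l, b, hl⟩ := hsurjM z.2
    refine ⟨(((s * r ^ b, r ^ a • l) : R × M), ⟨inlHom P r ^ (a + b), a + b, rfl⟩), ?_⟩
    show z * map f g hg hμ (inlHom P r ^ (a + b)) = map f g hg hμ ((s * r ^ b, r ^ a • l) : R × M)
    rw [hmapinl]
    ext
    · simp only [fst_mul, inlHom_pow_fst, inlHom_pow_snd, map_zero, add_zero, map_fst]
      show z.1 * f r ^ (a + b) = f (s * r ^ b)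
      rw [pow_add, ← mul_assoc, hs, map_mul, map_pow]
    · simp only [snd_mul, inlHom_pow_fst, inlHom_pow_snd, smul_zero, zero_add, map_snd]
      show f r ^ (a + b) • z.2 = g (r ^ a • l)
      rw [hg, ← hl, smul_smul, map_pow, pow_add]
  · intro x y hxy
    have h1 : f x.1 = f y.1 := congrArg Prod.fst hxy
    have h2 : g x.2 = g y.2 := congrArg Prod.snd hxy
    obtain ⟨a, ha⟩ := heqR _ _ h1
    obtain ⟨b, hb⟩ := heqM _ _ h2
    refine ⟨⟨inlHom P r ^ (a + b), a + b, rfl⟩, ?_⟩
    show inlHom P r ^ (a + b) * x = inlHom P r ^ (a + b) * y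
    ext
    · simp only [fst_mul, inlHom_pow_fst, inlHom_pow_snd, map_zero, LinearMap.zero_apply, add_zero]
      rw [pow_add, mul_comm (r ^ a), mul_assoc, ha, ← mul_assoc]
    · simp only [snd_mul, inlHom_pow_fst, inlHom_pow_snd, smul_zero, add_zero]
      rw [pow_add, mul_smul, hb, ← mul_smul]

end DblRing

end Groth.Agent.Helper28.DblAlg
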