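import Mathlib
import Groth.Agent.Lib.Helper28.TraceSplit

/-!
# Splitting of the trace of a finite locally free algebra of invertible rank, and its kernel
-/

set_option autoImplicit false
universe u
open CategoryTheory CategoryTheory.Limits AlgebraicGeometry Opposite TopologicalSpace
open Module

namespace Groth.Agent.Helper28.TraceSplit

section Geometry2

open Groth.Agent.Helper13.QCoh Groth.Agent.Helper13.FinType Groth.Agent.Helper13.QCohLocal
open Groth.Agent.Helper13.QCohLoc Groth.Agent.Helper13.LocTransfer Groth.Agent.Helper13.LocFree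
open Groth.Agent.Helper13.KerSec

variable {X : Scheme.{u}}

lemma isIso_nsmul_id (d : ℕ) (hd : IsUnit ((d : Γ(X, ⊤)))) :
    IsIso (d • 𝟙 (Coh.structureModule X)) := by
  rw [Scheme.Modules.Hom.isIso_iff_isIso_app]
  intro U
  rw [ConcreteCategory.isIso_iff_bijective]
  have hdU : IsUnit ((d : Γ(X, U))) := by
    have := hd.map (X.presheaf.map (homOfLE (le_top : U ≤ ⊤)).op).hom
    rwa [map_natCast] at this
  obtain ⟨u, hu⟩ := hdU
  have key : ∀ m : Γ(Coh.structureModule X, U),
      (d • 𝟙 (Coh.structureModule X)).app U m = (u : Γ(X, U)) • m := by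
    intro m
    rw [nsmul_app_apply, hu, Nat.cast_smul_eq_nsmul]
    rfl
  constructor
  · intro m m' hmm
    rw [key, key] at hmm
    have := congrArg (fun t => ((u⁻¹ : (Γ(X, U))ˣ) : Γ(X, U)) • t) hmm
    simpa [smul_smul] using this
  · intro m
    refine ⟨((u⁻¹ : (Γ(X, U))ˣ) : Γ(X, U)) • m, ?_⟩
    rw [key, smul_smul, Units.mul_inv, one_smul]

/-- sections of the structure module are functions, linearly. -/
noncomputable def unitLin (V : X.Opens) : Γ(Coh.structureModule X, V) ≃ₗ[Γ(X, V)] Γ(X, V) where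
  toFun t := ofO V t
  invFun c := toO V c
  left_inv _ := rfl
  right_inv _ := rfl
  map_add' _ _ := rfl
  map_smul' _ _ := rfl

/-- the section of the trace. -/
noncomputable def traceSection (A : RelSpec.QCAlg X) (d : ℕ) (hd : IsUnit ((d : Γ(X, ⊤)))) :
    Coh.structureModule X ⟶ A.toModule :=
  haveI := isIso_nsmul_id (X := X) d hd
  inv (d • 𝟙 (Coh.structureModule X)) ≫ FinCov.strMod A

lemma traceSection_comp (A : RelSpec.QCAlg X) (d : ℕ)
    (hA : FlatMod.IsFinLocFreeOfRank d A.toModule)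
    (τ : A.toModule ⟶ Coh.structureModule X) (hτ : FinCov.IsTrace A τ)
    (hd : IsUnit ((d : Γ(X, ⊤)))) : traceSection A d hd ≫ τ = 𝟙 _ := by
  haveI := isIso_nsmul_id (X := X) d hd
  unfold traceSection
  rw [Category.assoc, str_comp_trace A d hA τ hτ, IsIso.inv_hom_id]

theorem isSplitEpi_trace (A : RelSpec.QCAlg X) (d : ℕ)
    (hA : FlatMod.IsFinLocFreeOfRank d A.toModule)
    (τ : A.toModule ⟶ Coh.structureModule X) (hτ : FinCov.IsTrace A τ)
    (hd : IsUnit ((d : Γ(X, ⊤)))) : IsSplitEpi τ :=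
  IsSplitEpi.mk' ⟨traceSection A d hd, traceSection_comp A d hA τ hτ hd⟩

theorem isFinLocFreeOfRank_kernel_trace (A : RelSpec.QCAlg X) (d : ℕ)
    (hA : FlatMod.IsFinLocFreeOfRank d A.toModule)
    (τ : A.toModule ⟶ Coh.structureModule X) (hτ : FinCov.IsTrace A τ)
    (hd : IsUnit ((d : Γ(X, ⊤)))) : FlatMod.IsFinLocFreeOfRank (d - 1) (kernel τ) := by
  haveI hAq : A.toModule.IsQuasicoherent :=
    Groth.Agent.Helper5.FPC.isQuasicoherent_of_isFinLocFree _ (fun x => by
      obtain ⟨U, hx, e⟩ := hA x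
      exact ⟨U, d, hx, e⟩)
  haveI : (Coh.structureModule X).IsQuasicoherent := isQuasicoherent_unit X
  haveI : (kernel τ).IsQuasicoherent := isQuasicoherent_kernel τ
  have hs := traceSection_comp A d hA τ hτ hd
  rw [isFinLocFreeOfRank_iff_of_isQuasicoherent]
  intro x
  obtain ⟨V, ⟨hV, ⟨b⟩⟩, hxV, -⟩ := (Opens.isBasis_iff_nbhd.1 (isBasis_goodOpens A d hA))
    (show x ∈ (⊤ : X.Opens) from trivial)
  let f : Γ(A.toModule, V) →ₗ[Γ(X, V)] Γ(X, V) :=
    (unitLin V).toLinearMap.comp (appLinearMap τ V)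
  let g : Γ(X, V) →ₗ[Γ(X, V)] Γ(A.toModule, V) :=
    (appLinearMap (traceSection A d hd) V).comp (unitLin V).symm.toLinearMap
  have hfg : ∀ r, f (g r) = r := fun r => by
    have := congrArg (fun ψ => ψ.app V (toO V r)) hs
    exact this
  obtain ⟨hfin, hproj, hrank⟩ := ker_props f g hfg b
  let ι : Γ(kernel τ, V) →ₗ[Γ(X, V)] Γ(A.toModule, V) := appLinearMap (kernel.ι τ) V
  have hιinj : Function.Injective ι := (mono_iff_app_injective (kernel.ι τ)).1 inferInstance V
  have hιker : ∀ k, ι k ∈ LinearMap.ker f := fun k => by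
    rw [LinearMap.mem_ker]
    exact kernel_ι_app_comp τ V k
  let ι' : Γ(kernel τ, V) →ₗ[Γ(X, V)] LinearMap.ker f := LinearMap.codRestrict _ ι hιker
  have hbij : Function.Bijective ι' := by
    constructor
    · intro k k' h
      apply hιinj
      exact congrArg Subtype.val h
    · rintro ⟨a, ha⟩
      have ha' : f a = 0 := LinearMap.mem_ker.1 ha
      obtain ⟨k, hk⟩ := exists_kernel_section τ V a ha'
      exact ⟨k, Subtype.ext hk⟩
  let E : Γ(kernel τ, V) ≃ₗ[Γ(X, V)] LinearMap.ker f := LinearEquiv.ofBijective ι' hbij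
  haveI := hfin
  haveI := hproj
  haveI : Module.Finite Γ(X, V) Γ(kernel τ, V) := Module.Finite.equiv E.symm
  haveI : Module.Projective Γ(X, V) Γ(kernel τ, V) := Module.Projective.of_equiv E.symm
  have hr : ∀ p ∈ ({hV.primeIdealOf ⟨x, hxV⟩} : Set (PrimeSpectrum Γ(X, V))),
      rankAtStalk Γ(kernel τ, V) p = d - 1 := by
    intro p _
    rw [congrFun (rankAtStalk_eq_of_equiv E) p]
    exact hrank p
  obtain ⟨t, htP, ⟨bt⟩⟩ := Groth.Agent.Helper28.SemilocalFree.exists_basis_away_of_finite_primes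
    _ (Set.finite_singleton _) (d - 1) hr
  refine ⟨X.basicOpen t, hV.basicOpen t, ?_, ?_⟩
  · exact (mem_basicOpen_iff_notMem_primeIdealOf hV x hxV t).2 (htP _ rfl)
  · letI := modBasicOpen (kernel τ) t
    haveI := isScalarTower_basicOpen (kernel τ) t
    haveI := isLocalizedModule_basicOpen (kernel τ) hV t
    haveI : IsLocalization (Submonoid.powers t) Γ(X, X.basicOpen t) :=
      hV.isLocalization_basicOpen t
    exact nonempty_basis_of_isLocalizedModule (Rₛ := Γ(X, X.basicOpen t))
      (Submonoid.powers t) (resBasicOpen (kernel τ) t) bt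

end Geometry2

end Groth.Agent.Helper28.TraceSplit
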