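import Mathlib
import Groth.Agent.Lib.Helper28.TraceSplit2
import Groth.Agent.Lib.Helper13.TensorMap

/-!
# A finite locally free algebra of rank two with `2` invertible is `O ⊕ ker τ` with product given
by a pairing on `ker τ`
-/

set_option autoImplicit false
universe u
open CategoryTheory CategoryTheory.Limits AlgebraicGeometry Opposite TopologicalSpace
open Module

namespace Groth.Agent.Helper28.TraceSplit

section Algebra2

variable {R B : Type*} [CommRing R] [CommRing B] [Algebra R B]

lemma matrix_sq_of_trace_zero (M : Matrix (Fin 2) (Fin 2) R) (h : M.trace = 0) :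
    M * M = (-(M.det)) • (1 : Matrix (Fin 2) (Fin 2) R) := by
  rw [Matrix.trace_fin_two] at h
  have h11 : M 1 1 = - M 0 0 := by linear_combination h
  ext i j
  fin_cases i <;> fin_cases j <;>
    simp [Matrix.mul_apply, Fin.sum_univ_two, Matrix.det_fin_two, h11] <;> ring

lemma sq_eq_algebraMap_of_trace_zero (b : Basis (Fin 2) R B) (z : B)
    (hz : Algebra.trace R B z = 0) : ∃ c : R, z * z = algebraMap R B c := by
  refine ⟨-(Algebra.leftMulMatrix b z).det, ?_⟩
  apply Algebra.leftMulMatrix_injective b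
  rw [map_mul, AlgHom.commutes,
    matrix_sq_of_trace_zero _ (by rw [← Algebra.trace_eq_matrix_trace b]; exact hz),
    Algebra.algebraMap_eq_smul_one]

lemma mul_eq_algebraMap_of_trace_zero (b : Basis (Fin 2) R B) (h2 : IsUnit (2 : R)) (x y : B)
    (hx : Algebra.trace R B x = 0) (hy : Algebra.trace R B y = 0) :
    ∃ c : R, x * y = algebraMap R B c := by
  obtain ⟨c1, h1⟩ := sq_eq_algebraMap_of_trace_zero b x hx
  obtain ⟨c2, h2'⟩ := sq_eq_algebraMap_of_trace_zero b y hy
  obtain ⟨c3, h3⟩ := sq_eq_algebraMap_of_trace_zero b (x + y) (by rw [map_add, hx, hy, add_zero])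
  obtain ⟨u, hu⟩ := h2
  refine ⟨(↑u⁻¹ : R) * (c3 - c1 - c2), ?_⟩
  have h4 : algebraMap R B (u : R) * (x * y) = algebraMap R B (c3 - c1 - c2) := by
    rw [hu, map_sub, map_sub, ← h1, ← h2', ← h3, map_ofNat]
    ring
  rw [map_mul, ← h4, ← mul_assoc, ← map_mul, Units.inv_mul, map_one, one_mul]

end Algebra2

section Geometry3

open Groth.Agent.Helper13.QCoh Groth.Agent.Helper13.FinType Groth.Agent.Helper13.QCohLocal
open Groth.Agent.Helper13.QCohLoc Groth.Agent.Helper13.LocTransfer Groth.Agent.Helper13.LocFree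
open Groth.Agent.Helper13.KerSec Groth.Agent.Helper13.Tensor

variable {X : Scheme.{u}}

lemma sec_eq_of_isBasis (M : X.Modules) {B : Set X.Opens} (hB : Opens.IsBasis B) {U : X.Opens}
    (a a' : Γ(M, U))
    (h : ∀ V ∈ B, ∀ hVU : V ≤ U,
      M.presheaf.map (homOfLE hVU).op a = M.presheaf.map (homOfLE hVU).op a') : a = a' := by
  apply TopCat.Presheaf.section_ext ⟨M.presheaf, M.isSheaf⟩
  intro x hx
  obtain ⟨V, hVB, hxV, hVU⟩ := Opens.isBasis_iff_nbhd.1 hB hx
  have e1 := TopCat.Presheaf.germ_res_apply M.presheaf (homOfLE hVU) x hxV a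
  have e2 := TopCat.Presheaf.germ_res_apply M.presheaf (homOfLE hVU) x hxV a'
  rw [← e1, ← e2, h V hVB hVU]

lemma app_res {M N : X.Modules} (φ : M ⟶ N) {U V : X.Opens} (i : V ⟶ U) (m : Γ(M, U)) :
    φ.app V (M.presheaf.map i.op m) = N.presheaf.map i.op (φ.app U m) := by
  have := φ.mapPresheaf.naturality i.op
  exact congr($this m)

/-- a section of the module `A`, as an element of the ring of sections. -/
abbrev rS (A : RelSpec.QCAlg X) (U : X.Opens) (x : Γ(A.toModule, U)) : A.presheaf.obj (op U) := x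

/-- an element of the ring of sections, as a section of the module `A`. -/
abbrev mS (A : RelSpec.QCAlg X) (U : X.Opens) (x : A.presheaf.obj (op U)) : Γ(A.toModule, U) := x

/-- the product of two sections of the module `A`. -/
abbrev mulS (A : RelSpec.QCAlg X) (U : X.Opens) (x y : Γ(A.toModule, U)) : Γ(A.toModule, U) :=
  mS A U (rS A U x * rS A U y)

lemma mulS_res (A : RelSpec.QCAlg X) {U V : X.Opens} (i : V ⟶ U) (x y : Γ(A.toModule, U)) :
    A.toModule.presheaf.map i.op (mulS A U x y) =
      mulS A V (A.toModule.presheaf.map i.op x) (A.toModule.presheaf.map i.op y) :=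
  map_mul (A.presheaf.map i.op).hom (rS A U x) (rS A U y)

lemma mulS_eq_str_of_trace_zero (A : RelSpec.QCAlg X) (τ : A.toModule ⟶ Coh.structureModule X)
    (hτ : FinCov.IsTrace A τ) {V : X.Opens} (hV : IsAffineOpen V)
    (b : Basis (Fin 2) Γ(X, V) Γ(A.toModule, V)) (h2V : IsUnit (2 : Γ(X, V)))
    (x y : Γ(A.toModule, V)) (hx : τ.app V x = 0) (hy : τ.app V y = 0) :
    ∃ c : Γ(X, V), mulS A V x y = (FinCov.strMod A).app V (toO V c) := by
  letI : Algebra Γ(X, V) (A.presheaf.obj (op V)) := (A.str.app (op V)).hom.toAlgebra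
  let b' : Basis (Fin 2) Γ(X, V) (A.presheaf.obj (op V)) := b
  have hfree : Module.Free Γ(X, V) (A.presheaf.obj (op V)) := Module.Free.of_basis b'
  have hfin : Module.Finite Γ(X, V) (A.presheaf.obj (op V)) := Module.Finite.of_basis b'
  have hx' : Algebra.trace Γ(X, V) (A.presheaf.obj (op V)) (rS A V x) = 0 := by
    rw [← hτ V hV hfree hfin]
    exact hx
  have hy' : Algebra.trace Γ(X, V) (A.presheaf.obj (op V)) (rS A V y) = 0 := by
    rw [← hτ V hV hfree hfin]
    exact hy
  obtain ⟨c, hc⟩ := mul_eq_algebraMap_of_trace_zero b' h2V _ _ hx' hy'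
  exact ⟨c, hc⟩

/-- the multiplication of `A` as a bilinear map on sections. -/
noncomputable def mulLin (A : RelSpec.QCAlg X) (U : X.Opens) :
    Γ(A.toModule, U) →ₗ[Γ(X, U)] Γ(A.toModule, U) →ₗ[Γ(X, U)] Γ(A.toModule, U) :=
  LinearMap.mk₂ Γ(X, U) (mulS A U)
    (fun x₁ x₂ y => add_mul (rS A U x₁) (rS A U x₂) (rS A U y))
    (fun r x y => mul_assoc ((A.str.app (op U)).hom r) (rS A U x) (rS A U y))
    (fun x y₁ y₂ => mul_add (rS A U x) (rS A U y₁) (rS A U y₂))
    (fun r x y => mul_left_comm (rS A U x) ((A.str.app (op U)).hom r) (rS A U y))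

/-- the inverse of multiplication by `d` on the structure module. -/
noncomputable def invD (d : ℕ) (hd : IsUnit ((d : Γ(X, ⊤)))) :
    Coh.structureModule X ⟶ Coh.structureModule X :=
  haveI := isIso_nsmul_id (X := X) d hd
  inv (d • 𝟙 (Coh.structureModule X))

lemma invD_comp (d : ℕ) (hd : IsUnit ((d : Γ(X, ⊤)))) :
    invD d hd ≫ (d • 𝟙 (Coh.structureModule X)) = 𝟙 _ := by
  haveI := isIso_nsmul_id (X := X) d hd
  unfold invD
  exact IsIso.inv_hom_id _

lemma comp_invD (d : ℕ) (hd : IsUnit ((d : Γ(X, ⊤)))) :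
    (d • 𝟙 (Coh.structureModule X)) ≫ invD d hd = 𝟙 _ := by
  haveI := isIso_nsmul_id (X := X) d hd
  unfold invD
  exact IsIso.hom_inv_id _

section Main

variable (A : RelSpec.QCAlg X) (τ : A.toModule ⟶ Coh.structureModule X) (d : ℕ)
  (hd : IsUnit ((d : Γ(X, ⊤))))

/-- the projection of `A` onto its `O`-component. -/
noncomputable def theta : A.toModule ⟶ A.toModule := τ ≫ invD d hd ≫ FinCov.strMod A

lemma str_tau_invD (hA : FlatMod.IsFinLocFreeOfRank d A.toModule) (hτ : FinCov.IsTrace A τ) :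
    FinCov.strMod A ≫ τ ≫ invD d hd = 𝟙 _ := by
  rw [← Category.assoc, str_comp_trace A d hA τ hτ, comp_invD]

lemma str_theta (hA : FlatMod.IsFinLocFreeOfRank d A.toModule) (hτ : FinCov.IsTrace A τ) :
    FinCov.strMod A ≫ theta A τ d hd = FinCov.strMod A := by
  unfold theta
  rw [← Category.assoc, ← Category.assoc, Category.assoc (FinCov.strMod A),
    str_tau_invD A τ d hd hA hτ, Category.id_comp]

/-- the pairing on the kernel of the trace. -/
noncomputable def pairFamily :
    BilinFamily (kernel τ) (kernel τ) (Coh.structureModule X) where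
  β U := ((mulLin A U).compl₁₂ (appLinearMap (kernel.ι τ) U) (appLinearMap (kernel.ι τ) U)).compr₂
    ((appLinearMap (invD d hd) U).comp (appLinearMap τ U))
  res {U V} i l l' := by
    change (Coh.structureModule X).presheaf.map i.op ((invD d hd).app U (τ.app U
      (mulS A U ((kernel.ι τ).app U l) ((kernel.ι τ).app U l')))) =
      (invD d hd).app V (τ.app V (mulS A V ((kernel.ι τ).app V ((kernel τ).presheaf.map i.op l))
        ((kernel.ι τ).app V ((kernel τ).presheaf.map i.op l'))))
    rw [app_res (kernel.ι τ) i l, app_res (kernel.ι τ) i l', ← mulS_res, app_res τ,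
      app_res (invD d hd)]

lemma pairFamily_β {U : X.Opens} (l l' : Γ(kernel τ, U)) :
    (pairFamily A τ d hd).β U l l' = (invD d hd).app U (τ.app U
      (mulS A U ((kernel.ι τ).app U l) ((kernel.ι τ).app U l'))) := rfl

end Main

section Two

variable (A : RelSpec.QCAlg X) (hA : FlatMod.IsFinLocFreeOfRank 2 A.toModule)
  (τ : A.toModule ⟶ Coh.structureModule X) (hτ : FinCov.IsTrace A τ)
  (h2 : IsUnit (((2 : ℕ) : Γ(X, ⊤))))

include hA hτ in
lemma theta_mulS {U : X.Opens} (l l' : Γ(kernel τ, U)) :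
    (theta A τ 2 h2).app U (mulS A U ((kernel.ι τ).app U l) ((kernel.ι τ).app U l')) =
      mulS A U ((kernel.ι τ).app U l) ((kernel.ι τ).app U l') := by
  apply sec_eq_of_isBasis A.toModule (isBasis_goodOpens A 2 hA)
  rintro V ⟨hV, ⟨b⟩⟩ hVU
  have ex := (app_res (kernel.ι τ) (homOfLE hVU) l).symm
  have ey := (app_res (kernel.ι τ) (homOfLE hVU) l').symm
  have e1 : A.toModule.presheaf.map (homOfLE hVU).op ((theta A τ 2 h2).app U
      (mulS A U ((kernel.ι τ).app U l) ((kernel.ι τ).app U l'))) =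
      (theta A τ 2 h2).app V (mulS A V
        (A.toModule.presheaf.map (homOfLE hVU).op ((kernel.ι τ).app U l))
        (A.toModule.presheaf.map (homOfLE hVU).op ((kernel.ι τ).app U l'))) := by
    rw [← app_res, mulS_res]
  rw [e1, mulS_res, ex, ey]
  have h2V : IsUnit (2 : Γ(X, V)) := by
    have := h2.map (X.presheaf.map (homOfLE (le_top : V ≤ ⊤)).op).hom
    rw [map_natCast] at this
    simpa using this
  obtain ⟨c, hc⟩ := mulS_eq_str_of_trace_zero A τ hτ hV b h2V _ _
    (kernel_ι_app_comp τ V ((kernel τ).presheaf.map (homOfLE hVU).op l))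
    (kernel_ι_app_comp τ V ((kernel τ).presheaf.map (homOfLE hVU).op l'))
  rw [hc]
  exact congrArg (fun ψ => ψ.app V (toO V c)) (str_theta A τ 2 h2 hA hτ)

include hA hτ in
theorem isDblAlg :
    FinCov.IsDblAlg (kernel τ) (pairFamily A τ 2 h2).hom A (kernel.ι τ) := by
  have key : ∀ (U : X.Opens) (s : Γ(X, U)),
      (invD 2 h2).app U (τ.app U ((FinCov.strMod A).app U (toO U s))) = toO U s := fun U s =>
    congrArg (fun ψ => ψ.app U (toO U s)) (str_tau_invD A τ 2 h2 hA hτ)
  have key0 : ∀ (U : X.Opens) (l : Γ(kernel τ, U)),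
      (invD 2 h2).app U (τ.app U ((kernel.ι τ).app U l)) = 0 := fun U l => by
    rw [kernel_ι_app_comp, map_zero]
  refine ⟨fun U => ⟨?_, ?_⟩, fun U l l' => ?_⟩
  · rintro ⟨s, l⟩ ⟨s', l'⟩ h
    have h' : (FinCov.strMod A).app U (toO U s) + (kernel.ι τ).app U l =
        (FinCov.strMod A).app U (toO U s') + (kernel.ι τ).app U l' := h
    have ht := congrArg (fun a => (invD 2 h2).app U (τ.app U a)) h'
    simp only [map_add] at ht
    rw [key, key, key0, key0, add_zero, add_zero] at ht
    have hs : s = s' := ht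
    subst hs
    have hl : (kernel.ι τ).app U l = (kernel.ι τ).app U l' := add_left_cancel h'
    have := (mono_iff_app_injective (kernel.ι τ)).1 inferInstance U hl
    rw [this]
  · intro a
    let s : Γ(X, U) := ofO U ((invD 2 h2).app U (τ.app U (mS A U a)))
    have hker : τ.app U (mS A U a - (FinCov.strMod A).app U (toO U s)) = 0 := by
      rw [map_sub, sub_eq_zero]
      have e1 := congrArg (fun ψ => ψ.app U (toO U s)) (str_comp_trace A 2 hA τ hτ)
      have e2 := congrArg (fun ψ => ψ.app U (τ.app U (mS A U a))) (invD_comp (X := X) 2 h2)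
      exact e2.symm.trans e1.symm
    obtain ⟨k, hk⟩ := exists_kernel_section τ U _ hker
    refine ⟨(s, k), ?_⟩
    change rS A U ((FinCov.strMod A).app U (toO U s)) + rS A U ((kernel.ι τ).app U k) = a
    rw [hk]
    exact add_sub_cancel _ _
  · change rS A U ((kernel.ι τ).app U l) * rS A U ((kernel.ι τ).app U l') =
      (A.str.app (op U)).hom ((pairFamily A τ 2 h2).hom.app U (tmul _ _ l l'))
    rw [BilinFamily.hom_app_tmul, pairFamily_β]
    exact (theta_mulS A hA τ hτ h2 l l').symm

end Two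

end Geometry3

end Groth.Agent.Helper28.TraceSplit
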