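import Mathlib
import Groth.Agent.Lib.Helper28.TraceSplit3
import Groth.Agent.Lib.Helper13.QCohFin
import Groth.Agent.Lib.Helper13.InvQCoh

/-!
# The double algebra `O ⊕ L`: local freeness of rank two and the kernel of its trace
-/

set_option autoImplicit false
universe u
open CategoryTheory CategoryTheory.Limits AlgebraicGeometry Opposite TopologicalSpace
open Module

namespace Groth.Agent.Helper28.TraceSplit

section Algebra4

variable {R B : Type*} [CommRing R] [CommRing B] [Algebra R B]

/-- the map `(s, r) ↦ s + r e`. -/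
noncomputable def dblLin (e : B) : (R × R) →ₗ[R] B :=
  (Algebra.linearMap R B).coprod (LinearMap.toSpanSingleton R B e)

lemma dblLin_apply (e : B) (p : R × R) : dblLin e p = algebraMap R B p.1 + p.2 • e := by
  simp [dblLin]

/-- coordinates with respect to `1, e`. -/
noncomputable def dblEquiv (e : B) (hbij : Function.Bijective (dblLin (R := R) e)) :
    B ≃ₗ[R] (Fin 2 → R) :=
  (LinearEquiv.ofBijective (dblLin e) hbij).symm.trans (LinearEquiv.finTwoArrow R R).symm

lemma dblEquiv_apply_of_eq (e : B) (hbij : Function.Bijective (dblLin (R := R) e)) (x : B)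
    (s r : R) (hx : x = algebraMap R B s + r • e) : dblEquiv e hbij x = ![s, r] := by
  have h1 : (LinearEquiv.ofBijective (dblLin e) hbij).symm x = (s, r) := by
    rw [LinearEquiv.symm_apply_eq, hx]
    exact (dblLin_apply e (s, r)).symm
  unfold dblEquiv
  rw [LinearEquiv.trans_apply, h1]
  rfl

/-- the basis `1, e`. -/
noncomputable def dblBasis (e : B) (hbij : Function.Bijective (dblLin (R := R) e)) :
    Basis (Fin 2) R B := Basis.ofEquivFun (dblEquiv e hbij)

lemma dblBasis_zero (e : B) (hbij : Function.Bijective (dblLin (R := R) e)) :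
    dblBasis e hbij 0 = 1 := by
  unfold dblBasis
  rw [Basis.coe_ofEquivFun, LinearEquiv.symm_apply_eq,
    dblEquiv_apply_of_eq e hbij 1 1 0 (by simp)]
  ext i
  fin_cases i <;> simp

lemma dblBasis_one (e : B) (hbij : Function.Bijective (dblLin (R := R) e)) :
    dblBasis e hbij 1 = e := by
  unfold dblBasis
  rw [Basis.coe_ofEquivFun, LinearEquiv.symm_apply_eq,
    dblEquiv_apply_of_eq e hbij e 0 1 (by simp)]
  ext i
  fin_cases i <;> simp

lemma trace_eq_zero_of_dbl (e : B) (c : R) (he : e * e = algebraMap R B c)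
    (hbij : Function.Bijective (dblLin (R := R) e)) : Algebra.trace R B e = 0 := by
  rw [Algebra.trace_eq_matrix_trace (dblBasis e hbij), Matrix.trace_fin_two,
    Algebra.leftMulMatrix_eq_repr_mul, Algebra.leftMulMatrix_eq_repr_mul,
    dblBasis_zero, dblBasis_one, mul_one, he]
  unfold dblBasis
  rw [Basis.ofEquivFun_repr_apply, Basis.ofEquivFun_repr_apply,
    dblEquiv_apply_of_eq e hbij e 0 1 (by simp),
    dblEquiv_apply_of_eq e hbij (algebraMap R B c) c 0 (by simp)]
  simp

lemma bijective_smul_basis_fin_one {M : Type*} [AddCommGroup M] [Module R M]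
    (b : Basis (Fin 1) R M) : Function.Bijective (fun r : R => r • b 0) := by
  constructor
  · intro r r' hrr
    have := congrArg (fun x => b.repr x 0) hrr
    simpa using this
  · intro x
    refine ⟨b.repr x 0, ?_⟩
    have := b.sum_repr x
    rw [Fin.sum_univ_one] at this
    exact this

end Algebra4

section Geometry4

open Groth.Agent.Helper13.QCoh Groth.Agent.Helper13.FinType Groth.Agent.Helper13.QCohLocal
open Groth.Agent.Helper13.QCohLoc Groth.Agent.Helper13.LocTransfer Groth.Agent.Helper13.LocFree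
open Groth.Agent.Helper13.KerSec Groth.Agent.Helper13.Tensor

variable {X : Scheme.{u}}

lemma isFinLocFreeOfRank_one_of_isInvertible (L : X.Modules) (hL : PicF.IsInvertible L) :
    FlatMod.IsFinLocFreeOfRank 1 L := fun x => by
  obtain ⟨U, hxU, ⟨e⟩⟩ := hL x
  exact ⟨U, hxU, ⟨e ≪≫
    (coproductUniqueIso (fun _ : Fin 1 => Coh.structureModule (U : Scheme.{u}))).symm⟩⟩

/-- the affine opens over which `M` has a basis of `d` elements. -/
def goodOpens' (M : X.Modules) (d : ℕ) : Set X.Opens :=
  {V | IsAffineOpen V ∧ Nonempty (Basis (Fin d) Γ(X, V) Γ(M, V))}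

lemma isBasis_goodOpens' (M : X.Modules) (d : ℕ)
    (hM : FlatMod.IsFinLocFreeOfRank d M) : Opens.IsBasis (goodOpens' M d) := by
  rw [Opens.isBasis_iff_nbhd]
  intro U x hxU
  obtain ⟨W, hxW, ⟨e⟩⟩ := hM x
  obtain ⟨_, ⟨V, hV, rfl⟩, hxV, hVUW⟩ := X.isBasis_affineOpens.exists_subset_of_mem_open
    (show x ∈ ((U ⊓ W : X.Opens) : Set X) from ⟨hxU, hxW⟩) (U ⊓ W).2
  have hVU : V ≤ U := fun y hy => (hVUW hy).1
  have hVW : V ≤ W := fun y hy => (hVUW hy).2
  exact ⟨V, ⟨hV, nonempty_basis_of_restrict_iso M e hVW⟩, hxV, hVU⟩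

lemma total_app {M N : X.Modules} (U : X.Opens) (t : Γ(M ⊞ N, U)) :
    t = (biprod.inl : M ⟶ M ⊞ N).app U ((biprod.fst : M ⊞ N ⟶ M).app U t) +
      (biprod.inr : N ⟶ M ⊞ N).app U ((biprod.snd : M ⊞ N ⟶ N).app U t) := by
  have := congrArg (fun ψ => ψ.app U t) (biprod.total (X := M) (Y := N))
  exact this.symm

section Dbl

variable (L : X.Modules) (m : CohB1.tensorMod L L ⟶ Coh.structureModule X)
  (A : RelSpec.QCAlg X) (j : L ⟶ A.toModule) (h : FinCov.IsDblAlg L m A j)

/-- the comparison map `O ⊕ L ⟶ A`. -/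
noncomputable def dblMap : Coh.structureModule X ⊞ L ⟶ A.toModule :=
  biprod.desc (FinCov.strMod A) j

lemma dblMap_inl_app (U : X.Opens) (s : Γ(Coh.structureModule X, U)) :
    (dblMap L A j).app U ((biprod.inl : Coh.structureModule X ⟶ _ ⊞ L).app U s) =
      (FinCov.strMod A).app U s :=
  congrArg (fun ψ => ψ.app U s) (biprod.inl_desc (FinCov.strMod A) j)

lemma dblMap_inr_app (U : X.Opens) (l : Γ(L, U)) :
    (dblMap L A j).app U ((biprod.inr : L ⟶ Coh.structureModule X ⊞ L).app U l) = j.app U l :=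
  congrArg (fun ψ => ψ.app U l) (biprod.inr_desc (FinCov.strMod A) j)

include h in
lemma isIso_dblMap : IsIso (dblMap L A j) := by
  rw [Scheme.Modules.Hom.isIso_iff_isIso_app]
  intro U
  rw [ConcreteCategory.isIso_iff_bijective]
  obtain ⟨hinj, hsurj⟩ := h.1 U
  have key : ∀ t : Γ(Coh.structureModule X ⊞ L, U), (dblMap L A j).app U t =
      (FinCov.strMod A).app U ((biprod.fst : _ ⊞ L ⟶ Coh.structureModule X).app U t) +
        j.app U ((biprod.snd : Coh.structureModule X ⊞ L ⟶ L).app U t) := by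
    intro t
    conv_lhs => rw [total_app U t]
    rw [map_add, dblMap_inl_app, dblMap_inr_app]
  constructor
  · intro t t' htt
    rw [key, key] at htt
    have hp := @hinj
      (ofO U ((biprod.fst : _ ⊞ L ⟶ Coh.structureModule X).app U t),
        (biprod.snd : Coh.structureModule X ⊞ L ⟶ L).app U t)
      (ofO U ((biprod.fst : _ ⊞ L ⟶ Coh.structureModule X).app U t'),
        (biprod.snd : Coh.structureModule X ⊞ L ⟶ L).app U t') htt
    have h1 : (biprod.fst : _ ⊞ L ⟶ Coh.structureModule X).app U t =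
        (biprod.fst : _ ⊞ L ⟶ Coh.structureModule X).app U t' := congrArg Prod.fst hp
    have h2 : (biprod.snd : Coh.structureModule X ⊞ L ⟶ L).app U t =
        (biprod.snd : Coh.structureModule X ⊞ L ⟶ L).app U t' := congrArg Prod.snd hp
    rw [total_app U t, total_app U t', h1, h2]
  · intro a
    obtain ⟨⟨s, l⟩, hsl⟩ := hsurj a
    refine ⟨(biprod.inl : Coh.structureModule X ⟶ _ ⊞ L).app U (toO U s) +
      (biprod.inr : L ⟶ Coh.structureModule X ⊞ L).app U l, ?_⟩
    rw [map_add, dblMap_inl_app, dblMap_inr_app]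
    exact hsl

include h in
lemma isQuasicoherent_toModule (hL : PicF.IsInvertible L) : A.toModule.IsQuasicoherent := by
  haveI := Groth.Agent.Helper13.Inv.isQuasicoherent_of_isInvertible L hL
  haveI : (Coh.structureModule X).IsQuasicoherent := isQuasicoherent_unit X
  haveI := Groth.Agent.Helper13.QCohFin.isQuasicoherent_biprod (Coh.structureModule X) L
  haveI := isIso_dblMap L m A j h
  exact isQuasicoherent_of_iso (asIso (dblMap L A j))

include h in
lemma bijective_dblLin (V : X.Opens) (bL : Basis (Fin 1) Γ(X, V) Γ(L, V)) :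
    letI : Algebra Γ(X, V) (A.presheaf.obj (op V)) := (A.str.app (op V)).hom.toAlgebra
    Function.Bijective (dblLin (R := Γ(X, V)) (rS A V (j.app V (bL 0)))) := by
  letI : Algebra Γ(X, V) (A.presheaf.obj (op V)) := (A.str.app (op V)).hom.toAlgebra
  have hcomp : (dblLin (R := Γ(X, V)) (rS A V (j.app V (bL 0))) : Γ(X, V) × Γ(X, V) → _) =
      (fun p : Γ(X, V) × L.val.obj (op V) => (A.str.app (op V)).hom p.1 +
        FinCov.toSec A ((j.val.app (op V)).hom p.2)) ∘
        (Prod.map id (fun r : Γ(X, V) => r • bL 0)) := by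
    funext p
    rw [dblLin_apply]
    change _ = (A.str.app (op V)).hom p.1 + rS A V (j.app V (p.2 • bL 0))
    rw [Scheme.Modules.Hom.app_smul]
    rfl
  rw [hcomp]
  exact (h.1 V).comp (Function.bijective_id.prodMap (bijective_smul_basis_fin_one bL))

include h in
theorem isFinLocFreeOfRank_two (hL : PicF.IsInvertible L) :
    FlatMod.IsFinLocFreeOfRank 2 A.toModule := by
  haveI := Groth.Agent.Helper13.Inv.isQuasicoherent_of_isInvertible L hL
  haveI := isQuasicoherent_toModule L m A j h hL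
  rw [isFinLocFreeOfRank_iff_of_isQuasicoherent]
  intro x
  obtain ⟨V, hV, hxV, ⟨bL⟩⟩ := (isFinLocFreeOfRank_iff_of_isQuasicoherent L 1).1
    (isFinLocFreeOfRank_one_of_isInvertible L hL) x
  letI : Algebra Γ(X, V) (A.presheaf.obj (op V)) := (A.str.app (op V)).hom.toAlgebra
  have hb := bijective_dblLin L m A j h V bL
  let b : Basis (Fin 2) Γ(X, V) (A.presheaf.obj (op V)) := dblBasis _ hb
  exact ⟨V, hV, hxV, ⟨b⟩⟩

include h in
theorem j_comp_trace (hL : PicF.IsInvertible L) (τ : A.toModule ⟶ Coh.structureModule X)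
    (hτ : FinCov.IsTrace A τ) : j ≫ τ = 0 := by
  haveI := Groth.Agent.Helper13.Inv.isQuasicoherent_of_isInvertible L hL
  apply hom_ext_of_isBasis _ _
    (isBasis_goodOpens' L 1 (isFinLocFreeOfRank_one_of_isInvertible L hL))
  rintro V ⟨hV, ⟨bL⟩⟩ l
  change τ.app V (j.app V l) = 0
  obtain ⟨r, rfl⟩ := (bijective_smul_basis_fin_one bL).2 l
  rw [Scheme.Modules.Hom.app_smul, Scheme.Modules.Hom.app_smul]
  letI : Algebra Γ(X, V) (A.presheaf.obj (op V)) := (A.str.app (op V)).hom.toAlgebra
  have hb := bijective_dblLin L m A j h V bL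
  have hfree : Module.Free Γ(X, V) (A.presheaf.obj (op V)) := Module.Free.of_basis (dblBasis _ hb)
  have hfin : Module.Finite Γ(X, V) (A.presheaf.obj (op V)) :=
    Module.Finite.of_basis (dblBasis _ hb)
  have htr := hτ V hV hfree hfin (rS A V (j.app V (bL 0)))
  have hee := h.2 V (bL 0) (bL 0)
  have h0 := trace_eq_zero_of_dbl (R := Γ(X, V)) (rS A V (j.app V (bL 0))) _ hee hb
  have h1 : τ.app V (j.app V (bL 0)) = 0 := htr.trans h0
  rw [h1, smul_zero]

include h in
theorem trace_eq_zero_iff (hL : PicF.IsInvertible L) (h2 : IsUnit (((2 : ℕ) : Γ(X, ⊤))))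
    (τ : A.toModule ⟶ Coh.structureModule X) (hτ : FinCov.IsTrace A τ)
    (U : X.Opens) (a : A.toModule.val.obj (op U)) :
    (τ.val.app (op U)).hom a = 0 ↔ a ∈ Set.range (j.val.app (op U)).hom := by
  have hA := isFinLocFreeOfRank_two L m A j h hL
  have hjτ := j_comp_trace L m A j h hL τ hτ
  constructor
  · intro ha
    obtain ⟨⟨s, l⟩, hsl⟩ := (h.1 U).2 (rS A U a)
    have ha' : a = (FinCov.strMod A).app U (toO U s) + j.app U l := hsl.symm
    have h1 : τ.app U a = 0 := ha
    rw [ha', map_add] at h1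
    have h2' : τ.app U (j.app U l) = 0 := congrArg (fun ψ => ψ.app U l) hjτ
    rw [h2', add_zero] at h1
    have h3 : (invD 2 h2).app U (τ.app U ((FinCov.strMod A).app U (toO U s))) = toO U s :=
      congrArg (fun ψ => ψ.app U (toO U s)) (str_tau_invD A τ 2 h2 hA hτ)
    have hs : toO U s = 0 := by
      rw [← h3, h1, map_zero]
    refine ⟨l, ?_⟩
    rw [ha', hs, map_zero, zero_add]
    rfl
  · rintro ⟨l, rfl⟩
    exact congrArg (fun ψ => ψ.app U l) hjτ

end Dbl

end Geometry4

end Groth.Agent.Helper28.TraceSplit
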