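import Mathlib
import Groth.Prelude.Def_FinCov
import Groth.Agent.Lib.Helper28.DblAlg
import Groth.Agent.Lib.Helper28.TraceSplit4
import Groth.Agent.Lib.Helper28.GlueGood

/-!
# The quasi-coherent algebra `O ⊕ L` attached to a pairing `L ⊗ L → O` on an invertible module
-/

set_option autoImplicit false
universe u
open CategoryTheory CategoryTheory.Limits AlgebraicGeometry Opposite TopologicalSpace
open Module

namespace Groth.Agent.Helper28.DblAlg

open Groth.Agent.Helper13.Tensor Groth.Agent.Helper13.LocFree Groth.Agent.Helper13.QCohLoc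
open Groth.Agent.Helper28.TraceSplit

variable {X : Scheme.{u}} (L : X.Modules) (m : CohB1.tensorMod L L ⟶ Coh.structureModule X)

/-- the pairing on sections. -/
noncomputable def μLin (U : X.Opens) : Γ(L, U) →ₗ[Γ(X, U)] Γ(L, U) →ₗ[Γ(X, U)] Γ(X, U) :=
  (tmulBilin L L U).compr₂ ((unitLin U).toLinearMap.comp (appLinearMap m U))

lemma μLin_apply (U : X.Opens) (l l' : Γ(L, U)) :
    μLin L m U l l' = ofO U (m.app U (tmul L L l l')) := rfl

lemma μLin_res {U V : X.Opens} (i : V ⟶ U) (l l' : Γ(L, U)) :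
    X.presheaf.map i.op (μLin L m U l l') =
      μLin L m V (L.presheaf.map i.op l) (L.presheaf.map i.op l') := by
  rw [μLin_apply, μLin_apply, ← tmul_res, app_res m i]
  rfl

section Basis

variable {L m}

lemma eq_smul_of_basis {V : X.Opens} (b : Basis (Fin 1) Γ(X, V) Γ(L, V)) (l : Γ(L, V)) :
    l = b.repr l 0 • b 0 := by
  have h := b.sum_repr l
  rw [Fin.sum_univ_one] at h
  exact h.symm

lemma μLin_symm_of_basis {V : X.Opens} (b : Basis (Fin 1) Γ(X, V) Γ(L, V)) (l l' : Γ(L, V)) :
    μLin L m V l l' = μLin L m V l' l := by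
  rw [eq_smul_of_basis b l, eq_smul_of_basis b l']
  simp only [map_smul, LinearMap.smul_apply, smul_eq_mul]
  ring

lemma μLin_assoc_of_basis {V : X.Opens} (b : Basis (Fin 1) Γ(X, V) Γ(L, V))
    (l l' l'' : Γ(L, V)) :
    μLin L m V l l' • l'' = μLin L m V l' l'' • l := by
  rw [eq_smul_of_basis b l, eq_smul_of_basis b l', eq_smul_of_basis b l'']
  simp only [map_smul, LinearMap.smul_apply, smul_eq_mul, smul_smul]
  congr 1
  ring

end Basis

variable (hL : PicF.IsInvertible L)

include hL in
lemma μLin_symm (U : X.Opens) (l l' : Γ(L, U)) : μLin L m U l l' = μLin L m U l' l := by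
  apply GlueGood.sec_eq_of_isBasis
    (isBasis_goodOpens' L 1 (isFinLocFreeOfRank_one_of_isInvertible L hL))
  rintro V ⟨hV, ⟨b⟩⟩ i
  rw [μLin_res, μLin_res]
  exact μLin_symm_of_basis b _ _

include hL in
lemma μLin_assoc (U : X.Opens) (l l' l'' : Γ(L, U)) :
    μLin L m U l l' • l'' = μLin L m U l' l'' • l := by
  apply sec_eq_of_isBasis L
    (isBasis_goodOpens' L 1 (isFinLocFreeOfRank_one_of_isInvertible L hL))
  rintro V ⟨hV, ⟨b⟩⟩ hVU
  rw [Scheme.Modules.map_smul, Scheme.Modules.map_smul, μLin_res, μLin_res]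
  exact μLin_assoc_of_basis b _ _ _

/-- the pairing over an open. -/
noncomputable def pairing (U : X.Opens) : Pairing Γ(X, U) Γ(L, U) where
  μ := μLin L m U
  symm := μLin_symm L m hL U
  assoc := μLin_assoc L m hL U

/-- restriction maps of the algebra. -/
noncomputable def resHom {U V : X.Opens} (i : V ⟶ U) :
    DblRing (pairing L m hL U) →+* DblRing (pairing L m hL V) :=
  DblRing.map (X.presheaf.map i.op).hom (L.presheaf.map i.op).hom
    (fun r a => Scheme.Modules.map_smul L i r a) (fun a b => (μLin_res L m i a b).symm)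

/-- the presheaf of rings `O ⊕ L`. -/
noncomputable def dblPresheaf : TopCat.Presheaf CommRingCat.{u} X.carrier where
  obj U := CommRingCat.of (DblRing (pairing L m hL U.unop))
  map {U V} i := CommRingCat.ofHom (resHom L m hL i.unop)
  map_id U := by
    refine CommRingCat.hom_ext (RingHom.ext fun x => ?_)
    apply DblRing.ext (P := pairing L m hL U.unop)
    · show (X.presheaf.map (𝟙 U)).hom x.1 = x.1
      rw [X.presheaf.map_id]
      rfl
    · show (L.presheaf.map (𝟙 U)).hom x.2 = x.2
      rw [L.presheaf.map_id]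
      rfl
  map_comp {U V W} i j := by
    refine CommRingCat.hom_ext (RingHom.ext fun x => ?_)
    apply DblRing.ext (P := pairing L m hL W.unop)
    · show (X.presheaf.map (i ≫ j)).hom x.1 = (X.presheaf.map j).hom ((X.presheaf.map i).hom x.1)
      rw [X.presheaf.map_comp]
      rfl
    · show (L.presheaf.map (i ≫ j)).hom x.2 = (L.presheaf.map j).hom ((L.presheaf.map i).hom x.2)
      rw [L.presheaf.map_comp]
      rfl

lemma isSheaf_dblPresheaf : (dblPresheaf L m hL).IsSheaf := by
  rw [TopCat.Presheaf.isSheaf_iff_isSheafUniqueGluing]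
  intro ι U sf hsf
  have h1 : TopCat.Presheaf.IsCompatible X.presheaf U (fun i => (sf i).1) :=
    fun i j => congrArg Prod.fst (hsf i j)
  have h2 : TopCat.Presheaf.IsCompatible L.presheaf U (fun i => (sf i).2) :=
    fun i j => congrArg Prod.snd (hsf i j)
  obtain ⟨s, hs, hsu⟩ := X.sheaf.existsUnique_gluing U _ h1
  obtain ⟨l, hl, hlu⟩ := TopCat.Sheaf.existsUnique_gluing ⟨L.presheaf, L.isSheaf⟩ U _ h2
  refine ⟨((s, l) : Γ(X, iSup U) × Γ(L, iSup U)), fun i => Prod.ext (hs i) (hl i), fun t ht => ?_⟩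
  exact Prod.ext (hsu t.1 (fun i => congrArg Prod.fst (ht i)))
    (hlu t.2 (fun i => congrArg Prod.snd (ht i)))

/-- the structure map. -/
noncomputable def dblStr : X.presheaf ⟶ dblPresheaf L m hL where
  app U := CommRingCat.ofHom (DblRing.inlHom (pairing L m hL U.unop))
  naturality U V i := by
    refine CommRingCat.hom_ext (RingHom.ext fun r => ?_)
    apply DblRing.ext (P := pairing L m hL V.unop)
    · rfl
    · exact (map_zero (L.presheaf.map i).hom).symm

lemma isQC_dbl : RelSpec.IsQC (dblPresheaf L m hL) (dblStr L m hL) := by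
  intro U hU r
  haveI : L.IsQuasicoherent := Groth.Agent.Helper13.Inv.isQuasicoherent_of_isInvertible L hL
  have hlocR := hU.isLocalization_basicOpen r
  letI := modBasicOpen L r
  have hlocM := isLocalizedModule_basicOpen L hU r
  refine DblRing.isLocalization_map (P := pairing L m hL U) (P' := pairing L m hL (X.basicOpen r))
    (X.presheaf.map (homOfLE (X.basicOpen_le r)).op).hom
    (L.presheaf.map (homOfLE (X.basicOpen_le r)).op).hom
    (fun c a => Scheme.Modules.map_smul L (homOfLE (X.basicOpen_le r)) c a)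
    (fun a b => (μLin_res L m (homOfLE (X.basicOpen_le r)) a b).symm) r ?_ ?_ ?_ ?_ ?_
  · exact RingedSpace.isUnit_res_basicOpen X.toRingedSpace r
  · intro s'
    obtain ⟨⟨s, ⟨_, n, rfl⟩⟩, h⟩ := IsLocalization.surj (Submonoid.powers r) s'
    refine ⟨s, n, ?_⟩
    rw [← map_pow]
    exact h
  · intro s t h
    obtain ⟨⟨_, n, rfl⟩, hc⟩ := IsLocalization.exists_of_eq (M := Submonoid.powers r)
      (S := Γ(X, X.basicOpen r)) h
    exact ⟨n, hc⟩
  · intro l'
    obtain ⟨⟨l, ⟨_, n, rfl⟩⟩, h⟩ := IsLocalizedModule.surj (Submonoid.powers r)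
      (resBasicOpen L r) l'
    refine ⟨l, n, ?_⟩
    rw [← map_pow]
    exact h
  · intro l k h
    obtain ⟨⟨_, n, rfl⟩, hc⟩ := IsLocalizedModule.exists_of_eq (S := Submonoid.powers r)
      (f := resBasicOpen L r) h
    exact ⟨n, hc⟩

/-- the quasi-coherent algebra `O ⊕ L`. -/
noncomputable def dblAlg : RelSpec.QCAlg X where
  presheaf := dblPresheaf L m hL
  isSheaf := isSheaf_dblPresheaf L m hL
  str := dblStr L m hL
  isQC := isQC_dbl L m hL

/-- the inclusion of `L`. -/
noncomputable def dblJ : L ⟶ (dblAlg L m hL).toModule :=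
  ⟨letI := (dblAlg L m hL).moduleSect
   PresheafOfModules.homMk
    { app := fun U => AddCommGrpCat.ofHom (DblRing.inrHom (pairing L m hL U.unop))
      naturality := fun U V i => by
        refine AddCommGrpCat.hom_ext (AddMonoidHom.ext fun l => ?_)
        apply DblRing.ext (P := pairing L m hL V.unop)
        · exact (map_zero (X.presheaf.map i).hom).symm
        · rfl }
    (fun U r l => (DblRing.inlHom_mul_inrHom (pairing L m hL U.unop) r l).symm)⟩

theorem isDblAlg_dbl : FinCov.IsDblAlg L m (dblAlg L m hL) (dblJ L m hL) := by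
  refine ⟨fun U => ⟨fun p q h => ?_, fun x => ⟨(x.1, x.2), ?_⟩⟩, fun U l l' => ?_⟩
  · have h1 : p.1 + 0 = q.1 + 0 := congrArg Prod.fst h
    have h2 : (0 : L.val.obj (op U)) + p.2 = 0 + q.2 := congrArg Prod.snd h
    rw [add_zero, add_zero] at h1
    rw [zero_add, zero_add] at h2
    exact Prod.ext h1 h2
  · apply DblRing.ext (P := pairing L m hL U)
    · show x.1 + 0 = x.1
      rw [add_zero]
    · show 0 + x.2 = x.2
      rw [zero_add]
  · exact DblRing.inrHom_mul_inrHom (pairing L m hL U) l l'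

include hL in
theorem exists_dblAlg :
    ∃ (A : RelSpec.QCAlg X) (j : L ⟶ A.toModule), FinCov.IsDblAlg L m A j :=
  ⟨dblAlg L m hL, dblJ L m hL, isDblAlg_dbl L m hL⟩

end Groth.Agent.Helper28.DblAlg
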