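import Mathlib

/-!
# Endomorphisms of deformations of a module with scalar endomorphisms (helper28)
-/

set_option autoImplicit false

namespace Groth.Agent.Helper28.DefModDeform

open IsLocalRing

section flat
variable {R : Type*} [CommRing R] [IsLocalRing R] {F : Type*} [AddCommGroup F] [Module R F]
  [Module.Flat R F]

/-- flatness over a local ring: if `a ∉ J'` and `a • x ∈ J' F` then `x ∈ 𝔪 F`. -/
lemma flat_key (J' : Ideal R) (a : R) (ha : a ∉ J') (x : F)
    (h : a • x ∈ J' • (⊤ : Submodule R F)) : x ∈ maximalIdeal R • (⊤ : Submodule R F) := by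
  classical
  have h' : a • x ∈ J' • Submodule.span R (Set.range (id : F → F)) := by simpa using h
  obtain ⟨c, hc, hsum⟩ := (Submodule.mem_ideal_smul_span_iff_exists_sum J' id (a • x)).mp h'
  let f : Option c.support → R := fun i => i.elim a (fun z => - c z)
  let X : Option c.support → F := fun i => i.elim x (fun z => (z : F))
  have hsum' : ∑ z : c.support, c z • (z : F) = a • x := by
    rw [← hsum, Finsupp.sum]
    exact Finset.sum_coe_sort c.support (fun z => c z • z)
  have hrel : ∑ i, f i • X i = 0 := by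
    rw [Fintype.sum_option]
    simp only [f, X, Option.elim_none, Option.elim_some, neg_smul, Finset.sum_neg_distrib]
    rw [hsum', add_neg_cancel]
  obtain ⟨κ, α, y, hX, hα⟩ := Module.Flat.isTrivialRelation_of_sum_smul_eq_zero hrel
  have hx : x = ∑ j, α none j • y j := hX none
  rw [hx]
  refine Submodule.sum_mem _ fun j _ => Submodule.smul_mem_smul ?_ trivial
  by_contra hnot
  have hunit : IsUnit (α none j) := by
    rwa [mem_maximalIdeal, mem_nonunits_iff, not_not] at hnot
  have h2 := hα j
  rw [Fintype.sum_option] at h2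
  simp only [f, Option.elim_none, Option.elim_some, neg_mul, Finset.sum_neg_distrib] at h2
  have h3 : a * α none j ∈ J' := by
    have : a * α none j = ∑ z : c.support, c z * α (some z) j := by
      rw [← sub_eq_zero, sub_eq_add_neg]; exact h2
    rw [this]
    exact J'.sum_mem fun z _ => J'.mul_mem_right _ (hc z)
  apply ha
  have := J'.mul_mem_right (↑hunit.unit⁻¹) h3
  rwa [mul_assoc, IsUnit.mul_val_inv, mul_one] at this

end flat

section core

variable {K : Type*} [Field K] {D : Type*} [Ring D]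
  {E : Type*} [AddCommGroup E] [Module K E] [Module D E]
  {R : Type*} [CommRing R] [IsLocalRing R] [Algebra K R] (res : R →ₐ[K] K)
  {F : Type*} [AddCommGroup F] [Module R F] [Module D F] [SMulCommClass R D F]

omit [IsLocalRing R] in
lemma smul_top_stable (J : Ideal R) (d : D) (x : F) (hx : x ∈ J • (⊤ : Submodule R F)) :
    d • x ∈ J • (⊤ : Submodule R F) := by
  induction hx using Submodule.smul_induction_on' with
  | smul r hr n _ =>
    rw [← smul_comm r d n]
    exact Submodule.smul_mem_smul hr trivial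
  | add x hx y hy hx' hy' =>
    rw [smul_add]
    exact Submodule.add_mem _ hx' hy'

include res in
lemma mem_maximalIdeal_iff_res (r : R) : r ∈ maximalIdeal R ↔ res r = 0 := by
  have hsurj : Function.Surjective (res : R →+* K) := fun c =>
    ⟨algebraMap K R c, by simp⟩
  have hmax : (RingHom.ker (res : R →+* K)).IsMaximal :=
    RingHom.ker_isMaximal_of_surjective (res : R →+* K) hsurj
  rw [← IsLocalRing.eq_maximalIdeal hmax, RingHom.mem_ker]
  rfl

variable [IsArtinianRing R] [Module.Flat R F]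
  (hE : ∀ ψ : E →ₗ[D] E, ∃ c : K, ∀ y : E, ψ y = c • y)
  (θ : F →ₗ[D] E) (hθ : ∀ (r : R) (x : F), θ (r • x) = res r • θ x)
  (hsurj : Function.Surjective θ)
  (hker : ∀ x : F, θ x = 0 ↔ x ∈ maximalIdeal R • (⊤ : Submodule R F))

include hE hθ hsurj hker in
/-- existence: endomorphisms with image in `J F` are multiplications. -/
theorem exists_smul_of_mem (J : Ideal R) : ∀ φ : F →ₗ[R] F, (∀ (d : D) (x : F), φ (d • x) = d • φ x) →
    (∀ x, φ x ∈ J • (⊤ : Submodule R F)) → ∃ r : R, ∀ x, φ x = r • x := by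
  induction J using WellFoundedLT.induction with
  | _ J IH =>
  intro φ hφD hφJ
  by_cases hJ : J = ⊥
  · refine ⟨0, fun x => ?_⟩
    have := hφJ x
    rw [hJ, Submodule.bot_smul, Submodule.mem_bot] at this
    rw [this, zero_smul]
  have hNoeth : IsNoetherianRing R := inferInstance
  obtain ⟨J', hJ'lt, hJ'max⟩ := (wellFounded_gt (α := Ideal R)).has_min {I : Ideal R | I < J}
    ⟨⊥, bot_lt_iff_ne_bot.mpr hJ⟩
  have hJ'lt : J' < J := hJ'lt
  have hJ'max : ∀ I : Ideal R, I < J → ¬ J' < I := fun I hI => hJ'max I hI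
  obtain ⟨a, haJ, haJ'⟩ := SetLike.exists_of_lt hJ'lt
  have hsup : J' ⊔ Ideal.span {a} = J := by
    by_contra hne
    have hle : J' ⊔ Ideal.span {a} ≤ J :=
      sup_le hJ'lt.le ((Ideal.span_singleton_le_iff_mem _).mpr haJ)
    apply hJ'max _ (lt_of_le_of_ne hle hne)
    refine lt_of_le_of_ne le_sup_left ?_
    intro heq
    apply haJ'
    rw [heq]
    exact Ideal.mem_sup_right (Ideal.mem_span_singleton_self a)
  have hmJ : maximalIdeal R * J ≤ J' := by
    by_contra hnot
    have hlt' : J' < J' ⊔ maximalIdeal R * J :=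
      lt_of_le_of_ne le_sup_left (fun heq => hnot (by rw [heq]; exact le_sup_right))
    have hle : J' ⊔ maximalIdeal R * J ≤ J := sup_le hJ'lt.le Ideal.mul_le_right
    have heq : J' ⊔ maximalIdeal R * J = J := by
      by_contra hne
      exact hJ'max _ (lt_of_le_of_ne hle hne) hlt'
    have : J ≤ J' := Submodule.le_of_le_smul_of_le_jacobson_bot (IsNoetherian.noetherian J)
      (by rw [IsLocalRing.jacobson_eq_maximalIdeal ⊥ bot_ne_top])
      (by rw [Ideal.smul_eq_mul]; exact heq.ge)
    exact absurd hJ'lt (not_lt_of_ge this)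
  -- decomposition of `J F`
  have hdecomp : ∀ w ∈ J • (⊤ : Submodule R F), ∃ y : F, w - a • y ∈ J' • (⊤ : Submodule R F) := by
    intro w hw
    rw [← hsup, Submodule.sup_smul, Submodule.mem_sup] at hw
    obtain ⟨w1, hw1, w2, hw2, rfl⟩ := hw
    rw [Submodule.ideal_span_singleton_smul, Submodule.mem_smul_pointwise_iff_exists] at hw2
    obtain ⟨y, _, rfl⟩ := hw2
    exact ⟨y, by simpa using hw1⟩
  have hkey : ∀ y : F, a • y ∈ J' • (⊤ : Submodule R F) → θ y = 0 :=
    fun y h => (hker y).mpr (flat_key J' a haJ' y h)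
  have hmJF : ∀ x ∈ maximalIdeal R • (⊤ : Submodule R F), φ x ∈ J' • (⊤ : Submodule R F) := by
    intro x hx
    induction hx using Submodule.smul_induction_on' with
    | smul b hb n _ =>
      rw [map_smul]
      have h1 : b • φ n ∈ maximalIdeal R • (J • (⊤ : Submodule R F)) :=
        Submodule.smul_mem_smul hb (hφJ n)
      rw [← Submodule.mul_smul] at h1
      exact Submodule.smul_mono_left hmJ h1
    | add x hx y hy hx' hy' =>
      rw [map_add]
      exact Submodule.add_mem _ hx' hy'
  have haJF : ∀ y ∈ maximalIdeal R • (⊤ : Submodule R F), a • y ∈ J' • (⊤ : Submodule R F) := by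
    intro y hy
    induction hy using Submodule.smul_induction_on' with
    | smul b hb n _ =>
      rw [smul_smul, mul_comm]
      exact Submodule.smul_mem_smul (hmJ (Ideal.mul_mem_mul hb haJ)) trivial
    | add x hx y hy hx' hy' =>
      rw [smul_add]
      exact Submodule.add_mem _ hx' hy'
  -- the graph of the induced endomorphism of `E`
  let Γ : Submodule D (E × E) :=
    { carrier := {p | ∃ x y : F, θ x = p.1 ∧ θ y = p.2 ∧ φ x - a • y ∈ J' • (⊤ : Submodule R F)}
      zero_mem' := ⟨0, 0, by simp⟩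
      add_mem' := by
        rintro p q ⟨x, y, h1, h2, h3⟩ ⟨x', y', h1', h2', h3'⟩
        refine ⟨x + x', y + y', by simp [h1, h1'], by simp [h2, h2'], ?_⟩
        have : φ (x + x') - a • (y + y') = (φ x - a • y) + (φ x' - a • y') := by
          rw [map_add, smul_add]; abel
        rw [this]
        exact Submodule.add_mem _ h3 h3'
      smul_mem' := by
        rintro d p ⟨x, y, h1, h2, h3⟩
        refine ⟨d • x, d • y, by simp [h1], by simp [h2], ?_⟩
        have : φ (d • x) - a • (d • y) = d • (φ x - a • y) := by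
          rw [hφD, smul_sub, smul_comm a d y]
        rw [this]
        exact smul_top_stable J' d _ h3 }
  have hΓmem : ∀ p : E × E, p ∈ Γ ↔
      ∃ x y : F, θ x = p.1 ∧ θ y = p.2 ∧ φ x - a • y ∈ J' • (⊤ : Submodule R F) := fun p => Iff.rfl
  have hΓ0 : ∀ e' : E, ((0 : E), e') ∈ Γ → e' = 0 := by
    rintro e' ⟨x, y, h1, h2, h3⟩
    have hx : φ x ∈ J' • (⊤ : Submodule R F) := hmJF x ((hker x).mp h1)
    have hy : a • y ∈ J' • (⊤ : Submodule R F) := by
      have := Submodule.sub_mem _ hx h3
      simpa using this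
    have h2' : θ y = e' := h2
    rw [← h2']
    exact hkey y hy
  have hΓtot : ∀ e : E, ∃ e' : E, (e, e') ∈ Γ := by
    intro e
    obtain ⟨x, rfl⟩ := hsurj e
    obtain ⟨y, hy⟩ := hdecomp (φ x) (hφJ x)
    exact ⟨θ y, x, y, rfl, rfl, hy⟩
  have hΓuniq : ∀ e e' e'' : E, (e, e') ∈ Γ → (e, e'') ∈ Γ → e' = e'' := by
    intro e e' e'' h1 h2
    have h3 := Γ.sub_mem h1 h2
    have h4 : ((0 : E), e' - e'') ∈ Γ := by simpa using h3
    exact sub_eq_zero.mp (hΓ0 _ h4)
  choose ψ0 hψ0 using hΓtot
  let ψ : E →ₗ[D] E :=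
    { toFun := ψ0
      map_add' := fun e1 e2 =>
        hΓuniq _ _ _ (hψ0 (e1 + e2)) (Γ.add_mem (hψ0 e1) (hψ0 e2))
      map_smul' := fun d e =>
        hΓuniq _ _ _ (hψ0 (d • e)) (Γ.smul_mem d (hψ0 e)) }
  obtain ⟨c, hc⟩ := hE ψ
  have hθc : ∀ x : F, θ (algebraMap K R c • x) = c • θ x := by
    intro x
    rw [hθ, AlgHom.commutes]
    rfl
  let φ' : F →ₗ[R] F := φ - (algebraMap K R c * a) • LinearMap.id
  have hφ'D : ∀ (d : D) (x : F), φ' (d • x) = d • φ' x := by
    intro d x
    simp only [φ', LinearMap.sub_apply, LinearMap.smul_apply, LinearMap.id_apply, hφD, smul_sub]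
    rw [smul_comm (algebraMap K R c * a) d x]
  have hφ'J : ∀ x, φ' x ∈ J' • (⊤ : Submodule R F) := by
    intro x
    obtain ⟨x1, y1, h1, h2, h3⟩ := hψ0 (θ x)
    have h2' : θ y1 = c • θ x := by rw [h2]; exact hc (θ x)
    have hx1 : φ (x - x1) ∈ J' • (⊤ : Submodule R F) := by
      apply hmJF
      rw [← hker, map_sub, h1, sub_self]
    have hy1 : a • (y1 - algebraMap K R c • x) ∈ J' • (⊤ : Submodule R F) := by
      apply haJF
      rw [← hker, map_sub, hθc, h2', sub_self]
    have : φ' x = φ (x - x1) + (φ x1 - a • y1) + a • (y1 - algebraMap K R c • x) := by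
      simp only [φ', LinearMap.sub_apply, LinearMap.smul_apply, LinearMap.id_apply, map_sub,
        smul_sub, smul_smul, mul_comm a]
      abel
    rw [this]
    exact Submodule.add_mem _ (Submodule.add_mem _ hx1 h3) hy1
  obtain ⟨r', hr'⟩ := IH J' hJ'lt φ' hφ'D hφ'J
  refine ⟨r' + algebraMap K R c * a, fun x => ?_⟩
  have := hr' x
  simp only [φ', LinearMap.sub_apply, LinearMap.smul_apply, LinearMap.id_apply] at this
  rw [add_smul, ← this]
  abel

include hsurj hker in
omit [IsArtinianRing R] [SMulCommClass R D F] in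
/-- faithfulness -/
theorem eq_zero_of_forall_smul_eq_zero [Nontrivial E] (r : R) (h : ∀ x : F, r • x = 0) : r = 0 := by
  by_contra hr
  obtain ⟨e, he⟩ := exists_ne (0 : E)
  obtain ⟨x, rfl⟩ := hsurj e
  apply he
  rw [hker]
  apply flat_key ⊥ r (by simpa using hr) x
  rw [h x]
  exact Submodule.zero_mem _

include hE hθ hsurj hker in
/-- every `R`- and `D`-linear endomorphism of a deformation is multiplication by a unique scalar. -/
theorem existsUnique_smul [Nontrivial E] (φ : F →ₗ[R] F)
    (hφ : ∀ (d : D) (x : F), φ (d • x) = d • φ x) : ∃! r : R, ∀ x : F, φ x = r • x := by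
  obtain ⟨r, hr⟩ := exists_smul_of_mem res hE θ hθ hsurj hker ⊤ φ hφ (fun x => by simp)
  refine ⟨r, hr, fun r' hr' => ?_⟩
  have : ∀ x : F, (r' - r) • x = 0 := by
    intro x
    rw [sub_smul, ← hr, ← hr', sub_self]
  exact sub_eq_zero.mp (eq_zero_of_forall_smul_eq_zero θ hsurj hker _ this)

end core

end Groth.Agent.Helper28.DefModDeform
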