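import Mathlib
import Groth.Prelude.Def_RelProj
import Groth.Agent.Lib.Helper13.QAffRel
import Groth.Agent.Lib.Helper13.AmpleRestrict

set_option autoImplicit false
universe u
open CategoryTheory CategoryTheory.Limits AlgebraicGeometry Opposite TopologicalSpace

namespace Groth.Agent.Helper28.DenseAffCover

/-- in a scheme with Noetherian underlying space every point has a dense affine open
neighbourhood. -/
theorem exists_dense_affine_mem {X : Scheme.{u}} [NoetherianSpace X] (x : X) :
    ∃ U : X.Opens, IsAffineOpen U ∧ x ∈ U ∧ Dense (U : Set X) := by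
  obtain ⟨U₀, hU₀, hxU₀, -⟩ := exists_isAffineOpen_mem_and_subset (x := x) (U := ⊤) trivial
  have hwf : WellFounded ((· > ·) : X.Opens → X.Opens → Prop) := wellFounded_gt
  obtain ⟨U, ⟨hU, hxU⟩, hmax⟩ :=
    hwf.has_min {U : X.Opens | IsAffineOpen U ∧ x ∈ U} ⟨U₀, hU₀, hxU₀⟩
  refine ⟨U, hU, hxU, ?_⟩
  by_contra hd
  rw [dense_iff_closure_eq] at hd
  obtain ⟨y, hy⟩ : ∃ y, y ∉ closure (U : Set X) := by
    by_contra h
    push Not at h
    exact hd (Set.eq_univ_of_forall h)
  obtain ⟨V, hV, hyV, hVW⟩ := exists_isAffineOpen_mem_and_subset (x := y)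
    (U := ⟨(closure (U : Set X))ᶜ, isClosed_closure.isOpen_compl⟩) hy
  have hdisj : Disjoint U V := by
    rw [disjoint_iff, eq_bot_iff]
    rintro z ⟨hzU, hzV⟩
    exact (hVW hzV (subset_closure hzU)).elim
  have hUV := hU.sup_of_disjoint hV hdisj
  have hgt : U ⊔ V > U := by
    refine lt_of_le_of_ne le_sup_left ?_
    intro h
    have h1 : y ∈ U ⊔ V := (le_sup_right : V ≤ U ⊔ V) hyV
    rw [← h] at h1
    exact hy (subset_closure h1)
  exact hmax (U ⊔ V) ⟨hUV, (le_sup_left : U ≤ U ⊔ V) hxU⟩ hgt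

/-- an affine open of a scheme locally of finite type over a quasi-separated base is
quasi-projective over the base. -/
theorem isQuasiProjective_of_affine {S X : Scheme.{u}} (f : X ⟶ S) [QuasiSeparatedSpace S]
    [LocallyOfFiniteType f] (U : X.Opens) (hU : IsAffineOpen U) :
    RelProj.IsQuasiProjective (U.ι ≫ f) := by
  haveI : IsAffine (U : Scheme.{u}) := hU
  haveI : QuasiCompact (U.ι ≫ f) := inferInstance
  refine ⟨inferInstance, inferInstance, Coh.structureModule _,
    (Groth.Agent.Helper13.QAffRel.isQuasiAffine_iff_isRelAmple_structureModule _).1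
      ⟨inferInstance, fun V hV => ?_⟩⟩
  haveI : CompactSpace (((U.ι ≫ f) ⁻¹ᵁ V : (U : Scheme.{u}).Opens) : Scheme.{u}) :=
    Groth.Agent.Helper13.Ample.compactSpace_preimage _ V hV.isCompact
  exact Scheme.IsQuasiAffine.of_isImmersion ((U.ι ≫ f) ⁻¹ᵁ V).ι

theorem main {S X : Scheme.{u}} (f : X ⟶ S)
    [IsNoetherian S] [IsSeparated f] [QuasiCompact f] [LocallyOfFiniteType f] :
    ∃ (n : ℕ) (U : Fin n → X.Opens), (⨆ i, U i) = ⊤ ∧
      ∀ i, IsAffineOpen (U i) ∧ Dense ((U i : Set X)) ∧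
        RelProj.IsQuasiProjective ((U i).ι ≫ f) := by
  classical
  haveI : IsLocallyNoetherian X := LocallyOfFiniteType.isLocallyNoetherian f
  haveI : CompactSpace X := QuasiCompact.compactSpace_of_compactSpace f
  haveI : IsNoetherian X := {}
  choose U hU hxU hdense using fun x : X => exists_dense_affine_mem x
  obtain ⟨T, hT⟩ := isCompact_univ.elim_finite_subcover (fun x => ((U x : X.Opens) : Set X))
    (fun x => (U x).2) (fun x _ => Set.mem_iUnion.2 ⟨x, hxU x⟩)
  refine ⟨T.card, fun i => U (T.equivFin.symm i).1, ?_, fun i => ⟨hU _, hdense _, ?_⟩⟩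
  · rw [eq_top_iff]
    intro z _
    obtain ⟨x, hxT, hzx⟩ : ∃ x ∈ T, z ∈ U x := by
      have := hT (Set.mem_univ z)
      simpa using this
    refine Opens.mem_iSup.2 ⟨T.equivFin ⟨x, hxT⟩, ?_⟩
    change z ∈ U (T.equivFin.symm (T.equivFin ⟨x, hxT⟩)).1
    rw [Equiv.symm_apply_apply]
    exact hzx
  · exact isQuasiProjective_of_affine f _ (hU _)

end Groth.Agent.Helper28.DenseAffCover
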