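import Mathlib
import Groth.Prelude.Def_PolLaw2
import Groth.Agent.Lib.Helper29.DetProj

/-!
# Homogeneity of the determinant law of a projective module of constant rank (helper28)
-/

open scoped TensorProduct

namespace Groth.Agent.Helper28.DetHomog

universe u

variable {A B M : Type u} [CommRing A] [CommRing B] [Algebra A B]
  [AddCommGroup M] [Module A M] [Module B M] [IsScalarTower A B M]

/-- `rTensor` of an algebra map is semilinear. -/
theorem rTensor_smul {N : Type u} [AddCommGroup N] [Module A N] {S S' : Type u} [CommSemiring S]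
    [Algebra A S] [CommSemiring S'] [Algebra A S'] (φ : S →ₐ[A] S') (s : S) (x : S ⊗[A] N) :
    φ.toLinearMap.rTensor N (s • x) = φ s • φ.toLinearMap.rTensor N x := by
  induction x using TensorProduct.induction_on with
  | zero => simp
  | tmul t n => simp [TensorProduct.smul_tmul', LinearMap.rTensor_tmul]
  | add a b ha hb => simp only [smul_add, map_add, ha, hb]

theorem detAct_smul_local [Module.Finite A M] [Module.Projective A M] (d : ℕ)
    (hd : ∀ p : PrimeSpectrum A, Module.rankAtStalk M p = d)
    (S : Type u) [CommRing S] [IsLocalRing S] [Algebra A S] (s : S) (x : S ⊗[A] B) :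
    PolLaw.detAct M S (s • x) = s ^ d * PolLaw.detAct M S x := by
  unfold PolLaw.detAct
  rw [map_smul]
  haveI : Module.Free S (S ⊗[A] M) := Module.free_of_flat_of_isLocalRing
  rw [LinearMap.det_smul]
  congr 2
  have h1 := Module.rankAtStalk_baseChange (R := A) (M := M) (S := S) (IsLocalRing.closedPoint S)
  rw [hd] at h1
  have h2 : Module.rankAtStalk (R := S) (S ⊗[A] M) = Module.finrank S (S ⊗[A] M) :=
    Module.rankAtStalk_eq_finrank_of_free
  rw [h2] at h1
  exact h1

theorem homog_ring [Module.Finite A M] [Module.Projective A M] (N : B →ₚₗ[A] A)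
    (hN : ∀ (S : Type u) [CommRing S] [IsLocalRing S] [Algebra A S] (x : S ⊗[A] B),
      N.toFun' S x = PolLaw.detAct M S x ⊗ₜ[A] (1 : A))
    (d : ℕ) (hd : ∀ p : PrimeSpectrum A, Module.rankAtStalk M p = d)
    (S : Type u) [CommRing S] [Algebra A S] (s : S) (x : S ⊗[A] B) :
    N.toFun' S (s • x) = s ^ d • N.toFun' S x := by
  apply (TensorProduct.rid A S).injective
  rw [← sub_eq_zero]
  apply eq_zero_of_localization
  intro J hJ
  let φ : S →ₐ[A] Localization.AtPrime J := IsScalarTower.toAlgHom A S (Localization.AtPrime J)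
  have h1 := Groth.Agent.Helper29.DetProj.rid_rTensor φ (N.toFun' S (s • x))
  have h2 := Groth.Agent.Helper29.DetProj.rid_rTensor φ (s ^ d • N.toFun' S x)
  rw [PolynomialLaw.isCompat_apply', rTensor_smul, hN (Localization.AtPrime J),
    detAct_smul_local d hd] at h1
  rw [rTensor_smul, PolynomialLaw.isCompat_apply', hN (Localization.AtPrime J)] at h2
  rw [map_sub]
  show φ (TensorProduct.rid A S (N.toFun' S (s • x))) -
    φ (TensorProduct.rid A S (s ^ d • N.toFun' S x)) = 0
  rw [← h1, ← h2, map_pow, TensorProduct.smul_tmul', smul_eq_mul, sub_self]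

theorem isHomog [Module.Finite A M] [Module.Projective A M] (N : B →ₚₗ[A] A)
    (hN : ∀ (S : Type u) [CommRing S] [IsLocalRing S] [Algebra A S] (x : S ⊗[A] B),
      N.toFun' S x = PolLaw.detAct M S x ⊗ₜ[A] (1 : A))
    (d : ℕ) (hd : ∀ p : PrimeSpectrum A, Module.rankAtStalk M p = d) :
    PolLaw.IsHomog N d := by
  intro S _ _ s x
  let e : S →ₐ[A] A ⊗[A] S := (Algebra.TensorProduct.lid A S).symm.toAlgHom
  let e' : A ⊗[A] S →ₐ[A] S := (Algebra.TensorProduct.lid A S).toAlgHom
  have hinv : ∀ z : S ⊗[A] A, e'.toLinearMap.rTensor A (e.toLinearMap.rTensor A z) = z := by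
    intro z
    induction z using TensorProduct.induction_on with
    | zero => simp
    | tmul s n => simp [e, e', LinearMap.rTensor_tmul]
    | add a b ha hb => simp only [map_add, ha, hb]
  have h1 : e.toLinearMap.rTensor A (N.toFun' S (s • x)) =
      e.toLinearMap.rTensor A (s ^ d • N.toFun' S x) := by
    rw [PolynomialLaw.isCompat_apply', rTensor_smul, rTensor_smul, PolynomialLaw.isCompat_apply',
      homog_ring N hN d hd, map_pow]
  have h2 := congrArg (e'.toLinearMap.rTensor A) h1
  rwa [hinv, hinv] at h2

end Groth.Agent.Helper28.DetHomog
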