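import Mathlib

/-!
# Diagonal ideals and first-order conditions along the diagonal (helper28)

`A` a commutative algebra over a field `k` (characteristic zero is only used through the
invertibility of `2` and `3`).  We write `T2 = A ⊗ A`, `I = ker (A ⊗ A → A)`.
-/

set_option autoImplicit false

namespace Groth.Agent.Helper28.DiagIdealLib

open TensorProduct

universe u v
variable (k : Type u) [Field k] (A : Type v) [CommRing A] [Algebra k A]

/-- `δ (a ⊗ b) = a • d b`, as a `k`-linear map. -/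
noncomputable def delta : A ⊗[k] A →ₗ[k] Ω[A⁄k] :=
  ((KaehlerDifferential.D k A).tensorProductTo).restrictScalars k

@[simp] lemma delta_tmul (a b : A) :
    delta k A (a ⊗ₜ[k] b) = a • KaehlerDifferential.D k A b := rfl

/-- for `y` in the diagonal ideal, `δ y = 0` iff `y ∈ I²`. -/
lemma mem_sq_of_delta_eq_zero {y : A ⊗[k] A} (hy : y ∈ KaehlerDifferential.ideal k A)
    (h : delta k A y = 0) : y ∈ (KaehlerDifferential.ideal k A) ^ 2 := by
  have h1 := KaehlerDifferential.D_tensorProductTo (R := k) (S := A) ⟨y, hy⟩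
  have h2 : (KaehlerDifferential.ideal k A).toCotangent ⟨y, hy⟩ = 0 := by
    rw [← h1]; exact h
  exact (Ideal.toCotangent_eq_zero _ _).mp h2

/-- `dl a = 1 ⊗ a - a ⊗ 1`. -/
def dl (a : A) : A ⊗[k] A := (1 : A) ⊗ₜ[k] a - a ⊗ₜ[k] (1 : A)

/-- `I ^ 2` is spanned by products of two `dl`s. -/
lemma sq_eq_span : (KaehlerDifferential.ideal k A) ^ 2 =
    Ideal.span {z | ∃ a b : A, z = dl k A a * dl k A b} := by
  rw [← KaehlerDifferential.span_range_eq_ideal, pow_two, Ideal.span_mul_span]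
  congr 1
  ext z
  constructor
  · rintro ⟨_, ⟨a, rfl⟩, _, ⟨b, rfl⟩, rfl⟩
    exact ⟨a, b, rfl⟩
  · rintro ⟨a, b, rfl⟩
    exact ⟨_, ⟨a, rfl⟩, _, ⟨b, rfl⟩, rfl⟩

/-- induction principle: a `k`-submodule containing all `f * dl a * dl b` contains `I ^ 2`. -/
lemma sq_le_of_forall (R0 : Submodule k (A ⊗[k] A))
    (h : ∀ (f : A ⊗[k] A) (a b : A), f * (dl k A a * dl k A b) ∈ R0) :
    ∀ y ∈ (KaehlerDifferential.ideal k A) ^ 2, y ∈ R0 := by
  intro y hy
  rw [sq_eq_span] at hy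
  have key : ∀ f : A ⊗[k] A, f * y ∈ R0 := by
    induction hy using Submodule.span_induction with
    | mem z hz =>
      obtain ⟨a, b, rfl⟩ := hz
      intro f; exact h f a b
    | zero => intro f; simp
    | add z w _ _ hz hw => intro f; rw [mul_add]; exact R0.add_mem (hz f) (hw f)
    | smul g z _ hz => intro f; rw [smul_eq_mul, ← mul_assoc]; exact hz (f * g)
  simpa using key 1

variable {k A}

lemma mem_of_nsmul_mem {M : Type*} [AddCommGroup M] [Module k M] (R0 : Submodule k M) (n : ℕ)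
    (hn : (n : k) ≠ 0) {z : M} (h : n • z ∈ R0) : z ∈ R0 := by
  have : z = (n : k)⁻¹ • (n • z) := by
    rw [← Nat.cast_smul_eq_nsmul k n z, smul_smul, inv_mul_cancel₀ hn, one_smul]
  rw [this]; exact R0.smul_mem _ h

lemma mem_of_nsmul_mem' {B : Type*} [Ring B] [Algebra k B] (R0 : Subalgebra k B) (n : ℕ)
    (hn : (n : k) ≠ 0) {z : B} (h : n • z ∈ R0) : z ∈ R0 :=
  mem_of_nsmul_mem (Subalgebra.toSubmodule R0) n hn h

variable (k A)

/-- `pp c = 2 (c ⊗ 1) + 1 ⊗ c`, the restriction to `x₁ = x₂` of the symmetric function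
`c(x₁) + c(x₂) + c(x₃)`. -/
def pp (c : A) : A ⊗[k] A := c ⊗ₜ[k] (1 : A) + c ⊗ₜ[k] (1 : A) + (1 : A) ⊗ₜ[k] c

lemma tmul_one_mul (a b : A) : (a * b) ⊗ₜ[k] (1 : A) = (a ⊗ₜ[k] (1 : A)) * (b ⊗ₜ[k] (1 : A)) := by
  simp

lemma one_tmul_mul (a b : A) : (1 : A) ⊗ₜ[k] (a * b) = ((1 : A) ⊗ₜ[k] a) * ((1 : A) ⊗ₜ[k] b) := by
  simp

lemma two_dl_mul_dl (a b : A) :
    2 • (dl k A a * dl k A b) = 3 • pp k A (a * b) - pp k A a * pp k A b := by
  simp only [dl, pp, tmul_one_mul, one_tmul_mul, nsmul_eq_mul, Nat.cast_ofNat]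
  ring

lemma two_dl_mul_dl_mul_dl (a b c : A) :
    2 • (dl k A a * dl k A b * dl k A c) = 9 • pp k A (a * b * c)
      - 3 • (pp k A (a * b) * pp k A c + pp k A (a * c) * pp k A b + pp k A (b * c) * pp k A a)
      + 2 • (pp k A a * pp k A b * pp k A c) := by
  simp only [dl, pp, tmul_one_mul, one_tmul_mul, nsmul_eq_mul, Nat.cast_ofNat]
  ring

lemma three_tmul_one (c : A) : 3 • (c ⊗ₜ[k] (1 : A)) = pp k A c - dl k A c := by
  simp only [dl, pp, nsmul_eq_mul, Nat.cast_ofNat]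
  ring

lemma one_tmul_eq (c : A) : (1 : A) ⊗ₜ[k] c = c ⊗ₜ[k] (1 : A) + dl k A c := by
  simp only [dl]; ring

/-- a subalgebra containing all `pp c` contains `I ^ 2` (characteristic zero). -/
theorem sq_le_subalgebra [CharZero k] (R0 : Subalgebra k (A ⊗[k] A))
    (hp : ∀ c, pp k A c ∈ R0) :
    ∀ y ∈ (KaehlerDifferential.ideal k A) ^ 2, y ∈ R0 := by
  have h2 : ∀ a b, dl k A a * dl k A b ∈ R0 := by
    intro a b
    refine mem_of_nsmul_mem' R0 2 (by norm_num) ?_
    rw [two_dl_mul_dl]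
    exact sub_mem (nsmul_mem (hp _) _) (mul_mem (hp _) (hp _))
  have h3 : ∀ a b c, dl k A a * dl k A b * dl k A c ∈ R0 := by
    intro a b c
    refine mem_of_nsmul_mem' R0 2 (by norm_num) ?_
    rw [two_dl_mul_dl_mul_dl]
    refine add_mem (sub_mem (nsmul_mem (hp _) _) (nsmul_mem ?_ _)) (nsmul_mem ?_ _)
    · exact add_mem (add_mem (mul_mem (hp _) (hp _)) (mul_mem (hp _) (hp _)))
        (mul_mem (hp _) (hp _))
    · exact mul_mem (mul_mem (hp _) (hp _)) (hp _)
  have hX : ∀ (c : A) (z : A ⊗[k] A), z ∈ R0 → z * dl k A c ∈ R0 →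
      (c ⊗ₜ[k] (1 : A)) * z ∈ R0 := by
    intro c z hz hzc
    refine mem_of_nsmul_mem' R0 3 (by norm_num) ?_
    have : 3 • ((c ⊗ₜ[k] (1 : A)) * z) = pp k A c * z - z * dl k A c := by
      rw [← smul_mul_assoc, three_tmul_one]; ring
    rw [this]
    exact sub_mem (mul_mem (hp _) hz) hzc
  have h4 : ∀ a b c d, dl k A a * dl k A b * dl k A c * dl k A d ∈ R0 := by
    intro a b c d
    have := mul_mem (h2 a b) (h2 c d)
    rwa [← mul_assoc] at this
  apply sq_le_of_forall k A (Subalgebra.toSubmodule R0)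
  intro f a b
  induction f using TensorProduct.induction_on with
  | zero => simp
  | add f g hf hg => rw [add_mul]; exact add_mem hf hg
  | tmul c c' =>
    have e : c ⊗ₜ[k] c' = (c * c') ⊗ₜ[k] (1 : A) + (c ⊗ₜ[k] (1 : A)) * dl k A c' := by
      simp only [dl, mul_sub, Algebra.TensorProduct.tmul_mul_tmul, mul_one, one_mul]
      abel
    rw [e, add_mul]
    refine add_mem ?_ ?_
    · exact hX (c * c') _ (h2 a b) (h3 a b _)
    · rw [mul_assoc]
      refine hX c _ ?_ ?_
      · have := h3 a b c'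
        have e2 : dl k A c' * (dl k A a * dl k A b) = dl k A a * dl k A b * dl k A c' := by ring
        rw [e2]; exact this
      · have e2 : dl k A c' * (dl k A a * dl k A b) * dl k A c
            = dl k A a * dl k A b * dl k A c' * dl k A c := by ring
        rw [e2]; exact h4 a b c' c

end Groth.Agent.Helper28.DiagIdealLib
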