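import Mathlib
set_option autoImplicit false
open TensorProduct
universe u v
namespace Groth.Agent.Helper28.DiagOdd

variable (k : Type u) [Field k] (A : Type v) [CommRing A] [Algebra k A] (n : ℕ)

/-- reindexing as an algebra hom -/
noncomputable def reindexAlg (σ : Equiv.Perm (Fin n)) :
    (⨂[k] _ : Fin n, A) →ₐ[k] (⨂[k] _ : Fin n, A) :=
  AlgHom.ofLinearMap (PiTensorProduct.reindex k (fun _ : Fin n => A) σ).toLinearMap
    (by
      show PiTensorProduct.reindex k (fun _ : Fin n => A) σ 1 = 1
      rw [PiTensorProduct.one_def, PiTensorProduct.reindex_tprod]; rfl)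
    (by
      apply (LinearMap.map_mul_iff _).mpr
      ext x y
      simp only [LinearMap.compMultilinearMap_apply, LinearMap.compr₂_apply, LinearMap.mul_apply',
        PiTensorProduct.tprod_mul_tprod, LinearEquiv.coe_coe, PiTensorProduct.reindex_tprod,
        LinearMap.compl₂_apply, LinearMap.coe_comp, Function.comp_apply]
      rfl)

lemma reindexAlg_apply (σ : Equiv.Perm (Fin n)) (x : ⨂[k] _ : Fin n, A) :
    reindexAlg k A n σ x = PiTensorProduct.reindex k (fun _ : Fin n => A) σ x := rfl

lemma reindexAlg_single (σ : Equiv.Perm (Fin n)) (l : Fin n) (a : A) :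
    reindexAlg k A n σ (PiTensorProduct.singleAlgHom (R := k) (A := fun _ : Fin n => A) l a) =
      PiTensorProduct.singleAlgHom (R := k) (A := fun _ : Fin n => A) (σ l) a := by
  rw [reindexAlg_apply, PiTensorProduct.singleAlgHom_apply, PiTensorProduct.singleAlgHom_apply,
    PiTensorProduct.reindex_tprod]
  congr 1
  funext m
  simp only [MonoidHom.mulSingle_apply, Pi.mulSingle_apply]
  by_cases h : m = σ l
  · subst h; simp
  · rw [if_neg h, if_neg]
    intro h'
    exact h (by rw [← h']; simp)


variable {n} (i j : Fin n)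

/-- the generator `a_i - a_j` of the diagonal ideal -/
noncomputable def dgen (a : A) : ⨂[k] _ : Fin n, A :=
  PiTensorProduct.singleAlgHom (R := k) (A := fun _ : Fin n => A) i a -
    PiTensorProduct.singleAlgHom (R := k) (A := fun _ : Fin n => A) j a

/-- the ideal of the `(i,j)` diagonal -/
noncomputable def dI : Ideal (⨂[k] _ : Fin n, A) := Ideal.span (Set.range (dgen k A i j))

lemma tau_dgen (a : A) :
    reindexAlg k A n (Equiv.swap i j) (dgen k A i j a) = - dgen k A i j a := by
  unfold dgen
  rw [map_sub, reindexAlg_single, reindexAlg_single, Equiv.swap_apply_left, Equiv.swap_apply_right]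
  ring

lemma tau_sub_mem (r : ⨂[k] _ : Fin n, A) :
    reindexAlg k A n (Equiv.swap i j) r - r ∈ dI k A i j := by
  have h : (Ideal.Quotient.mkₐ k (dI k A i j)).comp (reindexAlg k A n (Equiv.swap i j)) =
      Ideal.Quotient.mkₐ k (dI k A i j) := by
    apply PiTensorProduct.algHom_ext
    intro l
    ext a
    simp only [AlgHom.coe_comp, Function.comp_apply, Ideal.Quotient.mkₐ_eq_mk]
    rw [reindexAlg_single, Ideal.Quotient.eq]
    by_cases hi : l = i
    · subst hi
      rw [Equiv.swap_apply_left]
      have : dgen k A l j a ∈ dI k A l j := Ideal.subset_span ⟨a, rfl⟩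
      have h2 := (dI k A l j).neg_mem this
      unfold dgen at h2
      rwa [neg_sub] at h2
    · by_cases hj : l = j
      · subst hj
        rw [Equiv.swap_apply_right]
        exact Ideal.subset_span ⟨a, rfl⟩
      · rw [Equiv.swap_apply_of_ne_of_ne hi hj, sub_self]
        exact Ideal.zero_mem _
  have := congrArg (fun f => f r) h
  simp only [AlgHom.coe_comp, Function.comp_apply, Ideal.Quotient.mkₐ_eq_mk] at this
  exact Ideal.Quotient.eq.mp this

lemma tau_add_mem_sq {d : ⨂[k] _ : Fin n, A} (hd : d ∈ dI k A i j) :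
    reindexAlg k A n (Equiv.swap i j) d + d ∈ (dI k A i j) ^ 2 := by
  unfold dI at hd
  induction hd using Submodule.span_induction with
  | mem x hx =>
    obtain ⟨a, rfl⟩ := hx
    rw [tau_dgen, neg_add_cancel]
    exact Ideal.zero_mem _
  | zero => simp
  | add x y _ _ hx hy =>
    rw [map_add]
    have : reindexAlg k A n (Equiv.swap i j) x + reindexAlg k A n (Equiv.swap i j) y + (x + y) =
        (reindexAlg k A n (Equiv.swap i j) x + x) + (reindexAlg k A n (Equiv.swap i j) y + y) := by
      ring
    rw [this]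
    exact Ideal.add_mem _ hx hy
  | smul r x hxm hx =>
    rw [smul_eq_mul, map_mul]
    have : reindexAlg k A n (Equiv.swap i j) r * reindexAlg k A n (Equiv.swap i j) x + r * x =
        reindexAlg k A n (Equiv.swap i j) r * (reindexAlg k A n (Equiv.swap i j) x + x) -
          (reindexAlg k A n (Equiv.swap i j) r - r) * x := by ring
    rw [this]
    refine Ideal.sub_mem _ (Ideal.mul_mem_left _ _ hx) ?_
    rw [pow_two]
    exact Ideal.mul_mem_mul (tau_sub_mem k A i j r) hxm

lemma tau_mem {d : ⨂[k] _ : Fin n, A} (hd : d ∈ dI k A i j) :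
    reindexAlg k A n (Equiv.swap i j) d ∈ dI k A i j := by
  have h1 := tau_add_mem_sq k A i j hd
  have h2 : (dI k A i j) ^ 2 ≤ dI k A i j := Ideal.pow_le_self (by norm_num)
  have : reindexAlg k A n (Equiv.swap i j) d =
      (reindexAlg k A n (Equiv.swap i j) d + d) - d := by ring
  rw [this]
  exact Ideal.sub_mem _ (h2 h1) hd

lemma tau_pow (s : ℕ) : ∀ {x : ⨂[k] _ : Fin n, A}, x ∈ (dI k A i j) ^ s →
    reindexAlg k A n (Equiv.swap i j) x - (-1) ^ s * x ∈ (dI k A i j) ^ (s + 1) := by
  induction s with
  | zero =>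
    intro x _
    rw [pow_zero, one_mul, zero_add, pow_one]
    exact tau_sub_mem k A i j x
  | succ s ih =>
    intro x hx
    rw [pow_succ'] at hx
    induction hx using Submodule.mul_induction_on' with
    | mem_mul_mem d hd y hy =>
      have e : reindexAlg k A n (Equiv.swap i j) (d * y) - (-1) ^ (s + 1) * (d * y) =
          reindexAlg k A n (Equiv.swap i j) d *
            (reindexAlg k A n (Equiv.swap i j) y - (-1) ^ s * y) +
          (-1) ^ s * ((reindexAlg k A n (Equiv.swap i j) d + d) * y) := by
        rw [map_mul, pow_succ]; ring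
      rw [e]
      refine Ideal.add_mem _ ?_ (Ideal.mul_mem_left _ _ ?_)
      · rw [pow_succ' _ (s + 1)]
        exact Ideal.mul_mem_mul (tau_mem k A i j hd) (ih hy)
      · have : (dI k A i j) ^ (s + 1 + 1) = (dI k A i j) ^ 2 * (dI k A i j) ^ s := by
          rw [← pow_add]; congr 1; omega
        rw [this]
        exact Ideal.mul_mem_mul (tau_add_mem_sq k A i j hd) hy
    | add x _ y _ hx hy =>
      have e : reindexAlg k A n (Equiv.swap i j) (x + y) - (-1) ^ (s + 1) * (x + y) =
          (reindexAlg k A n (Equiv.swap i j) x - (-1) ^ (s + 1) * x) +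
          (reindexAlg k A n (Equiv.swap i j) y - (-1) ^ (s + 1) * y) := by
        rw [map_add]; ring
      rw [e]
      exact Ideal.add_mem _ hx hy

theorem odd_to_even [CharZero k] (m : ℕ) (hm : 1 ≤ m) {x : ⨂[k] _ : Fin n, A}
    (hx : PiTensorProduct.reindex k (fun _ : Fin n => A) (Equiv.swap i j) x = x)
    (hmem : x ∈ (dI k A i j) ^ (2 * m - 1)) : x ∈ (dI k A i j) ^ (2 * m) := by
  have h := tau_pow k A i j (2 * m - 1) hmem
  rw [reindexAlg_apply, hx] at h
  have hodd : Odd (2 * m - 1) := by
    refine ⟨m - 1, by omega⟩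
  rw [hodd.neg_one_pow, neg_one_mul, sub_neg_eq_add, show 2 * m - 1 + 1 = 2 * m by omega] at h
  have h2 : x = algebraMap k (⨂[k] _ : Fin n, A) (1 / 2) * (x + x) := by
    rw [← two_mul, ← mul_assoc]
    have : algebraMap k (⨂[k] _ : Fin n, A) (1 / 2) * 2 = 1 := by
      rw [show (2 : ⨂[k] _ : Fin n, A) = algebraMap k _ 2 from (map_ofNat _ 2).symm, ← map_mul]
      rw [show (1 / 2 : k) * 2 = 1 by norm_num, map_one]
    rw [this, one_mul]
  rw [h2]
  exact Ideal.mul_mem_left _ _ h

end Groth.Agent.Helper28.DiagOdd
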