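import Mathlib
import Groth.Prelude.Def_RelProj3
import Groth.Agent.Lib.Helper28.ChartGlue
import Groth.Agent.Lib.Helper28.RelTwist

/-!
# The chart systems of the twisting sheaves and of the modules `ℳ(n)~` on a relative Proj (helper28)
-/

set_option autoImplicit false
universe u
open CategoryTheory CategoryTheory.Limits AlgebraicGeometry Opposite TopologicalSpace
open scoped HomogeneousIdeal

noncomputable section

namespace Groth.Agent.Helper28.RelSys

open ChartGlue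

section General

variable {Z X : Scheme.{u}}

lemma pushforward_res_inj (f : Z ⟶ X) (T : Z.Modules) (W W' : X.Opens) (h : W' ≤ W)
    (h2 : f ⁻¹ᵁ W ≤ f ⁻¹ᵁ W') :
    Function.Injective (rs ((Scheme.Modules.pushforward f).obj T) h) := by
  intro a b hab
  have ha : rs T h2 (rs T (f.preimage_mono h) a) = a := (rs_rs T _ _ a).trans (rs_self T _ a)
  have hb : rs T h2 (rs T (f.preimage_mono h) b) = b := (rs_rs T _ _ b).trans (rs_self T _ b)
  have key : rs T (f.preimage_mono h) a = rs T (f.preimage_mono h) b := hab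
  rw [← ha, key, hb]

end General

section Sections

variable {A σ : Type u} [CommRing A] [SetLike σ A] [AddSubgroupClass σ A] (𝒜 : ℕ → σ) [GradedRing 𝒜]

lemma twist_sec_ext (n : ℤ) {V : (Proj 𝒜).Opens} (b b' : Γ(GrTwist.twist 𝒜 n, V))
    (h : ∀ y : V, GrTwist.val b y = GrTwist.val b' y) : b = b' :=
  Subtype.ext (funext fun y => Subtype.ext (h y))

variable {M τ : Type u} [AddCommGroup M] [Module A M] [SetLike τ M] [AddSubgroupClass τ M]
  (ℳ : ℕ → τ) [SetLike.GradedSMul 𝒜 ℳ]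

lemma tilde_sec_ext (n : ℤ) {V : (Proj 𝒜).Opens} (b b' : Γ(GrMod.tilde 𝒜 ℳ n, V))
    (h : ∀ y : V, GrMod.val b y = GrMod.val b' y) : b = b' :=
  Subtype.ext (funext fun y => Subtype.ext (h y))

end Sections

variable {S : Scheme.{u}} (𝒮 : RelProj.QCGrAlg S) {P : Scheme.{u}} (p : P ⟶ S)
  (chart : ∀ (U : S.Opens) (hU : IsAffineOpen U),
    (((p ⁻¹ᵁ U : P.Opens) : Scheme.{u}) ≅ Proj (𝒮.deg U hU)))

/-- the affine opens of the base. -/
abbrev Aff (S : Scheme.{u}) : Type u := {U : S.Opens // IsAffineOpen U}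

/-- the basic open of an affine open. -/
abbrev bo (U : Aff S) (r : Γ(S, U.1)) : Aff S := ⟨S.basicOpen r, U.2.basicOpen r⟩

/-- `D` is a basic open of `U`. -/
def basic (U D : Aff S) : Prop := ∃ r : Γ(S, U.1), D = bo U r

lemma cover (x : P) : ∃ U : Aff S, x ∈ p ⁻¹ᵁ U.1 := by
  obtain ⟨_, ⟨V, hV, rfl⟩, hyV, -⟩ := S.isBasis_affineOpens.exists_subset_of_mem_open
    (Set.mem_univ (p.base x)) isOpen_univ
  exact ⟨⟨V, hV⟩, hyV⟩

lemma inter (U V : Aff S) (x : P) (hU : x ∈ p ⁻¹ᵁ U.1) (hV : x ∈ p ⁻¹ᵁ V.1) :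
    ∃ D : Aff S, basic U D ∧ basic V D ∧ x ∈ p ⁻¹ᵁ D.1 := by
  obtain ⟨f, g, hfg, hxf⟩ := exists_basicOpen_le_affine_inter U.2 V.2 (p.base x) ⟨hU, hV⟩
  exact ⟨bo U f, ⟨f, rfl⟩, ⟨g, Subtype.ext hfg⟩, hxf⟩

lemma emb_preimage_le (U : Aff S) (W W' : P.Opens) (h : W ⊓ p ⁻¹ᵁ U.1 ≤ W') :
    RelProj.emb p chart U.1 U.2 ⁻¹ᵁ W ≤ RelProj.emb p chart U.1 U.2 ⁻¹ᵁ W' := by
  intro y hy
  have h1 : (RelProj.emb p chart U.1 U.2).base y ∈ (RelProj.emb p chart U.1 U.2).opensRange :=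
    ⟨y, rfl⟩
  rw [RelTwist.opensRange_emb] at h1
  exact h ⟨hy, h1⟩

variable {𝒮 p chart}

lemma emb_comap_mem (hP : RelProj.IsRelProj 𝒮 p chart) (U : Aff S) (r : Γ(S, U.1)) (W : P.Opens)
    (y : ProjectiveSpectrum (𝒮.deg (S.basicOpen r) (U.2.basicOpen r)))
    (hy : (RelProj.emb p chart (S.basicOpen r) (U.2.basicOpen r)).base y ∈ W) :
    (RelProj.emb p chart U.1 U.2).base (ProjectiveSpectrum.comap
      (𝒮.res U.2 (U.2.basicOpen r) (S.basicOpen_le r)) (𝒮.irrelevant_le_map U.1 U.2 r) y) ∈ W := by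
  have e := RelProj.map_res_emb hP U.1 U.2 r
  have e2 : (RelProj.emb p chart U.1 U.2).base (ProjectiveSpectrum.comap
      (𝒮.res U.2 (U.2.basicOpen r) (S.basicOpen_le r)) (𝒮.irrelevant_le_map U.1 U.2 r) y) =
      (RelProj.emb p chart (S.basicOpen r) (U.2.basicOpen r)).base y := by
    rw [← e]; rfl
  rw [e2]; exact hy

variable (𝒮 p chart)

/-! ### The twisting sheaves -/

/-- the target modules of the twisting sheaf. -/
abbrev twN (n : ℤ) (U : Aff S) : P.Modules :=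
  (Scheme.Modules.pushforward (RelProj.emb p chart U.1 U.2)).obj (GrTwist.twist (𝒮.deg U.1 U.2) n)

/-- the transition relation of the twisting sheaves, for a basic open. -/
def twistRelAt (n : ℤ) (U : Aff S) (r : Γ(S, U.1)) (W : P.Opens)
    (a : Γ(twN 𝒮 p chart n U, W)) (b : Γ(twN 𝒮 p chart n (bo U r), W)) : Prop :=
  ∀ (y : ProjectiveSpectrum (𝒮.deg (S.basicOpen r) (U.2.basicOpen r)))
    (hy : (RelProj.emb p chart (S.basicOpen r) (U.2.basicOpen r)).base y ∈ W)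
    (hy' : (RelProj.emb p chart U.1 U.2).base (ProjectiveSpectrum.comap
      (𝒮.res U.2 (U.2.basicOpen r) (S.basicOpen_le r)) (𝒮.irrelevant_le_map U.1 U.2 r) y) ∈ W),
    GrTwist.val (V := RelProj.emb p chart (S.basicOpen r) (U.2.basicOpen r) ⁻¹ᵁ W) b ⟨y, hy⟩ =
      GrTwist.locMap (𝒮.res U.2 (U.2.basicOpen r) (S.basicOpen_le r))
        (𝒮.irrelevant_le_map U.1 U.2 r) y
        (GrTwist.val (V := RelProj.emb p chart U.1 U.2 ⁻¹ᵁ W) a ⟨_, hy'⟩)

variable {𝒮 p chart} in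
lemma twistRelAt_func (hP : RelProj.IsRelProj 𝒮 p chart) (n : ℤ) (U : Aff S) (r : Γ(S, U.1))
    (W : P.Opens) (a : Γ(twN 𝒮 p chart n U, W)) (b b' : Γ(twN 𝒮 p chart n (bo U r), W))
    (h1 : twistRelAt 𝒮 p chart n U r W a b) (h2 : twistRelAt 𝒮 p chart n U r W a b') : b = b' := by
  refine twist_sec_ext (𝒮.deg (S.basicOpen r) (U.2.basicOpen r)) n
    (V := RelProj.emb p chart (S.basicOpen r) (U.2.basicOpen r) ⁻¹ᵁ W) b b' (fun y => ?_)
  have hy' := emb_comap_mem hP U r W y.1 y.2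
  exact (h1 y.1 y.2 hy').trans (h2 y.1 y.2 hy').symm

/-- the chart system of the twisting sheaf `O_P(n)`. -/
def twistSys (hP : RelProj.IsRelProj 𝒮 p chart) (n : ℤ) : ChartSys P where
  ι := Aff S
  O U := p ⁻¹ᵁ U.1
  N U := twN 𝒮 p chart n U
  basic := basic
  Rel U D W a b := ∀ (r : Γ(S, U.1)) (_ : D = bo U r) (b' : Γ(twN 𝒮 p chart n (bo U r), W)),
    HEq b b' → twistRelAt 𝒮 p chart n U r W a b'
  func := by
    rintro U D ⟨r, e⟩ W - a b b' hab hab'
    subst e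
    exact twistRelAt_func hP n U r W a b b' (hab r rfl b HEq.rfl) (hab' r rfl b' HEq.rfl)
  cover := cover p
  inter := inter p
  res_inj U W W' h h' := pushforward_res_inj _ _ W W' h (emb_preimage_le 𝒮 p chart U W W' h')

variable {𝒮 p chart} in
theorem adapted_of_isRelTwist (hP : RelProj.IsRelProj 𝒮 p chart) {n : ℤ} {L : P.Modules}
    {lam : ∀ (U : S.Opens) (hU : IsAffineOpen U),
      L ⟶ (Scheme.Modules.pushforward (RelProj.emb p chart U hU)).obj
        (GrTwist.twist (𝒮.deg U hU) n)}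
    (hL : RelProj.IsRelTwist 𝒮 p chart n L lam) :
    Adapted (twistSys 𝒮 p chart hP n) L (fun U : Aff S => lam U.1 U.2) where
  bij := fun (U : Aff S) W hW => hL.bijective U.1 U.2 W hW
  compat := fun (U D : Aff S) _ W s r e b' hb' => by
    subst e
    obtain rfl := eq_of_heq hb'
    exact hL.compat U.1 U.2 r W s

/-! ### The modules `ℳ(n)~` -/

variable (ℳ : RelProj.GrModule 𝒮)

/-- the target modules of `ℳ(n)~`. -/
abbrev tdN (n : ℤ) (U : Aff S) : P.Modules :=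
  (Scheme.Modules.pushforward (RelProj.emb p chart U.1 U.2)).obj
    (GrMod.tilde (𝒮.deg U.1 U.2) (ℳ.deg U.1 U.2) n)

/-- the transition relation of the modules `ℳ(n)~`, for a basic open. -/
def tildeRelAt (n : ℤ) (U : Aff S) (r : Γ(S, U.1)) (W : P.Opens)
    (a : Γ(tdN 𝒮 p chart ℳ n U, W)) (b : Γ(tdN 𝒮 p chart ℳ n (bo U r), W)) : Prop :=
  ∀ (y : ProjectiveSpectrum (𝒮.deg (S.basicOpen r) (U.2.basicOpen r)))
    (hy : (RelProj.emb p chart (S.basicOpen r) (U.2.basicOpen r)).base y ∈ W)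
    (hy' : (RelProj.emb p chart U.1 U.2).base (ProjectiveSpectrum.comap
      (𝒮.res U.2 (U.2.basicOpen r) (S.basicOpen_le r)) (𝒮.irrelevant_le_map U.1 U.2 r) y) ∈ W),
    GrMod.val (V := RelProj.emb p chart (S.basicOpen r) (U.2.basicOpen r) ⁻¹ᵁ W) b ⟨y, hy⟩ =
      GrMod.locModMap (𝒮.res U.2 (U.2.basicOpen r) (S.basicOpen_le r))
        (𝒮.irrelevant_le_map U.1 U.2 r)
        (ℳ.res U.2 (U.2.basicOpen r) (S.basicOpen_le r)) y
        (GrMod.val (V := RelProj.emb p chart U.1 U.2 ⁻¹ᵁ W) a ⟨_, hy'⟩)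

variable {𝒮 p chart} in
lemma tildeRelAt_func (hP : RelProj.IsRelProj 𝒮 p chart) (n : ℤ) (U : Aff S) (r : Γ(S, U.1))
    (W : P.Opens) (a : Γ(tdN 𝒮 p chart ℳ n U, W)) (b b' : Γ(tdN 𝒮 p chart ℳ n (bo U r), W))
    (h1 : tildeRelAt 𝒮 p chart ℳ n U r W a b) (h2 : tildeRelAt 𝒮 p chart ℳ n U r W a b') :
    b = b' := by
  refine tilde_sec_ext (𝒮.deg (S.basicOpen r) (U.2.basicOpen r))
    (ℳ.deg (S.basicOpen r) (U.2.basicOpen r)) n
    (V := RelProj.emb p chart (S.basicOpen r) (U.2.basicOpen r) ⁻¹ᵁ W) b b' (fun y => ?_)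
  have hy' := emb_comap_mem hP U r W y.1 y.2
  exact (h1 y.1 y.2 hy').trans (h2 y.1 y.2 hy').symm

/-- the chart system of the module `ℳ(n)~`. -/
def tildeSys (hP : RelProj.IsRelProj 𝒮 p chart) (n : ℤ) : ChartSys P where
  ι := Aff S
  O U := p ⁻¹ᵁ U.1
  N U := tdN 𝒮 p chart ℳ n U
  basic := basic
  Rel U D W a b := ∀ (r : Γ(S, U.1)) (_ : D = bo U r) (b' : Γ(tdN 𝒮 p chart ℳ n (bo U r), W)),
    HEq b b' → tildeRelAt 𝒮 p chart ℳ n U r W a b'
  func := by
    rintro U D ⟨r, e⟩ W - a b b' hab hab'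
    subst e
    exact tildeRelAt_func ℳ hP n U r W a b b' (hab r rfl b HEq.rfl) (hab' r rfl b' HEq.rfl)
  cover := cover p
  inter := inter p
  res_inj U W W' h h' := pushforward_res_inj _ _ W W' h (emb_preimage_le 𝒮 p chart U W W' h')

variable {𝒮 p chart ℳ} in
theorem adapted_of_isRelTilde (hP : RelProj.IsRelProj 𝒮 p chart) {n : ℤ} {F : P.Modules}
    {lam : ∀ (U : S.Opens) (hU : IsAffineOpen U),
      F ⟶ (Scheme.Modules.pushforward (RelProj.emb p chart U hU)).obj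
        (GrMod.tilde (𝒮.deg U hU) (ℳ.deg U hU) n)}
    (hF : RelProj.IsRelTilde 𝒮 p chart ℳ n F lam) :
    Adapted (tildeSys 𝒮 p chart ℳ hP n) F (fun U : Aff S => lam U.1 U.2) where
  bij := fun (U : Aff S) W hW => hF.bijective U.1 U.2 W hW
  compat := fun (U D : Aff S) _ W s r e b' hb' => by
    subst e
    obtain rfl := eq_of_heq hb'
    exact hF.compat U.1 U.2 r W s

end Groth.Agent.Helper28.RelSys

end
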