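import Mathlib
import Groth.Prelude.Def_RelProj3
import Groth.Agent.Lib.Helper28.RelSys

/-!
# The morphism `(ℳ(n))~ ⟶ (𝒩(n))~` on a relative Proj induced by a graded homomorphism (helper28)
-/

set_option autoImplicit false
universe u
open CategoryTheory CategoryTheory.Limits AlgebraicGeometry Opposite TopologicalSpace
open scoped HomogeneousIdeal

noncomputable section

namespace Groth.Agent.Helper28.RelSys

open ChartGlue

section Alg

variable {A σ : Type u} [CommRing A] [SetLike σ A] [AddSubgroupClass σ A] {𝒜 : ℕ → σ} [GradedRing 𝒜]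
variable {B σ' : Type u} [CommRing B] [SetLike σ' B] [AddSubgroupClass σ' B] {ℬ : ℕ → σ'}
  [GradedRing ℬ]
variable {M M' : Type u} [AddCommGroup M] [Module A M] [AddCommGroup M'] [Module A M']
variable {N N' : Type u} [AddCommGroup N] [Module B N] [AddCommGroup N'] [Module B N']
variable (ψ : 𝒜 →+*ᵍ ℬ) (hψ : ℬ₊ ≤ (𝒜₊).map ψ) (v : M →ₛₗ[ψ.toRingHom] N)
  (v' : M' →ₛₗ[ψ.toRingHom] N') (u : M →ₗ[A] M') (u' : N →ₗ[B] N')

lemma locMap_locModMap (hcomm : ∀ m, u' (v m) = v' (u m)) (y : ProjectiveSpectrum ℬ)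
    (q : GrMod.LocMod 𝒜 (M := M) (ProjectiveSpectrum.comap ψ hψ y)) :
    GrMod.locMap u' y (GrMod.locModMap ψ hψ v y q) =
      GrMod.locModMap ψ hψ v' y (GrMod.locMap u (ProjectiveSpectrum.comap ψ hψ y) q) := by
  induction q using LocalizedModule.induction_on with
  | h m s =>
    rw [GrMod.locModMap_mk, GrMod.locMap_mk, GrMod.locMap_mk, GrMod.locModMap_mk, hcomm]

end Alg

variable {S : Scheme.{u}} {𝒮 : RelProj.QCGrAlg S} {P : Scheme.{u}} {p : P ⟶ S}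
  {chart : ∀ (U : S.Opens) (hU : IsAffineOpen U),
    (((p ⁻¹ᵁ U : P.Opens) : Scheme.{u}) ≅ Proj (𝒮.deg U hU))}
  {ℳ 𝒩 : RelProj.GrModule 𝒮}

/-- the component of a morphism of `𝒮`-modules over an affine open, as a linear map. -/
def uAt (u : ℳ.mod ⟶ 𝒩.mod) (U : Aff S) :
    ℳ.mod.val.obj (op U.1) →ₗ[𝒮.presheaf.obj (op U.1)] 𝒩.mod.val.obj (op U.1) :=
  (u.val.app (op U.1)).hom

/-- the chartwise composite `F ⟶ (emb U)_* (ℳ(U)(n))~ ⟶ (emb U)_* (𝒩(U)(n))~`. -/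
def thetaAt (u : ℳ.mod ⟶ 𝒩.mod) (hu : RelProj.IsGrModHom u) (n : ℤ) {F : P.Modules}
    (lam : ∀ (U : S.Opens) (hU : IsAffineOpen U),
      F ⟶ (Scheme.Modules.pushforward (RelProj.emb p chart U hU)).obj
        (GrMod.tilde (𝒮.deg U hU) (ℳ.deg U hU) n)) (U : Aff S) :
    F ⟶ tdN 𝒮 p chart 𝒩 n U :=
  lam U.1 U.2 ≫ (Scheme.Modules.pushforward (RelProj.emb p chart U.1 U.2)).map
    (GrMod.map (𝒮.deg U.1 U.2) (uAt u U) (hu U.1 U.2) n)

lemma thetaAt_val (u : ℳ.mod ⟶ 𝒩.mod) (hu : RelProj.IsGrModHom u) (n : ℤ) {F : P.Modules}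
    (lam : ∀ (U : S.Opens) (hU : IsAffineOpen U),
      F ⟶ (Scheme.Modules.pushforward (RelProj.emb p chart U hU)).obj
        (GrMod.tilde (𝒮.deg U hU) (ℳ.deg U hU) n)) (U : Aff S) (W : P.Opens) (s : Γ(F, W))
    (y : (RelProj.emb p chart U.1 U.2 ⁻¹ᵁ W : (Proj (𝒮.deg U.1 U.2)).Opens)) :
    GrMod.val (V := RelProj.emb p chart U.1 U.2 ⁻¹ᵁ W) ((thetaAt u hu n lam U).app W s) y =
      GrMod.locMap (uAt u U) y.1
        (GrMod.val (V := RelProj.emb p chart U.1 U.2 ⁻¹ᵁ W) ((lam U.1 U.2).app W s) y) := rfl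

theorem thetaAt_rel (hP : RelProj.IsRelProj 𝒮 p chart) (u : ℳ.mod ⟶ 𝒩.mod)
    (hu : RelProj.IsGrModHom u) (n : ℤ) {F : P.Modules}
    {lam : ∀ (U : S.Opens) (hU : IsAffineOpen U),
      F ⟶ (Scheme.Modules.pushforward (RelProj.emb p chart U hU)).obj
        (GrMod.tilde (𝒮.deg U hU) (ℳ.deg U hU) n)}
    (hF : RelProj.IsRelTilde 𝒮 p chart ℳ n F lam) (U D : Aff S) (W : P.Opens) (s : Γ(F, W)) :
    (tildeSys 𝒮 p chart 𝒩 hP n).Rel U D W ((thetaAt u hu n lam U).app W s)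
      ((thetaAt u hu n lam D).app W s) := by
  intro r e b' hb'
  subst e
  obtain rfl := eq_of_heq hb'
  unfold tildeRelAt
  intro y hy hy'
  have h1 := hF.compat U.1 U.2 r W s y hy hy'
  rw [thetaAt_val u hu n lam (bo U r) W s ⟨y, hy⟩, thetaAt_val u hu n lam U W s ⟨_, hy'⟩, h1]
  exact locMap_locModMap _ _ _ _ _ _
    (fun m => PresheafOfModules.naturality_apply u.val _ m) y _

/-- a degree-preserving homomorphism `u : ℳ ⟶ 𝒩` induces exactly one morphism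
`(ℳ(n))~ ⟶ (𝒩(n))~` compatible with the chartwise identifications. -/
theorem existsUnique_tildeMap (hP : RelProj.IsRelProj 𝒮 p chart) (u : ℳ.mod ⟶ 𝒩.mod)
    (hu : RelProj.IsGrModHom u) (n : ℤ) {F : P.Modules}
    {lam : ∀ (U : S.Opens) (hU : IsAffineOpen U),
      F ⟶ (Scheme.Modules.pushforward (RelProj.emb p chart U hU)).obj
        (GrMod.tilde (𝒮.deg U hU) (ℳ.deg U hU) n)}
    (hF : RelProj.IsRelTilde 𝒮 p chart ℳ n F lam) {G : P.Modules}
    {lam' : ∀ (U : S.Opens) (hU : IsAffineOpen U),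
      G ⟶ (Scheme.Modules.pushforward (RelProj.emb p chart U hU)).obj
        (GrMod.tilde (𝒮.deg U hU) (𝒩.deg U hU) n)}
    (hG : RelProj.IsRelTilde 𝒮 p chart 𝒩 n G lam') :
    ∃! ut : F ⟶ G, ∀ U : Aff S, ut ≫ lam' U.1 U.2 = thetaAt u hu n lam U := by
  have hG' := adapted_of_isRelTilde hP hG
  exact existsUnique_lift hG' F (thetaAt u hu n lam)
    (fun U D _ W s => thetaAt_rel hP u hu n hF U D W s)

end Groth.Agent.Helper28.RelSys

end
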