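import Mathlib
import Groth.Prelude.Def_RelProj3
import Groth.Agent.Lib.Helper28.RelSysMap
import Groth.Agent.Lib.Helper6.GrModFracA
import Groth.Agent.Lib.Helper13.QCohStalk

/-!
# (TN)-injective graded homomorphisms induce monomorphisms on the relative Proj (helper28)
-/

set_option autoImplicit false
universe u
open CategoryTheory CategoryTheory.Limits AlgebraicGeometry Opposite TopologicalSpace DirectSum
open scoped HomogeneousIdeal

noncomputable section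

namespace Groth.Agent.Helper28.RelSys

open ChartGlue Groth.Agent.Helper6.GrModFrac

section Alg

variable {A σ : Type u} [CommRing A] [SetLike σ A] [AddSubgroupClass σ A] (𝒜 : ℕ → σ) [GradedRing 𝒜]
variable {M τ : Type u} [AddCommGroup M] [Module A M] [SetLike τ M] [AddSubgroupClass τ M]
  (ℳ : ℕ → τ) [DirectSum.Decomposition ℳ] [SetLike.GradedSMul 𝒜 ℳ]
variable {N τ' : Type u} [AddCommGroup N] [Module A N] [SetLike τ' N] [AddSubgroupClass τ' N]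
  (𝒩 : ℕ → τ') [DirectSum.Decomposition 𝒩] [SetLike.GradedSMul 𝒜 𝒩]
variable (u : M →ₗ[A] N) (hu : ∀ (i : ℕ) (m : M), m ∈ ℳ i → u m ∈ 𝒩 i)

/-- an element outside a homogeneous prime has a homogeneous component outside it. -/
lemma exists_component_nmem (x : ProjectiveSpectrum 𝒜) (c : A) (hc : c ∉ x.asHomogeneousIdeal) :
    ∃ k, (decompose 𝒜 c k : A) ∉ x.asHomogeneousIdeal := by
  classical
  by_contra! H
  apply hc
  rw [← DirectSum.sum_support_decompose 𝒜 c]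
  exact x.asHomogeneousIdeal.toIdeal.sum_mem (fun k _ => H k)

include hu in
lemma mk_eq_zero_of_map (n₀ : ℕ) (hinj : ∀ k, n₀ ≤ k → ∀ m ∈ ℳ k, u m = 0 → m = 0)
    (x : ProjectiveSpectrum 𝒜) {i : ℕ} (m : M) (hm : m ∈ ℳ i)
    (t : x.asHomogeneousIdeal.toIdeal.primeCompl)
    (h : LocalizedModule.mk (u m) t = (0 : LocalizedModule x.asHomogeneousIdeal.toIdeal.primeCompl N)) :
    LocalizedModule.mk m t = (0 : LocalizedModule x.asHomogeneousIdeal.toIdeal.primeCompl M) := by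
  rw [← LocalizedModule.zero_mk 1, LocalizedModule.mk_eq] at h
  obtain ⟨c, hc⟩ := h
  have hc0 : (c : A) • u m = 0 := by
    have := hc
    simp only [one_smul, smul_zero] at this
    exact this
  have hcx : (c : A) ∉ x.asHomogeneousIdeal := c.2
  obtain ⟨k, hk⟩ := exists_component_nmem 𝒜 x c hcx
  have hck : (decompose 𝒜 (c : A) k : A) • u m = 0 :=
    mem_ann.1 (ann_isHomogeneous 𝒜 𝒩 (hu i m hm) k (mem_ann.2 hc0))
  obtain ⟨e, g, he, hg, hgx⟩ := RelTwist.exists_pos_nmem 𝒜 x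
  have hmem : (g ^ n₀ * (decompose 𝒜 (c : A) k : A)) • m ∈ ℳ (n₀ • e + k + i) := by
    have h1 : g ^ n₀ * (decompose 𝒜 (c : A) k : A) ∈ 𝒜 (n₀ • e + k) :=
      SetLike.mul_mem_graded (SetLike.pow_mem_graded n₀ hg) (decompose 𝒜 (c : A) k).2
    exact SetLike.GradedSMul.smul_mem h1 hm
  have hzero : (g ^ n₀ * (decompose 𝒜 (c : A) k : A)) • m = 0 := by
    apply hinj _ _ _ hmem
    · rw [map_smul, mul_smul, hck, smul_zero]
    · have : n₀ ≤ n₀ • e := by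
        rw [smul_eq_mul]
        exact Nat.le_mul_of_pos_right n₀ he
      omega
  have hprime : x.asHomogeneousIdeal.toIdeal.IsPrime := x.isPrime
  have hw : g ^ n₀ * (decompose 𝒜 (c : A) k : A) ∈ x.asHomogeneousIdeal.toIdeal.primeCompl := by
    intro hin
    rcases hprime.mem_or_mem hin with h1 | h1
    · exact hgx (hprime.mem_of_pow_mem n₀ h1)
    · exact hk h1
  rw [← LocalizedModule.zero_mk 1, LocalizedModule.mk_eq]
  refine ⟨⟨_, hw⟩, ?_⟩
  simp only [one_smul, smul_zero]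
  exact hzero

include hu in
theorem mapApp_injective (n₀ : ℕ) (hinj : ∀ k, n₀ ≤ k → ∀ m ∈ ℳ k, u m = 0 → m = 0) (n : ℤ)
    (V : (Opens (ProjectiveSpectrum.top 𝒜))ᵒᵖ) :
    Function.Injective (GrMod.mapApp (ℳ := ℳ) (𝒩 := 𝒩) u hu n V) := by
  rw [injective_iff_map_eq_zero]
  intro s hs
  refine Subtype.ext (funext fun x => Subtype.ext ?_)
  obtain ⟨V'', hxV, iV, i, j, ⟨m, hm⟩, ⟨t, ht⟩, nin, -, w⟩ := s.2 x
  have hw : (s.1 x).1 = LocalizedModule.mk m ⟨t, nin ⟨x.1, hxV⟩⟩ := w ⟨x.1, hxV⟩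
  have h1 : GrMod.locMap u x.1 (s.1 x).1 = 0 := congrArg (fun f => (f.1 x).1) hs
  rw [hw, GrMod.locMap_mk] at h1
  have h2 := mk_eq_zero_of_map 𝒜 ℳ 𝒩 u hu n₀ hinj x.1 m hm _ h1
  rw [hw, h2]
  rfl

end Alg

variable {S : Scheme.{u}} {𝒮 : RelProj.QCGrAlg S} {P : Scheme.{u}} {p : P ⟶ S}
  {chart : ∀ (U : S.Opens) (hU : IsAffineOpen U),
    (((p ⁻¹ᵁ U : P.Opens) : Scheme.{u}) ≅ Proj (𝒮.deg U hU))}
  {ℳ 𝒩 : RelProj.GrModule 𝒮}

/-- a (TN)-injective homomorphism induces a monomorphism. -/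
theorem mono_tildeMap (hP : RelProj.IsRelProj 𝒮 p chart) (u : ℳ.mod ⟶ 𝒩.mod)
    (hu : RelProj.IsGrModHom u)
    (hinj : ∃ n₀ : ℕ, ∀ (U : S.Opens) (hU : IsAffineOpen U) (k : ℕ), n₀ ≤ k →
      ∀ m ∈ ℳ.deg U hU k, (u.val.app (op U)).hom m = 0 → m = 0)
    (n : ℤ) {F : P.Modules}
    {lam : ∀ (U : S.Opens) (hU : IsAffineOpen U),
      F ⟶ (Scheme.Modules.pushforward (RelProj.emb p chart U hU)).obj
        (GrMod.tilde (𝒮.deg U hU) (ℳ.deg U hU) n)}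
    (hF : RelProj.IsRelTilde 𝒮 p chart ℳ n F lam) {G : P.Modules}
    {lam' : ∀ (U : S.Opens) (hU : IsAffineOpen U),
      G ⟶ (Scheme.Modules.pushforward (RelProj.emb p chart U hU)).obj
        (GrMod.tilde (𝒮.deg U hU) (𝒩.deg U hU) n)}
    (ut : F ⟶ G) (hut : ∀ U : Aff S, ut ≫ lam' U.1 U.2 = thetaAt u hu n lam U) : Mono ut := by
  obtain ⟨n₀, hn₀⟩ := hinj
  have hF' := adapted_of_isRelTilde hP hF
  rw [Groth.Agent.Helper13.QCoh.mono_iff_app_injective]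
  intro V
  rw [injective_iff_map_eq_zero]
  intro s hs
  refine sec_ext_charts hF' _ _ (fun (U : Aff S) => ?_)
  change (lam U.1 U.2).app (V ⊓ p ⁻¹ᵁ U.1) (rs F inf_le_left s) =
    (lam U.1 U.2).app (V ⊓ p ⁻¹ᵁ U.1) (rs F inf_le_left 0)
  have e1 : (thetaAt u hu n lam U).app _ (rs F (inf_le_left : V ⊓ p ⁻¹ᵁ U.1 ≤ V) s) = 0 := by
    rw [← hut U]
    change (lam' U.1 U.2).app _ (ut.app _ (rs F _ s)) = 0
    rw [app_rs, hs]
    simp only [map_zero]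
  have e2 : GrMod.mapApp (uAt u U) (hu U.1 U.2) n
      (op (RelProj.emb p chart U.1 U.2 ⁻¹ᵁ (V ⊓ p ⁻¹ᵁ U.1)))
      ((lam U.1 U.2).app _ (rs F (inf_le_left : V ⊓ p ⁻¹ᵁ U.1 ≤ V) s)) = 0 := e1
  have e3 := mapApp_injective (𝒮.deg U.1 U.2) (ℳ.deg U.1 U.2) (𝒩.deg U.1 U.2) (uAt u U)
    (hu U.1 U.2) n₀ (hn₀ U.1 U.2) n _ (e2.trans (map_zero _).symm)
  rw [e3]
  simp only [map_zero]
  rfl

end Groth.Agent.Helper28.RelSys

end
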