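import Mathlib
import Groth.Prelude.Def_RelProj3
import Groth.Agent.Lib.Helper28.RelTildeInj

/-!
# (TN)-surjective graded homomorphisms induce epimorphisms on the relative Proj (helper28)
-/

set_option autoImplicit false
universe u
open CategoryTheory CategoryTheory.Limits AlgebraicGeometry Opposite TopologicalSpace DirectSum
open scoped HomogeneousIdeal

noncomputable section

namespace Groth.Agent.Helper28.RelSys

open ChartGlue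

section General

variable {X : Scheme.{u}}

theorem epi_of_locally_surjective {F N : X.Modules} (φ : F ⟶ N)
    (h : ∀ (V : X.Opens) (t : Γ(N, V)) (y : X), y ∈ V → ∃ (W : X.Opens) (hW : W ≤ V), y ∈ W ∧
      ∃ s : Γ(F, W), φ.app W s = rs N hW t) : Epi φ := by
  constructor
  intro Q g g' hgg
  apply Scheme.Modules.hom_ext
  intro V
  ext t
  apply sec_ext
  intro y hy
  obtain ⟨W, hW, hyW, s, hs⟩ := h V t y hy
  refine ⟨W, hW, hyW, ?_⟩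
  rw [← app_rs, ← app_rs, ← hs]
  change (φ ≫ g).app W s = (φ ≫ g').app W s
  rw [hgg]

end General

section Alg

variable {A σ : Type u} [CommRing A] [SetLike σ A] [AddSubgroupClass σ A] (𝒜 : ℕ → σ) [GradedRing 𝒜]
variable {M τ : Type u} [AddCommGroup M] [Module A M] [SetLike τ M] [AddSubgroupClass τ M]
  (ℳ : ℕ → τ) [SetLike.GradedSMul 𝒜 ℳ]
variable {N τ' : Type u} [AddCommGroup N] [Module A N] [SetLike τ' N] [AddSubgroupClass τ' N]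
  (𝒩 : ℕ → τ') [SetLike.GradedSMul 𝒜 𝒩]
variable (u : M →ₗ[A] N) (hu : ∀ (i : ℕ) (m : M), m ∈ ℳ i → u m ∈ 𝒩 i)

/-- the section `m / t` over an open where `t` vanishes nowhere. -/
def fracSec (n : ℤ) (V : Opens (ProjectiveSpectrum.top 𝒜)) {i j : ℕ} (m : ℳ i) (t : 𝒜 j)
    (nin : ∀ y : V, (t : A) ∉ y.1.asHomogeneousIdeal) (hij : (i : ℤ) = j + n) :
    GrMod.sect 𝒜 ℳ n (op V) :=
  ⟨fun y => ⟨LocalizedModule.mk (m : M) ⟨(t : A), nin y⟩,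
      Submodule.subset_span ⟨i, j, m, t, nin y, hij, rfl⟩⟩,
   fun y => ⟨V, y.2, 𝟙 _, i, j, m, t, nin, Or.inl hij, fun _ => rfl⟩⟩

include hu in
theorem exists_local_lift (n₀ : ℕ) (hsurj : ∀ k, n₀ ≤ k → ∀ m' ∈ 𝒩 k, ∃ m ∈ ℳ k, u m = m')
    (n : ℤ) (V₀ : Opens (ProjectiveSpectrum.top 𝒜)) (b : GrMod.sect 𝒜 𝒩 n (op V₀))
    (x : ProjectiveSpectrum 𝒜) (hx : x ∈ V₀) :
    ∃ (V₁ : Opens (ProjectiveSpectrum.top 𝒜)) (hV : V₁ ≤ V₀), x ∈ V₁ ∧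
      ∃ a : GrMod.sect 𝒜 ℳ n (op V₁),
        ∀ z : V₁, GrMod.locMap u z.1 (a.1 z).1 = (b.1 ⟨z.1, hV z.2⟩).1 := by
  obtain ⟨V'', hxV, iV, i, j, ⟨n', hn'⟩, ⟨t', ht'⟩, nin, hor, w⟩ := b.2 ⟨x, hx⟩
  rcases hor with hij | h0
  · obtain ⟨e, g, he, hg, hgx⟩ := RelTwist.exists_pos_nmem 𝒜 x
    have hgn : g ^ n₀ • n' ∈ 𝒩 (n₀ • e + i) :=
      SetLike.GradedSMul.smul_mem (SetLike.pow_mem_graded n₀ hg) hn'
    have hle : n₀ ≤ n₀ • e + i := by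
      have : n₀ ≤ n₀ • e := by
        rw [smul_eq_mul]
        exact Nat.le_mul_of_pos_right n₀ he
      omega
    obtain ⟨m, hm, hum⟩ := hsurj _ hle _ hgn
    have hgt : g ^ n₀ * t' ∈ 𝒜 (n₀ • e + j) :=
      SetLike.mul_mem_graded (SetLike.pow_mem_graded n₀ hg) ht'
    have nin' : ∀ z : (V'' ⊓ ProjectiveSpectrum.basicOpen 𝒜 g : Opens (ProjectiveSpectrum.top 𝒜)),
        (g ^ n₀ * t') ∉ z.1.asHomogeneousIdeal := by
      intro z hin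
      have hprime : z.1.asHomogeneousIdeal.toIdeal.IsPrime := z.1.isPrime
      rcases hprime.mem_or_mem hin with h1 | h1
      · exact ((ProjectiveSpectrum.mem_basicOpen 𝒜 g z.1).1 z.2.2) (hprime.mem_of_pow_mem n₀ h1)
      · exact nin ⟨z.1, z.2.1⟩ h1
    have hdeg : ((n₀ • e + i : ℕ) : ℤ) = ((n₀ • e + j : ℕ) : ℤ) + n := by
      push_cast
      change (i : ℤ) = (j : ℤ) + n at hij
      omega
    refine ⟨V'' ⊓ ProjectiveSpectrum.basicOpen 𝒜 g, fun z hz => iV.le hz.1,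
      ⟨hxV, (ProjectiveSpectrum.mem_basicOpen 𝒜 g x).2 hgx⟩,
      fracSec 𝒜 ℳ n _ ⟨m, hm⟩ ⟨g ^ n₀ * t', hgt⟩ nin' hdeg, ?_⟩
    intro z
    have hw : (b.1 ⟨z.1, iV.le z.2.1⟩).1 = LocalizedModule.mk n' ⟨t', nin ⟨z.1, z.2.1⟩⟩ :=
      w ⟨z.1, z.2.1⟩
    change GrMod.locMap u z.1 (LocalizedModule.mk m ⟨g ^ n₀ * t', nin' z⟩) = _
    rw [GrMod.locMap_mk, hum]
    refine Eq.trans ?_ hw.symm
    rw [LocalizedModule.mk_eq]
    refine ⟨1, ?_⟩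
    simp only [one_smul, Submonoid.smul_def]
    rw [mul_smul, smul_comm]
  · refine ⟨V'', iV.le, hxV, 0, ?_⟩
    intro z
    have hw : (b.1 ⟨z.1, iV.le z.2⟩).1 = LocalizedModule.mk n' ⟨t', nin z⟩ := w z
    change (n' : N) = 0 at h0
    rw [h0, LocalizedModule.zero_mk] at hw
    change GrMod.locMap u z.1 0 = _
    rw [hw]
    exact map_zero _

end Alg

variable {S : Scheme.{u}} {𝒮 : RelProj.QCGrAlg S} {P : Scheme.{u}} {p : P ⟶ S}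
  {chart : ∀ (U : S.Opens) (hU : IsAffineOpen U),
    (((p ⁻¹ᵁ U : P.Opens) : Scheme.{u}) ≅ Proj (𝒮.deg U hU))}
  {ℳ 𝒩 : RelProj.GrModule 𝒮}

/-- a (TN)-surjective homomorphism induces an epimorphism. -/
theorem epi_tildeMap (u : ℳ.mod ⟶ 𝒩.mod)
    (hu : RelProj.IsGrModHom u)
    (hsurj : ∃ n₀ : ℕ, ∀ (U : S.Opens) (hU : IsAffineOpen U) (k : ℕ), n₀ ≤ k →
      ∀ m' ∈ 𝒩.deg U hU k, ∃ m ∈ ℳ.deg U hU k, (u.val.app (op U)).hom m = m')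
    (n : ℤ) {F : P.Modules}
    {lam : ∀ (U : S.Opens) (hU : IsAffineOpen U),
      F ⟶ (Scheme.Modules.pushforward (RelProj.emb p chart U hU)).obj
        (GrMod.tilde (𝒮.deg U hU) (ℳ.deg U hU) n)}
    (hF : RelProj.IsRelTilde 𝒮 p chart ℳ n F lam) {G : P.Modules}
    {lam' : ∀ (U : S.Opens) (hU : IsAffineOpen U),
      G ⟶ (Scheme.Modules.pushforward (RelProj.emb p chart U hU)).obj
        (GrMod.tilde (𝒮.deg U hU) (𝒩.deg U hU) n)}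
    (hG : RelProj.IsRelTilde 𝒮 p chart 𝒩 n G lam')
    (ut : F ⟶ G) (hut : ∀ U : Aff S, ut ≫ lam' U.1 U.2 = thetaAt u hu n lam U) : Epi ut := by
  obtain ⟨n₀, hn₀⟩ := hsurj
  apply epi_of_locally_surjective
  intro V t y hy
  obtain ⟨U, hyU⟩ := cover p y
  have hyR : y ∈ (RelProj.emb p chart U.1 U.2).opensRange := by
    rw [RelTwist.opensRange_emb]; exact hyU
  obtain ⟨y', rfl⟩ := hyR
  obtain ⟨V₁, hV₁, hxV₁, a, ha⟩ := exists_local_lift (𝒮.deg U.1 U.2) (ℳ.deg U.1 U.2)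
    (𝒩.deg U.1 U.2) (uAt u U) (hu U.1 U.2) n₀ (hn₀ U.1 U.2) n
    (RelProj.emb p chart U.1 U.2 ⁻¹ᵁ (V ⊓ p ⁻¹ᵁ U.1))
    ((lam' U.1 U.2).app (V ⊓ p ⁻¹ᵁ U.1) (rs G inf_le_left t)) y' ⟨hy, hyU⟩
  have hWW₀ : RelProj.emb p chart U.1 U.2 ''ᵁ V₁ ≤ V ⊓ p ⁻¹ᵁ U.1 := by
    rintro _ ⟨z, hz, rfl⟩
    exact hV₁ hz
  have hle : RelProj.emb p chart U.1 U.2 ⁻¹ᵁ RelProj.emb p chart U.1 U.2 ''ᵁ V₁ ≤ V₁ :=
    le_of_eq ((RelProj.emb p chart U.1 U.2).preimage_image_eq V₁)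
  obtain ⟨s, hs⟩ := (hF.bijective U.1 U.2 (RelProj.emb p chart U.1 U.2 ''ᵁ V₁)
    (hWW₀.trans inf_le_right)).2
    (GrMod.res (𝒮.deg U.1 U.2) (ℳ.deg U.1 U.2) n (homOfLE hle).op a)
  refine ⟨RelProj.emb p chart U.1 U.2 ''ᵁ V₁, hWW₀.trans inf_le_left, ⟨y', hxV₁, rfl⟩, s, ?_⟩
  apply (hG.bijective U.1 U.2 (RelProj.emb p chart U.1 U.2 ''ᵁ V₁)
    (hWW₀.trans inf_le_right)).1
  have e1 : (lam' U.1 U.2).app _ (ut.app _ s) = (thetaAt u hu n lam U).app _ s := by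
    rw [← hut U]; rfl
  rw [e1]
  have e2 : rs G (hWW₀.trans inf_le_left) t = rs G hWW₀ (rs G inf_le_left t) :=
    (rs_rs G _ _ t).symm
  rw [e2, app_rs]
  refine tilde_sec_ext _ _ n
    (V := RelProj.emb p chart U.1 U.2 ⁻¹ᵁ RelProj.emb p chart U.1 U.2 ''ᵁ V₁) _ _ (fun z => ?_)
  rw [thetaAt_val, hs]
  exact ha ⟨z.1, hle z.2⟩

end Groth.Agent.Helper28.RelSys

end
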