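import Mathlib
import Groth.Prelude.Def_RelProj3
import Groth.Agent.Lib.Helper28.RelTildeSurj
import Groth.Agent.Lib.Helper28.GrTwistMul
import Groth.Agent.Lib.Helper13.FreeMod

/-!
# `O_P(nd)` is trivial on `X_f`, `f` a global section of degree `d` (helper28)
-/

set_option autoImplicit false
universe u
open CategoryTheory CategoryTheory.Limits AlgebraicGeometry Opposite TopologicalSpace DirectSum
open scoped HomogeneousIdeal

noncomputable section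

namespace Groth.Agent.Helper28.RelSys

open ChartGlue GrTwist Groth.Agent.Helper28.GrTwistMul

section General

variable {X : Scheme.{u}}

theorem isIso_of_locally_bijective {M N : X.Modules} (φ : M ⟶ N)
    (h : ∀ x : X, ∃ V : X.Opens, x ∈ V ∧
      ∀ V' : X.Opens, V' ≤ V → Function.Bijective (φ.app V')) : IsIso φ := by
  have hm : Mono φ := by
    rw [Groth.Agent.Helper13.QCoh.mono_iff_app_injective]
    intro V a b hab
    apply sec_ext
    intro x hx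
    obtain ⟨V₀, hxV₀, hV₀⟩ := h x
    refine ⟨V ⊓ V₀, inf_le_left, ⟨hx, hxV₀⟩, ?_⟩
    apply (hV₀ _ inf_le_right).1
    rw [app_rs, app_rs, hab]
  have he : Epi φ := by
    apply epi_of_locally_surjective
    intro V t y hy
    obtain ⟨V₀, hyV₀, hV₀⟩ := h y
    obtain ⟨s, hs⟩ := (hV₀ (V ⊓ V₀) inf_le_right).2 (rs N inf_le_left t)
    exact ⟨V ⊓ V₀, inf_le_left, ⟨hy, hyV₀⟩, s, hs⟩
  exact isIso_of_mono_of_epi φ

end General

section Alg

variable {A σ : Type u} [CommRing A] [SetLike σ A] [AddSubgroupClass σ A] (𝒜 : ℕ → σ) [GradedRing 𝒜]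

/-- the section `a / s` of `O(n)` over an open where `s` vanishes nowhere. -/
def twFrac (n : ℤ) (V : Opens (ProjectiveSpectrum.top 𝒜)) {i j : ℕ} (a : 𝒜 i) (s : 𝒜 j)
    (nin : ∀ y : V, (s : A) ∉ y.1.asHomogeneousIdeal) (hij : (i : ℤ) = j + n) :
    sectN (𝒜 := 𝒜) n (op V) :=
  ⟨fun y => ⟨Localization.mk (a : A) ⟨(s : A), nin y⟩,
      Submodule.subset_span ⟨i, j, a, s, nin y, hij, rfl⟩⟩,
   fun y => ⟨V, y.2, 𝟙 _, i, j, a, s, nin, Or.inl hij, fun _ => rfl⟩⟩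

theorem twFrac_val (n : ℤ) (V : Opens (ProjectiveSpectrum.top 𝒜)) {i j : ℕ} (a : 𝒜 i) (s : 𝒜 j)
    (nin : ∀ y : V, (s : A) ∉ y.1.asHomogeneousIdeal) (hij : (i : ℤ) = j + n) (y : V) :
    ((twFrac 𝒜 n V a s nin hij).1 y).1 = Localization.mk (a : A) ⟨(s : A), nin y⟩ := rfl

theorem smul_twFrac_bijective {d : ℕ} {f : A} (hf : f ∈ 𝒜 d) (n : ℤ) (a b : ℕ)
    (V : Opens (ProjectiveSpectrum.top 𝒜)) (hV : ∀ y : V, f ∉ y.1.asHomogeneousIdeal)
    (nin : ∀ y : V, f ^ a ∉ y.1.asHomogeneousIdeal)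
    (hij : ((b • d : ℕ) : ℤ) = ((a • d : ℕ) : ℤ) + n * d) :
    Function.Bijective (fun c : O (𝒜 := 𝒜) (op V) =>
      (c • twFrac 𝒜 (n * d) V ⟨f ^ b, SetLike.pow_mem_graded b hf⟩
        ⟨f ^ a, SetLike.pow_mem_graded a hf⟩ nin hij : sectN (𝒜 := 𝒜) (n * d) (op V))) := by
  have hprime : ∀ y : V, y.1.asHomogeneousIdeal.toIdeal.IsPrime := fun y => y.1.isPrime
  have hVa : ∀ y : V, f ^ a ∉ y.1.asHomogeneousIdeal := nin
  have hVb : ∀ y : V, f ^ b ∉ y.1.asHomogeneousIdeal :=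
    fun y h => hV y ((hprime y).mem_of_pow_mem b h)
  have ha : ((b • d : ℕ) : ℤ) = n * d + ((a • d : ℕ) : ℤ) := by rw [hij]; ring
  have hb : ((b • d : ℕ) : ℤ) = 0 + ((b • d : ℕ) : ℤ) := (zero_add _).symm
  have hμa := mulSec_bijective (SetLike.pow_mem_graded a hf) ha V hVa
  have hμb := mulSec_bijective (SetLike.pow_mem_graded b hf) hb V hVb
  have hone := smul_oneSec_bijective (𝒜 := 𝒜) (op V)
  have key : mulSec (SetLike.pow_mem_graded a hf) ha (op V)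
      (twFrac 𝒜 (n * d) V ⟨f ^ b, SetLike.pow_mem_graded b hf⟩
        ⟨f ^ a, SetLike.pow_mem_graded a hf⟩ nin hij) =
      mulSec (SetLike.pow_mem_graded b hf) hb (op V) (oneSec (op V)) := by
    apply Subtype.ext
    funext y
    apply Subtype.ext
    rw [mulSec_val, mulSec_val, twFrac_val]
    change algebraMap A (Loc 𝒜 y.1) (f ^ a) * Localization.mk (f ^ b) ⟨f ^ a, nin y⟩ =
      algebraMap A (Loc 𝒜 y.1) (f ^ b) * 1
    rw [mul_one, Localization.mk_eq_mk', mul_comm]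
    exact IsLocalization.mk'_spec _ _ _
  have key2 : ∀ c : O (𝒜 := 𝒜) (op V),
      mulSec (SetLike.pow_mem_graded a hf) ha (op V)
        (c • twFrac 𝒜 (n * d) V ⟨f ^ b, SetLike.pow_mem_graded b hf⟩
          ⟨f ^ a, SetLike.pow_mem_graded a hf⟩ nin hij) =
      mulSec (SetLike.pow_mem_graded b hf) hb (op V) (c • oneSec (op V)) := by
    intro c
    rw [mulSec_smul, mulSec_smul, key]
  constructor
  · intro c c' hcc
    apply hone.1
    apply hμb.1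
    change mulSec _ hb (op V) (c • oneSec (op V)) = mulSec _ hb (op V) (c' • oneSec (op V))
    rw [← key2, ← key2]
    exact congrArg _ hcc
  · intro t
    obtain ⟨t₀, ht₀⟩ := hμb.2 (mulSec (SetLike.pow_mem_graded a hf) ha (op V) t)
    obtain ⟨c, hc⟩ := hone.2 t₀
    refine ⟨c, ?_⟩
    apply hμa.1
    change mulSec _ ha (op V) (c • twFrac 𝒜 (n * d) V _ _ nin hij) = _
    rw [key2]
    have hc' : (c • oneSec (op V) : sectN (𝒜 := 𝒜) 0 (op V)) = t₀ := hc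
    rw [hc', ht₀]

end Alg

variable {S : Scheme.{u}} {𝒮 : RelProj.QCGrAlg S} {P : Scheme.{u}} {p : P ⟶ S}
  {chart : ∀ (U : S.Opens) (hU : IsAffineOpen U),
    (((p ⁻¹ᵁ U : P.Opens) : Scheme.{u}) ≅ Proj (𝒮.deg U hU))}

/-- restriction of a global section of `𝒮` to an affine open. -/
def fAt (f : 𝒮.presheaf.obj (op ⊤)) (U : Aff S) : 𝒮.presheaf.obj (op U.1) :=
  (𝒮.presheaf.map (homOfLE le_top).op).hom f

lemma res_fAt (f : 𝒮.presheaf.obj (op ⊤)) (U : Aff S) (r : Γ(S, U.1)) :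
    𝒮.res U.2 (U.2.basicOpen r) (S.basicOpen_le r) (fAt f U) = fAt f (bo U r) := by
  rw [RelProj.QCGrAlg.res_apply]
  change (𝒮.presheaf.map (homOfLE _).op).hom ((𝒮.presheaf.map (homOfLE _).op).hom f) = _
  rw [← CommRingCat.comp_apply, ← Functor.map_comp]
  rfl

section Xf

variable (f : 𝒮.presheaf.obj (op ⊤)) (Xf : P.Opens)
  (hXf : ∀ (U : S.Opens) (hU : IsAffineOpen U),
    Xf ⊓ p ⁻¹ᵁ U =
      (p ⁻¹ᵁ U).ι ''ᵁ ((chart U hU).hom ⁻¹ᵁ
        Proj.basicOpen (𝒮.deg U hU) ((𝒮.presheaf.map (homOfLE le_top).op).hom f)))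

include hXf in
lemma nmem_of_emb_mem (U : Aff S) (y : Proj (𝒮.deg U.1 U.2))
    (hy : (RelProj.emb p chart U.1 U.2).base y ∈ Xf) : fAt f U ∉ y.asHomogeneousIdeal := by
  have h0 : (RelProj.emb p chart U.1 U.2).base y ∈ (RelProj.emb p chart U.1 U.2).opensRange :=
    ⟨y, rfl⟩
  rw [RelTwist.opensRange_emb] at h0
  have h1 : (RelProj.emb p chart U.1 U.2).base y ∈ Xf ⊓ p ⁻¹ᵁ U.1 := ⟨hy, h0⟩
  rw [hXf U.1 U.2] at h1
  obtain ⟨z, hz, hzy⟩ := h1
  have hinj := (p ⁻¹ᵁ U.1).ι.isOpenEmbedding.injective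
  have hz' : z = (chart U.1 U.2).inv.base y := hinj hzy
  subst hz'
  have h2 : (chart U.1 U.2).hom.base ((chart U.1 U.2).inv.base y) = y :=
    congrArg (fun g => g.base y) (chart U.1 U.2).inv_hom_id
  have hz2 : (chart U.1 U.2).hom.base ((chart U.1 U.2).inv.base y) ∈
      Proj.basicOpen (𝒮.deg U.1 U.2) (fAt f U) := hz
  rw [h2] at hz2
  exact (Proj.mem_basicOpen _ _ _).1 hz2

variable (hP : RelProj.IsRelProj 𝒮 p chart) {d : ℕ}
  (hf : ∀ (U : S.Opens) (hU : IsAffineOpen U),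
    (𝒮.presheaf.map (homOfLE le_top).op).hom f ∈ 𝒮.deg U hU d)

include hXf in
lemma pow_nmem (U : Aff S) (W' : P.Opens) (h1 : W' ≤ Xf.ι ''ᵁ ⊤) (k : ℕ)
    (y : (RelProj.emb p chart U.1 U.2 ⁻¹ᵁ W' : (Proj (𝒮.deg U.1 U.2)).Opens)) :
    fAt f U ^ k ∉ y.1.asHomogeneousIdeal := by
  intro h
  have hprime : y.1.asHomogeneousIdeal.toIdeal.IsPrime := y.1.isPrime
  have hy : (RelProj.emb p chart U.1 U.2).base y.1 ∈ Xf := Xf.ι_image_le ⊤ (h1 y.2)
  exact nmem_of_emb_mem f Xf hXf U y.1 hy (hprime.mem_of_pow_mem k h)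

lemma deg_eq (n : ℤ) (d : ℕ) :
    ((n.toNat • d : ℕ) : ℤ) = (((-n).toNat • d : ℕ) : ℤ) + n * d := by
  have := Int.toNat_sub_toNat_neg n
  simp only [smul_eq_mul]
  push_cast
  linear_combination (d : ℤ) * this

/-- the compatible family `f^n` on `X_f`. -/
def xfFam (n : ℤ) : Fam (twistSys 𝒮 p chart hP (n * d)) (Xf.ι ''ᵁ ⊤) where
  c := fun (U : Aff S) W' h1 _ => twFrac (𝒮.deg U.1 U.2) (n * d)
    (RelProj.emb p chart U.1 U.2 ⁻¹ᵁ W')
    ⟨fAt f U ^ n.toNat, SetLike.pow_mem_graded _ (hf U.1 U.2)⟩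
    ⟨fAt f U ^ (-n).toNat, SetLike.pow_mem_graded _ (hf U.1 U.2)⟩
    (pow_nmem f Xf hXf U W' h1 _) (deg_eq n d)
  res := fun (U : Aff S) W' W'' h1 h2 h => rfl
  rel := fun (U D : Aff S) _ W' h1 hi hk r e b' hb' => by
    subst e
    obtain rfl := eq_of_heq hb'
    intro y hy hy'
    change Localization.mk (fAt f (bo U r) ^ n.toNat) ⟨fAt f (bo U r) ^ (-n).toNat, _⟩ =
      GrTwist.locMap (𝒮.res U.2 (U.2.basicOpen r) (S.basicOpen_le r))
        (𝒮.irrelevant_le_map U.1 U.2 r) y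
        (Localization.mk (fAt f U ^ n.toNat) ⟨fAt f U ^ (-n).toNat, _⟩)
    rw [GrTwist.locMap_mk]
    have e1 : (𝒮.res U.2 (U.2.basicOpen r) (S.basicOpen_le r)) (fAt f U ^ n.toNat) =
        fAt f (bo U r) ^ n.toNat := by rw [map_pow, res_fAt]
    have e2 : (𝒮.res U.2 (U.2.basicOpen r) (S.basicOpen_le r)) (fAt f U ^ (-n).toNat) =
        fAt f (bo U r) ^ (-n).toNat := by rw [map_pow, res_fAt]
    congr 1
    · exact e1.symm
    · exact Subtype.ext e2.symm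

open Groth.Agent.Helper13.LocFree in
include hXf hP hf in
/-- `O_P(nd)` restricted to `X_f` is trivial. -/
theorem nonempty_restrict_iso_structure (n : ℤ) {L : P.Modules}
    {lam : ∀ (U : S.Opens) (hU : IsAffineOpen U),
      L ⟶ (Scheme.Modules.pushforward (RelProj.emb p chart U hU)).obj
        (GrTwist.twist (𝒮.deg U hU) (n * (d : ℤ)))}
    (hL : RelProj.IsRelTwist 𝒮 p chart (n * (d : ℤ)) L lam) :
    Nonempty (L.restrict Xf.ι ≅ Coh.structureModule (Xf : Scheme.{u})) := by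
  have hL' := adapted_of_isRelTwist hP hL
  obtain ⟨σ, hσ⟩ : ∃ σ : Γ(L, Xf.ι ''ᵁ ⊤), ∀ (U : Aff S) (W' : P.Opens)
      (h1 : W' ≤ Xf.ι ''ᵁ ⊤) (_ : W' ≤ p ⁻¹ᵁ U.1),
      (lam U.1 U.2).app W' (rs L h1 σ) = twFrac (𝒮.deg U.1 U.2) (n * d)
        (RelProj.emb p chart U.1 U.2 ⁻¹ᵁ W')
        ⟨fAt f U ^ n.toNat, SetLike.pow_mem_graded _ (hf U.1 U.2)⟩
        ⟨fAt f U ^ (-n).toNat, SetLike.pow_mem_graded _ (hf U.1 U.2)⟩
        (pow_nmem f Xf hXf U W' h1 _) (deg_eq n d) :=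
    ⟨glueSec hL' (xfFam f Xf hXf hP hf n),
      fun U W' h1 h2 => glueSec_spec hL' (xfFam f Xf hXf hP hf n) U W' h1 h2⟩
  have hφ : IsIso (homOfSec (L.restrict Xf.ι) σ) := by
    apply isIso_of_locally_bijective
    intro x
    obtain ⟨U, hU⟩ := cover p (Xf.ι.base x)
    refine ⟨Xf.ι ⁻¹ᵁ (p ⁻¹ᵁ U.1), hU, ?_⟩
    intro V' hV'
    have h1 : Xf.ι ''ᵁ V' ≤ Xf.ι ''ᵁ ⊤ := Xf.ι.image_mono le_top
    have h2 : Xf.ι ''ᵁ V' ≤ p ⁻¹ᵁ U.1 := by
      rintro _ ⟨z, hz, rfl⟩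
      exact hV' hz
    have hΛ := hL.bijective U.1 U.2 (Xf.ι ''ᵁ V') h2
    have hspec := hσ U (Xf.ι ''ᵁ V') h1 h2
    have hform : ∀ c : Γ(↑Xf, V'),
        (lam U.1 U.2).app (Xf.ι ''ᵁ V') ((homOfSec (L.restrict Xf.ι) σ).app V' c) =
        (((show O (𝒜 := 𝒮.deg U.1 U.2) (op (RelProj.emb p chart U.1 U.2 ⁻¹ᵁ Xf.ι ''ᵁ V')) from
            ((RelProj.emb p chart U.1 U.2).app (Xf.ι ''ᵁ V')).hom ((Xf.ι.appIso V').inv.hom c)) •
          twFrac (𝒮.deg U.1 U.2) (n * d) (RelProj.emb p chart U.1 U.2 ⁻¹ᵁ Xf.ι ''ᵁ V')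
            ⟨fAt f U ^ n.toNat, SetLike.pow_mem_graded _ (hf U.1 U.2)⟩
            ⟨fAt f U ^ (-n).toNat, SetLike.pow_mem_graded _ (hf U.1 U.2)⟩
            (pow_nmem f Xf hXf U (Xf.ι ''ᵁ V') h1 _) (deg_eq n d)) :
            sectN (𝒜 := 𝒮.deg U.1 U.2) (n * d)
              (op (RelProj.emb p chart U.1 U.2 ⁻¹ᵁ Xf.ι ''ᵁ V'))) := by
      intro c
      have e0 := homOfSec_app (L.restrict Xf.ι) σ V' c
      have e1 : (c • (L.restrict Xf.ι).presheaf.map (homOfLE (le_top : V' ≤ ⊤)).op σ :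
          Γ(L.restrict Xf.ι, V')) =
          ((Xf.ι.appIso V').inv.hom c • rs L h1 σ : Γ(L, Xf.ι ''ᵁ V')) := rfl
      have e2 := Scheme.Modules.Hom.app_smul (lam U.1 U.2) ((Xf.ι.appIso V').inv.hom c)
        (rs L h1 σ)
      rw [hspec] at e2
      exact (congrArg ((lam U.1 U.2).app (Xf.ι ''ᵁ V')) (e0.trans e1)).trans e2
    have hρ : Function.Bijective (fun c : Γ(↑Xf, V') =>
        (show O (𝒜 := 𝒮.deg U.1 U.2) (op (RelProj.emb p chart U.1 U.2 ⁻¹ᵁ Xf.ι ''ᵁ V')) from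
        ((RelProj.emb p chart U.1 U.2).app (Xf.ι ''ᵁ V')).hom
          ((Xf.ι.appIso V').inv.hom c))) := by
      have hi1 : IsIso ((RelProj.emb p chart U.1 U.2).app (Xf.ι ''ᵁ V')) := by
        apply Scheme.Hom.isIso_app
        rw [RelTwist.opensRange_emb]
        exact h2
      have b1 := ConcreteCategory.bijective_of_isIso
        ((RelProj.emb p chart U.1 U.2).app (Xf.ι ''ᵁ V'))
      have b2 := ConcreteCategory.bijective_of_isIso (Xf.ι.appIso V').inv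
      exact b1.comp b2
    have hfr := smul_twFrac_bijective (𝒮.deg U.1 U.2) (hf U.1 U.2) n (-n).toNat n.toNat
      (RelProj.emb p chart U.1 U.2 ⁻¹ᵁ Xf.ι ''ᵁ V')
      (fun y => by
        have := pow_nmem f Xf hXf U (Xf.ι ''ᵁ V') h1 1 y
        rwa [pow_one] at this)
      (pow_nmem f Xf hXf U (Xf.ι ''ᵁ V') h1 _) (deg_eq n d)
    have hcomp : Function.Bijective (fun c : Γ(↑Xf, V') =>
        (lam U.1 U.2).app (Xf.ι ''ᵁ V') ((homOfSec (L.restrict Xf.ι) σ).app V' c)) := by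
      have hb := hfr.comp hρ
      constructor
      · intro c c' h
        apply hb.1
        exact (hform c).symm.trans (h.trans (hform c'))
      · intro t
        obtain ⟨c, hc⟩ := hb.2 t
        exact ⟨c, (hform c).trans hc⟩
    exact (Function.Bijective.of_comp_iff' hΛ _).1 hcomp
  exact ⟨(asIso (homOfSec (L.restrict Xf.ι) σ)).symm⟩

end Xf

end Groth.Agent.Helper28.RelSys

end
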