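import Mathlib
import Groth.Prelude.Def_RelProj3
import Groth.Agent.Lib.Helper28.RelTwistTriv
import Groth.Agent.Lib.Helper13.GenLocus

/-!
# `X_f` is the locus where the section `f` generates `O_P(d)` (helper28)
-/

set_option autoImplicit false
universe u
open CategoryTheory CategoryTheory.Limits AlgebraicGeometry Opposite TopologicalSpace DirectSum
open scoped HomogeneousIdeal

noncomputable section

namespace Groth.Agent.Helper28.RelSys

open ChartGlue GrTwist Groth.Agent.Helper28.GrTwistMul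

section Alg

variable {A σ : Type u} [CommRing A] [SetLike σ A] [AddSubgroupClass σ A] (𝒜 : ℕ → σ) [GradedRing 𝒜]

theorem smul_twFrac_bijective' {d : ℕ} {f : A} (hf : f ∈ 𝒜 d) (m : ℤ) (a b : ℕ)
    (V : Opens (ProjectiveSpectrum.top 𝒜)) (hV : ∀ y : V, f ∉ y.1.asHomogeneousIdeal)
    (nin : ∀ y : V, f ^ a ∉ y.1.asHomogeneousIdeal)
    (hij : ((b • d : ℕ) : ℤ) = ((a • d : ℕ) : ℤ) + m) :
    Function.Bijective (fun c : O (𝒜 := 𝒜) (op V) =>
      (c • twFrac 𝒜 m V ⟨f ^ b, SetLike.pow_mem_graded b hf⟩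
        ⟨f ^ a, SetLike.pow_mem_graded a hf⟩ nin hij : sectN (𝒜 := 𝒜) m (op V))) := by
  have hprime : ∀ y : V, y.1.asHomogeneousIdeal.toIdeal.IsPrime := fun y => y.1.isPrime
  have hVa : ∀ y : V, f ^ a ∉ y.1.asHomogeneousIdeal := nin
  have hVb : ∀ y : V, f ^ b ∉ y.1.asHomogeneousIdeal :=
    fun y h => hV y ((hprime y).mem_of_pow_mem b h)
  have ha : ((b • d : ℕ) : ℤ) = m + ((a • d : ℕ) : ℤ) := by rw [hij]; ring
  have hb : ((b • d : ℕ) : ℤ) = 0 + ((b • d : ℕ) : ℤ) := (zero_add _).symm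
  have hμa := mulSec_bijective (SetLike.pow_mem_graded a hf) ha V hVa
  have hμb := mulSec_bijective (SetLike.pow_mem_graded b hf) hb V hVb
  have hone := smul_oneSec_bijective (𝒜 := 𝒜) (op V)
  have key : mulSec (SetLike.pow_mem_graded a hf) ha (op V)
      (twFrac 𝒜 m V ⟨f ^ b, SetLike.pow_mem_graded b hf⟩
        ⟨f ^ a, SetLike.pow_mem_graded a hf⟩ nin hij) =
      mulSec (SetLike.pow_mem_graded b hf) hb (op V) (oneSec (op V)) := by
    apply Subtype.ext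
    funext y
    apply Subtype.ext
    rw [mulSec_val, mulSec_val, twFrac_val]
    change algebraMap A (Loc 𝒜 y.1) (f ^ a) * Localization.mk (f ^ b) ⟨f ^ a, nin y⟩ =
      algebraMap A (Loc 𝒜 y.1) (f ^ b) * 1
    rw [mul_one, Localization.mk_eq_mk', mul_comm]
    exact IsLocalization.mk'_spec _ _ _
  have key2 : ∀ c : O (𝒜 := 𝒜) (op V),
      mulSec (SetLike.pow_mem_graded a hf) ha (op V)
        (c • twFrac 𝒜 m V ⟨f ^ b, SetLike.pow_mem_graded b hf⟩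
          ⟨f ^ a, SetLike.pow_mem_graded a hf⟩ nin hij) =
      mulSec (SetLike.pow_mem_graded b hf) hb (op V) (c • oneSec (op V)) := by
    intro c
    rw [mulSec_smul, mulSec_smul, key]
  constructor
  · intro c c' hcc
    apply hone.1
    apply hμb.1
    change mulSec _ hb (op V) (c • oneSec (op V)) = mulSec _ hb (op V) (c' • oneSec (op V))
    rw [← key2, ← key2]
    exact congrArg _ hcc
  · intro t
    obtain ⟨t₀, ht₀⟩ := hμb.2 (mulSec (SetLike.pow_mem_graded a hf) ha (op V) t)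
    obtain ⟨c, hc⟩ := hone.2 t₀
    refine ⟨c, ?_⟩
    apply hμa.1
    change mulSec _ ha (op V) (c • twFrac 𝒜 m V _ _ nin hij) = _
    rw [key2]
    have hc' : (c • oneSec (op V) : sectN (𝒜 := 𝒜) 0 (op V)) = t₀ := hc
    rw [hc', ht₀]

end Alg

variable {S : Scheme.{u}} {𝒮 : RelProj.QCGrAlg S} {P : Scheme.{u}} {p : P ⟶ S}
  {chart : ∀ (U : S.Opens) (hU : IsAffineOpen U),
    (((p ⁻¹ᵁ U : P.Opens) : Scheme.{u}) ≅ Proj (𝒮.deg U hU))}

section Xf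

variable (f : 𝒮.presheaf.obj (op ⊤)) (Xf : P.Opens)
  (hXf : ∀ (U : S.Opens) (hU : IsAffineOpen U),
    Xf ⊓ p ⁻¹ᵁ U =
      (p ⁻¹ᵁ U).ι ''ᵁ ((chart U hU).hom ⁻¹ᵁ
        Proj.basicOpen (𝒮.deg U hU) ((𝒮.presheaf.map (homOfLE le_top).op).hom f)))

include hXf in
lemma emb_mem_of_nmem (U : Aff S) (y : Proj (𝒮.deg U.1 U.2))
    (hy : fAt f U ∉ y.asHomogeneousIdeal) : (RelProj.emb p chart U.1 U.2).base y ∈ Xf := by
  have h2 : (chart U.1 U.2).hom.base ((chart U.1 U.2).inv.base y) = y :=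
    congrArg (fun g => g.base y) (chart U.1 U.2).inv_hom_id
  have hz : (chart U.1 U.2).inv.base y ∈ ((chart U.1 U.2).hom ⁻¹ᵁ
      Proj.basicOpen (𝒮.deg U.1 U.2) (fAt f U) : (↑(p ⁻¹ᵁ U.1) : Scheme.{u}).Opens) := by
    change (chart U.1 U.2).hom.base ((chart U.1 U.2).inv.base y) ∈
      Proj.basicOpen (𝒮.deg U.1 U.2) (fAt f U)
    rw [h2]
    exact (Proj.mem_basicOpen _ _ _).2 hy
  have h3 : (RelProj.emb p chart U.1 U.2).base y ∈ Xf ⊓ p ⁻¹ᵁ U.1 := by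
    rw [hXf U.1 U.2]
    exact ⟨_, hz, rfl⟩
  exact h3.1

include hXf in
lemma pow_nmem' (U : Aff S) (W' : P.Opens) (h1 : W' ≤ Xf) (k : ℕ)
    (y : (RelProj.emb p chart U.1 U.2 ⁻¹ᵁ W' : (Proj (𝒮.deg U.1 U.2)).Opens)) :
    fAt f U ^ k ∉ y.1.asHomogeneousIdeal := by
  intro h
  have hprime : y.1.asHomogeneousIdeal.toIdeal.IsPrime := y.1.isPrime
  exact nmem_of_emb_mem f Xf hXf U y.1 (h1 y.2) (hprime.mem_of_pow_mem k h)

variable {d : ℕ}
  (hf : ∀ (U : S.Opens) (hU : IsAffineOpen U),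
    (𝒮.presheaf.map (homOfLE le_top).op).hom f ∈ 𝒮.deg U hU d)

include hXf in
/-- a section of `O_P(m)` which is chartwise `f^b / f^a` is a basis over small opens of `X_f`. -/
theorem smul_sec_bijective {m : ℤ} {L : P.Modules}
    {lam : ∀ (U : S.Opens) (hU : IsAffineOpen U),
      L ⟶ (Scheme.Modules.pushforward (RelProj.emb p chart U hU)).obj
        (GrTwist.twist (𝒮.deg U hU) m)}
    (hL : RelProj.IsRelTwist 𝒮 p chart m L lam) (a b : ℕ)
    (hab : ((b • d : ℕ) : ℤ) = ((a • d : ℕ) : ℤ) + m) (U : Aff S) (W' : P.Opens)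
    (h1 : W' ≤ Xf) (h2 : W' ≤ p ⁻¹ᵁ U.1) (σ' : Γ(L, W'))
    (hσ' : (lam U.1 U.2).app W' σ' = twFrac (𝒮.deg U.1 U.2) m
      (RelProj.emb p chart U.1 U.2 ⁻¹ᵁ W')
      ⟨fAt f U ^ b, SetLike.pow_mem_graded _ (hf U.1 U.2)⟩
      ⟨fAt f U ^ a, SetLike.pow_mem_graded _ (hf U.1 U.2)⟩
      (pow_nmem' f Xf hXf U W' h1 _) hab) :
    Function.Bijective (fun c : Γ(P, W') => (c • σ' : Γ(L, W'))) := by
  have hΛ := hL.bijective U.1 U.2 W' h2
  have hform : ∀ c : Γ(P, W'), (lam U.1 U.2).app W' (c • σ') =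
      (((show O (𝒜 := 𝒮.deg U.1 U.2) (op (RelProj.emb p chart U.1 U.2 ⁻¹ᵁ W')) from
          ((RelProj.emb p chart U.1 U.2).app W').hom c) •
        twFrac (𝒮.deg U.1 U.2) m (RelProj.emb p chart U.1 U.2 ⁻¹ᵁ W')
          ⟨fAt f U ^ b, SetLike.pow_mem_graded _ (hf U.1 U.2)⟩
          ⟨fAt f U ^ a, SetLike.pow_mem_graded _ (hf U.1 U.2)⟩
          (pow_nmem' f Xf hXf U W' h1 _) hab) :
          sectN (𝒜 := 𝒮.deg U.1 U.2) m (op (RelProj.emb p chart U.1 U.2 ⁻¹ᵁ W'))) := by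
    intro c
    have e2 := Scheme.Modules.Hom.app_smul (lam U.1 U.2) c σ'
    rw [hσ'] at e2
    exact e2
  have hρ : Function.Bijective (fun c : Γ(P, W') =>
      (show O (𝒜 := 𝒮.deg U.1 U.2) (op (RelProj.emb p chart U.1 U.2 ⁻¹ᵁ W')) from
      ((RelProj.emb p chart U.1 U.2).app W').hom c)) := by
    have hi1 : IsIso ((RelProj.emb p chart U.1 U.2).app W') := by
      apply Scheme.Hom.isIso_app
      rw [RelTwist.opensRange_emb]
      exact h2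
    exact ConcreteCategory.bijective_of_isIso ((RelProj.emb p chart U.1 U.2).app W')
  have hfr := smul_twFrac_bijective' (𝒮.deg U.1 U.2) (hf U.1 U.2) m a b
    (RelProj.emb p chart U.1 U.2 ⁻¹ᵁ W')
    (fun y => by
      have := pow_nmem' f Xf hXf U W' h1 1 y
      rwa [pow_one] at this)
    (pow_nmem' f Xf hXf U W' h1 _) hab
  have hb := hfr.comp hρ
  have hcomp : Function.Bijective (fun c : Γ(P, W') => (lam U.1 U.2).app W' (c • σ')) := by
    constructor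
    · intro c c' h
      apply hb.1
      exact (hform c).symm.trans (h.trans (hform c'))
    · intro t
      obtain ⟨c, hc⟩ := hb.2 t
      exact ⟨c, (hform c).trans hc⟩
  exact (Function.Bijective.of_comp_iff' hΛ _).1 hcomp

end Xf

section GenLocus

open Groth.Agent.Helper13 Groth.Agent.Helper13.LocFree

variable (f : 𝒮.presheaf.obj (op ⊤)) (Xf : P.Opens)
  (hXf : ∀ (U : S.Opens) (hU : IsAffineOpen U),
    Xf ⊓ p ⁻¹ᵁ U =
      (p ⁻¹ᵁ U).ι ''ᵁ ((chart U hU).hom ⁻¹ᵁ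
        Proj.basicOpen (𝒮.deg U hU) ((𝒮.presheaf.map (homOfLE le_top).op).hom f)))
  {d : ℕ}
  (hf : ∀ (U : S.Opens) (hU : IsAffineOpen U),
    (𝒮.presheaf.map (homOfLE le_top).op).hom f ∈ 𝒮.deg U hU d)

omit hXf hf in
lemma nmem_of_surjective {L : P.Modules}
    {lam : ∀ (U : S.Opens) (hU : IsAffineOpen U),
      L ⟶ (Scheme.Modules.pushforward (RelProj.emb p chart U hU)).obj
        (GrTwist.twist (𝒮.deg U hU) (d : ℤ))}
    (hL : RelProj.IsRelTwist 𝒮 p chart (d : ℤ) L lam) (s : Coh.structureModule P ⟶ L)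
    (hval : ∀ (U : Aff S) (W' : P.Opens)
      (y' : (RelProj.emb p chart U.1 U.2 ⁻¹ᵁ W' : (Proj (𝒮.deg U.1 U.2)).Opens)),
      GrTwist.val (V := RelProj.emb p chart U.1 U.2 ⁻¹ᵁ W')
        ((lam U.1 U.2).app W' (s.app W' (toO W' 1))) y' = Localization.mk (fAt f U) 1)
    (hsmul : ∀ (W' : P.Opens) (c : Γ(P, W')),
      s.app W' (toO W' c) = (c • s.app W' (toO W' 1) : Γ(L, W')))
    (U : Aff S) (W' : P.Opens) (hW'U : W' ≤ p ⁻¹ᵁ U.1) (y : Proj (𝒮.deg U.1 U.2))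
    (hyW' : (RelProj.emb p chart U.1 U.2).base y ∈ W')
    (hsurj : Function.Surjective (s.app W')) (g : 𝒮.presheaf.obj (op U.1))
    (hg : g ∈ 𝒮.deg U.1 U.2 1) (hgy : g ∉ y.asHomogeneousIdeal) :
    fAt f U ∉ y.asHomogeneousIdeal := by
  intro hfy
  have hgd : g ^ d ∈ 𝒮.deg U.1 U.2 (d • 1) := SetLike.pow_mem_graded d hg
  have hdeg : ((d • 1 : ℕ) : ℤ) = ((0 : ℕ) : ℤ) + (d : ℤ) := by simp
  obtain ⟨τ, hτ⟩ := (hL.bijective U.1 U.2 _ hW'U).2
    (twFrac (𝒮.deg U.1 U.2) (d : ℤ) (RelProj.emb p chart U.1 U.2 ⁻¹ᵁ W')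
      ⟨g ^ d, hgd⟩ ⟨1, SetLike.GradedOne.one_mem⟩
      (fun y' => one_nmem (𝒮.deg U.1 U.2) y'.1) hdeg)
  obtain ⟨c, hc⟩ := hsurj τ
  have hc' : s.app _ (toO _ c) = τ := hc
  rw [hsmul] at hc'
  have e2 := Scheme.Modules.Hom.app_smul (lam U.1 U.2) c (s.app _ (toO _ 1))
  rw [hc', hτ] at e2
  have e3 := congrArg (fun t : sectN (𝒜 := 𝒮.deg U.1 U.2) (d : ℤ)
      (op (RelProj.emb p chart U.1 U.2 ⁻¹ᵁ W')) =>
        ((t.1 ⟨y, hyW'⟩ : twistAt (𝒮.deg U.1 U.2) (d : ℤ) y) : Loc (𝒮.deg U.1 U.2) y)) e2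
  have e4a := coe_smul_val (𝒜 := 𝒮.deg U.1 U.2) (d : ℤ) y
    ((show O (𝒜 := 𝒮.deg U.1 U.2) (op (RelProj.emb p chart U.1 U.2 ⁻¹ᵁ W')) from
      ((RelProj.emb p chart U.1 U.2).app W').hom c).1 ⟨y, hyW'⟩)
    ((show sectN (𝒜 := 𝒮.deg U.1 U.2) (d : ℤ) (op (RelProj.emb p chart U.1 U.2 ⁻¹ᵁ W')) from
      (lam U.1 U.2).app W' (s.app W' (toO W' 1))).1 ⟨y, hyW'⟩)
  have e4b := hval U W' ⟨y, hyW'⟩
  have e5 : Localization.mk (g ^ d) (1 : y.asHomogeneousIdeal.toIdeal.primeCompl) =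
      ((show O (𝒜 := 𝒮.deg U.1 U.2) (op (RelProj.emb p chart U.1 U.2 ⁻¹ᵁ W')) from
        ((RelProj.emb p chart U.1 U.2).app W').hom c).1 ⟨y, hyW'⟩).val *
        Localization.mk (fAt f U) 1 :=
    e3.trans (e4a.trans (congrArg (fun z => _ * z) e4b))
  have hprime : y.asHomogeneousIdeal.toIdeal.IsPrime := y.isPrime
  have hu : IsUnit (algebraMap _ (Loc (𝒮.deg U.1 U.2) y) (g ^ d)) :=
    IsLocalization.map_units (Loc (𝒮.deg U.1 U.2) y)
      (⟨g ^ d, fun h => hgy (hprime.mem_of_pow_mem d h)⟩ :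
        y.asHomogeneousIdeal.toIdeal.primeCompl)
  rw [← Localization.mk_one_eq_algebraMap, e5, Localization.mk_one_eq_algebraMap] at hu
  have hu2 := isUnit_of_mul_isUnit_right hu
  exact (IsLocalization.AtPrime.isUnit_to_map_iff (Loc (𝒮.deg U.1 U.2) y)
    y.asHomogeneousIdeal.toIdeal (fAt f U)).1 hu2 hfy


include hXf hf in
theorem xf_eq_genLocus (hgen : 𝒮.IsGenDegOne) {L : P.Modules}
    {lam : ∀ (U : S.Opens) (hU : IsAffineOpen U),
      L ⟶ (Scheme.Modules.pushforward (RelProj.emb p chart U hU)).obj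
        (GrTwist.twist (𝒮.deg U hU) (d : ℤ))}
    (hL : RelProj.IsRelTwist 𝒮 p chart (d : ℤ) L lam) (s : Coh.structureModule P ⟶ L)
    (hs : ∀ (U : S.Opens) (hU : IsAffineOpen U) (y : Proj (𝒮.deg U hU)),
      GrTwist.val (V := RelProj.emb p chart U hU ⁻¹ᵁ ⊤)
        ((lam U hU).app ⊤ (s.app ⊤ (show Γ(Coh.structureModule P, ⊤) from (1 : Γ(P, ⊤)))))
          ⟨y, Set.mem_univ _⟩ =
        Localization.mk ((𝒮.presheaf.map (homOfLE le_top).op).hom f) 1) :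
    Xf = CohB1.genLocus L s := by
  have hval : ∀ (U : Aff S) (W' : P.Opens)
      (y' : (RelProj.emb p chart U.1 U.2 ⁻¹ᵁ W' : (Proj (𝒮.deg U.1 U.2)).Opens)),
      GrTwist.val (V := RelProj.emb p chart U.1 U.2 ⁻¹ᵁ W')
        ((lam U.1 U.2).app W' (s.app W' (toO W' 1))) y' = Localization.mk (fAt f U) 1 := by
    intro U W' y'
    have e1 : s.app W' (toO W' 1) = rs L le_top (s.app ⊤ (toO ⊤ 1)) := by
      rw [← app_rs]
      congr 1
      exact (map_one (P.presheaf.map (homOfLE (le_top : W' ≤ ⊤)).op).hom).symm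
    rw [e1, app_rs]
    exact hs U.1 U.2 y'.1
  have hab : (((1 : ℕ) • d : ℕ) : ℤ) = (((0 : ℕ) • d : ℕ) : ℤ) + (d : ℤ) := by simp
  have hσ' : ∀ (U : Aff S) (W' : P.Opens) (h1 : W' ≤ Xf),
      (lam U.1 U.2).app W' (s.app W' (toO W' 1)) = twFrac (𝒮.deg U.1 U.2) (d : ℤ)
        (RelProj.emb p chart U.1 U.2 ⁻¹ᵁ W')
        ⟨fAt f U ^ 1, SetLike.pow_mem_graded _ (hf U.1 U.2)⟩
        ⟨fAt f U ^ 0, SetLike.pow_mem_graded _ (hf U.1 U.2)⟩
        (pow_nmem' f Xf hXf U W' h1 _) hab := by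
    intro U W' h1
    refine twist_sec_ext (𝒮.deg U.1 U.2) (d : ℤ) (V := RelProj.emb p chart U.1 U.2 ⁻¹ᵁ W') _ _
      (fun y' => ?_)
    rw [hval]
    change _ = Localization.mk (fAt f U ^ 1) ⟨fAt f U ^ 0, _⟩
    congr 1
    · exact (pow_one _).symm
    · exact Subtype.ext (pow_zero _).symm
  have hsmul : ∀ (W' : P.Opens) (c : Γ(P, W')),
      s.app W' (toO W' c) = (c • s.app W' (toO W' 1) : Γ(L, W')) := by
    intro W' c
    rw [← Scheme.Modules.Hom.app_smul]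
    congr 1
    exact (mul_one c).symm
  apply le_antisymm
  · rw [GenLoc.le_genLocus_iff L s Xf]
    apply isIso_of_locally_bijective
    intro x
    obtain ⟨U, hU⟩ := cover p (Xf.ι.base x)
    refine ⟨Xf.ι ⁻¹ᵁ (p ⁻¹ᵁ U.1), hU, ?_⟩
    intro V' hV'
    have h1 : Xf.ι ''ᵁ V' ≤ Xf := Xf.ι_image_le V'
    have h2 : Xf.ι ''ᵁ V' ≤ p ⁻¹ᵁ U.1 := by
      rintro _ ⟨z, hz, rfl⟩
      exact hV' hz
    have hb := smul_sec_bijective f Xf hXf hf hL 0 1 hab U (Xf.ι ''ᵁ V') h1 h2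
      (s.app (Xf.ι ''ᵁ V') (toO _ 1)) (hσ' U _ h1)
    change Function.Bijective (s.app (Xf.ι ''ᵁ V'))
    constructor
    · intro c c' h
      apply hb.1
      exact (hsmul _ c).symm.trans (h.trans (hsmul _ c'))
    · intro t
      obtain ⟨c, hc⟩ := hb.2 t
      exact ⟨c, (hsmul _ c).trans hc⟩
  · intro x hx
    by_contra hxf
    obtain ⟨U, hxU⟩ := cover p x
    have hxR : x ∈ (RelProj.emb p chart U.1 U.2).opensRange := by
      rw [RelTwist.opensRange_emb]; exact hxU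
    obtain ⟨y, rfl⟩ := hxR
    have hfy : fAt f U ∈ y.asHomogeneousIdeal := by
      by_contra h
      exact hxf (emb_mem_of_nmem f Xf hXf U y h)
    obtain ⟨g, hg, hgy⟩ := RelTwist.exists_deg_one_nmem (𝒮.deg U.1 U.2) (hgen U.1 U.2) y
    have hiso := GenLoc.isIso_restrict_genLocus L s
    rw [Scheme.Modules.Hom.isIso_iff_isIso_app] at hiso
    have hbij := hiso ((CohB1.genLocus L s).ι ⁻¹ᵁ (p ⁻¹ᵁ U.1))
    rw [ConcreteCategory.isIso_iff_bijective] at hbij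
    have hW'U : (CohB1.genLocus L s).ι ''ᵁ ((CohB1.genLocus L s).ι ⁻¹ᵁ (p ⁻¹ᵁ U.1)) ≤
        p ⁻¹ᵁ U.1 := by
      rintro _ ⟨z, hz, rfl⟩
      exact hz
    have hyW' : (RelProj.emb p chart U.1 U.2).base y ∈ (CohB1.genLocus L s).ι ''ᵁ
        ((CohB1.genLocus L s).ι ⁻¹ᵁ (p ⁻¹ᵁ U.1)) :=
      ⟨⟨(RelProj.emb p chart U.1 U.2).base y, hx⟩, hxU, rfl⟩
    exact nmem_of_surjective f hL s hval hsmul U _ hW'U y hyW' hbij.2 g hg hgy hfy

end GenLocus

end Groth.Agent.Helper28.RelSys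

end
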