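import Mathlib
import Groth.Prelude.Def_RelProj3
import Groth.Agent.Lib.Helper28.RelTwistGen
import Groth.Agent.Lib.Helper18.SymAlg4
import Groth.Agent.Lib.Helper13.EpiStalk
import Groth.Agent.Lib.Helper13.PbGen

/-!
# The canonical map `p^* E ⟶ O_{P(E)}(1)` is an epimorphism (helper28)
-/

set_option autoImplicit false
universe u
open CategoryTheory CategoryTheory.Limits AlgebraicGeometry Opposite TopologicalSpace DirectSum
open scoped HomogeneousIdeal

noncomputable section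

namespace Groth.Agent.Helper28.ProjBundleEpi

open Groth.Agent.Helper28.ChartGlue GrTwist Groth.Agent.Helper28.GrTwistMul
  Groth.Agent.Helper28.RelSys Groth.Agent.Helper13.QCoh Groth.Agent.Helper13

section Alg

variable {A σ : Type u} [CommRing A] [SetLike σ A] [AddSubgroupClass σ A] (𝒜 : ℕ → σ)
  [GradedRing 𝒜]

/-- if `A` is generated as a ring by `A_0` and a set `G`, every point of `Proj A` misses some
element of `G`. -/
theorem exists_gen_nmem (y : Proj 𝒜) (G : Set A)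
    (hgen : ∀ a : A, a ∈ Subring.closure ((𝒜 0 : Set A) ∪ G)) :
    ∃ g ∈ G, g ∉ y.asHomogeneousIdeal := by
  by_contra! H
  have key : ∀ a : A, ∃ i ∈ y.asHomogeneousIdeal.toIdeal, ∃ c ∈ 𝒜 0, a = i + c := by
    intro a
    have ha := hgen a
    induction ha using Subring.closure_induction with
    | mem x hx =>
      rcases hx with hx | hx
      · exact ⟨0, zero_mem _, x, hx, (zero_add x).symm⟩
      · exact ⟨x, H x hx, 0, zero_mem _, (add_zero x).symm⟩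
    | zero => exact ⟨0, zero_mem _, 0, zero_mem _, (add_zero 0).symm⟩
    | one => exact ⟨0, zero_mem _, 1, SetLike.GradedOne.one_mem, (zero_add 1).symm⟩
    | add x x' _ _ hx hx' =>
      obtain ⟨i, hi, c, hc, e⟩ := hx
      obtain ⟨i', hi', c', hc', e'⟩ := hx'
      exact ⟨i + i', add_mem hi hi', c + c', add_mem hc hc', by rw [e, e']; ring⟩
    | neg x _ hx =>
      obtain ⟨i, hi, c, hc, e⟩ := hx
      exact ⟨-i, neg_mem hi, -c, neg_mem hc, by rw [e]; ring⟩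
    | mul x x' _ _ hx hx' =>
      obtain ⟨i, hi, c, hc, e⟩ := hx
      obtain ⟨i', hi', c', hc', e'⟩ := hx'
      have hcc : c * c' ∈ 𝒜 0 := by
        have := SetLike.mul_mem_graded (A := 𝒜) hc hc'
        rwa [add_zero] at this
      refine ⟨i * i' + i * c' + c * i', ?_, c * c', hcc, by rw [e, e']; ring⟩
      exact add_mem (add_mem (Ideal.mul_mem_right _ _ hi) (Ideal.mul_mem_right _ _ hi))
        (Ideal.mul_mem_left _ _ hi')
  obtain ⟨d, s, hd, hs, hsy⟩ := RelTwist.exists_pos_nmem 𝒜 y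
  apply hsy
  obtain ⟨i, hi, c, hc, e⟩ := key s
  have e1 : ((DirectSum.decompose 𝒜 s d : 𝒜 d) : A) = s := DirectSum.decompose_of_mem_same 𝒜 hs
  have e2 : ((DirectSum.decompose 𝒜 c d : 𝒜 d) : A) = 0 :=
    DirectSum.decompose_of_mem_ne 𝒜 hc (Ne.symm hd.ne')
  have e3 : ((DirectSum.decompose 𝒜 s d : 𝒜 d) : A) =
      ((DirectSum.decompose 𝒜 i d : 𝒜 d) : A) + ((DirectSum.decompose 𝒜 c d : 𝒜 d) : A) := by
    rw [e, DirectSum.decompose_add, DirectSum.add_apply]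
    rfl
  have h4 : ((DirectSum.decompose 𝒜 i d : 𝒜 d) : A) ∈ y.asHomogeneousIdeal.toIdeal :=
    y.asHomogeneousIdeal.isHomogeneous d hi
  rw [e2, add_zero, e1] at e3
  change s ∈ y.asHomogeneousIdeal.toIdeal
  rw [e3]
  exact h4

end Alg

variable {S : Scheme.{u}} {𝒮 : RelProj.QCGrAlg S} {P : Scheme.{u}} {p : P ⟶ S}
  {chart : ∀ (U : S.Opens) (hU : IsAffineOpen U),
    (((p ⁻¹ᵁ U : P.Opens) : Scheme.{u}) ≅ Proj (𝒮.deg U hU))}

/-- over an affine open, every point of `Proj Sym(E)(U)` misses the image of some section of `E`. -/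
theorem exists_section_nmem (E : S.Modules) [E.IsQuasicoherent] (j : E ⟶ 𝒮.toModule)
    (hj : RelProj.IsGrSymAlg E 𝒮 j) (U : S.Opens) (hU : IsAffineOpen U)
    (y : Proj (𝒮.deg U hU)) :
    ∃ e : Γ(E, U), ((j.app U) e : 𝒮.presheaf.obj (op U)) ∉ y.asHomogeneousIdeal := by
  obtain ⟨g, ⟨e, rfl⟩, hg⟩ := exists_gen_nmem (𝒮.deg U hU) y
    (Set.range fun e : Γ(E, U) => ((j.app U) e : 𝒮.presheaf.obj (op U))) (by
      intro a
      obtain ⟨x, rfl⟩ :=
        (Groth.Agent.Helper18.SymAlg.symToA_bijective E 𝒮.toQCAlg j hj.1 U hU).2 a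
      induction x using SymmetricAlgebra.induction with
      | algebraMap r =>
        rw [Groth.Agent.Helper18.SymAlg.symToA_algebraMap]
        exact Subring.subset_closure (Or.inl (𝒮.str_mem U hU r))
      | ι m =>
        rw [Groth.Agent.Helper18.SymAlg.symToA_ι]
        exact Subring.subset_closure (Or.inr ⟨m, rfl⟩)
      | mul a b ha hb =>
        rw [map_mul]
        exact mul_mem ha hb
      | add a b ha hb =>
        rw [map_add]
        exact add_mem ha hb)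
  exact ⟨e, hg⟩

/-- local version of `smul_sec_bijective`: a section of `O_P(m)` which reads `f^b / f^a` on the
chart over `U` is a basis of `O_P(m)` over small opens where `f` does not vanish. -/
theorem smul_sec_bijective_local {m : ℤ} {L : P.Modules}
    {lam : ∀ (U : S.Opens) (hU : IsAffineOpen U),
      L ⟶ (Scheme.Modules.pushforward (RelProj.emb p chart U hU)).obj
        (GrTwist.twist (𝒮.deg U hU) m)}
    (hL : RelProj.IsRelTwist 𝒮 p chart m L lam) (U : Aff S) {d : ℕ}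
    {f : 𝒮.presheaf.obj (op U.1)} (hf : f ∈ 𝒮.deg U.1 U.2 d) (a b : ℕ)
    (hab : ((b • d : ℕ) : ℤ) = ((a • d : ℕ) : ℤ) + m) (W' : P.Opens)
    (h2 : W' ≤ p ⁻¹ᵁ U.1)
    (hV : ∀ y : (RelProj.emb p chart U.1 U.2 ⁻¹ᵁ W' : (Proj (𝒮.deg U.1 U.2)).Opens),
      f ∉ y.1.asHomogeneousIdeal)
    (nin : ∀ y : (RelProj.emb p chart U.1 U.2 ⁻¹ᵁ W' : (Proj (𝒮.deg U.1 U.2)).Opens),
      f ^ a ∉ y.1.asHomogeneousIdeal)
    (σ' : Γ(L, W'))
    (hσ' : (lam U.1 U.2).app W' σ' = twFrac (𝒮.deg U.1 U.2) m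
      (RelProj.emb p chart U.1 U.2 ⁻¹ᵁ W')
      ⟨f ^ b, SetLike.pow_mem_graded _ hf⟩ ⟨f ^ a, SetLike.pow_mem_graded _ hf⟩ nin hab) :
    Function.Bijective (fun c : Γ(P, W') => (c • σ' : Γ(L, W'))) := by
  have hΛ := hL.bijective U.1 U.2 W' h2
  have hform : ∀ c : Γ(P, W'), (lam U.1 U.2).app W' (c • σ') =
      (((show O (𝒜 := 𝒮.deg U.1 U.2) (op (RelProj.emb p chart U.1 U.2 ⁻¹ᵁ W')) from
          ((RelProj.emb p chart U.1 U.2).app W').hom c) •
        twFrac (𝒮.deg U.1 U.2) m (RelProj.emb p chart U.1 U.2 ⁻¹ᵁ W')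
          ⟨f ^ b, SetLike.pow_mem_graded _ hf⟩ ⟨f ^ a, SetLike.pow_mem_graded _ hf⟩ nin hab) :
          sectN (𝒜 := 𝒮.deg U.1 U.2) m (op (RelProj.emb p chart U.1 U.2 ⁻¹ᵁ W'))) := by
    intro c
    have e2 := Scheme.Modules.Hom.app_smul (lam U.1 U.2) c σ'
    rw [hσ'] at e2
    exact e2
  have hρ : Function.Bijective (fun c : Γ(P, W') =>
      (show O (𝒜 := 𝒮.deg U.1 U.2) (op (RelProj.emb p chart U.1 U.2 ⁻¹ᵁ W')) from
      ((RelProj.emb p chart U.1 U.2).app W').hom c)) := by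
    have hi1 : IsIso ((RelProj.emb p chart U.1 U.2).app W') := by
      apply Scheme.Hom.isIso_app
      rw [RelTwist.opensRange_emb]
      exact h2
    exact ConcreteCategory.bijective_of_isIso ((RelProj.emb p chart U.1 U.2).app W')
  have hfr := smul_twFrac_bijective' (𝒮.deg U.1 U.2) hf m a b
    (RelProj.emb p chart U.1 U.2 ⁻¹ᵁ W') hV nin hab
  have hb := hfr.comp hρ
  have hcomp : Function.Bijective (fun c : Γ(P, W') => (lam U.1 U.2).app W' (c • σ')) := by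
    constructor
    · intro c c' h
      apply hb.1
      exact (hform c).symm.trans (h.trans (hform c'))
    · intro t
      obtain ⟨c, hc⟩ := hb.2 t
      exact ⟨c, (hform c).trans hc⟩
  exact (Function.Bijective.of_comp_iff' hΛ _).1 hcomp

/-- **the adjoint `p^* E ⟶ O_{P(E)}(1)` of the canonical map is an epimorphism.** -/
theorem epi_adjoint (E : S.Modules) [E.IsQuasicoherent] (j : E ⟶ 𝒮.toModule)
    (hj : RelProj.IsGrSymAlg E 𝒮 j) {O1 : P.Modules}
    {lam : ∀ (U : S.Opens) (hU : IsAffineOpen U),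
      O1 ⟶ (Scheme.Modules.pushforward (RelProj.emb p chart U hU)).obj
        (GrTwist.twist (𝒮.deg U hU) 1)}
    (hO1 : RelProj.IsRelTwist 𝒮 p chart 1 O1 lam)
    (φ : E ⟶ (Scheme.Modules.pushforward p).obj O1)
    (hφ : ∀ (U : S.Opens) (hU : IsAffineOpen U) (e : Γ(E, U))
      (y : ↥(RelProj.emb p chart U hU ⁻¹ᵁ (p ⁻¹ᵁ U))),
      GrTwist.val (V := RelProj.emb p chart U hU ⁻¹ᵁ (p ⁻¹ᵁ U))
          ((lam U hU).app (p ⁻¹ᵁ U) ((φ.app U) e)) y =
        algebraMap (𝒮.presheaf.obj (op U)) (GrTwist.Loc (𝒮.deg U hU) y.1)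
          ((j.app U) e : 𝒮.presheaf.obj (op U))) :
    Epi (((Scheme.Modules.pullbackPushforwardAdjunction p).homEquiv E O1).symm φ) := by
  set ψ := ((Scheme.Modules.pullbackPushforwardAdjunction p).homEquiv E O1).symm φ with hψ
  apply FinType.epi_of_stalkMap_surjective
  intro x m
  obtain ⟨U, hxU⟩ := cover p x
  have hxr : x ∈ (RelProj.emb p chart U.1 U.2).opensRange := by
    rw [RelTwist.opensRange_emb]; exact hxU
  obtain ⟨y, rfl⟩ := hxr
  obtain ⟨e, he⟩ := exists_section_nmem E j hj U.1 U.2 y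
  have hf1 : ((j.app U.1) e : 𝒮.presheaf.obj (op U.1)) ∈ 𝒮.deg U.1 U.2 1 := hj.2 U.1 U.2 e
  obtain ⟨f, hfdef⟩ : ∃ f : 𝒮.presheaf.obj (op U.1),
      ((j.app U.1) e : 𝒮.presheaf.obj (op U.1)) = f := ⟨_, rfl⟩
  rw [hfdef] at he hf1
  obtain ⟨W'', hxW, τ, rfl⟩ := TopCat.Presheaf.exists_germ_eq O1.presheaf m
  let W0 : P.Opens := (RelProj.emb p chart U.1 U.2) ''ᵁ (Proj.basicOpen (𝒮.deg U.1 U.2) f)
  have hW0U : W0 ≤ p ⁻¹ᵁ U.1 := RelTwist.image_emb_le p chart U.1 U.2 _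
  have hxW0 : (RelProj.emb p chart U.1 U.2).base y ∈ W0 :=
    ⟨y, (Proj.mem_basicOpen _ _ _).2 he, rfl⟩
  let W3 : P.Opens := W'' ⊓ W0
  have h3U : W3 ≤ p ⁻¹ᵁ U.1 := inf_le_right.trans hW0U
  have hx3 : (RelProj.emb p chart U.1 U.2).base y ∈ W3 := ⟨hxW, hxW0⟩
  have hV : ∀ y' : (RelProj.emb p chart U.1 U.2 ⁻¹ᵁ W3 : (Proj (𝒮.deg U.1 U.2)).Opens),
      f ∉ y'.1.asHomogeneousIdeal := by
    intro y'
    have h1 : (RelProj.emb p chart U.1 U.2).base y'.1 ∈ W0 :=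
      (show (RelProj.emb p chart U.1 U.2).base y'.1 ∈ W'' ⊓ W0 from y'.2).2
    obtain ⟨z, hz, hzy⟩ := h1
    have hzy' : z = y'.1 := (RelProj.emb p chart U.1 U.2).isOpenEmbedding.injective hzy
    rw [← hzy']
    exact (Proj.mem_basicOpen _ _ _).1 hz
  have hab : (((1 : ℕ) • 1 : ℕ) : ℤ) = (((0 : ℕ) • 1 : ℕ) : ℤ) + 1 := by simp
  have nin : ∀ y' : (RelProj.emb p chart U.1 U.2 ⁻¹ᵁ W3 : (Proj (𝒮.deg U.1 U.2)).Opens),
      f ^ 0 ∉ y'.1.asHomogeneousIdeal := fun y' h =>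
    hV y' ((show y'.1.asHomogeneousIdeal.toIdeal.IsPrime from y'.1.isPrime).mem_of_pow_mem 0 h)
  have hσ' : (lam U.1 U.2).app W3 (rs O1 h3U ((φ.app U.1) e)) =
      twFrac (𝒮.deg U.1 U.2) 1 (RelProj.emb p chart U.1 U.2 ⁻¹ᵁ W3)
        ⟨f ^ 1, SetLike.pow_mem_graded 1 hf1⟩ ⟨f ^ 0, SetLike.pow_mem_graded 0 hf1⟩ nin hab := by
    refine twist_sec_ext (𝒮.deg U.1 U.2) 1 (V := RelProj.emb p chart U.1 U.2 ⁻¹ᵁ W3) _ _
      (fun y' => ?_)
    rw [app_rs]
    have e1 := hφ U.1 U.2 e ⟨y'.1, h3U y'.2⟩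
    rw [hfdef] at e1
    refine (show _ = _ from e1).trans ?_
    rw [← Localization.mk_one_eq_algebraMap]
    change _ = Localization.mk (f ^ 1) ⟨f ^ 0, _⟩
    congr 1
    · exact (pow_one _).symm
    · exact Subtype.ext (pow_zero _).symm
  have hbij := smul_sec_bijective_local hO1 U hf1 0 1 hab W3 h3U hV nin
    (rs O1 h3U ((φ.app U.1) e)) hσ'
  obtain ⟨c, hc⟩ := hbij.2 (rs O1 (inf_le_left : W3 ≤ W'') τ)
  have hF1 : ψ.app (p ⁻¹ᵁ U.1) (PbGen.ηsec p E U.1 e) = (φ.app U.1) e := by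
    have e0 := PbGen.homEquiv_app p E ψ U.1 e
    rw [hψ, Equiv.apply_symm_apply] at e0
    exact e0.symm
  refine ⟨((Scheme.Modules.pullback p).obj E).presheaf.germ W3 _ hx3
    (c • rs ((Scheme.Modules.pullback p).obj E) h3U (PbGen.ηsec p E U.1 e)), ?_⟩
  rw [stalkMap_germ, Scheme.Modules.Hom.app_smul, app_rs, hF1]
  have e2 := TopCat.Presheaf.germ_res_apply O1.presheaf (homOfLE (inf_le_left : W3 ≤ W'')) _
    hx3 τ
  rw [← e2]
  exact congrArg _ hc

end Groth.Agent.Helper28.ProjBundleEpi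

end
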