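import Mathlib
import Groth.Prelude.Def_GrTwist
import Groth.Prelude.Def_Coh
import Groth.Prelude.Def_Pic
import Groth.Agent.Lib.Helper28.GrTwistMul
import Groth.Agent.Lib.Helper28.RelTwist
import Groth.Agent.Lib.Helper28.ProjBundleEpi
import Groth.Agent.Lib.Helper13.AmpleQA

/-!
# Ampleness of `O(d)` on `Proj` for general gradings (port of `TwistAmple`, helper28)
-/

set_option autoImplicit false
universe u
open CategoryTheory AlgebraicGeometry Opposite TopologicalSpace TopCat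

namespace Groth.Agent.Helper28.GrTwistMul

variable {A σ : Type u} [CommRing A] [SetLike σ A] [AddSubgroupClass σ A] (𝒜 : ℕ → σ)
  [GradedRing 𝒜]

open GrTwist

/-- the section `g/1` of `O(e)` as a morphism `O ⟶ O(e)`. -/
noncomputable def secHom {e : ℕ} {g : A} (hg : g ∈ 𝒜 e) {m : ℤ} (h : m = 0 + e) :
    Coh.structureModule (Proj 𝒜) ⟶ GrTwist.twist 𝒜 m :=
  zeroHom 𝒜 ≫ mulHom 𝒜 hg h

theorem secHom_app_val {e : ℕ} {g : A} (hg : g ∈ 𝒜 e) {m : ℤ} (h : m = 0 + e)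
    (V : (Proj 𝒜).Opens) (c : Γ(Coh.structureModule (Proj 𝒜), V)) (x : V) :
    ((((secHom 𝒜 hg h).app V c : sectN (𝒜 := 𝒜) m (op V))).1 x).1 =
      algebraMap A (Loc 𝒜 x.1) g * ((show O (𝒜 := 𝒜) (op V) from c).1 x).val := by
  change ((mulSec hg h (op V) ((show O (𝒜 := 𝒜) (op V) from c) • oneSec (op V))).1 x).1 = _
  rw [mulSec_val, smul_oneSec_val]

theorem le_genLocus_secHom {e : ℕ} {g : A} (hg : g ∈ 𝒜 e) {m : ℤ} (h : m = 0 + e) :
    Proj.basicOpen 𝒜 g ≤ CohB1.genLocus _ (secHom 𝒜 hg h) := by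
  rw [Groth.Agent.Helper13.GenLoc.le_genLocus_iff]
  unfold secHom
  rw [Functor.map_comp]
  haveI := isIso_restrict_mulHom 𝒜 hg h _ (le_refl (Proj.basicOpen 𝒜 g))
  infer_instance

theorem mem_of_mem_genLocus {e : ℕ} {g : A} (hg : g ∈ 𝒜 e) {m : ℤ} (h : m = 0 + e) {k : A}
    (hk : k ∈ 𝒜 e) (x : Proj 𝒜) (hx : x ∈ CohB1.genLocus _ (secHom 𝒜 hg h))
    (hgx : g ∈ x.asHomogeneousIdeal) : k ∈ x.asHomogeneousIdeal := by
  set U := CohB1.genLocus _ (secHom 𝒜 hg h) with hU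
  have hiso : IsIso ((Scheme.Modules.restrictFunctor U.ι).map (secHom 𝒜 hg h)) :=
    Groth.Agent.Helper13.GenLoc.isIso_restrict_genLocus _ _
  rw [Scheme.Modules.Hom.isIso_iff_isIso_app] at hiso
  have hb := hiso ⊤
  rw [ConcreteCategory.isIso_iff_bijective] at hb
  have hsurj : Function.Surjective ((secHom 𝒜 hg h).app (U.ι ''ᵁ ⊤)) := hb.2
  obtain ⟨c, hc⟩ := hsurj (mulSec hk h (op (U.ι ''ᵁ ⊤)) (oneSec (op (U.ι ''ᵁ ⊤))))
  have hxV : x ∈ U.ι ''ᵁ (⊤ : U.toScheme.Opens) := by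
    rw [Scheme.Opens.ι_image_top]
    exact hx
  have h1 := secHom_app_val 𝒜 hg h (U.ι ''ᵁ ⊤) c ⟨x, hxV⟩
  rw [hc, mulSec_val] at h1
  have h1' : algebraMap A (Loc 𝒜 x) k = algebraMap A (Loc 𝒜 x) g *
      ((show O (𝒜 := 𝒜) (op (U.ι ''ᵁ ⊤)) from c).1 ⟨x, hxV⟩).val :=
    (mul_one _).symm.trans h1
  have hmem : algebraMap A (Loc 𝒜 x) k ∈ IsLocalRing.maximalIdeal (Loc 𝒜 x) := by
    rw [h1']
    exact Ideal.mul_mem_right _ _
      ((IsLocalization.AtPrime.to_map_mem_maximal_iff (Loc 𝒜 x)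
        x.asHomogeneousIdeal.toIdeal g).mpr hgx)
  exact (IsLocalization.AtPrime.to_map_mem_maximal_iff (Loc 𝒜 x)
    x.asHomogeneousIdeal.toIdeal k).mp hmem

theorem genLocus_secHom_eq {e : ℕ}
    (hcov : ∀ x : Proj 𝒜, ∃ f ∈ 𝒜 e, f ∉ x.asHomogeneousIdeal) {g : A} (hg : g ∈ 𝒜 e)
    {m : ℤ} (h : m = 0 + e) :
    CohB1.genLocus _ (secHom 𝒜 hg h) = Proj.basicOpen 𝒜 g := by
  apply le_antisymm
  · intro x hx
    change g ∉ x.asHomogeneousIdeal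
    intro hgx
    obtain ⟨k, hk, hkx⟩ := hcov x
    exact hkx (mem_of_mem_genLocus 𝒜 hg h hk x hx hgx)
  · exact le_genLocus_secHom 𝒜 hg h

theorem compactSpace_of_finite_cover (s : Finset A) (δ : A → ℕ)
    (hδ : ∀ f ∈ s, 0 < δ f ∧ f ∈ 𝒜 (δ f))
    (hcov : ∀ x : Proj 𝒜, ∃ f ∈ s, f ∉ x.asHomogeneousIdeal) :
    CompactSpace (Proj 𝒜) := by
  constructor
  have H (i : s) : IsCompact (Proj.basicOpen 𝒜 (i : A) : Set (Proj 𝒜)) :=
    (Proj.isAffineOpen_basicOpen 𝒜 _ (hδ _ i.2).2 (hδ _ i.2).1).isCompact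
  have h1 : (Set.univ : Set (Proj 𝒜)) = ⋃ i : s, (Proj.basicOpen 𝒜 (i : A) : Set (Proj 𝒜)) := by
    ext x
    simp only [Set.mem_univ, Set.mem_iUnion, true_iff]
    obtain ⟨f, hf, hfx⟩ := hcov x
    exact ⟨⟨f, hf⟩, hfx⟩
  rw [h1]
  exact isCompact_iUnion H

/-- `O(d)` is ample on a quasi-compact `Proj` covered by the `D_+(f)`, `deg f = d > 0`. -/
theorem twist_isAmple_of_cover [CompactSpace (Proj 𝒜)] {d : ℕ} (hd : 0 < d)
    (hcov : ∀ x : Proj 𝒜, ∃ f ∈ 𝒜 d, f ∉ x.asHomogeneousIdeal) :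
    CohB1.IsAmple (GrTwist.twist 𝒜 (d : ℤ)) := by
  refine ⟨?_, inferInstance, fun x => ?_⟩
  · intro y
    obtain ⟨f, hf, hfy⟩ := hcov y
    exact ⟨Proj.basicOpen 𝒜 f, hfy, twist_restrict_iso' 𝒜 hf 1 (one_mul _).symm⟩
  · obtain ⟨f, hf, hfx⟩ := hcov x
    have h : (d : ℤ) = 0 + ((d : ℕ) : ℤ) := (zero_add _).symm
    obtain ⟨s', hs''⟩ := Groth.Agent.Helper13.GenLoc.exists_tensorPow_one
      (GrTwist.twist 𝒜 (d : ℤ)) (secHom 𝒜 hf h)
    have hgl := genLocus_secHom_eq 𝒜 hcov hf h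
    refine ⟨0, s', ?_, ?_⟩
    · rw [hs'', hgl]
      exact hfx
    · rw [hs'', hgl]
      exact Proj.isAffineOpen_basicOpen 𝒜 _ hf hd

/-- a graded ring of finite type over a ring mapping to degree zero: a uniform degree `e > 0`
and finitely many elements of degree `e` whose `D_+` cover `Proj`. -/
theorem exists_deg_cover {R : Type u} [CommRing R] (φ : R →+* A) (hφ0 : ∀ r, φ r ∈ 𝒜 0)
    (hft : φ.FiniteType) :
    ∃ e : ℕ, 0 < e ∧ ∃ t : Finset A, (∀ g ∈ t, g ∈ 𝒜 e) ∧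
      ∀ y : Proj 𝒜, ∃ g ∈ t, g ∉ y.asHomogeneousIdeal := by
  classical
  letI := φ.toAlgebra
  obtain ⟨s, hs⟩ : ∃ s : Finset A, Algebra.adjoin R (s : Set A) = ⊤ := hft.out
  let G : Finset A := s.biUnion (fun a => (DFinsupp.support (DirectSum.decompose 𝒜 a)).image
    (fun i => ((DirectSum.decompose 𝒜 a i : 𝒜 i) : A)))
  let Gp : Finset A := G.filter (fun g => ∃ i, 0 < i ∧ g ∈ 𝒜 i)
  have hgen : ∀ a : A, a ∈ Subring.closure ((𝒜 0 : Set A) ∪ (Gp : Set A)) := by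
    intro a
    have ha : a ∈ Algebra.adjoin R (s : Set A) := by rw [hs]; trivial
    induction ha using Algebra.adjoin_induction with
    | mem x hx =>
      rw [← DirectSum.sum_support_decompose 𝒜 x]
      refine Subring.sum_mem _ (fun i hi => ?_)
      by_cases hi0 : i = 0
      · subst hi0
        exact Subring.subset_closure (Or.inl (SetLike.coe_mem _))
      · refine Subring.subset_closure (Or.inr ?_)
        have hG : ((DirectSum.decompose 𝒜 x i : 𝒜 i) : A) ∈ G :=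
          Finset.mem_biUnion.2 ⟨x, hx, Finset.mem_image.2 ⟨i, hi, rfl⟩⟩
        exact Finset.mem_coe.2 (Finset.mem_filter.2
          ⟨hG, i, Nat.pos_of_ne_zero hi0, SetLike.coe_mem _⟩)
    | algebraMap r => exact Subring.subset_closure (Or.inl (hφ0 r))
    | add x y _ _ hx hy => exact add_mem hx hy
    | mul x y _ _ hx hy => exact mul_mem hx hy
  have hcov : ∀ y : Proj 𝒜, ∃ g ∈ Gp, g ∉ y.asHomogeneousIdeal := by
    intro y
    obtain ⟨g, hg, hgy⟩ := Groth.Agent.Helper28.ProjBundleEpi.exists_gen_nmem 𝒜 y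
      (Gp : Set A) hgen
    exact ⟨g, Finset.mem_coe.1 hg, hgy⟩
  let δ : A → ℕ := fun g => if h : ∃ i, 0 < i ∧ g ∈ 𝒜 i then h.choose else 1
  have hδ : ∀ g ∈ Gp, 0 < δ g ∧ g ∈ 𝒜 (δ g) := by
    intro g hg
    have h : ∃ i, 0 < i ∧ g ∈ 𝒜 i := (Finset.mem_filter.1 hg).2
    have e1 : δ g = h.choose := dif_pos h
    rw [e1]
    exact h.choose_spec
  refine ⟨∏ g ∈ Gp, δ g, Finset.prod_pos (fun g hg => (hδ g hg).1),
    Gp.image (fun g => g ^ ((∏ g' ∈ Gp, δ g') / δ g)), ?_, ?_⟩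
  · intro g' hg'
    obtain ⟨g, hg, rfl⟩ := Finset.mem_image.1 hg'
    have hdvd : δ g ∣ ∏ g' ∈ Gp, δ g' := Finset.dvd_prod_of_mem δ hg
    have h1 := SetLike.pow_mem_graded ((∏ g' ∈ Gp, δ g') / δ g) (hδ g hg).2
    rwa [smul_eq_mul, Nat.div_mul_cancel hdvd] at h1
  · intro y
    obtain ⟨g, hg, hgy⟩ := hcov y
    refine ⟨g ^ ((∏ g' ∈ Gp, δ g') / δ g), Finset.mem_image.2 ⟨g, hg, rfl⟩, fun h => hgy ?_⟩
    exact (show y.asHomogeneousIdeal.toIdeal.IsPrime from y.isPrime).mem_of_pow_mem _ h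

end Groth.Agent.Helper28.GrTwistMul
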