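import Mathlib
import Groth.Agent.Lib.Helper28.GrTwistAmple
import Groth.Agent.Lib.Helper13.AmpleLocal
import Groth.Agent.Lib.Helper13.AmpleRestrict

/-!
# `O(d)` restricted to quasi-compact opens of `Proj` (general gradings; port of `TwistCover`)
(helper28)
-/

set_option autoImplicit false
universe u
open CategoryTheory AlgebraicGeometry Opposite TopologicalSpace TopCat

namespace Groth.Agent.Helper28.GrTwistMul

open Groth.Agent.Helper13 Groth.Agent.Helper13.QCoh Groth.Agent.Helper13.FinType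

variable {A σ : Type u} [CommRing A] [SetLike σ A] [AddSubgroupClass σ A] (𝒜 : ℕ → σ)
  [GradedRing 𝒜]

open GrTwist

/-- invertibility of `O(m)` over an open covered by `D_+(g)`'s with `deg g` dividing `m`. -/
theorem isInvertible_restrict_of_cover (Y : (Proj 𝒜).Opens) (m : ℤ)
    (hcov : ∀ y ∈ Y, ∃ (e : ℕ) (g : A) (k : ℤ), g ∈ 𝒜 e ∧ g ∉ y.asHomogeneousIdeal ∧ m = k * e) :
    PicF.IsInvertible ((GrTwist.twist 𝒜 m).restrict Y.ι) := by
  apply Ample.isInvertible_of_forall_exists_restrict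
  intro y
  obtain ⟨e, g, k, hg, hgy, hm⟩ := hcov y.1 y.2
  have hle : Y ⊓ Proj.basicOpen 𝒜 g ≤ Y := inf_le_left
  have hle' : Y ⊓ Proj.basicOpen 𝒜 g ≤ Proj.basicOpen 𝒜 g := inf_le_right
  refine ⟨↑(Y ⊓ Proj.basicOpen 𝒜 g), (Proj 𝒜).homOfLE hle, inferInstance,
    ⟨⟨y.1, ⟨y.2, hgy⟩⟩, Scheme.homOfLE_apply' hle y.1 ⟨y.2, hgy⟩⟩, ?_⟩
  obtain ⟨ε⟩ := twist_restrict_iso' 𝒜 hg k hm
  have h1 : PicF.IsInvertible ((GrTwist.twist 𝒜 m).restrict (Proj.basicOpen 𝒜 g).ι) :=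
    Inv.isInvertible_of_iso ε.symm Inv.isInvertible_structureModule
  have h2 := Inv.isInvertible_restrict ((Proj 𝒜).homOfLE hle') _ h1
  have h3 : PicF.IsInvertible ((GrTwist.twist 𝒜 m).restrict (Y ⊓ Proj.basicOpen 𝒜 g).ι) :=
    Inv.isInvertible_of_iso (Ample.restrictRestrictIso ((Proj 𝒜).homOfLE hle') _ _
      ((Proj 𝒜).homOfLE_ι hle') _) h2
  exact Inv.isInvertible_of_iso (Ample.restrictRestrictIso ((Proj 𝒜).homOfLE hle) Y.ι _
      ((Proj 𝒜).homOfLE_ι hle) _).symm h3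

/-- `O(d)` is ample on a quasi-compact open covered by finitely many `D_+(g)`, `deg g = d`. -/
theorem isAmple_restrict_of_cover (Y : (Proj 𝒜).Opens) (hY : IsCompact (Y : Set (Proj 𝒜)))
    {d : ℕ} (hd : 0 < d) (t : Finset A) (htdeg : ∀ g ∈ t, g ∈ 𝒜 d)
    (htle : ∀ g ∈ t, Proj.basicOpen 𝒜 g ≤ Y)
    (htcov : ∀ y ∈ Y, ∃ g ∈ t, g ∉ y.asHomogeneousIdeal) :
    CohB1.IsAmple ((GrTwist.twist 𝒜 (d : ℤ)).restrict Y.ι) := by
  haveI : CompactSpace (Y : Scheme.{u}) := isCompact_iff_compactSpace.mp hY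
  refine ⟨?_, inferInstance, fun x => ?_⟩
  · apply isInvertible_restrict_of_cover
    intro y hy
    obtain ⟨g, hg, hgy⟩ := htcov y hy
    exact ⟨d, g, 1, htdeg g hg, hgy, (one_mul _).symm⟩
  · obtain ⟨g, hg, hgx⟩ := htcov x.1 x.2
    have h : (d : ℤ) = 0 + (d : ℤ) := (zero_add _).symm
    have hgl : Y ⊓ CohB1.genLocus _ (secHom 𝒜 (htdeg g hg) h) = Proj.basicOpen 𝒜 g := by
      apply le_antisymm
      · rintro p ⟨hpY, hp⟩
        change g ∉ p.asHomogeneousIdeal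
        intro hgp
        obtain ⟨k, hk, hkp⟩ := htcov p hpY
        exact hkp (mem_of_mem_genLocus 𝒜 (htdeg g hg) h (htdeg k hk) p hp hgp)
      · exact le_inf (htle g hg) (le_genLocus_secHom 𝒜 (htdeg g hg) h)
    obtain ⟨s', hs'⟩ := GenLoc.exists_tensorPow_one ((GrTwist.twist 𝒜 (d : ℤ)).restrict Y.ι)
      (Ample.restrictSec Y.ι (secHom 𝒜 (htdeg g hg) h))
    have hloc : CohB1.genLocus _ s' =
        Y.ι ⁻¹ᵁ CohB1.genLocus _ (secHom 𝒜 (htdeg g hg) h) := by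
      rw [hs', Ample.genLocus_restrictSec]
    refine ⟨0, s', ?_, ?_⟩
    · rw [hloc]
      exact le_genLocus_secHom 𝒜 (htdeg g hg) h hgx
    · rw [hloc, ← Scheme.Hom.isAffineOpen_iff_of_isOpenImmersion Y.ι,
        Scheme.Hom.image_preimage_eq_opensRange_inf, Scheme.Opens.opensRange_ι, hgl]
      exact Proj.isAffineOpen_basicOpen 𝒜 _ (htdeg g hg) hd

end Groth.Agent.Helper28.GrTwistMul
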