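import Mathlib
import Groth.Agent.Lib.Helper28.ProjBundleEpi

/-!
# For `L ≅ i^* O_{P(E)}(1)` the counit `q^* q_* L ⟶ L` is an epimorphism (helper28)
-/

set_option autoImplicit false
universe u
open CategoryTheory CategoryTheory.Limits AlgebraicGeometry Opposite TopologicalSpace DirectSum
open scoped HomogeneousIdeal

noncomputable section

namespace Groth.Agent.Helper28.VeryAmpleCounit

open Groth.Agent.Helper28.ChartGlue GrTwist Groth.Agent.Helper28.GrTwistMul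
  Groth.Agent.Helper28.RelSys Groth.Agent.Helper13.QCoh Groth.Agent.Helper13
  Groth.Agent.Helper28.ProjBundleEpi

section General

variable {X : Scheme.{u}}

lemma stalkMap_comp_apply {F G H : X.Modules} (φ : F ⟶ G) (k : G ⟶ H) (y : X)
    (m : F.presheaf.stalk y) : stalkMap (φ ≫ k) y m = stalkMap k y (stalkMap φ y m) := by
  obtain ⟨V, hyV, t, rfl⟩ := TopCat.Presheaf.exists_germ_eq F.presheaf m
  rw [stalkMap_germ, stalkMap_germ, stalkMap_germ]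
  rfl

lemma stalkMap_id_apply {F : X.Modules} (y : X) (m : F.presheaf.stalk y) :
    stalkMap (𝟙 F) y m = m := by
  obtain ⟨V, hyV, t, rfl⟩ := TopCat.Presheaf.exists_germ_eq F.presheaf m
  rw [stalkMap_germ]
  rfl

/-- the counit evaluated on a pulled-back section of the direct image. -/
lemma counit_app_ηsec {Y : Scheme.{u}} (q : X ⟶ Y) (L : X.Modules) (U : Y.Opens)
    (a : Γ((Scheme.Modules.pushforward q).obj L, U)) :
    ((Scheme.Modules.pullbackPushforwardAdjunction q).counit.app L).app (q ⁻¹ᵁ U)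
      (PbGen.ηsec q ((Scheme.Modules.pushforward q).obj L) U a) = a := by
  have e0 := PbGen.homEquiv_app q ((Scheme.Modules.pushforward q).obj L)
    ((Scheme.Modules.pullbackPushforwardAdjunction q).counit.app L) U a
  rw [Adjunction.homEquiv_unit, Adjunction.right_triangle_components] at e0
  exact e0.symm

end General

variable {S : Scheme.{u}} {𝒮 : RelProj.QCGrAlg S} {P : Scheme.{u}} {p : P ⟶ S}
  {chart : ∀ (U : S.Opens) (hU : IsAffineOpen U),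
    (((p ⁻¹ᵁ U : P.Opens) : Scheme.{u}) ≅ Proj (𝒮.deg U hU))}

/-- **very ample ⟹ the counit `q^* q_* L ⟶ L` is an epimorphism** (for `q = i ≫ p`,
`L ≅ i^* O_{P(E)}(1)`; `i` may be any morphism). -/
theorem epi_counit {X : Scheme.{u}} (E : S.Modules) [E.IsQuasicoherent] (j : E ⟶ 𝒮.toModule)
    (hj : RelProj.IsGrSymAlg E 𝒮 j) {O1 : P.Modules}
    {lam : ∀ (U : S.Opens) (hU : IsAffineOpen U),
      O1 ⟶ (Scheme.Modules.pushforward (RelProj.emb p chart U hU)).obj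
        (GrTwist.twist (𝒮.deg U hU) 1)}
    (hO1 : RelProj.IsRelTwist 𝒮 p chart 1 O1 lam) (i : X ⟶ P) (L : X.Modules)
    (ε : L ≅ (Scheme.Modules.pullback i).obj O1) :
    Epi ((Scheme.Modules.pullbackPushforwardAdjunction (i ≫ p)).counit.app L) := by
  apply FinType.epi_of_stalkMap_surjective
  intro x m
  obtain ⟨U, hzU⟩ := cover p (i.base x)
  have hzr : i.base x ∈ (RelProj.emb p chart U.1 U.2).opensRange := by
    rw [RelTwist.opensRange_emb]; exact hzU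
  obtain ⟨y, hyz⟩ := hzr
  obtain ⟨e, he⟩ := exists_section_nmem E j hj U.1 U.2 y
  have hf1 : ((j.app U.1) e : 𝒮.presheaf.obj (op U.1)) ∈ 𝒮.deg U.1 U.2 1 := hj.2 U.1 U.2 e
  obtain ⟨f, hfdef⟩ : ∃ f : 𝒮.presheaf.obj (op U.1),
      ((j.app U.1) e : 𝒮.presheaf.obj (op U.1)) = f := ⟨_, rfl⟩
  rw [hfdef] at he hf1
  have hab : (((1 : ℕ) • 1 : ℕ) : ℤ) = (((0 : ℕ) • 1 : ℕ) : ℤ) + 1 := by simp
  -- the section `f / 1` of `O(1)` over `p⁻¹ U`
  have nintop : ∀ y' : (RelProj.emb p chart U.1 U.2 ⁻¹ᵁ (p ⁻¹ᵁ U.1) :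
      (Proj (𝒮.deg U.1 U.2)).Opens), f ^ 0 ∉ y'.1.asHomogeneousIdeal := by
    intro y'
    rw [pow_zero]
    exact one_nmem (𝒮.deg U.1 U.2) y'.1
  obtain ⟨s1, hs1⟩ := (hO1.bijective U.1 U.2 (p ⁻¹ᵁ U.1) le_rfl).2
    (twFrac (𝒮.deg U.1 U.2) 1 (RelProj.emb p chart U.1 U.2 ⁻¹ᵁ (p ⁻¹ᵁ U.1))
      ⟨f ^ 1, SetLike.pow_mem_graded 1 hf1⟩ ⟨f ^ 0, SetLike.pow_mem_graded 0 hf1⟩ nintop hab)
  let W0 : P.Opens := (RelProj.emb p chart U.1 U.2) ''ᵁ (Proj.basicOpen (𝒮.deg U.1 U.2) f)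
  have hW0U : W0 ≤ p ⁻¹ᵁ U.1 := RelTwist.image_emb_le p chart U.1 U.2 _
  have hzW0 : i.base x ∈ W0 := ⟨y, (Proj.mem_basicOpen _ _ _).2 he, hyz⟩
  -- claim A
  have claimA : ∀ (W : P.Opens) (s : Γ(O1, W)),
      ∃ c : Γ(P, W ⊓ W0), rs O1 (inf_le_left : W ⊓ W0 ≤ W) s =
        (c • rs O1 ((inf_le_right : W ⊓ W0 ≤ W0).trans hW0U) s1 : Γ(O1, W ⊓ W0)) := by
    intro W s
    have h3U : W ⊓ W0 ≤ p ⁻¹ᵁ U.1 := (inf_le_right : W ⊓ W0 ≤ W0).trans hW0U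
    have hV : ∀ y' : (RelProj.emb p chart U.1 U.2 ⁻¹ᵁ (W ⊓ W0) : (Proj (𝒮.deg U.1 U.2)).Opens),
        f ∉ y'.1.asHomogeneousIdeal := by
      intro y'
      have h1 : (RelProj.emb p chart U.1 U.2).base y'.1 ∈ W0 :=
        (show (RelProj.emb p chart U.1 U.2).base y'.1 ∈ W ⊓ W0 from y'.2).2
      obtain ⟨z, hz, hzy⟩ := h1
      have hzy' : z = y'.1 := (RelProj.emb p chart U.1 U.2).isOpenEmbedding.injective hzy
      rw [← hzy']
      exact (Proj.mem_basicOpen _ _ _).1 hz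
    have nin : ∀ y' : (RelProj.emb p chart U.1 U.2 ⁻¹ᵁ (W ⊓ W0) :
        (Proj (𝒮.deg U.1 U.2)).Opens), f ^ 0 ∉ y'.1.asHomogeneousIdeal := fun y' h =>
      hV y' ((show y'.1.asHomogeneousIdeal.toIdeal.IsPrime from y'.1.isPrime).mem_of_pow_mem 0 h)
    have hσ' : (lam U.1 U.2).app (W ⊓ W0) (rs O1 h3U s1) =
        twFrac (𝒮.deg U.1 U.2) 1 (RelProj.emb p chart U.1 U.2 ⁻¹ᵁ (W ⊓ W0))
          ⟨f ^ 1, SetLike.pow_mem_graded 1 hf1⟩ ⟨f ^ 0, SetLike.pow_mem_graded 0 hf1⟩ nin hab := by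
      rw [app_rs, hs1]
      exact twist_sec_ext (𝒮.deg U.1 U.2) 1
        (V := RelProj.emb p chart U.1 U.2 ⁻¹ᵁ (W ⊓ W0)) _ _ (fun y' => rfl)
    have hbij := smul_sec_bijective_local hO1 U hf1 0 1 hab (W ⊓ W0) h3U hV nin
      (rs O1 h3U s1) hσ'
    obtain ⟨c, hc⟩ := hbij.2 (rs O1 (inf_le_left : W ⊓ W0 ≤ W) s)
    exact ⟨c, hc.symm⟩
  -- the generator of the stalk
  have hx1 : x ∈ i ⁻¹ᵁ (p ⁻¹ᵁ U.1) := hzU
  let t1 : Γ((Scheme.Modules.pullback i).obj O1, i ⁻¹ᵁ (p ⁻¹ᵁ U.1)) :=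
    PbGen.ηsec i O1 (p ⁻¹ᵁ U.1) s1
  let g0 := ((Scheme.Modules.pullback i).obj O1).presheaf.germ (i ⁻¹ᵁ (p ⁻¹ᵁ U.1)) x hx1 t1
  have claimB : ∀ m' : ((Scheme.Modules.pullback i).obj O1).presheaf.stalk x,
      ∃ ρ : X.presheaf.stalk x, m' = ρ • g0 := by
    intro m'
    have hm' : m' ∈ PbGen.genSpan i O1 x := by rw [PbGen.genSpan_eq_top]; trivial
    unfold PbGen.genSpan at hm'
    induction hm' using Submodule.span_induction with
    | mem m0 hm0 =>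
      obtain ⟨W, hzW, s, rfl⟩ := hm0
      obtain ⟨c, hc⟩ := claimA W s
      have hx3 : x ∈ i ⁻¹ᵁ (W ⊓ W0) := ⟨hzW, hzW0⟩
      refine ⟨X.presheaf.germ (i ⁻¹ᵁ (W ⊓ W0)) x hx3 ((i.app (W ⊓ W0)).hom c), ?_⟩
      have e1 := TopCat.Presheaf.germ_res_apply ((Scheme.Modules.pullback i).obj O1).presheaf
        ((Opens.map i.base).map (homOfLE (inf_le_left : W ⊓ W0 ≤ W))) x hx3
        (PbGen.ηsec i O1 W s)
      have e2 := PbGen.ηsec_res i O1 (homOfLE (inf_le_left : W ⊓ W0 ≤ W)) s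
      have e3 := TopCat.Presheaf.germ_res_apply ((Scheme.Modules.pullback i).obj O1).presheaf
        ((Opens.map i.base).map (homOfLE ((inf_le_right : W ⊓ W0 ≤ W0).trans hW0U))) x hx3 t1
      have e4 := PbGen.ηsec_res i O1 (homOfLE ((inf_le_right : W ⊓ W0 ≤ W0).trans hW0U)) s1
      have e5 := PbGen.ηsec_smul i O1 (W ⊓ W0) c
        (rs O1 ((inf_le_right : W ⊓ W0 ≤ W0).trans hW0U) s1)
      have e6 := germ_smul ((Scheme.Modules.pullback i).obj O1) (i ⁻¹ᵁ (W ⊓ W0)) x hx3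
        ((i.app (W ⊓ W0)).hom c)
        (PbGen.ηsec i O1 (W ⊓ W0) (rs O1 ((inf_le_right : W ⊓ W0 ≤ W0).trans hW0U) s1))
      rw [← e1, ← e2]
      change ((Scheme.Modules.pullback i).obj O1).presheaf.germ _ x hx3
        (PbGen.ηsec i O1 (W ⊓ W0) (rs O1 (inf_le_left : W ⊓ W0 ≤ W) s)) = _
      rw [hc, e5]
      refine e6.trans ?_
      congr 1
      exact (congrArg (fun z => ((Scheme.Modules.pullback i).obj O1).presheaf.germ
        (i ⁻¹ᵁ (W ⊓ W0)) x hx3 z) e4).trans e3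
    | zero => exact ⟨0, (zero_smul _ _).symm⟩
    | add a b _ _ ha hb =>
      obtain ⟨ρ, hρ⟩ := ha
      obtain ⟨ρ', hρ'⟩ := hb
      exact ⟨ρ + ρ', by rw [hρ, hρ', add_smul]⟩
    | smul r a _ ha =>
      obtain ⟨ρ, hρ⟩ := ha
      exact ⟨r * ρ, by rw [hρ, mul_smul]⟩
  obtain ⟨ρ, hρ⟩ := claimB (stalkMap ε.hom x m)
  -- the section of `q_* L` over `U`
  let a : Γ((Scheme.Modules.pushforward (i ≫ p)).obj L, U.1) :=
    ε.inv.app (i ⁻¹ᵁ (p ⁻¹ᵁ U.1)) t1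
  have hxq : x ∈ (i ≫ p) ⁻¹ᵁ U.1 := hzU
  have hC := stalkMap_germ ((Scheme.Modules.pullbackPushforwardAdjunction (i ≫ p)).counit.app L) x
    ((i ≫ p) ⁻¹ᵁ U.1) hxq
    (PbGen.ηsec (i ≫ p) ((Scheme.Modules.pushforward (i ≫ p)).obj L) U.1 a)
  rw [counit_app_ηsec] at hC
  have e7 : stalkMap ε.inv x (stalkMap ε.hom x m) = m := by
    rw [← stalkMap_comp_apply, ε.hom_inv_id]
    exact stalkMap_id_apply x m
  have h3 : m = ρ • stalkMap ε.inv x g0 :=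
    e7.symm.trans ((congrArg (fun z => stalkMap ε.inv x z) hρ).trans
      (stalkMap_smul ε.inv x ρ g0))
  have h4 : stalkMap ε.inv x g0 =
      L.presheaf.germ (i ⁻¹ᵁ (p ⁻¹ᵁ U.1)) x hx1 (ε.inv.app _ t1) :=
    stalkMap_germ ε.inv x _ hx1 t1
  refine ⟨ρ • ((Scheme.Modules.pushforward (i ≫ p) ⋙ Scheme.Modules.pullback (i ≫ p)).obj
      L).presheaf.germ ((i ≫ p) ⁻¹ᵁ U.1) x hxq
      (PbGen.ηsec (i ≫ p) ((Scheme.Modules.pushforward (i ≫ p)).obj L) U.1 a), ?_⟩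
  refine (stalkMap_smul _ x ρ _).trans ?_
  exact (congrArg (fun z => ρ • z) (hC.trans h4.symm)).trans h3.symm

end Groth.Agent.Helper28.VeryAmpleCounit

end
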