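import Mathlib
import Groth.Agent.Lib.Helper28.GrTwistCover
import Groth.Agent.Lib.Helper28.VeryAmpleCounit
import Groth.Agent.Lib.Helper13.PbAmple
import Groth.Agent.Lib.Helper13.PullbackLocal
import Groth.Agent.Lib.Helper13.QAffRel

/-!
# Pullback of `O_{P(E)}(1)` along a topological embedding over `Y` is relatively ample (helper28)
-/

set_option autoImplicit false
universe u
open CategoryTheory CategoryTheory.Limits AlgebraicGeometry Opposite TopologicalSpace DirectSum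
open scoped HomogeneousIdeal

noncomputable section

namespace Groth.Agent.Helper28.EmbRelAmple

open Groth.Agent.Helper28.ChartGlue GrTwist Groth.Agent.Helper28.GrTwistMul
  Groth.Agent.Helper28.RelSys Groth.Agent.Helper13.QCoh Groth.Agent.Helper13
  Groth.Agent.Helper28.ProjBundleEpi

variable {S : Scheme.{u}} {𝒮 : RelProj.QCGrAlg S} {P : Scheme.{u}} {p : P ⟶ S}
  {chart : ∀ (U : S.Opens) (hU : IsAffineOpen U),
    (((p ⁻¹ᵁ U : P.Opens) : Scheme.{u}) ≅ Proj (𝒮.deg U hU))}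

/-- the chartwise statement: over an affine open `V` of `S`, the pullback of `O_P(1)` to
`g⁻¹ p⁻¹ V` along a topological embedding `g` (with `g⁻¹ p⁻¹ V` quasi-compact) is ample. -/
theorem isAmple_restrict_pullback {X : Scheme.{u}} (E : S.Modules) [E.IsQuasicoherent]
    (j : E ⟶ 𝒮.toModule) (hj : RelProj.IsGrSymAlg E 𝒮 j) {O1 : P.Modules}
    {lam : ∀ (U : S.Opens) (hU : IsAffineOpen U),
      O1 ⟶ (Scheme.Modules.pushforward (RelProj.emb p chart U hU)).obj
        (GrTwist.twist (𝒮.deg U hU) 1)}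
    (hO1 : RelProj.IsRelTwist 𝒮 p chart 1 O1 lam) (g : X ⟶ P)
    (hemb : Topology.IsEmbedding g.base) (V : S.Opens) (hV : IsAffineOpen V)
    (hc : IsCompact ((g ⁻¹ᵁ (p ⁻¹ᵁ V) : X.Opens) : Set X)) :
    CohB1.IsAmple (((Scheme.Modules.pullback g).obj O1).restrict (g ⁻¹ᵁ (p ⁻¹ᵁ V)).ι) := by
  classical
  let XV : X.Opens := g ⁻¹ᵁ (p ⁻¹ᵁ V)
  haveI : CompactSpace ((XV : X.Opens) : Scheme.{u}) := isCompact_iff_compactSpace.mp hc
  let emb := RelProj.emb p chart V hV
  let k : ((XV : X.Opens) : Scheme.{u}) ⟶ P := XV.ι ≫ g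
  have hk : Set.range k ⊆ Set.range emb := by
    rintro _ ⟨x, rfl⟩
    have h1 : k x ∈ (p ⁻¹ᵁ V : P.Opens) := x.2
    rw [← RelTwist.opensRange_emb p chart V hV] at h1
    exact h1
  let k' : ((XV : X.Opens) : Scheme.{u}) ⟶ Proj (𝒮.deg V hV) := IsOpenImmersion.lift emb k hk
  have hk' : k' ≫ emb = k := IsOpenImmersion.lift_fac emb k hk
  have hkemb : Topology.IsEmbedding k := hemb.comp XV.ι.isOpenEmbedding.isEmbedding
  have hk'emb : Topology.IsEmbedding k' := by
    have h1 : Topology.IsEmbedding (emb ∘ k') := by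
      have e1 : (emb ∘ k' : ((XV : X.Opens) : Scheme.{u}) → P) = k := by
        funext x
        change (k' ≫ emb) x = k x
        rw [hk']
      rw [e1]
      exact hkemb
    exact (emb.isOpenEmbedding.isEmbedding.of_comp_iff).mp h1
  -- the degree one elements coming from sections of `E`
  let jj : Γ(E, V) → 𝒮.presheaf.obj (op V) := fun e => ((j.app V) e : 𝒮.presheaf.obj (op V))
  have hjj : ∀ e, jj e ∈ 𝒮.deg V hV 1 := fun e => hj.2 V hV e
  have hrc : IsCompact (Set.range k') := isCompact_range k'.continuous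
  obtain ⟨F, hF⟩ := hrc.elim_finite_subcover
    (fun e : Γ(E, V) => (Proj.basicOpen (𝒮.deg V hV) (jj e) : Set (Proj (𝒮.deg V hV))))
    (fun e => (Proj.basicOpen (𝒮.deg V hV) (jj e)).2)
    (by
      intro y _
      obtain ⟨e, he⟩ := exists_section_nmem E j hj V hV y
      exact Set.mem_iUnion.2 ⟨e, he⟩)
  let Q : (Proj (𝒮.deg V hV)).Opens := ⨆ e : F, Proj.basicOpen (𝒮.deg V hV) (jj e.1)
  have hQc : IsCompact (Q : Set (Proj (𝒮.deg V hV))) := by
    rw [Opens.coe_iSup]
    exact isCompact_iUnion (fun e : F =>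
      (Proj.isAffineOpen_basicOpen (𝒮.deg V hV) _ (hjj e.1) Nat.one_pos).isCompact)
  have hk'Q : Set.range k' ⊆ Set.range Q.ι := by
    rw [Scheme.Opens.range_ι]
    intro y hy
    obtain ⟨e, heF, hye⟩ := Set.mem_iUnion₂.1 (hF hy)
    exact Opens.mem_iSup.2 ⟨⟨e, heF⟩, hye⟩
  let k'' : ((XV : X.Opens) : Scheme.{u}) ⟶ ((Q : (Proj (𝒮.deg V hV)).Opens) : Scheme.{u}) :=
    IsOpenImmersion.lift Q.ι k' hk'Q
  have hk'' : k'' ≫ Q.ι = k' := IsOpenImmersion.lift_fac Q.ι k' hk'Q
  have hk''emb : Topology.IsEmbedding k'' := by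
    have h1 : Topology.IsEmbedding (Q.ι ∘ k'') := by
      have e1 : (Q.ι ∘ k'' : ((XV : X.Opens) : Scheme.{u}) → Proj (𝒮.deg V hV)) = k' := by
        funext x
        change (k'' ≫ Q.ι) x = k' x
        rw [hk'']
      rw [e1]
      exact hk'emb
    exact (Q.ι.isOpenEmbedding.isEmbedding.of_comp_iff).mp h1
  -- ampleness on `Q`
  have hamp0 := isAmple_restrict_of_cover (𝒮.deg V hV) Q hQc Nat.one_pos (F.image jj)
    (by
      intro a ha
      obtain ⟨e, _, rfl⟩ := Finset.mem_image.1 ha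
      exact hjj e)
    (by
      intro a ha
      obtain ⟨e, he, rfl⟩ := Finset.mem_image.1 ha
      exact le_iSup (fun e : F => Proj.basicOpen (𝒮.deg V hV) (jj e.1)) ⟨e, he⟩)
    (by
      intro y hy
      obtain ⟨e, hye⟩ := Opens.mem_iSup.1 hy
      exact ⟨jj e.1, Finset.mem_image_of_mem jj e.2, hye⟩)
  have hamp : CohB1.IsAmple ((GrTwist.twist (𝒮.deg V hV) 1).restrict Q.ι) := by
    have h1 : ((1 : ℕ) : ℤ) = 1 := Nat.cast_one
    rw [h1] at hamp0
    exact hamp0
  have hamp2 := PbAmple.isAmple_pullback_of_isEmbedding k'' _ hk''emb hamp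
  -- identify
  have hsq : XV.ι ≫ g = k'' ≫ (Q.ι ≫ emb) := by
    rw [← Category.assoc, hk'', hk']
  have e1 := (Groth.Agent.Helper13.Pullback.pullbackRestrictIso g XV.ι (Q.ι ≫ emb) k'' hsq).app O1
  have e3 : O1.restrict (Q.ι ≫ emb) ≅ (GrTwist.twist (𝒮.deg V hV) 1).restrict Q.ι :=
    (Ample.restrictRestrictIso Q.ι emb _ rfl O1).symm ≪≫
      (Scheme.Modules.restrictFunctor Q.ι).mapIso (RelTwist.restrictIso hO1 V hV)
  exact Ample.isAmple_of_iso ((e1 ≪≫ (Scheme.Modules.pullback k'').mapIso e3).symm) hamp2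

/-- **S5722**: a `Y`-morphism `g : X ⟶ P(E)` which is a topological embedding pulls `O(1)` back to
an `f`-ample module (`f = g ≫ p` quasi-compact). -/
theorem isRelAmple_pullback {X : Scheme.{u}} (E : S.Modules) [E.IsQuasicoherent]
    (j : E ⟶ 𝒮.toModule) (hj : RelProj.IsGrSymAlg E 𝒮 j) {O1 : P.Modules}
    {lam : ∀ (U : S.Opens) (hU : IsAffineOpen U),
      O1 ⟶ (Scheme.Modules.pushforward (RelProj.emb p chart U hU)).obj
        (GrTwist.twist (𝒮.deg U hU) 1)}
    (hO1 : RelProj.IsRelTwist 𝒮 p chart 1 O1 lam) (f : X ⟶ S) [QuasiCompact f] (g : X ⟶ P)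
    (hg : g ≫ p = f) (hemb : Topology.IsEmbedding g.base) :
    RelAmple.IsRelAmple f ((Scheme.Modules.pullback g).obj O1) := by
  subst hg
  refine ⟨inferInstance, fun V => ?_⟩
  exact isAmple_restrict_pullback E j hj hO1 g hemb V.1 V.2
    ((quasiCompact_iff_forall_isAffineOpen.mp (inferInstance : QuasiCompact (g ≫ p))) V.1 V.2)

/-- **S5721**: relatively very ample implies relatively ample. -/
theorem isRelAmple_of_isRelVeryAmple {X : Scheme.{u}} (f : X ⟶ S) [QuasiCompact f]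
    (L : X.Modules) (h : RelProj.IsRelVeryAmple f L) : RelAmple.IsRelAmple f L := by
  obtain ⟨E, hE, 𝒮, j, hj, P, p, chart, hP, O1, lam, hO1, i, himm, hip, ⟨ε⟩⟩ := h
  haveI : E.IsQuasicoherent := hE
  haveI := himm
  exact QAffRel.isRelAmple_of_iso f ε.symm
    (isRelAmple_pullback E j hj hO1 f i hip i.isEmbedding)

end Groth.Agent.Helper28.EmbRelAmple
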