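import Mathlib
import Groth.Agent.Lib.Helper28.EmbRelAmple
import Groth.Agent.Lib.Helper13.TensorPow
import Groth.Agent.Lib.Helper13.Ample

/-!
# A power very ample ⟹ relatively ample (helper28)
-/

set_option autoImplicit false
universe u
open CategoryTheory CategoryTheory.Limits AlgebraicGeometry Opposite TopologicalSpace

noncomputable section

namespace Groth.Agent.Helper28.EmbRelAmple

open Groth.Agent.Helper13

/-- **S5723**: if a positive tensor power of an invertible `L` is very ample relative to the
quasi-compact `f`, then `L` is `f`-ample. -/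
theorem isRelAmple_of_tensorPow_veryAmple {X S : Scheme.{u}} (f : X ⟶ S) [QuasiCompact f]
    (L : X.Modules) (hL : PicF.IsInvertible L) (n : ℕ) (hn : 0 < n)
    (h : RelProj.IsRelVeryAmple f (CohB1.tensorPow L n)) : RelAmple.IsRelAmple f L := by
  have h1 := isRelAmple_of_isRelVeryAmple f _ h
  refine ⟨h1.1, fun V => ?_⟩
  have h2 := h1.2 V
  have h3 := Ample.isAmple_of_iso (Tensor.powRestrict (f ⁻¹ᵁ V.1).ι L n) h2
  exact Ample.isAmple_of_isAmple_tensorPow _ (Inv.isInvertible_restrict (f ⁻¹ᵁ V.1).ι L hL) n hn h3

end Groth.Agent.Helper28.EmbRelAmple
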