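import Mathlib

/-!
# Splitting of filtrations passes to retracts
-/

namespace Groth.Agent.Helper28.FiltSplit

open DirectSum

variable {Γ : Type*} [LinearOrder Γ] {R : Type*} [CommRing R]
  {M N : Type*} [AddCommGroup M] [Module R M] [AddCommGroup N] [Module R N]

section proj
variable (G : Γ → Submodule R M) [Decomposition G]

/-- projection onto the `γ`-component. -/
noncomputable def pr (γ : Γ) : M →ₗ[R] M :=
  (G γ).subtype ∘ₗ (DirectSum.component R Γ (fun i => G i) γ) ∘ₗ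
    (decomposeLinearEquiv G).toLinearMap

lemma pr_apply (γ : Γ) (z : M) : pr G γ z = (decompose G z γ : M) := rfl

lemma pr_mem (γ : Γ) (z : M) : pr G γ z ∈ G γ := (decompose G z γ).2

lemma pr_of_mem_same {γ : Γ} {z : M} (hz : z ∈ G γ) : pr G γ z = z :=
  decompose_of_mem_same G hz

lemma pr_of_mem_ne {γ η : Γ} {z : M} (hz : z ∈ G η) (h : η ≠ γ) : pr G γ z = 0 :=
  decompose_of_mem_ne G hz h

lemma pr_eq_zero_of_mem_biSup (P : Γ → Prop) (γ : Γ) (hγ : ¬ P γ) {z : M}
    (hz : z ∈ ⨆ η, ⨆ (_ : P η), G η) : pr G γ z = 0 := by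
  have : (⨆ η, ⨆ (_ : P η), G η) ≤ LinearMap.ker (pr G γ) :=
    iSup₂_le fun η hη z hz => pr_of_mem_ne G hz (fun h => hγ (h ▸ hη))
  exact this hz

lemma sub_pr_mem_biSup (P : Γ → Prop) (γ : Γ) {z : M}
    (hz : z ∈ ⨆ η, ⨆ (_ : P η), G η) :
    z - pr G γ z ∈ ⨆ η, ⨆ (_ : P η ∧ η ≠ γ), G η := by
  have : (⨆ η, ⨆ (_ : P η), G η) ≤
      Submodule.comap (LinearMap.id - pr G γ) (⨆ η, ⨆ (_ : P η ∧ η ≠ γ), G η) := by
    refine iSup₂_le fun η hη z hz => ?_
    rw [Submodule.mem_comap, LinearMap.sub_apply, LinearMap.id_apply]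
    by_cases h : η = γ
    · subst h; rw [pr_of_mem_same G hz, sub_self]; exact Submodule.zero_mem _
    · rw [pr_of_mem_ne G hz h, sub_zero]
      exact Submodule.mem_iSup_of_mem η (Submodule.mem_iSup_of_mem ⟨hη, h⟩ hz)
  exact this hz

end proj

theorem split_of_retract [Module.Finite R M] (G : Γ → Submodule R M) (hG : IsInternal G)
    (π : M →ₗ[R] N) (ι : N →ₗ[R] M) (hπι : ∀ x, π (ι x) = x)
    (FM : Γ → Submodule R M) (FN : Γ → Submodule R N)
    (h1 : ∀ γ, FM γ = ⨆ η ∈ Set.Ici γ, G η)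
    (h2 : ∀ γ z, z ∈ FM γ → π z ∈ FN γ) (h3 : ∀ γ x, x ∈ FN γ → ι x ∈ FM γ) :
    ∃ G' : Γ → Submodule R N, IsInternal G' ∧ ∀ γ, FN γ = ⨆ η ∈ Set.Ici γ, G' η := by
  classical
  letI := hG.chooseDecomposition
  have hFMmono : ∀ γ η, γ ≤ η → FM η ≤ FM γ := by
    intro γ η h
    rw [h1, h1]
    exact iSup₂_le fun τ hτ => le_iSup₂_of_le τ (Set.mem_Ici.2 (le_trans h (Set.mem_Ici.1 hτ))) le_rfl
  have hFNmono : ∀ γ η, γ ≤ η → FN η ≤ FN γ := by
    intro γ η h x hx
    have := h2 γ _ (hFMmono γ η h (h3 η x hx))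
    rwa [hπι] at this
  have hGF : ∀ γ, G γ ≤ FM γ := fun γ => by
    rw [h1]; exact le_iSup₂_of_le γ (Set.mem_Ici.2 le_rfl) le_rfl
  let θ : Γ → N →ₗ[R] N := fun γ => π ∘ₗ pr G γ ∘ₗ ι
  let G' : Γ → Submodule R N := fun γ => (FN γ).map (θ γ)
  let Fgt : Γ → Submodule R N := fun γ => ⨆ η, ⨆ (_ : γ < η), FN η
  have ha : ∀ γ, G' γ ≤ FN γ := by
    rintro γ _ ⟨x, hx, rfl⟩
    exact h2 γ _ (hGF γ (pr_mem G γ _))
  have hi : ∀ γ x, x ∈ FN γ → x - θ γ x ∈ Fgt γ := by
    intro γ x hx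
    have hz : ι x ∈ ⨆ η, ⨆ (_ : η ∈ Set.Ici γ), G η := by rw [← h1]; exact h3 γ x hx
    have h4 := sub_pr_mem_biSup G (fun η => η ∈ Set.Ici γ) γ hz
    have h5 : (⨆ η, ⨆ (_ : η ∈ Set.Ici γ ∧ η ≠ γ), G η) ≤ Submodule.comap π (Fgt γ) := by
      refine iSup₂_le fun η hη z hz => ?_
      have hlt : γ < η := lt_of_le_of_ne hη.1 (Ne.symm hη.2)
      exact Submodule.mem_iSup_of_mem η (Submodule.mem_iSup_of_mem hlt (h2 η z (hGF η hz)))
    have h6 := h5 h4
    rw [Submodule.mem_comap, map_sub, hπι] at h6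
    exact h6
  have hii : ∀ γ r, r ∈ Fgt γ → θ γ r = 0 := by
    intro γ r hr
    have : Fgt γ ≤ LinearMap.ker (θ γ) := by
      refine iSup₂_le fun η hη x hx => ?_
      rw [LinearMap.mem_ker]
      have hz : ι x ∈ ⨆ τ, ⨆ (_ : τ ∈ Set.Ici η), G τ := by rw [← h1]; exact h3 η x hx
      show π (pr G γ (ι x)) = 0
      rw [pr_eq_zero_of_mem_biSup G (fun τ => τ ∈ Set.Ici η) γ (not_le.2 hη) hz, map_zero]
    exact this hr
  have hc : ∀ γ y, y ∈ G' γ → y ∈ Fgt γ → y = 0 := by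
    rintro γ _ ⟨x, hx, rfl⟩ hy
    have h4 := hii γ _ hy
    have h5 := hii γ _ (hi γ x hx)
    rw [map_sub, sub_eq_zero] at h5
    rw [h5]
    exact h4
  have hfin : ∃ S : Finset Γ, ∀ η, η ∉ S → G η = ⊥ := by
    have hcpt : IsCompactElement (⊤ : Submodule R M) :=
      (Submodule.fg_iff_compact ⊤).1 Module.Finite.fg_top
    obtain ⟨S, hS⟩ := CompleteLattice.IsCompactElement.exists_finset_of_le_iSup _ hcpt G (by rw [hG.submodule_iSup_eq_top])
    refine ⟨S, fun η hη => ?_⟩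
    have hind := hG.submodule_iSupIndep η
    refine hind.eq_bot_of_le ?_
    refine le_trans le_top (le_trans hS ?_)
    exact iSup₂_le fun τ hτ => le_iSup₂_of_le τ (fun h => hη (h ▸ hτ)) le_rfl
  obtain ⟨S, hS⟩ := hfin
  have hclaim : ∀ T : Finset Γ, (∀ τ ∈ T, ∀ η, τ ≤ η → G η ≠ ⊥ → η ∈ T) →
      (⨆ η ∈ T, G η).map π ≤ ⨆ η ∈ T, G' η := by
    intro T
    induction T using Finset.induction_on_min with
    | empty => intro _; simp
    | insert a s has ih =>
      intro hup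
      have hups : ∀ τ ∈ s, ∀ η, τ ≤ η → G η ≠ ⊥ → η ∈ s := by
        intro τ hτ η hle hne
        rcases Finset.mem_insert.1 (hup τ (Finset.mem_insert_of_mem hτ) η hle hne) with h | h
        · exact absurd (lt_of_lt_of_le (has τ hτ) hle) (by rw [h]; exact lt_irrefl _)
        · exact h
      have hFa : FM a = ⨆ η ∈ insert a s, G η := by
        rw [h1]
        apply le_antisymm
        · refine iSup₂_le fun η hη => ?_
          by_cases hne : G η = ⊥
          · rw [hne]; exact bot_le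
          · exact le_iSup₂_of_le η (hup a (Finset.mem_insert_self a s) η hη hne) le_rfl
        · refine iSup₂_le fun η hη => ?_
          refine le_iSup₂_of_le η ?_ le_rfl
          rcases Finset.mem_insert.1 hη with h | h
          · rw [h]; exact Set.mem_Ici.2 le_rfl
          · exact Set.mem_Ici.2 (le_of_lt (has η h))
      rintro _ ⟨z, hz, rfl⟩
      rw [SetLike.mem_coe, ← hFa] at hz
      have hx : π z ∈ FN a := h2 a z hz
      have hdec : π z = θ a (π z) + (π z - θ a (π z)) := by abel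
      rw [hdec]
      refine Submodule.add_mem _ ?_ ?_
      · exact Submodule.mem_iSup_of_mem a
          (Submodule.mem_iSup_of_mem (Finset.mem_insert_self a s) ⟨π z, hx, rfl⟩)
      · have h4 : ι (π z) ∈ ⨆ η, ⨆ (_ : η ∈ insert a s), G η := by
          rw [← hFa]; exact h3 a _ hx
        have h5 := sub_pr_mem_biSup G (fun η => η ∈ insert a s) a h4
        have h6 : (⨆ η, ⨆ (_ : η ∈ insert a s ∧ η ≠ a), G η) ≤ ⨆ η ∈ s, G η := by
          refine iSup₂_le fun η hη => le_iSup₂_of_le η ?_ le_rfl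
          rcases Finset.mem_insert.1 hη.1 with h | h
          · exact absurd h hη.2
          · exact h
        have h7 : π (ι (π z) - pr G a (ι (π z))) ∈ ⨆ η ∈ s, G' η :=
          ih hups ⟨_, h6 h5, rfl⟩
        rw [map_sub, hπι] at h7
        refine (?_ : (⨆ η ∈ s, G' η) ≤ ⨆ η ∈ insert a s, G' η) h7
        exact iSup₂_le fun η hη => le_iSup₂_of_le η (Finset.mem_insert_of_mem hη) le_rfl
  have hFN : ∀ γ, FN γ = ⨆ η ∈ Set.Ici γ, G' η := by
    intro γ
    apply le_antisymm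
    · intro x hx
      have hT : ∀ τ ∈ S.filter (γ ≤ ·), ∀ η, τ ≤ η → G η ≠ ⊥ → η ∈ S.filter (γ ≤ ·) := by
        intro τ hτ η hle hne
        rw [Finset.mem_filter] at hτ ⊢
        exact ⟨by_contra fun h => hne (hS η h), le_trans hτ.2 hle⟩
      have hFγ : FM γ = ⨆ η ∈ S.filter (γ ≤ ·), G η := by
        rw [h1]
        apply le_antisymm
        · refine iSup₂_le fun η hη => ?_
          by_cases hne : G η = ⊥
          · rw [hne]; exact bot_le
          · exact le_iSup₂_of_le η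
              (Finset.mem_filter.2 ⟨by_contra fun h => hne (hS η h), hη⟩) le_rfl
        · exact iSup₂_le fun η hη => le_iSup₂_of_le η (Finset.mem_filter.1 hη).2 le_rfl
      have h4 : x ∈ (⨆ η ∈ S.filter (γ ≤ ·), G η).map π := by
        rw [← hFγ]; exact ⟨ι x, h3 γ x hx, hπι x⟩
      have h5 := hclaim _ hT h4
      refine (?_ : (⨆ η ∈ S.filter (γ ≤ ·), G' η) ≤ _) h5
      exact iSup₂_le fun η hη => le_iSup₂_of_le η (Finset.mem_filter.1 hη).2 le_rfl
    · exact iSup₂_le fun η hη => le_trans (ha η) (hFNmono γ η hη)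
  refine ⟨G', ?_, hFN⟩
  rw [DirectSum.isInternal_submodule_iff_iSupIndep_and_iSup_eq_top]
  constructor
  · apply iSupIndep_of_dfinsupp_lsum_injective
    rw [injective_iff_map_eq_zero]
    intro m hm
    by_contra hne
    have hsupp : m.support.Nonempty := by
      rw [Finset.nonempty_iff_ne_empty]; intro h; exact hne (DFinsupp.support_eq_empty.1 h)
    set γ0 := m.support.min' hsupp with hγ0def
    have hγ0 : γ0 ∈ m.support := Finset.min'_mem _ _
    have hsum : (m γ0 : N) = - ∑ γ ∈ m.support.erase γ0, (m γ : N) := by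
      rw [DFinsupp.lsum_apply_apply, DFinsupp.sumAddHom_apply, DFinsupp.sum] at hm
      rw [← Finset.add_sum_erase _ _ hγ0] at hm
      exact eq_neg_of_add_eq_zero_left hm
    have hmem : (m γ0 : N) ∈ Fgt γ0 := by
      rw [hsum]
      refine Submodule.neg_mem _ (Submodule.sum_mem _ fun γ hγ => ?_)
      have hγ' := Finset.mem_erase.1 hγ
      have hlt : γ0 < γ := lt_of_le_of_ne (Finset.min'_le _ _ hγ'.2) (Ne.symm hγ'.1)
      exact Submodule.mem_iSup_of_mem γ (Submodule.mem_iSup_of_mem hlt (ha γ (m γ).2))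
    have h0 := hc γ0 _ (m γ0).2 hmem
    rw [DFinsupp.mem_support_toFun] at hγ0
    exact hγ0 (Subtype.ext h0)
  · rw [eq_top_iff]
    intro x _
    have hT : ∀ τ ∈ S, ∀ η, τ ≤ η → G η ≠ ⊥ → η ∈ S :=
      fun τ _ η _ hne => by_contra fun h => hne (hS η h)
    have htop : (⊤ : Submodule R M) = ⨆ η ∈ S, G η := by
      apply le_antisymm
      · rw [← hG.submodule_iSup_eq_top]
        refine iSup_le fun η => ?_
        by_cases hne : G η = ⊥
        · rw [hne]; exact bot_le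
        · exact le_iSup₂_of_le η (by_contra fun h => hne (hS η h)) le_rfl
      · exact le_top
    have h4 : x ∈ (⨆ η ∈ S, G η).map π := by
      rw [← htop]; exact ⟨ι x, trivial, hπι x⟩
    have h5 := hclaim S hT h4
    exact (iSup₂_le fun η _ => le_iSup G' η : (⨆ η ∈ S, G' η) ≤ iSup G') h5

end Groth.Agent.Helper28.FiltSplit
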