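import Mathlib
import Groth.Agent.Lib.Helper28.AffLocalBlowUp

/-!
# A finite modification which is an isomorphism off an effective Cartier divisor is a blow-up
-/
set_option autoImplicit false
universe u
open AlgebraicGeometry CategoryTheory CategoryTheory.Limits TopologicalSpace

namespace Groth.Agent.Helper28.FiniteModif

section alg

variable {A B : Type u} [CommRing A] [CommRing B] (φ : A →+* B) (t : A)

lemma injective_of_loc (ht : t ∈ nonZeroDivisors A)
    (hinj : ∀ a : A, φ a = 0 → ∃ k : ℕ, t ^ k * a = 0) : Function.Injective φ := by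
  rw [injective_iff_map_eq_zero]
  intro a ha
  obtain ⟨k, hk⟩ := hinj a ha
  exact (mul_cancel_left_mem_nonZeroDivisors (pow_mem ht k)).mp (by rw [hk, mul_zero])

lemma exists_bound (hfin : φ.Finite)
    (hsurj : ∀ b : B, ∃ (a : A) (k : ℕ), φ t ^ k * b = φ a) :
    ∃ n₀ : ℕ, ∀ n, n₀ ≤ n → ∀ b : B, ∃ a : A, φ t ^ n * b = φ a := by
  classical
  letI := φ.toAlgebra
  have hfin' : Module.Finite A B := hfin
  obtain ⟨S, hS⟩ := hfin'.fg_top
  choose a k hak using hsurj
  refine ⟨S.sup k, fun n hn b => ?_⟩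
  have hb : b ∈ Submodule.span A (S : Set B) := by rw [hS]; trivial
  induction hb using Submodule.span_induction with
  | mem s hs =>
    have hks : k s ≤ n := le_trans (Finset.le_sup (f := k) hs) hn
    refine ⟨t ^ (n - k s) * a s, ?_⟩
    rw [map_mul, map_pow, ← hak s, ← mul_assoc, ← pow_add, Nat.sub_add_cancel hks]
  | zero => exact ⟨0, by simp⟩
  | add x y _ _ hx hy =>
    obtain ⟨ax, hax⟩ := hx
    obtain ⟨ay, hay⟩ := hy
    exact ⟨ax + ay, by rw [mul_add, hax, hay, map_add]⟩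
  | smul c x _ hx =>
    obtain ⟨ax, hax⟩ := hx
    refine ⟨c * ax, ?_⟩
    rw [Algebra.smul_def, map_mul, ← hax]
    change φ t ^ n * (φ c * x) = φ c * (φ t ^ n * x)
    ring

lemma map_comap_span (n : ℕ) (hn : ∀ b : B, ∃ a : A, φ t ^ n * b = φ a) :
    (((Ideal.span {φ t ^ n}).comap φ).map φ : Set B) ⊆ φ '' ((Ideal.span {φ t ^ n}).comap φ : Set A) ∧
      ((Ideal.span {φ t ^ n}).comap φ).map φ = Ideal.span {φ t ^ n} := by
  have h2 : ((Ideal.span {φ t ^ n}).comap φ).map φ = Ideal.span {φ t ^ n} := by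
    apply le_antisymm Ideal.map_comap_le
    rw [Ideal.span_le, Set.singleton_subset_iff]
    have : t ^ n ∈ (Ideal.span {φ t ^ n}).comap φ := by
      rw [Ideal.mem_comap, map_pow]
      exact Ideal.mem_span_singleton_self _
    have h3 := Ideal.mem_map_of_mem φ this
    rwa [map_pow] at h3
  refine ⟨?_, h2⟩
  intro x hx
  rw [h2] at hx
  obtain ⟨c, rfl⟩ := Ideal.mem_span_singleton'.mp hx
  obtain ⟨a, ha⟩ := hn c
  refine ⟨a, ?_, by rw [← ha, mul_comm]⟩
  change a ∈ (Ideal.span {φ t ^ n}).comap φ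
  rw [Ideal.mem_comap, ← ha]
  exact Ideal.mul_mem_right _ _ (Ideal.mem_span_singleton_self _)

/-- localization statements from a commutative square whose lower arrow is bijective -/
lemma loc_of_square {A' B' : Type u} [CommRing A'] [CommRing B'] (ρA : A →+* A') (ρB : B →+* B')
    (φ' : A' →+* B') (hbij : Function.Bijective φ') (hsq : φ'.comp ρA = ρB.comp φ)
    (hA1 : ∀ a' : A', ∃ (n : ℕ) (a : A), a' * ρA t ^ n = ρA a)
    (hA2 : ∀ a : A, ρA a = 0 → ∃ k : ℕ, t ^ k * a = 0)
    (hB : ∀ z : B, ρB z = 0 → ∃ m : ℕ, φ t ^ m * z = 0)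
    (hnzd : φ t ∈ nonZeroDivisors B) :
    (∀ b : B, ∃ (a : A) (k : ℕ), φ t ^ k * b = φ a) ∧
      ∀ a : A, φ a = 0 → ∃ k : ℕ, t ^ k * a = 0 := by
  have hsq' : ∀ a, φ' (ρA a) = ρB (φ a) := fun a => by
    have := congrArg (fun m => m a) hsq
    simpa using this
  constructor
  · intro b
    obtain ⟨a', ha'⟩ := hbij.2 (ρB b)
    obtain ⟨n, a, hna⟩ := hA1 a'
    have h1 : ρB (φ t ^ n * b - φ a) = 0 := by
      have := congrArg φ' hna
      rw [map_mul, map_pow, ha', hsq', hsq'] at this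
      rw [map_sub, map_mul, map_pow, ← this]
      ring
    obtain ⟨m, hm⟩ := hB _ h1
    refine ⟨a, n, ?_⟩
    have h2 := (mul_cancel_left_mem_nonZeroDivisors (pow_mem hnzd m)).mp
      (show φ t ^ m * (φ t ^ n * b - φ a) = φ t ^ m * 0 by rw [hm, mul_zero])
    exact sub_eq_zero.mp h2
  · intro a ha
    apply hA2
    apply hbij.1
    rw [hsq', ha, map_zero, map_zero]

end alg

section geom

variable {X Y : Scheme.{u}} (f : X ⟶ Y) (L : Y.IdealSheafData)
  (V : Y.affineOpens) (t : Γ(Y, V.1)) (hLt : L.ideal V = Ideal.span {t})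

include hLt in
lemma basicOpen_le_compl : Y.basicOpen t ≤ L.support.compl := by
  intro x hx
  have hxV : x ∈ V.1 := Y.basicOpen_le t hx
  change x ∉ L.support
  rw [Scheme.IdealSheafData.mem_support_iff_of_mem hxV, Scheme.mem_zeroLocus_iff]
  intro h
  exact h t (by rw [hLt]; exact Ideal.mem_span_singleton_self t) hx

include hLt in
lemma mem_basicOpen_of_notMem_support (x : Y) (hxV : x ∈ V.1) (hx : x ∉ L.support) :
    x ∈ Y.basicOpen t := by
  rw [Scheme.IdealSheafData.mem_support_iff_of_mem hxV, Scheme.mem_zeroLocus_iff] at hx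
  push Not at hx
  obtain ⟨g, hg, hxg⟩ := hx
  rw [hLt] at hg
  obtain ⟨c, rfl⟩ := Ideal.mem_span_singleton'.mp hg
  rw [Scheme.basicOpen_mul] at hxg
  exact hxg.2

include hLt in
/-- `φ t` is a nonzerodivisor upstairs when `X` is reduced and the preimage of the complement of
the divisor is dense -/
lemma app_mem_nonZeroDivisors [IsReduced X]
    (hdense : Dense (f.base ⁻¹' ((L.support : Set Y)ᶜ))) :
    (f.app V.1).hom t ∈ nonZeroDivisors Γ(X, f ⁻¹ᵁ V.1) := by
  rw [mem_nonZeroDivisors_iff_right]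
  intro b hb
  rw [← basicOpen_eq_bot_iff]
  by_contra hne
  have hne' : ((X.basicOpen b : X.Opens) : Set X).Nonempty := by
    rw [Set.nonempty_iff_ne_empty]
    intro h
    exact hne (Opens.ext h)
  obtain ⟨x, hxb, hxs⟩ := hdense.inter_open_nonempty _ (X.basicOpen b).isOpen hne'
  have hxV : f x ∈ V.1 := X.basicOpen_le b hxb
  have h1 : f x ∈ Y.basicOpen t := mem_basicOpen_of_notMem_support L V t hLt (f x) hxV hxs
  have h2 : x ∈ X.basicOpen ((f.app V.1).hom t) := by
    have : x ∈ f ⁻¹ᵁ Y.basicOpen t := h1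
    rwa [Scheme.preimage_basicOpen] at this
  have h3 : x ∈ X.basicOpen (b * (f.app V.1).hom t) := by
    rw [Scheme.basicOpen_mul]
    exact ⟨hxb, h2⟩
  rw [hb, Scheme.basicOpen_zero] at h3
  exact h3

include hLt in
lemma isIso_app_basicOpen [IsAffineHom f] (hiso : IsIso (f ∣_ L.support.compl)) :
    IsIso (f.app (Y.basicOpen t)) := by
  set W : Y.Opens := L.support.compl with hW
  have hDW : Y.basicOpen t ≤ W := basicOpen_le_compl L V t hLt
  have hg : (f ⁻¹ᵁ W).ι ≫ f = (f ∣_ W) ≫ W.ι := (morphismRestrict_ι f W).symm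
  haveI : IsOpenImmersion ((f ⁻¹ᵁ W).ι ≫ f) := by rw [hg]; infer_instance
  have hrange : Y.basicOpen t ≤ ((f ⁻¹ᵁ W).ι ≫ f).opensRange := by
    intro y hy
    have hyW : y ∈ W := hDW hy
    obtain ⟨x', hx'⟩ := (ConcreteCategory.bijective_of_isIso (f ∣_ W).base).2 ⟨y, hyW⟩
    refine ⟨x', ?_⟩
    rw [hg, Scheme.Hom.comp_apply]
    have := congrArg W.ι hx'
    exact this
  have h1 : IsIso (((f ⁻¹ᵁ W).ι ≫ f).app (Y.basicOpen t)) := Scheme.Hom.isIso_app _ _ hrange
  rw [Scheme.Hom.comp_app] at h1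
  haveI : IsIso ((f ⁻¹ᵁ W).ι.app (f ⁻¹ᵁ Y.basicOpen t)) := by
    apply Scheme.Hom.isIso_app
    rw [Scheme.Opens.opensRange_ι]
    exact f.preimage_mono hDW
  exact @IsIso.of_isIso_comp_right _ _ _ _ _ (f.app (Y.basicOpen t))
    ((f ⁻¹ᵁ W).ι.app (f ⁻¹ᵁ Y.basicOpen t)) this h1

include hLt in
lemma loc_statements [IsAffineHom f] (hiso : IsIso (f ∣_ L.support.compl))
    (hnzd : (f.app V.1).hom t ∈ nonZeroDivisors Γ(X, f ⁻¹ᵁ V.1)) :
    (∀ b : Γ(X, f ⁻¹ᵁ V.1), ∃ (a : Γ(Y, V.1)) (k : ℕ),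
        (f.app V.1).hom t ^ k * b = (f.app V.1).hom a) ∧
      ∀ a : Γ(Y, V.1), (f.app V.1).hom a = 0 → ∃ k : ℕ, t ^ k * a = 0 := by
  haveI := isIso_app_basicOpen f L V t hLt hiso
  have hV' : IsAffineOpen (f ⁻¹ᵁ V.1) := V.2.preimage f
  have hlocA : IsLocalization.Away t Γ(Y, Y.basicOpen t) := V.2.isLocalization_basicOpen t
  have hlocB : IsLocalization.Away ((f.app V.1).hom t) Γ(X, X.basicOpen ((f.app V.1).hom t)) :=
    hV'.isLocalization_basicOpen _
  have eD : f ⁻¹ᵁ Y.basicOpen t ≤ f ⁻¹ᵁ V.1 := f.preimage_mono (Y.basicOpen_le t)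
  have eD' : X.basicOpen ((f.app V.1).hom t) ≤ f ⁻¹ᵁ Y.basicOpen t :=
    (Scheme.preimage_basicOpen f t).ge
  refine loc_of_square (f.app V.1).hom t (Y.presheaf.map (homOfLE (Y.basicOpen_le t)).op).hom
    (X.presheaf.map (homOfLE eD).op).hom (f.app (Y.basicOpen t)).hom
    (ConcreteCategory.bijective_of_isIso (f.app (Y.basicOpen t))) ?_ ?_ ?_ ?_ hnzd
  · rw [← CommRingCat.hom_comp, ← CommRingCat.hom_comp]
    congr 1
    rw [Scheme.Hom.app_eq_appLE, Scheme.Hom.app_eq_appLE, Scheme.Hom.map_appLE,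
      Scheme.Hom.appLE_map]
  · intro a'
    exact IsLocalization.Away.surj t a'
  · intro a ha
    obtain ⟨⟨_, k, rfl⟩, hk⟩ :=
      (IsLocalization.map_eq_zero_iff (Submonoid.powers t) Γ(Y, Y.basicOpen t) a).mp ha
    exact ⟨k, hk⟩
  · intro z hz
    have h1 : (algebraMap Γ(X, f ⁻¹ᵁ V.1) Γ(X, X.basicOpen ((f.app V.1).hom t))) z = 0 := by
      have h2 : (X.presheaf.map (homOfLE (X.basicOpen_le ((f.app V.1).hom t))).op) =
          X.presheaf.map (homOfLE eD).op ≫ X.presheaf.map (homOfLE eD').op := by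
        rw [← Functor.map_comp, ← op_comp, homOfLE_comp]
      change (X.presheaf.map (homOfLE (X.basicOpen_le ((f.app V.1).hom t))).op).hom z = 0
      rw [h2, CommRingCat.hom_comp, RingHom.comp_apply, hz, map_zero]
    obtain ⟨⟨_, m, rfl⟩, hm⟩ :=
      (IsLocalization.map_eq_zero_iff (Submonoid.powers ((f.app V.1).hom t)) _ z).mp h1
    exact ⟨m, hm⟩

include hLt in
lemma ideal_eq [IsAffineHom f] (n : ℕ) :
    (((L ^ n).comap f).map f).ideal V =
      (Ideal.span {(f.app V.1).hom t ^ n}).comap (f.app V.1).hom := by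
  rw [Scheme.IdealSheafData.ideal_map _ f V (V.2.preimage f)]
  congr 1
  rw [Groth.Agent.Helper28.IdealComapOld.ideal_comap f (L ^ n) V ⟨f ⁻¹ᵁ V.1, V.2.preimage f⟩ le_rfl,
    Scheme.IdealSheafData.ideal_pow, Pi.pow_apply, hLt, Ideal.span_singleton_pow, Ideal.map_span,
    Set.image_singleton, map_pow, ← Scheme.Hom.app_eq_appLE]

end geom

section main

variable {X Y : Scheme.{u}}

/-- the complement of the support of an effective Cartier divisor is dense -/
lemma dense_compl_support (L : Y.IdealSheafData) (hL : BlowUp.IsEffCartierIdeal L) :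
    Dense ((L.support : Set Y)ᶜ) := by
  set W : Y.Opens := L.support.compl with hW
  have h1 : W.ι.ker = ⊥ := Groth.Agent.Helper28.EffCartierDense.ker_ι_eq_bot W
    (Groth.Agent.Helper28.EffCartierDense.isLocallyBasicNZD_compl_support L hL)
  haveI : QuasiCompact W.ι :=
    Groth.Agent.Helper28.EffCartierDense.quasiCompact_ι_preimage_compl_support L hL (𝟙 Y)
  have h2 := Scheme.Hom.support_ker W.ι
  rw [h1, Scheme.IdealSheafData.support_bot, Scheme.Opens.range_ι] at h2
  rw [dense_iff_closure_eq]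
  exact h2.symm

lemma surjective_of_modif (f : X ⟶ Y) [IsFinite f] (L : Y.IdealSheafData)
    (hL : BlowUp.IsEffCartierIdeal L) (hiso : IsIso (f ∣_ L.support.compl)) :
    Function.Surjective f := by
  have hcl : IsClosed (Set.range f) := f.isClosedMap.isClosed_range
  have hW : ((L.support : Set Y)ᶜ) ⊆ Set.range f := by
    intro y hy
    obtain ⟨x', hx'⟩ := (ConcreteCategory.bijective_of_isIso (f ∣_ L.support.compl).base).2 ⟨y, hy⟩
    refine ⟨x'.1, ?_⟩
    have h1 := morphismRestrict_base_coe f L.support.compl x'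
    have h2 : ((f ∣_ L.support.compl) x').1 = y := congrArg Subtype.val hx'
    exact h1.symm.trans h2
  have h3 : Set.range f = Set.univ := by
    apply Set.eq_univ_of_univ_subset
    rw [← (dense_compl_support L hL).closure_eq]
    exact closure_minimal hW hcl
  exact Set.range_eq_univ.mp h3

theorem isBlowUp_of_finite_modif [CompactSpace Y] [IsReduced X] (f : X ⟶ Y) [IsFinite f]
    (L : Y.IdealSheafData) (hL : BlowUp.IsEffCartierIdeal L)
    (hiso : IsIso (f ∣_ L.support.compl))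
    (hdense : Dense (f.base ⁻¹' ((L.support : Set Y)ᶜ))) :
    ∃ I : Y.IdealSheafData, I.support = L.support ∧ BlowUp.IsBlowUp f I := by
  classical
  choose V hyV t ht hLt using hL
  have hnzd := fun y => app_mem_nonZeroDivisors f L (V y) (t y) (hLt y) hdense
  have hloc := fun y => loc_statements f L (V y) (t y) (hLt y) hiso (hnzd y)
  have hbound := fun y => exists_bound (f.app (V y).1).hom (t y) (f.finite_app _ (V y).2) (hloc y).1
  choose n₀ hn₀ using hbound
  obtain ⟨S, hS⟩ := isCompact_univ.elim_finite_subcover (fun y => ((V y).1 : Set Y))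
    (fun y => (V y).1.isOpen) (fun y _ => Set.mem_iUnion.mpr ⟨y, hyV y⟩)
  set n := S.sup n₀ + 1 with hn
  refine ⟨((L ^ n).comap f).map f, ?_, ?_⟩
  · -- supports
    have hL' : BlowUp.IsEffCartierIdeal L := fun y => ⟨V y, hyV y, t y, ht y, hLt y⟩
    have hsurj := surjective_of_modif f L hL' hiso
    apply le_antisymm
    · have h1 : L ^ n ≤ ((L ^ n).comap f).map f := Scheme.IdealSheafData.le_map_comap _ _
      have h2 := Scheme.IdealSheafData.support_antitone h1
      rwa [Scheme.IdealSheafData.support_pow _ n (by omega)] at h2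
    · intro y hy
      obtain ⟨x, rfl⟩ := hsurj y
      have h1 : (((L ^ n).comap f).map f).comap f ≤ (L ^ n).comap f :=
        Scheme.IdealSheafData.comap_map_le _ _
      have h2 := Scheme.IdealSheafData.support_antitone h1
      rw [Scheme.IdealSheafData.support_comap, Scheme.IdealSheafData.support_comap,
        Scheme.IdealSheafData.support_pow _ n (by omega)] at h2
      exact h2 hy
  · apply Groth.Agent.Helper28.AffLocalBlowUp.isBlowUp_of_affine_local
    intro y'
    have hy' : y' ∈ ⋃ y ∈ S, ((V y).1 : Set Y) := hS (Set.mem_univ y')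
    simp only [Set.mem_iUnion] at hy'
    obtain ⟨y, hyS, hy'V⟩ := hy'
    refine ⟨V y, hy'V, (V y).2.preimage f, ?_⟩
    have hle : n₀ y ≤ n := by
      have := Finset.le_sup (f := n₀) hyS
      omega
    have hbn := hn₀ y n hle
    obtain ⟨hIB, hgen⟩ := map_comap_span (f.app (V y).1).hom (t y) n hbn
    rw [ideal_eq f L (V y) (t y) (hLt y) n]
    exact Groth.Agent.Helper28.AffBlowRecog.isBlowUp_specMap (f.app (V y).1).hom
      (injective_of_loc _ (t y) (ht y) (hloc y).2) _ hIB _ (pow_mem (hnzd y) n) hgen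

end main

end Groth.Agent.Helper28.FiniteModif
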