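import Mathlib
import Groth.Prelude.Def_Fitting
import Groth.Agent.Lib.Helper10.Fitting
import Groth.Agent.Lib.Helper10.FittingC
import Groth.Agent.Lib.Helper22.TF1

/-!
# `Fitt_0 (Ext¹(M, R))` for a module with a two-term free resolution (helper28, for helper2)
-/

set_option autoImplicit false
universe u
open CategoryTheory Groth.Agent.Lib.Helper10.Fitting

namespace Groth.Agent.Helper28.FittExt

lemma sum_coord_apply {ι R K : Type*} [CommRing R] [AddCommGroup K] [Module R K] [Fintype ι]
    [DecidableEq ι] (b : Module.Basis ι R K) (w : ι → R) (i : ι) :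
    (∑ j, w j • b.coord j) (b i) = w i := by
  rw [LinearMap.sum_apply, Finset.sum_eq_single i]
  · simp
  · intro j _ hji
    simp [hji.symm]
  · intro h
    exact absurd (Finset.mem_univ i) h

theorem fitt_ext_one {R : Type u} [CommRing R] {M : Type u} [AddCommGroup M] [Module R M] {c r : ℕ}
    (x : Fin r → M) (hx : Submodule.span R (Set.range x) = ⊤)
    (J : Matrix (Fin c) (Fin r) R) (hJ : LinearIndependent R (fun i : Fin c => (J i : Fin r → R)))
    (hrel : Submodule.span R (Set.range J) = relMod x) :
    Fitt.ideal R (Abelian.Ext.{u} (ModuleCat.of R M) (ModuleCat.of R R) 1) 0 =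
      Ideal.span {d | ∃ g : Fin c → Fin r, d = (J.submatrix id g).det} := by
  classical
  let π : (Fin r → R) →ₗ[R] M := Fintype.linearCombination R x
  have hπ : Function.Surjective π := by
    rw [← LinearMap.range_eq_top, Fintype.range_linearCombination]
    exact hx
  have hK : LinearMap.ker π = relMod x := rfl
  have hmem : ∀ i, J i ∈ LinearMap.ker π := fun i => by
    rw [hK, ← hrel]
    exact Submodule.subset_span ⟨i, rfl⟩
  let v : Fin c → ↥(LinearMap.ker π) := fun i => ⟨J i, hmem i⟩
  have hvli : LinearIndependent R v := by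
    apply LinearIndependent.of_comp (LinearMap.ker π).subtype
    exact hJ
  have hvsp : ⊤ ≤ Submodule.span R (Set.range v) := by
    rintro ⟨w, hw⟩ -
    have h1 : Submodule.map (LinearMap.ker π).subtype (Submodule.span R (Set.range v)) =
        Submodule.span R (Set.range J) := by
      rw [Submodule.map_span, ← Set.range_comp]
      rfl
    have hw' : w ∈ Submodule.span R (Set.range J) := by
      rw [hrel, ← hK]
      exact hw
    rw [← h1] at hw'
    obtain ⟨z, hz, hzw⟩ := hw'
    have hzeq : z = ⟨w, hw⟩ := Subtype.ext hzw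
    rw [← hzeq]
    exact hz
  let b : Module.Basis (Fin c) R ↥(LinearMap.ker π) := Module.Basis.mk hvli hvsp
  have hbv : ∀ i, b i = v i := fun i => Module.Basis.mk_apply hvli hvsp i
  let y : Fin c → Abelian.Ext.{u} (ModuleCat.of R M) (ModuleCat.of R R) 1 :=
    fun i => Groth.Agent.Helper22.TF.delta π hπ R (b.coord i)
  have hdsum : ∀ w : Fin c → R, Groth.Agent.Helper22.TF.delta π hπ R (∑ j, w j • b.coord j) =
      ∑ j, w j • y j := by
    intro w
    rw [map_sum]
    exact Finset.sum_congr rfl (fun j _ => map_smul _ _ _)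
  have hy : Submodule.span R (Set.range y) = ⊤ := by
    rw [eq_top_iff]
    rintro e -
    obtain ⟨ψ, rfl⟩ := Groth.Agent.Helper22.TF.delta_surjective (N := R) π hπ e
    have h2 : (∑ i, ψ (b i) • b.coord i) = ψ := b.sum_dual_apply_smul_coord ψ
    rw [← h2, hdsum]
    exact Submodule.sum_mem _
      (fun i _ => Submodule.smul_mem _ _ (Submodule.subset_span ⟨i, rfl⟩))
  have hW : Submodule.span R (Set.range J.transpose) = relMod y := by
    have hcol : Submodule.span R (Set.range J.transpose) = LinearMap.range J.mulVecLin :=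
      (Matrix.range_mulVecLin J).symm
    rw [hcol]
    ext w
    rw [mem_relMod]
    unfold IsRel
    rw [← hdsum, ← LinearMap.mem_ker, Groth.Agent.Helper22.TF.delta_ker, LinearMap.mem_range,
      LinearMap.mem_range]
    constructor
    · rintro ⟨ℓ, hℓ⟩
      refine ⟨Fintype.linearCombination R ℓ, ?_⟩
      rw [← b.sum_dual_apply_smul_coord
        (LinearMap.lcomp R R (LinearMap.ker π).subtype (Fintype.linearCombination R ℓ))]
      refine Finset.sum_congr rfl (fun j _ => ?_)
      congr 1
      rw [hbv]
      show Fintype.linearCombination R ℓ (J j) = w j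
      rw [← hℓ, Fintype.linearCombination_apply, Matrix.mulVecLin_apply]
      simp [Matrix.mulVec, dotProduct]
    · rintro ⟨g, hg⟩
      refine ⟨fun k => g (fun j => if k = j then 1 else 0), ?_⟩
      funext i
      have h3 : w i = (LinearMap.lcomp R R (LinearMap.ker π).subtype g) (b i) := by
        rw [hg, sum_coord_apply]
      rw [h3, hbv]
      show (J.mulVecLin fun k => g (fun j => if k = j then 1 else 0)) i = g (J i)
      rw [LinearMap.pi_apply_eq_sum_univ g (J i), Matrix.mulVecLin_apply]
      simp [Matrix.mulVec, dotProduct]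
  rw [fitt_eq_Jo y hy 0, Jo_eq_span_of_relMod_span y 0 (Set.range J.transpose) hW]
  congr 1
  ext d
  constructor
  · rintro ⟨bm, hbm, rfl⟩
    have hrow : ∀ i : Fin c, ∃ gi : Fin r, J.transpose gi = bm i := by
      intro i
      have h4 := hbm i
      rw [if_pos (by have := i.2; omega)] at h4
      exact h4
    choose g hg using hrow
    refine ⟨g, ?_⟩
    have h5 : bm = (J.submatrix id g).transpose := by
      ext i k
      rw [← hg i]
      rfl
    rw [h5, Matrix.det_transpose]
  · rintro ⟨g, rfl⟩
    refine ⟨(J.submatrix id g).transpose, fun i => ?_, (Matrix.det_transpose _).symm⟩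
    rw [if_pos (by have := i.2; omega)]
    exact ⟨g i, rfl⟩

end Groth.Agent.Helper28.FittExt
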