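import Mathlib
import Groth.Prelude.Def_Magnet
set_option autoImplicit false
universe v₁ u₁
open CategoryTheory MonoidalCategory CartesianMonoidalCategory MonObj Opposite

namespace Groth.Agent.Lib.Helper28.FixedSheaf

variable {C : Type u₁} [Category.{v₁} C] [CartesianMonoidalCategory C]

theorem fixedPsh_isSheaf (J : GrothendieckTopology C) [J.Subcanonical] {A X : C} [MonObj A]
    (a : Magnet.MonAct A X) : Presheaf.IsSheaf J (Magnet.MonAct.fixedPsh a) := by
  rw [isSheaf_iff_isSheaf_of_type]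
  have hY : Presieve.IsSheaf J (yoneda.obj X) :=
    GrothendieckTopology.Subcanonical.isSheaf_of_isRepresentable (yoneda.obj X)
  intro T S hS fam hfam
  let fam' : Presieve.FamilyOfElements (yoneda.obj X) S.arrows := fun Y f hf => (fam f hf).1
  have hfam' : fam'.Compatible := by
    intro Y₁ Y₂ Z g₁ g₂ f₁ f₂ h₁ h₂ comm
    have := hfam g₁ g₂ h₁ h₂ comm
    exact congrArg Subtype.val this
  obtain ⟨x, hx, hux⟩ := hY S hS fam' hfam'
  have hfix : ∀ (T' : C) (t : T' ⟶ T) (g : T' ⟶ A), lift g (t ≫ x) ≫ a.act = t ≫ x := by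
    intro T' t g
    refine ((hY (S.pullback t) (J.pullback_stable t hS)).isSeparatedFor.ext
      (t₁ := lift g (t ≫ x) ≫ a.act) (t₂ := t ≫ x) ?_)
    intro W u hu
    have h1 : (u ≫ t) ≫ x = (fam (u ≫ t) hu).1 := hx (u ≫ t) hu
    have h2 := (fam (u ≫ t) hu).2 W (𝟙 W) (u ≫ g)
    show u ≫ lift g (t ≫ x) ≫ a.act = u ≫ t ≫ x
    rw [← Category.assoc, comp_lift, ← Category.assoc u t x, h1]
    simpa using h2
  refine ⟨⟨x, hfix⟩, ?_, ?_⟩
  · intro Y f hf
    exact Subtype.ext (hx f hf)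
  · intro y hy
    apply Subtype.ext
    apply hux
    intro Y f hf
    exact congrArg Subtype.val (hy f hf)

end Groth.Agent.Lib.Helper28.FixedSheaf
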