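import Mathlib

/-!
# Towers of flasque sheaves: sections of a limit, relative lifting
-/

set_option autoImplicit false

namespace Groth.Agent.Helper28.FlasqueTower

open CategoryTheory CategoryTheory.Limits TopologicalSpace Opposite

universe u
variable {X : TopCat.{u}}

/-- abelian sheaves on `X` -/
abbrev Sh (X : TopCat.{u}) := Sheaf (Opens.grothendieckTopology X) AddCommGrpCat.{u}

/-- sections over `U` as a functor to types. -/
noncomputable def GU (U : Opens X) : Sh X ⥤ Type u :=
  sheafToPresheaf _ _ ⋙ (evaluation _ _).obj (op U) ⋙ forget AddCommGrpCat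

noncomputable instance (U : Opens X) : PreservesLimitsOfShape ℕᵒᵖ (GU U) := by
  unfold GU
  infer_instance

variable (M : ℕᵒᵖ ⥤ Sh X)

/-- the transition map `M_{n+1} ⟶ M_n`. -/
noncomputable abbrev tr (n : ℕ) : M.obj (op (n + 1)) ⟶ M.obj (op n) :=
  M.map (homOfLE (Nat.le_succ n)).op

lemma compat_all (U : Opens X) (x : ∀ n : ℕ, (M.obj (op n)).obj.obj (op U))
    (hx : ∀ n, (tr M n).hom.app (op U) (x (n + 1)) = x n) {m n : ℕ} (h : n ≤ m) :
    (M.map (homOfLE h).op).hom.app (op U) (x m) = x n := by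
  induction m, h using Nat.le_induction with
  | base =>
    have : (homOfLE (le_refl n)).op = 𝟙 (op n) := rfl
    rw [this, M.map_id]
    rfl
  | succ m h ih =>
    have : (homOfLE (h.trans (Nat.le_succ m))).op =
        (homOfLE (Nat.le_succ m)).op ≫ (homOfLE h).op := rfl
    rw [this, M.map_comp]
    show (M.map (homOfLE h).op).hom.app (op U) ((tr M m).hom.app (op U) (x (m + 1))) = x n
    rw [hx m, ih]

/-- projection of sections of the limit. -/
noncomputable def pr (U : Opens X) (n : ℕ) (s : (limit M).obj.obj (op U)) :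
    (M.obj (op n)).obj.obj (op U) :=
  (limit.π M (op n)).hom.app (op U) s

lemma lim_ext {U : Opens X} {s t : (limit M).obj.obj (op U)}
    (h : ∀ n, pr M U n s = pr M U n t) : s = t := by
  let e := Types.isLimitEquivSections (isLimitOfPreserves (GU U) (limit.isLimit M))
  apply e.injective
  apply Subtype.ext
  funext j
  obtain ⟨n⟩ := j
  exact h n

lemma lim_exists {U : Opens X} (x : ∀ n : ℕ, (M.obj (op n)).obj.obj (op U))
    (hx : ∀ n, (tr M n).hom.app (op U) (x (n + 1)) = x n) :
    ∃ s : (limit M).obj.obj (op U), ∀ n, pr M U n s = x n := by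
  let e := Types.isLimitEquivSections (isLimitOfPreserves (GU U) (limit.isLimit M))
  let sec : (M ⋙ GU U).sections := ⟨fun j => x j.unop, by
    intro j j' f
    obtain ⟨m⟩ := j
    obtain ⟨n⟩ := j'
    have hnm : n ≤ m := leOfHom f.unop
    have : f = (homOfLE hnm).op := rfl
    rw [this]
    exact compat_all M U x hx hnm⟩
  refine ⟨e.symm sec, fun n => ?_⟩
  have := Types.isLimitEquivSections_symm_apply
    (isLimitOfPreserves (GU U) (limit.isLimit M)) sec (op n)
  exact this

lemma pr_restrict {U V : Opens X} (i : op U ⟶ op V) (n : ℕ) (s : (limit M).obj.obj (op U)) :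
    pr M V n ((limit M).obj.map i s) = (M.obj (op n)).obj.map i (pr M U n s) := by
  unfold pr
  exact NatTrans.naturality_apply (limit.π M (op n)).hom i s

/-- relative lifting along a short exact sequence with flasque kernel. -/
lemma rel_lift {S : ShortComplex (Sh X)} (hS : S.ShortExact) [TopCat.Sheaf.IsFlasque S.X₁]
    {U V : (Opens X)ᵒᵖ} (i : U ⟶ V)
    (b : S.X₃.obj.obj U) (a : S.X₂.obj.obj V)
    (hab : S.g.hom.app V a = S.X₃.obj.map i b) :
    ∃ a' : S.X₂.obj.obj U, S.g.hom.app U a' = b ∧ S.X₂.obj.map i a' = a := by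
  obtain ⟨U⟩ := U
  obtain ⟨V⟩ := V
  obtain ⟨t, ht⟩ := (AddCommGrpCat.epi_iff_surjective _).mp
    (TopCat.Sheaf.IsFlasque.epi_of_shortExact (U := U) hS) b
  have hd : S.g.hom.app (op V) (a - S.X₂.obj.map i t) = 0 := by
    rw [map_sub, hab, ← ht]
    have := NatTrans.naturality_apply S.g.hom i t
    rw [this, sub_self]
  obtain ⟨d, hd'⟩ := TopCat.Sheaf.sections_exact_of_left_exact hS.1 hS.2 _ hd
  obtain ⟨d', hd''⟩ := (AddCommGrpCat.epi_iff_surjective (S.X₁.obj.map i)).mp inferInstance d
  refine ⟨t + S.f.hom.app (op U) d', ?_, ?_⟩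
  · rw [map_add, ht]
    have : (S.f.hom.app (op U) ≫ S.g.hom.app (op U)) = 0 := by
      rw [← NatTrans.comp_app, ← ObjectProperty.FullSubcategory.comp_hom, S.zero]
      rfl
    have h2 : S.g.hom.app (op U) (S.f.hom.app (op U) d') = 0 := by
      rw [← CategoryTheory.comp_apply, this]; rfl
    rw [h2, add_zero]
  · rw [map_add]
    have := NatTrans.naturality_apply S.f.hom i d'
    rw [← this, hd'', hd']
    abel

lemma tr_pr (U : Opens X) (n : ℕ) (s : (limit M).obj.obj (op U)) :
    (tr M n).hom.app (op U) (pr M U (n + 1) s) = pr M U n s := by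
  unfold pr
  rw [← limit.w M (homOfLE (Nat.le_succ n)).op]
  rfl

lemma kernel_shortExact {A B : Sh X} (p : A ⟶ B) [Epi p] :
    (ShortComplex.mk (kernel.ι p) p (kernel.condition p)).ShortExact where
  exact := ShortComplex.exact_kernel p
  mono_f := by dsimp; infer_instance
  epi_g := by dsimp; infer_instance

/-- A tower of flasque sheaves with epimorphic transition maps with flasque kernels has flasque
limit. -/
theorem isFlasque_limit
    (hfl : ∀ n : ℕ, TopCat.Sheaf.IsFlasque (M.obj (op n)))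
    (hepi : ∀ n : ℕ, Epi (tr M n))
    (hker : ∀ n : ℕ, TopCat.Sheaf.IsFlasque (kernel (tr M n) : Sh X)) :
    TopCat.Sheaf.IsFlasque (limit M : Sh X) := by
  refine ⟨fun {U V} i => ?_⟩
  obtain ⟨U⟩ := U
  obtain ⟨V⟩ := V
  rw [AddCommGrpCat.epi_iff_surjective]
  intro s
  have step : ∀ n (t : (M.obj (op n)).obj.obj (op U)),
      (M.obj (op n)).obj.map i t = pr M V n s →
      ∃ t' : (M.obj (op (n + 1))).obj.obj (op U), (tr M n).hom.app (op U) t' = t ∧
        (M.obj (op (n + 1))).obj.map i t' = pr M V (n + 1) s := by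
    intro n t ht
    haveI := hker n
    haveI := hepi n
    exact rel_lift (kernel_shortExact (tr M n)) i t (pr M V (n + 1) s)
      ((tr_pr M V n s).trans ht.symm)
  haveI := hfl 0
  obtain ⟨t0, ht0⟩ := (AddCommGrpCat.epi_iff_surjective ((M.obj (op 0)).obj.map i)).mp
    inferInstance (pr M V 0 s)
  let T : ∀ n, {t : (M.obj (op n)).obj.obj (op U) // (M.obj (op n)).obj.map i t = pr M V n s} :=
    fun n => Nat.rec ⟨t0, ht0⟩
      (fun n t => ⟨(step n t.1 t.2).choose, (step n t.1 t.2).choose_spec.2⟩) n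
  have hT : ∀ n, (tr M n).hom.app (op U) (T (n + 1)).1 = (T n).1 :=
    fun n => (step n (T n).1 (T n).2).choose_spec.1
  obtain ⟨t, ht⟩ := lim_exists M (fun n => (T n).1) hT
  refine ⟨t, lim_ext M fun n => ?_⟩
  rw [pr_restrict, ht, (T n).2]

lemma pr_limMap {M N : ℕᵒᵖ ⥤ Sh X} (g : M ⟶ N) (U : Opens X) (n : ℕ)
    (s : (limit M).obj.obj (op U)) :
    pr N U n ((limMap g).hom.app (op U) s) = (g.app (op n)).hom.app (op U) (pr M U n s) := by
  unfold pr
  have h := limMap_π g (op n)
  have := congrArg (fun φ => φ.hom.app (op U) s) h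
  exact this

/-- `lim` of a short exact sequence of towers whose first term is a flasque tower is right exact. -/
theorem epi_limMap (S : ShortComplex (ℕᵒᵖ ⥤ Sh X)) (hS : S.ShortExact)
    (hfl : ∀ n : ℕ, TopCat.Sheaf.IsFlasque (S.X₁.obj (op n)))
    (hepi : ∀ n : ℕ, Epi (tr S.X₁ n))
    (hker : ∀ n : ℕ, TopCat.Sheaf.IsFlasque (kernel (tr S.X₁ n) : Sh X)) :
    Epi (limMap S.g) := by
  -- levelwise short exact sequences
  have hSn : ∀ n : ℕ, (S.map ((evaluation ℕᵒᵖ (Sh X)).obj (op n))).ShortExact :=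
    fun n => hS.map_of_exact _
  -- surjectivity on sections
  have hsurj : ∀ U : Opens X, Function.Surjective ((limMap S.g).hom.app (op U)) := by
    intro U s
    -- step
    have step : ∀ n (t : (S.X₂.obj (op n)).obj.obj (op U)),
        (S.g.app (op n)).hom.app (op U) t = pr S.X₃ U n s →
        ∃ t' : (S.X₂.obj (op (n + 1))).obj.obj (op U), (tr S.X₂ n).hom.app (op U) t' = t ∧
          (S.g.app (op (n + 1))).hom.app (op U) t' = pr S.X₃ U (n + 1) s := by
      intro n t ht
      haveI : TopCat.Sheaf.IsFlasque (S.map ((evaluation ℕᵒᵖ (Sh X)).obj (op (n + 1)))).X₁ :=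
        hfl (n + 1)
      obtain ⟨a, ha'⟩ : ∃ a : (S.X₂.obj (op (n + 1))).obj.obj (op U),
          (S.g.app (op (n + 1))).hom.app (op U) a = pr S.X₃ U (n + 1) s :=
        (AddCommGrpCat.epi_iff_surjective _).mp
          (TopCat.Sheaf.IsFlasque.epi_of_shortExact (U := U) (hSn (n + 1))) (pr S.X₃ U (n + 1) s)
      have hnat : ∀ y, (S.g.app (op n)).hom.app (op U) ((tr S.X₂ n).hom.app (op U) y) =
          (tr S.X₃ n).hom.app (op U) ((S.g.app (op (n + 1))).hom.app (op U) y) := by
        intro y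
        have h := S.g.naturality (homOfLE (Nat.le_succ n)).op
        have := congrArg (fun φ => φ.hom.app (op U) y) h
        exact this
      have hd : (S.g.app (op n)).hom.app (op U) ((tr S.X₂ n).hom.app (op U) a - t) = 0 := by
        rw [map_sub, hnat, ha', tr_pr, ht, sub_self]
      obtain ⟨c, hc'⟩ : ∃ c : (S.X₁.obj (op n)).obj.obj (op U),
          (S.f.app (op n)).hom.app (op U) c = (tr S.X₂ n).hom.app (op U) a - t :=
        TopCat.Sheaf.sections_exact_of_left_exact (hSn n).1 (hSn n).2 _ hd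
      haveI := hker n
      haveI := hepi n
      obtain ⟨c', hc3⟩ : ∃ c' : (S.X₁.obj (op (n + 1))).obj.obj (op U),
          (tr S.X₁ n).hom.app (op U) c' = c :=
        (AddCommGrpCat.epi_iff_surjective _).mp
          (TopCat.Sheaf.IsFlasque.epi_of_shortExact (U := U) (kernel_shortExact (tr S.X₁ n))) c
      have hnatf : ∀ y, (S.f.app (op n)).hom.app (op U) ((tr S.X₁ n).hom.app (op U) y) =
          (tr S.X₂ n).hom.app (op U) ((S.f.app (op (n + 1))).hom.app (op U) y) := by
        intro y
        have h := S.f.naturality (homOfLE (Nat.le_succ n)).op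
        have := congrArg (fun φ => φ.hom.app (op U) y) h
        exact this
      have hfg : ∀ y, (S.g.app (op (n + 1))).hom.app (op U)
          ((S.f.app (op (n + 1))).hom.app (op U) y) = 0 := by
        intro y
        have h := S.zero
        have h2 := congrArg (fun φ => (φ.app (op (n + 1))).hom.app (op U) y) h
        exact h2
      refine ⟨a - (S.f.app (op (n + 1))).hom.app (op U) c', ?_, ?_⟩
      · rw [map_sub, ← hnatf, hc3, hc']
        abel
      · rw [map_sub, hfg, sub_zero, ha']
    haveI : TopCat.Sheaf.IsFlasque (S.map ((evaluation ℕᵒᵖ (Sh X)).obj (op 0))).X₁ := hfl 0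
    obtain ⟨t0, ht0'⟩ : ∃ t0 : (S.X₂.obj (op 0)).obj.obj (op U),
        (S.g.app (op 0)).hom.app (op U) t0 = pr S.X₃ U 0 s :=
      (AddCommGrpCat.epi_iff_surjective _).mp
        (TopCat.Sheaf.IsFlasque.epi_of_shortExact (U := U) (hSn 0)) (pr S.X₃ U 0 s)
    let T : ∀ n, {t : (S.X₂.obj (op n)).obj.obj (op U) //
        (S.g.app (op n)).hom.app (op U) t = pr S.X₃ U n s} :=
      fun n => Nat.rec ⟨t0, ht0'⟩
        (fun n t => ⟨(step n t.1 t.2).choose, (step n t.1 t.2).choose_spec.2⟩) n
    have hT : ∀ n, (tr S.X₂ n).hom.app (op U) (T (n + 1)).1 = (T n).1 :=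
      fun n => (step n (T n).1 (T n).2).choose_spec.1
    obtain ⟨t, ht⟩ := lim_exists S.X₂ (fun n => (T n).1) hT
    refine ⟨t, lim_ext S.X₃ fun n => ?_⟩
    rw [pr_limMap, ht, (T n).2]
  -- conclude
  haveI : Epi ((sheafToPresheaf _ _).map (limMap S.g)) := by
    rw [NatTrans.epi_iff_epi_app]
    intro U
    obtain ⟨U⟩ := U
    rw [AddCommGrpCat.epi_iff_surjective]
    exact hsurj U
  exact (sheafToPresheaf _ _).epi_of_epi_map inferInstance

end Groth.Agent.Helper28.FlasqueTower
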