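import Mathlib
import Groth.Agent.Lib.Helper13.QCohWeakAss

/-!
# Pure ideals, flat closed subschemes and closed subsets stable under generalization
-/

set_option autoImplicit false
universe u
open CategoryTheory CategoryTheory.Limits AlgebraicGeometry Opposite TopologicalSpace
open Groth.Agent.Helper13.QCoh

namespace Groth.Agent.Helper28.PureIdeal

section Algebra

variable {A : Type*} [CommRing A]

/-- the set of `x` with `x ∈ x J`, as an ideal. -/
def pureIdeal (J : Ideal A) : Ideal A where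
  carrier := {x | ∃ y ∈ J, x = x * y}
  zero_mem' := ⟨0, J.zero_mem, by simp⟩
  add_mem' := by
    rintro x x' ⟨y, hy, hxy⟩ ⟨y', hy', hxy'⟩
    refine ⟨y + y' - y * y', J.sub_mem (J.add_mem hy hy') (J.mul_mem_left _ hy'), ?_⟩
    linear_combination (1 - y') * hxy + (1 - y) * hxy'
  smul_mem' := by
    rintro c x ⟨y, hy, hxy⟩
    refine ⟨y, hy, ?_⟩
    simp only [smul_eq_mul]
    rw [mul_assoc, ← hxy]

lemma mem_pureIdeal {J : Ideal A} {x : A} : x ∈ pureIdeal J ↔ ∃ y ∈ J, x = x * y := Iff.rfl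

lemma pureIdeal_le (J : Ideal A) : pureIdeal J ≤ J := by
  rintro x ⟨y, hy, hxy⟩
  rw [hxy]
  exact J.mul_mem_left _ hy

/-- elementwise criterion for purity. -/
lemma pure_of_forall_exists_eq_mul {I : Ideal A} (h : ∀ x ∈ I, ∃ y ∈ I, x = x * y) : I.Pure := by
  apply Ideal.Pure.of_inf_eq_mul
  intro J _
  apply le_antisymm
  · rintro x ⟨hxI, hxJ⟩
    obtain ⟨y, hy, hxy⟩ := h x hxI
    rw [hxy, mul_comm x y]
    exact Ideal.mul_mem_mul hy hxJ
  · exact Ideal.mul_le_inf

lemma pure_map {B : Type*} [CommRing B] (φ : A →+* B) {I : Ideal A}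
    (h : ∀ x ∈ I, ∃ y ∈ I, x = x * y) : (I.map φ).Pure := by
  apply pure_of_forall_exists_eq_mul
  have hle : I.map φ ≤ pureIdeal (I.map φ) := by
    rw [Ideal.map_le_iff_le_comap]
    intro x hx
    obtain ⟨y, hy, hxy⟩ := h x hx
    exact ⟨φ y, Ideal.mem_map_of_mem φ hy, by rw [← map_mul, ← hxy]⟩
  intro z hz
  exact hle hz

lemma zeroLocus_map' {B : Type*} [CommRing B] (φ : A →+* B) (I : Ideal A) :
    PrimeSpectrum.zeroLocus ((I.map φ : Ideal B) : Set B) =
      PrimeSpectrum.comap φ ⁻¹' PrimeSpectrum.zeroLocus (I : Set A) := by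
  ext p
  simp only [PrimeSpectrum.mem_zeroLocus, Set.mem_preimage, SetLike.coe_subset_coe]
  rw [Ideal.map_le_iff_le_comap]
  rfl

lemma zeroLocus_pureIdeal {J : Ideal A}
    (hJ : StableUnderGeneralization (PrimeSpectrum.zeroLocus (J : Set A))) :
    PrimeSpectrum.zeroLocus (pureIdeal J : Set A) = PrimeSpectrum.zeroLocus (J : Set A) := by
  apply Set.Subset.antisymm
  · intro p hp
    rw [PrimeSpectrum.mem_zeroLocus, SetLike.coe_subset_coe] at hp
    by_contra hpZ
    have h0 : ∀ s ∉ p.asIdeal, ∀ f ∈ J, s * (1 + f) ≠ 0 := by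
      intro s hs f hf h
      have : s ∈ pureIdeal J := ⟨-f, J.neg_mem hf, by linear_combination h⟩
      exact hs (hp this)
    let S : Submonoid A :=
      { carrier := {a | ∃ s ∉ p.asIdeal, ∃ f ∈ J, a = s * (1 + f)}
        one_mem' := ⟨1, p.2.one_notMem, 0, J.zero_mem, by simp⟩
        mul_mem' := by
          rintro a b ⟨s, hs, f, hf, rfl⟩ ⟨s', hs', f', hf', rfl⟩
          refine ⟨s * s', p.2.mul_notMem hs hs', f + f' + f * f',
            J.add_mem (J.add_mem hf hf') (J.mul_mem_left _ hf'), by ring⟩ }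
    have hdisj : Disjoint ((⊥ : Ideal A) : Set A) (S : Set A) := by
      rw [Set.disjoint_left]
      rintro a ha ⟨s, hs, f, hf, rfl⟩
      exact h0 s hs f hf ha
    obtain ⟨q, hq, -, hqS⟩ := Ideal.exists_le_prime_disjoint ⊥ S hdisj
    rw [Set.disjoint_left] at hqS
    have hqp : q ≤ p.asIdeal := by
      intro a ha
      by_contra hap
      exact hqS ha ⟨a, hap, 0, J.zero_mem, by simp⟩
    have hne : q ⊔ J ≠ ⊤ := by
      intro htop
      have h1 : (1 : A) ∈ q ⊔ J := htop ▸ Submodule.mem_top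
      obtain ⟨a, ha, f, hf, haf⟩ := Submodule.mem_sup.1 h1
      exact hqS ha ⟨1, p.2.one_notMem, -f, J.neg_mem hf, by linear_combination haf⟩
    obtain ⟨m, hm, hle⟩ := Ideal.exists_le_maximal _ hne
    have hmZ : (⟨m, hm.isPrime⟩ : PrimeSpectrum A) ∈ PrimeSpectrum.zeroLocus (J : Set A) := by
      rw [PrimeSpectrum.mem_zeroLocus, SetLike.coe_subset_coe]
      exact le_sup_right.trans hle
    have hspec : (⟨q, hq⟩ : PrimeSpectrum A) ⤳ ⟨m, hm.isPrime⟩ := by
      rw [← PrimeSpectrum.le_iff_specializes]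
      exact le_sup_left.trans hle
    have hqZ := hJ hspec hmZ
    rw [PrimeSpectrum.mem_zeroLocus, SetLike.coe_subset_coe] at hqZ
    apply hpZ
    rw [PrimeSpectrum.mem_zeroLocus, SetLike.coe_subset_coe]
    exact hqZ.trans hqp
  · exact PrimeSpectrum.zeroLocus_anti_mono (pureIdeal_le J)

lemma exists_eq_mul_of_mem_pureIdeal {J : Ideal A}
    (hJ : StableUnderGeneralization (PrimeSpectrum.zeroLocus (J : Set A))) :
    ∀ x ∈ pureIdeal J, ∃ y ∈ pureIdeal J, x = x * y := by
  rintro x ⟨f, hf, hxf⟩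
  have hfr : f ∈ (pureIdeal J).radical := by
    rw [← PrimeSpectrum.vanishingIdeal_zeroLocus_eq_radical, zeroLocus_pureIdeal hJ,
      PrimeSpectrum.vanishingIdeal_zeroLocus_eq_radical]
    exact Ideal.le_radical hf
  obtain ⟨n, hn⟩ := hfr
  refine ⟨f ^ n, hn, ?_⟩
  have : ∀ k : ℕ, x = x * f ^ k := by
    intro k
    induction k with
    | zero => simp
    | succ k ih => rw [pow_succ, ← mul_assoc, ← ih]; exact hxf
  exact this n

lemma pure_pureIdeal {J : Ideal A}
    (hJ : StableUnderGeneralization (PrimeSpectrum.zeroLocus (J : Set A))) :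
    (pureIdeal J).Pure :=
  pure_of_forall_exists_eq_mul (exists_eq_mul_of_mem_pureIdeal hJ)

lemma pure_ker_of_flat_of_surjective {B : Type*} [CommRing B] (φ : A →+* B)
    (hφ : φ.Flat) (hs : Function.Surjective φ) : (RingHom.ker φ).Pure := by
  letI := φ.toAlgebra
  have hflat : Module.Flat A B := hφ
  let e : (A ⧸ RingHom.ker φ) ≃ₗ[A] B :=
    (Ideal.quotientKerAlgEquivOfSurjective (f := Algebra.ofId A B) hs).toLinearEquiv
  exact Module.Flat.of_linearEquiv e

end Algebra

section Scheme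

variable {X : Scheme.{u}}

/-- `fromSpec` as a function on the prime spectrum. -/
noncomputable def fs {U : X.Opens} (hU : IsAffineOpen U) (p : PrimeSpectrum Γ(X, U)) : X :=
  hU.fromSpec p

lemma continuous_fs {U : X.Opens} (hU : IsAffineOpen U) : Continuous (fs hU) :=
  hU.fromSpec.continuous

lemma fs_mem {U : X.Opens} (hU : IsAffineOpen U) (p : PrimeSpectrum Γ(X, U)) :
    fs hU p ∈ U := by
  have : hU.fromSpec p ∈ Set.range hU.fromSpec := Set.mem_range_self p
  rw [hU.range_fromSpec] at this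
  exact this

lemma fs_primeIdealOf {U : X.Opens} (hU : IsAffineOpen U) (x : X) (hx : x ∈ U) :
    fs hU (hU.primeIdealOf ⟨x, hx⟩) = x :=
  hU.fromSpec_primeIdealOf ⟨x, hx⟩

lemma fs_mem_zeroLocus_iff {U : X.Opens} (hU : IsAffineOpen U) (p : PrimeSpectrum Γ(X, U))
    (s : Set Γ(X, U)) : fs hU p ∈ X.zeroLocus s ↔ p ∈ PrimeSpectrum.zeroLocus s :=
  Set.ext_iff.1 (hU.fromSpec_preimage_zeroLocus s) p

lemma mem_zeroLocus_iff_primeIdealOf {U : X.Opens} (hU : IsAffineOpen U) (x : X) (hx : x ∈ U)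
    (s : Set Γ(X, U)) :
    x ∈ X.zeroLocus s ↔ hU.primeIdealOf ⟨x, hx⟩ ∈ PrimeSpectrum.zeroLocus s := by
  rw [← fs_mem_zeroLocus_iff hU, fs_primeIdealOf]

lemma fs_basicOpen {U : X.Opens} (hU : IsAffineOpen U) (f : Γ(X, U))
    (p : PrimeSpectrum Γ(X, X.basicOpen f)) :
    fs (hU.basicOpen f) p =
      fs hU (PrimeSpectrum.comap (X.presheaf.map (homOfLE (X.basicOpen_le f)).op).hom p) := by
  have := hU.map_fromSpec (hU.basicOpen f) (homOfLE (X.basicOpen_le f)).op
  unfold fs
  rw [← this]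
  rfl

lemma mem_basicOpen_one_sub {U : X.Opens} (hU : IsAffineOpen U) (x : X) (hxU : x ∈ U)
    (y : Γ(X, U)) (hy : x ∉ X.basicOpen y) : x ∈ X.basicOpen (1 - y) := by
  rw [mem_basicOpen_iff_notMem_primeIdealOf hU x hxU] at hy ⊢
  intro h1y
  have := (hU.primeIdealOf ⟨x, hxU⟩).asIdeal.add_mem (not_not.1 hy) h1y
  rw [add_sub_cancel] at this
  exact (hU.primeIdealOf ⟨x, hxU⟩).2.one_notMem this

/-- flat closed subscheme ⇒ all ideals pure. -/
lemma pure_ideal_of_flat (I : X.IdealSheafData) [Flat I.subschemeι] (U : X.affineOpens) :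
    (I.ideal U).Pure := by
  have hV : IsAffineOpen (I.subschemeι ⁻¹ᵁ U.1) := U.2.preimage I.subschemeι
  have h1 : (I.subschemeι.appLE U.1 (I.subschemeι ⁻¹ᵁ U.1) le_rfl).hom.Flat :=
    I.subschemeι.flat_appLE U.2 hV le_rfl
  rw [← Scheme.Hom.app_eq_appLE] at h1
  have := pure_ker_of_flat_of_surjective _ h1 (I.subschemeι_app_surjective U)
  rw [I.ker_subschemeι_app U] at this
  exact this

/-- all ideals pure ⇒ flat closed subscheme. -/
lemma flat_subschemeι_of_pure (I : X.IdealSheafData) (h : ∀ U : X.affineOpens, (I.ideal U).Pure) :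
    Flat I.subschemeι := by
  rw [IsZariskiLocalAtSource.iff_of_openCover (P := @Flat) (𝒰 := I.subschemeCover.openCover)]
  intro (U : X.affineOpens)
  change Flat (I.subschemeCover.f U ≫ I.subschemeι)
  rw [I.subschemeCover_map_subschemeι U, I.glueDataObjι_ι U]
  haveI : Flat (Spec.map (CommRingCat.ofHom (Ideal.Quotient.mk (I.ideal U)))) := by
    rw [Flat.SpecMap_iff]
    have hU : Module.Flat Γ(X, U) (Γ(X, U) ⧸ I.ideal U) := h U
    exact (RingHom.flat_algebraMap_iff (R := Γ(X, U)) (S := Γ(X, U) ⧸ I.ideal U)).2 hU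
  have h2 : Flat U.2.fromSpec := inferInstance
  exact MorphismProperty.comp_mem _ _ _ this h2

lemma stableUnderGeneralization_support_of_pure (I : X.IdealSheafData)
    (h : ∀ U : X.affineOpens, ∀ x ∈ I.ideal U, ∃ y ∈ I.ideal U, x = x * y) :
    StableUnderGeneralization (I.support : Set X) := by
  intro x x' hspec hx
  obtain ⟨_, ⟨U, hU, rfl⟩, hxU, -⟩ :=
    X.isBasis_affineOpens.exists_subset_of_mem_open (Set.mem_univ x) isOpen_univ
  have hx'U : x' ∈ U := hspec.mem_open U.2 hxU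
  rw [SetLike.mem_coe, Scheme.IdealSheafData.mem_support_iff_of_mem (U := ⟨U, hU⟩) hxU,
    Scheme.mem_zeroLocus_iff] at hx
  rw [SetLike.mem_coe, Scheme.IdealSheafData.mem_support_iff_of_mem (U := ⟨U, hU⟩) hx'U,
    Scheme.mem_zeroLocus_iff]
  intro f hf hx'f
  obtain ⟨y, hy, hfy⟩ := h ⟨U, hU⟩ f hf
  have h1 : x ∈ X.basicOpen (1 - y) := mem_basicOpen_one_sub hU x hxU y (hx y hy)
  have h2 : x' ∈ X.basicOpen (1 - y) := hspec.mem_open (X.basicOpen (1 - y)).2 h1
  have h3 : x' ∈ X.basicOpen (f * (1 - y)) := by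
    rw [Scheme.basicOpen_mul]
    exact ⟨hx'f, h2⟩
  have h4 : f * (1 - y) = 0 := by linear_combination hfy
  rw [h4, Scheme.basicOpen_zero] at h3
  simp at h3

lemma eq_of_support_eq_of_pure (I I' : X.IdealSheafData) (hI : ∀ U, (I.ideal U).Pure)
    (hI' : ∀ U, (I'.ideal U).Pure) (h : I.support = I'.support) : I = I' := by
  ext U : 2
  haveI := hI U
  haveI := hI' U
  rw [← Ideal.zeroLocus_inj_of_pure]
  ext p
  have hpU : fs U.2 p ∈ U.1 := fs_mem U.2 p
  rw [← fs_mem_zeroLocus_iff U.2, ← fs_mem_zeroLocus_iff U.2,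
    ← Scheme.IdealSheafData.mem_support_iff_of_mem hpU,
    ← Scheme.IdealSheafData.mem_support_iff_of_mem hpU, h]

section Construction

variable (Z : Closeds X) (hZ : StableUnderGeneralization (Z : Set X))

/-- the candidate pure ideal on an affine open. -/
noncomputable def pId {U : X.Opens} (hU : IsAffineOpen U) : Ideal Γ(X, U) :=
  pureIdeal (PrimeSpectrum.vanishingIdeal (fs hU ⁻¹' (Z : Set X)))

lemma closure_preimage_fs {U : X.Opens} (hU : IsAffineOpen U) :
    closure (fs hU ⁻¹' (Z : Set X)) = fs hU ⁻¹' (Z : Set X) :=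
  (Z.isClosed.preimage (continuous_fs hU)).closure_eq

include hZ in
lemma stable_zeroLocus_vanishingIdeal {U : X.Opens} (hU : IsAffineOpen U) :
    StableUnderGeneralization (PrimeSpectrum.zeroLocus
      ((PrimeSpectrum.vanishingIdeal (fs hU ⁻¹' (Z : Set X)) : Ideal Γ(X, U)) : Set Γ(X, U))) := by
  rw [PrimeSpectrum.zeroLocus_vanishingIdeal_eq_closure, closure_preimage_fs]
  intro p p' hsp hp
  exact hZ (hsp.map (continuous_fs hU)) hp

include hZ in
lemma zeroLocus_pId {U : X.Opens} (hU : IsAffineOpen U) :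
    PrimeSpectrum.zeroLocus (pId Z hU : Set Γ(X, U)) = fs hU ⁻¹' (Z : Set X) := by
  unfold pId
  rw [zeroLocus_pureIdeal (stable_zeroLocus_vanishingIdeal Z hZ hU),
    PrimeSpectrum.zeroLocus_vanishingIdeal_eq_closure, closure_preimage_fs]

include hZ in
lemma exists_eq_mul_pId {U : X.Opens} (hU : IsAffineOpen U) :
    ∀ x ∈ pId Z hU, ∃ y ∈ pId Z hU, x = x * y :=
  exists_eq_mul_of_mem_pureIdeal (stable_zeroLocus_vanishingIdeal Z hZ hU)

include hZ in
lemma pure_pId {U : X.Opens} (hU : IsAffineOpen U) : (pId Z hU).Pure :=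
  pure_of_forall_exists_eq_mul (exists_eq_mul_pId Z hZ hU)

include hZ in
lemma map_pId {U : X.Opens} (hU : IsAffineOpen U) (f : Γ(X, U)) :
    (pId Z hU).map (X.presheaf.map (homOfLE <| X.basicOpen_le f).op).hom =
      pId Z (hU.basicOpen f) := by
  haveI := pure_map (X.presheaf.map (homOfLE <| X.basicOpen_le f).op).hom
    (exists_eq_mul_pId Z hZ hU)
  haveI := pure_pId Z hZ (hU.basicOpen f)
  rw [← Ideal.zeroLocus_inj_of_pure, zeroLocus_map', zeroLocus_pId Z hZ hU,
    zeroLocus_pId Z hZ (hU.basicOpen f)]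
  ext p
  simp only [Set.mem_preimage]
  rw [fs_basicOpen hU f p]

/-- the pure ideal sheaf with support `Z`. -/
noncomputable def pureIdealSheaf : X.IdealSheafData :=
  Scheme.IdealSheafData.mkOfMemSupportIff (fun U => pId Z U.2) (fun U f => map_pId Z hZ U.2 f) Z
    (fun U x hxU => by
      rw [mem_zeroLocus_iff_primeIdealOf U.2 x hxU, zeroLocus_pId Z hZ U.2, Set.mem_preimage,
        fs_primeIdealOf])

lemma support_pureIdealSheaf : (pureIdealSheaf Z hZ).support = Z := by
  apply SetLike.coe_injective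
  ext x
  obtain ⟨_, ⟨U, hU, rfl⟩, hxU, -⟩ :=
    X.isBasis_affineOpens.exists_subset_of_mem_open (Set.mem_univ x) isOpen_univ
  rw [SetLike.mem_coe, Scheme.IdealSheafData.mem_support_iff_of_mem (U := ⟨U, hU⟩) hxU]
  change x ∈ X.zeroLocus (pId Z hU : Set Γ(X, U)) ↔ _
  rw [mem_zeroLocus_iff_primeIdealOf hU x hxU, zeroLocus_pId Z hZ hU, Set.mem_preimage,
    fs_primeIdealOf]

lemma flat_pureIdealSheaf : Flat (pureIdealSheaf Z hZ).subschemeι :=
  flat_subschemeι_of_pure _ (fun U => pure_pId Z hZ U.2)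

end Construction

/-- factorization through a flat closed subscheme. -/
lemma exists_fac_of_pure (I : X.IdealSheafData)
    (h : ∀ U : X.affineOpens, ∀ x ∈ I.ideal U, ∃ y ∈ I.ideal U, x = x * y)
    {Y : Scheme.{u}} (g : Y ⟶ X) (hg : Set.range g.base ⊆ (I.support : Set X)) :
    ∃ g' : Y ⟶ I.subscheme, g' ≫ I.subschemeι = g := by
  have hle : I.subschemeι.ker ≤ g.ker := by
    rw [Scheme.IdealSheafData.ker_subschemeι]
    unfold Scheme.Hom.ker
    rw [Scheme.IdealSheafData.le_ofIdeals_iff]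
    intro U s hs
    obtain ⟨y, hy, hsy⟩ := h U s hs
    rw [RingHom.mem_ker]
    apply TopCat.Presheaf.section_ext Y.sheaf (g ⁻¹ᵁ U.1)
    intro w hw
    refine Eq.trans ?_ (map_zero _).symm
    have hgw : g w ∈ U.1 := hw
    have hz : X.presheaf.germ U.1 (g w) hgw s = 0 := by
      have hsupp : g w ∈ I.support := hg ⟨w, rfl⟩
      rw [Scheme.IdealSheafData.mem_support_iff_of_mem hgw, Scheme.mem_zeroLocus_iff] at hsupp
      have h1 : g w ∈ X.basicOpen (1 - y) := mem_basicOpen_one_sub U.2 (g w) hgw y (hsupp y hy)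
      rw [Scheme.mem_basicOpen _ _ _ hgw] at h1
      have h4 : s * (1 - y) = 0 := by linear_combination hsy
      have := congrArg (X.presheaf.germ U.1 (g w) hgw) h4
      rw [map_mul, map_zero] at this
      exact (h1.mul_left_eq_zero).1 this
    have := Scheme.Hom.germ_stalkMap_apply g U.1 w hgw s
    rw [hz, map_zero] at this
    exact this.symm
  exact ⟨IsClosedImmersion.lift I.subschemeι g hle, IsClosedImmersion.lift_fac _ _ _⟩

/-- **Main theorem.** -/
theorem bijOn_support_flat (X : Scheme.{u}) :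
    Set.BijOn (fun I : X.IdealSheafData => I.support) {I : X.IdealSheafData | Flat I.subschemeι}
        {Z : TopologicalSpace.Closeds ↑X | StableUnderGeneralization (Z : Set ↑X)} ∧
      ∀ I : X.IdealSheafData, Flat I.subschemeι → ∀ (Y : Scheme.{u}) (g : Y ⟶ X),
        Set.range g.base ⊆ (I.support : Set ↑X) →
          ∃ g' : Y ⟶ I.subscheme, g' ≫ I.subschemeι = g := by
  refine ⟨⟨?_, ?_, ?_⟩, ?_⟩
  · intro I hI
    haveI : Flat I.subschemeι := hI
    exact stableUnderGeneralization_support_of_pure I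
      (fun U x hx => haveI := pure_ideal_of_flat I U; Ideal.exists_eq_mul_of_pure hx)
  · intro I hI I' hI' h
    haveI : Flat I.subschemeι := hI
    haveI : Flat I'.subschemeι := hI'
    exact eq_of_support_eq_of_pure I I' (pure_ideal_of_flat I) (pure_ideal_of_flat I') h
  · intro Z hZ
    exact ⟨pureIdealSheaf Z hZ, flat_pureIdealSheaf Z hZ, support_pureIdealSheaf Z hZ⟩
  · intro I hI Y g hg
    haveI : Flat I.subschemeι := hI
    exact exists_fac_of_pure I
      (fun U x hx => haveI := pure_ideal_of_flat I U; Ideal.exists_eq_mul_of_pure hx) g hg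

end Scheme

end Groth.Agent.Helper28.PureIdeal
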