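import Mathlib
import Groth.Agent.Lib.Helper28.PureIdeal
import Groth.Agent.Lib.Helper13.FittSheaf
import Groth.Agent.Lib.Helper13.PushFinLocFree
import Groth.Agent.Lib.Helper13.LocFree3
import Groth.Agent.Lib.Helper13.LocFree
import Groth.Agent.Lib.Helper22.Pinch2

/-!
# Finite type flat quasi-coherent modules are finite locally free iff closed subsets stable under
generalization are open
-/

set_option autoImplicit false
universe u
open CategoryTheory CategoryTheory.Limits AlgebraicGeometry Opposite TopologicalSpace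
open Module

namespace Groth.Agent.Helper28.FlatFTLocFree

section Algebra

open Groth.Agent.Lib.Helper10.Fitting

variable {A : Type*} [CommRing A] {M : Type*} [AddCommGroup M] [Module A M]
  [Module.Finite A M] [Module.Flat A M]

/-- for a finite flat module, the `k`-th Fitting ideal lies in a prime `p` iff `k` is smaller than
the rank at `p`. -/
lemma fitt_le_prime_iff (p : PrimeSpectrum A) (k : ℕ) :
    Fitt.ideal A M k ≤ p.asIdeal ↔ k < Module.rankAtStalk M p := by
  let Ap := Localization.AtPrime p.asIdeal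
  let Mp := LocalizedModule p.asIdeal.primeCompl M
  haveI : Module.Free Ap Mp := Module.free_of_flat_of_isLocalRing
  let b : Basis (Fin (Module.finrank Ap Mp)) Ap Mp := Module.finBasis Ap Mp
  have hfit : Fitt.ideal Ap Mp k = (Fitt.ideal A M k).map (algebraMap A Ap) :=
    fitt_isBaseChange Ap (LocalizedModule.mkLinearMap p.asIdeal.primeCompl M)
      (LocalizedModule.isBaseChange p.asIdeal.primeCompl M) k
  have hrank : Module.rankAtStalk M p = Module.finrank Ap Mp := rfl
  have hdisj : (Fitt.ideal A M k).map (algebraMap A Ap) ≠ ⊤ ↔ Fitt.ideal A M k ≤ p.asIdeal := by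
    rw [IsLocalization.map_algebraMap_ne_top_iff_disjoint p.asIdeal.primeCompl Ap]
    constructor
    · intro h a ha
      by_contra hap
      exact Set.disjoint_left.1 h hap ha
    · intro h
      rw [Set.disjoint_left]
      intro a hap ha
      exact hap (h ha)
  rw [← hdisj, ← hfit, hrank]
  obtain ⟨h1, h2⟩ := fitt_of_basis b k
  constructor
  · intro hne
    by_contra hk
    exact hne (h2 (not_lt.1 hk))
  · intro hk
    rw [h1 hk]
    exact bot_ne_top

end Algebra

section Geometry

open Groth.Agent.Helper13.QCoh Groth.Agent.Helper13.FinType Groth.Agent.Helper13.QCohLoc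
open Groth.Agent.Helper13.LocTransfer Groth.Agent.Helper13.LocFree
open Groth.Agent.Helper13.FittSheaf Groth.Agent.Helper28.PureIdeal
open Groth.Agent.Helper22.Pinch

variable {X : Scheme.{u}}

section Dir1

variable (F : X.Modules) [F.IsQuasicoherent] [SheafOfModules.IsFiniteType (R := X.ringCatSheaf) F]

lemma mem_fittSupport_iff (hF : FlatMod.IsFlat F) {U : X.Opens} (hU : IsAffineOpen U) (x : X)
    (hx : x ∈ U) (k : ℕ) :
    x ∈ (Fitt.sheafIdeal F k).support ↔
      k < Module.rankAtStalk Γ(F, U) (hU.primeIdealOf ⟨x, hx⟩) := by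
  haveI : Module.Finite Γ(X, U) Γ(F, U) := finite_sections_of_isFiniteType F hU
  haveI : Module.Flat Γ(X, U) Γ(F, U) := (isFlat_iff_flat_sections F).1 hF U hU
  rw [Scheme.IdealSheafData.mem_support_iff_of_mem (U := ⟨U, hU⟩) hx, sheafIdeal_ideal,
    mem_zeroLocus_iff_primeIdealOf hU x hx, PrimeSpectrum.mem_zeroLocus, SetLike.coe_subset_coe]
  exact fitt_le_prime_iff _ k

lemma primeIdealOf_fs {U : X.Opens} (hU : IsAffineOpen U) (p : PrimeSpectrum Γ(X, U)) :
    hU.primeIdealOf ⟨fs hU p, fs_mem hU p⟩ = p :=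
  primeIdealOf_fromSpec' hU p (fs_mem hU p)

lemma stableUnderGeneralization_fittSupport (hF : FlatMod.IsFlat F) (k : ℕ) :
    StableUnderGeneralization ((Fitt.sheafIdeal F k).support : Set X) := by
  intro x y hyx hx
  obtain ⟨_, ⟨U, hU, rfl⟩, hxU, -⟩ :=
    X.isBasis_affineOpens.exists_subset_of_mem_open (Set.mem_univ x) isOpen_univ
  have hyU : y ∈ U := hyx.mem_open U.2 hxU
  haveI : Module.Finite Γ(X, U) Γ(F, U) := finite_sections_of_isFiniteType F hU
  haveI : Module.Flat Γ(X, U) Γ(F, U) := (isFlat_iff_flat_sections F).1 hF U hU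
  rw [SetLike.mem_coe, mem_fittSupport_iff F hF hU x hxU k] at hx
  rw [SetLike.mem_coe, mem_fittSupport_iff F hF hU y hyU k]
  have hind : Topology.IsInducing (fs hU) :=
    hU.fromSpec.isOpenEmbedding.toIsEmbedding.toIsInducing
  have hle : hU.primeIdealOf ⟨y, hyU⟩ ≤ hU.primeIdealOf ⟨x, hxU⟩ := by
    rw [PrimeSpectrum.le_iff_specializes, ← hind.specializes_iff, fs_primeIdealOf, fs_primeIdealOf]
    exact hyx
  rw [Module.rankAtStalk_eq_of_le_of_finite_of_flat _ hle]
  exact hx

theorem isFinLocFree_of_flat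
    (hopen : ∀ Z : Set X, IsClosed Z → StableUnderGeneralization Z → IsOpen Z)
    (hF : FlatMod.IsFlat F) : FlatMod.IsFinLocFree F := by
  intro x
  have hZopen : ∀ k, IsOpen ((Fitt.sheafIdeal F k).support : Set X) := fun k =>
    hopen _ (Fitt.sheafIdeal F k).support.isClosed (stableUnderGeneralization_fittSupport F hF k)
  obtain ⟨_, ⟨U₀, hU₀, rfl⟩, hxU₀, -⟩ :=
    X.isBasis_affineOpens.exists_subset_of_mem_open (Set.mem_univ x) isOpen_univ
  obtain ⟨n, hn⟩ : ∃ n, n = Module.rankAtStalk Γ(F, U₀) (hU₀.primeIdealOf ⟨x, hxU₀⟩) := ⟨_, rfl⟩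
  let W : Set X := (⋂ k ∈ Finset.range n, ((Fitt.sheafIdeal F k).support : Set X)) ∩
    ((Fitt.sheafIdeal F n).support : Set X)ᶜ
  have hW : IsOpen W :=
    (isOpen_biInter_finset (fun k _ => hZopen k)).inter
      (Fitt.sheafIdeal F n).support.isClosed.isOpen_compl
  have hxW : x ∈ W := by
    refine ⟨?_, ?_⟩
    · rw [Set.mem_iInter₂]
      intro k hk
      rw [SetLike.mem_coe, mem_fittSupport_iff F hF hU₀ x hxU₀, ← hn]
      exact Finset.mem_range.1 hk
    · rw [Set.mem_compl_iff, SetLike.mem_coe, mem_fittSupport_iff F hF hU₀ x hxU₀, ← hn]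
      exact lt_irrefl _
  obtain ⟨_, ⟨U, hU, rfl⟩, hxU, hUW⟩ := X.isBasis_affineOpens.exists_subset_of_mem_open hxW hW
  haveI : Module.Finite Γ(X, U) Γ(F, U) := finite_sections_of_isFiniteType F hU
  haveI : Module.Flat Γ(X, U) Γ(F, U) := (isFlat_iff_flat_sections F).1 hF U hU
  have hrank : ∀ p : PrimeSpectrum Γ(X, U), Module.rankAtStalk Γ(F, U) p = n := by
    intro p
    have hpU : fs hU p ∈ U := fs_mem hU p
    have hpW : fs hU p ∈ W := hUW hpU
    have e : hU.primeIdealOf ⟨fs hU p, hpU⟩ = p := primeIdealOf_fs hU p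
    have h1 : ∀ k, k < n → k < Module.rankAtStalk Γ(F, U) p := by
      intro k hk
      have h := hpW.1
      rw [Set.mem_iInter₂] at h
      have h' := h k (Finset.mem_range.2 hk)
      rw [SetLike.mem_coe, mem_fittSupport_iff F hF hU _ hpU, e] at h'
      exact h'
    have h2 : ¬ n < Module.rankAtStalk Γ(F, U) p := by
      have h := hpW.2
      rw [Set.mem_compl_iff, SetLike.mem_coe, mem_fittSupport_iff F hF hU _ hpU, e] at h
      exact h
    by_contra hne
    rcases lt_or_gt_of_ne hne with h | h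
    · exact lt_irrefl _ (h1 _ h)
    · exact h2 h
  obtain ⟨a, hap, hfree⟩ := Module.Free.away_of_finite_of_flat_of_rankAtStalk_constant Γ(F, U)
    (hU.primeIdealOf ⟨x, hxU⟩).asIdeal (fun m _ => by rw [hrank, hrank])
  haveI := hfree
  obtain ⟨n', ⟨b⟩⟩ : ∃ n' : ℕ, Nonempty (Basis (Fin n') (Localization.Away a)
      (LocalizedModule.Away a Γ(F, U))) := by
    rcases subsingleton_or_nontrivial (Localization.Away a) with hs | hn
    · haveI : Subsingleton (LocalizedModule.Away a Γ(F, U)) :=
        Module.subsingleton (Localization.Away a) _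
      exact ⟨0, ⟨Basis.empty _⟩⟩
    · exact ⟨_, ⟨Module.finBasis (Localization.Away a) (LocalizedModule.Away a Γ(F, U))⟩⟩
  letI := modBasicOpen F a
  haveI := isScalarTower_basicOpen F a
  haveI := isLocalizedModule_basicOpen F hU a
  haveI : IsLocalization (Submonoid.powers a) Γ(X, X.basicOpen a) :=
    hU.isLocalization_basicOpen a
  obtain ⟨b'⟩ := nonempty_basis_of_isLocalizedModule (Rₛ := Γ(X, X.basicOpen a))
    (Submonoid.powers a) (resBasicOpen F a) b
  exact ⟨X.basicOpen a, _, (mem_basicOpen_iff_notMem_primeIdealOf hU x hxU a).2 hap,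
    restrict_iso_freeMod_of_basis F (hU.basicOpen a) b'⟩

end Dir1

section Dir2

open Groth.Agent.Helper13.PushFinite Groth.Agent.Helper13.PushFinLocFree

lemma isFiniteType_structureModule (T : Scheme.{u}) :
    SheafOfModules.IsFiniteType (R := T.ringCatSheaf) (Coh.structureModule T) := by
  apply isFiniteType_of_finite_sections
  intro y
  obtain ⟨_, ⟨V, hV, rfl⟩, hyV, -⟩ :=
    T.isBasis_affineOpens.exists_subset_of_mem_open (Set.mem_univ y) isOpen_univ
  refine ⟨V, hyV, hV, ?_⟩
  change Module.Finite Γ(T, V) Γ(T, V)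
  infer_instance

theorem isOpen_of_forall
    (h : ∀ F : X.Modules, Coh.IsQCoh F → CohB1.IsFT F → FlatMod.IsFlat F → FlatMod.IsFinLocFree F)
    (Z : Set X) (hZc : IsClosed Z) (hZ : StableUnderGeneralization Z) : IsOpen Z := by
  let Zc : Closeds X := ⟨Z, hZc⟩
  have hZ' : StableUnderGeneralization (Zc : Set X) := hZ
  let I : X.IdealSheafData := pureIdealSheaf Zc hZ'
  haveI : Flat I.subschemeι := flat_pureIdealSheaf Zc hZ'
  let G : X.Modules :=
    (Scheme.Modules.pushforward I.subschemeι).obj (Coh.structureModule I.subscheme)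
  haveI hq : G.IsQuasicoherent :=
    Groth.Agent.Helper13.QCohPush.isQuasicoherent_pushforward I.subschemeι _
  haveI := isFiniteType_structureModule I.subscheme
  have hft : SheafOfModules.IsFiniteType (R := X.ringCatSheaf) G :=
    (isFiniteType_pushforward_iff I.subschemeι (Coh.structureModule I.subscheme)).1 inferInstance
  have hfl : FlatMod.IsFlat G := by
    apply isFlat_of_flat_sections
    intro x
    obtain ⟨_, ⟨V, hV, rfl⟩, hxV, -⟩ :=
      X.isBasis_affineOpens.exists_subset_of_mem_open (Set.mem_univ x) isOpen_univ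
    have hV' : IsAffineOpen V := hV
    refine ⟨V, hV', hxV, ?_⟩
    letI := algApp I.subschemeι V
    have h1 : (I.subschemeι.appLE V (I.subschemeι ⁻¹ᵁ V) le_rfl).hom.Flat :=
      I.subschemeι.flat_appLE hV' (hV'.preimage _) le_rfl
    rw [← Scheme.Hom.app_eq_appLE] at h1
    haveI : Module.Flat Γ(X, V) Γ(I.subscheme, I.subschemeι ⁻¹ᵁ V) := h1
    exact Module.Flat.of_linearEquiv (pushUnitEquiv I.subschemeι V)
  have hlf := h G hq hft hfl
  obtain ⟨-, -, hfp⟩ := (affine_finLocFree_iff I.subschemeι).1 ⟨inferInstance, hlf⟩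
  haveI := hfp
  have hop : IsOpenMap I.subschemeι := I.subschemeι.isOpenMap
  have hr : Set.range I.subschemeι = Z := by
    rw [I.range_subschemeι, support_pureIdealSheaf]
    rfl
  rw [← hr]
  exact hop.isOpen_range

end Dir2

end Geometry

end Groth.Agent.Helper28.FlatFTLocFree
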