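import Mathlib

/-!
# Frobenius bases and `p`-degrees

`IsFrobBasis p b`: every element of `A` is uniquely `∑ j, (c j) ^ p * b j`.
We show this property is inherited by polynomial rings, fraction fields and power series rings,
and use it to compute `[K : K^p]` for finitely generated extensions of `k((t))`.
-/

set_option autoImplicit false
universe u

namespace Groth.Agent.Helper28.FrobBasis

open Polynomial

/-- `b : J → A` is a "Frobenius basis": every element is uniquely `∑ (c j)^p * b j`. -/
structure IsFrobBasis (p : ℕ) {A : Type*} [CommRing A] {J : Type*} [Fintype J] (b : J → A) :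
    Prop where
  surj : ∀ a : A, ∃ c : J → A, a = ∑ j, (c j) ^ p * b j
  inj : ∀ c c' : J → A, ∑ j, (c j) ^ p * b j = ∑ j, (c' j) ^ p * b j → c = c'

theorem IsFrobBasis.map {p : ℕ} {A B : Type*} [CommRing A] [CommRing B] {J : Type*} [Fintype J]
    {b : J → A} (h : IsFrobBasis p b) (e : A ≃+* B) : IsFrobBasis p (fun j => e (b j)) where
  surj y := by
    obtain ⟨c, hc⟩ := h.surj (e.symm y)
    refine ⟨fun j => e (c j), ?_⟩
    have h1 := congrArg e hc
    rw [RingEquiv.apply_symm_apply] at h1
    rw [h1, map_sum]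
    refine Finset.sum_congr rfl fun j _ => ?_
    rw [map_mul, map_pow]
  inj c c' hcc := by
    have h1 := congrArg e.symm hcc
    rw [map_sum, map_sum] at h1
    have h2 : ∑ j, (e.symm (c j)) ^ p * b j = ∑ j, (e.symm (c' j)) ^ p * b j := by
      refine Eq.trans (Finset.sum_congr rfl fun j _ => ?_)
        (h1.trans (Finset.sum_congr rfl fun j _ => ?_))
      · rw [map_mul, map_pow, RingEquiv.symm_apply_apply]
      · rw [map_mul, map_pow, RingEquiv.symm_apply_apply]
    have h3 := h.inj (fun j => e.symm (c j)) (fun j => e.symm (c' j)) h2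
    funext j
    exact e.symm.injective (congrFun h3 j)

section Poly

variable {A : Type*} [CommRing A] (p : ℕ) [Fact p.Prime] [CharP A p]

theorem poly_coeff_pow (f : A[X]) (n : ℕ) :
    (f ^ p).coeff n = if p ∣ n then (f.coeff (n / p)) ^ p else 0 := by
  rw [← Polynomial.map_frobenius_expand p f, Polynomial.coeff_map,
    Polynomial.coeff_expand (Fact.out : p.Prime).pos]
  split_ifs with h
  · rw [frobenius_def]
  · rw [map_zero]

theorem arith_aux {j n : ℕ} (hj : j < p) :
    (j ≤ n ∧ p ∣ n - j) ↔ n % p = j := by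
  have hp : 0 < p := (Fact.out : p.Prime).pos
  constructor
  · rintro ⟨hjn, q, hq⟩
    have h1 : n = j + p * q := by omega
    rw [h1, Nat.add_mul_mod_self_left, Nat.mod_eq_of_lt hj]
  · intro h
    subst h
    exact ⟨Nat.mod_le n p, Nat.dvd_sub_mod n⟩

theorem arith_aux2 {j n : ℕ} (h : n % p = j) : (n - j) / p = n / p := by
  subst h
  exact (Nat.div_eq_sub_mod_div).symm

theorem term_coeff (P : A[X]) (a : A) (j : ℕ) (hj : j < p) (n : ℕ) :
    (P ^ p * (C a * X ^ j)).coeff n = if n % p = j then (P.coeff (n / p)) ^ p * a else 0 := by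
  rw [← mul_assoc, Polynomial.coeff_mul_X_pow', Polynomial.coeff_mul_C, poly_coeff_pow]
  by_cases h : n % p = j
  · obtain ⟨h1, h2⟩ := (arith_aux p hj).mpr h
    rw [if_pos h1, if_pos h2, if_pos h, arith_aux2 p h]
  · rw [if_neg h]
    by_cases h1 : j ≤ n
    · rw [if_pos h1]
      have h2 : ¬ p ∣ n - j := fun h2 => h ((arith_aux p hj).mp ⟨h1, h2⟩)
      rw [if_neg h2, zero_mul]
    · rw [if_neg h1]

theorem sum_coeff {J : Type*} [Fintype J] (b : J → A) (c : J × Fin p → A[X]) (m : ℕ)
    (j : Fin p) :
    (∑ x : J × Fin p, (c x) ^ p * (C (b x.1) * X ^ (x.2 : ℕ))).coeff (p * m + j) =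
      ∑ i, ((c (i, j)).coeff m) ^ p * b i := by
  have hp : 0 < p := (Fact.out : p.Prime).pos
  have hmod : (p * m + j) % p = j := by
    rw [Nat.mul_add_mod, Nat.mod_eq_of_lt j.2]
  have hdiv : (p * m + j) / p = m := by
    rw [Nat.mul_add_div hp, Nat.div_eq_of_lt j.2, add_zero]
  rw [Polynomial.finsetSum_coeff, Fintype.sum_prod_type]
  refine Finset.sum_congr rfl fun i _ => ?_
  dsimp only
  rw [Finset.sum_eq_single j]
  · rw [term_coeff p _ _ _ j.2, if_pos hmod, hdiv]
  · intro j' _ hj'
    rw [term_coeff p _ _ _ j'.2, if_neg]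
    rw [hmod]
    intro h
    exact hj' (Fin.ext h).symm
  · intro h
    exact absurd (Finset.mem_univ _) h

theorem IsFrobBasis.polynomial {J : Type*} [Fintype J] {b : J → A} (h : IsFrobBasis p b) :
    IsFrobBasis p (fun x : J × Fin p => (C (b x.1) * X ^ (x.2 : ℕ) : A[X])) where
  surj f := by
    classical
    have hp : 0 < p := (Fact.out : p.Prime).pos
    choose rep hrep using h.surj
    have hrep0 : rep 0 = 0 := by
      apply h.inj
      rw [← hrep 0]
      symm
      apply Finset.sum_eq_zero
      intro j _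
      rw [Pi.zero_apply, zero_pow hp.ne', zero_mul]
    have key : ∀ (i : J) (j : ℕ) (m : ℕ),
        (∑ m' ∈ Finset.range (f.natDegree + 1),
          monomial m' (rep (f.coeff (p * m' + j)) i)).coeff m =
          rep (f.coeff (p * m + j)) i := by
      intro i j m
      rw [Polynomial.finsetSum_coeff]
      simp only [Polynomial.coeff_monomial]
      rw [Finset.sum_ite_eq']
      split_ifs with hm
      · rfl
      · have h0 : f.coeff (p * m + j) = 0 := by
          apply Polynomial.coeff_eq_zero_of_natDegree_lt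
          rw [Finset.mem_range, not_lt] at hm
          have : m ≤ p * m := Nat.le_mul_of_pos_left m hp
          omega
        rw [h0, hrep0, Pi.zero_apply]
    refine ⟨fun x => ∑ m' ∈ Finset.range (f.natDegree + 1),
      monomial m' (rep (f.coeff (p * m' + x.2)) x.1), ?_⟩
    ext n
    obtain ⟨m, j, rfl⟩ : ∃ (m : ℕ) (j : Fin p), n = p * m + j :=
      ⟨n / p, ⟨n % p, Nat.mod_lt n hp⟩, (Nat.div_add_mod n p).symm⟩
    rw [sum_coeff]
    dsimp only
    refine (hrep (f.coeff (p * m + j))).trans ?_
    refine Finset.sum_congr rfl fun i _ => ?_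
    rw [key]
  inj c c' hcc := by
    funext x
    obtain ⟨i, j⟩ := x
    ext m
    have h1 := congrArg (fun P : A[X] => P.coeff (p * m + j)) hcc
    beta_reduce at h1
    rw [sum_coeff, sum_coeff] at h1
    have h2 := h.inj (fun i => (c (i, j)).coeff m) (fun i => (c' (i, j)).coeff m) h1
    exact congrFun h2 i

end Poly

section PS

variable {k : Type*} [CommRing k] (p : ℕ) [Fact p.Prime] [CharP k p]

theorem ps_coeff_pow (f : PowerSeries k) (n : ℕ) :
    PowerSeries.coeff n (f ^ p) = if p ∣ n then (PowerSeries.coeff (n / p) f) ^ p else 0 := by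
  have hp : p ≠ 0 := (Fact.out : p.Prime).ne_zero
  have h2 : f ^ p = PowerSeries.map (frobenius k p) (PowerSeries.expand p hp f) :=
    (MvPowerSeries.map_frobenius_expand (σ := Unit) (R := k) p hp (f := f)).symm
  rw [h2, PowerSeries.coeff_map, PowerSeries.coeff_expand]
  split_ifs with h
  · rw [frobenius_def]
  · rw [map_zero]

theorem ps_term_coeff (P : PowerSeries k) (j : ℕ) (hj : j < p) (n : ℕ) :
    PowerSeries.coeff n (P ^ p * PowerSeries.X ^ j) =
      if n % p = j then (PowerSeries.coeff (n / p) P) ^ p else 0 := by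
  rw [PowerSeries.coeff_mul_X_pow', ps_coeff_pow]
  by_cases h : n % p = j
  · obtain ⟨h1, h2⟩ := (arith_aux p hj).mpr h
    rw [if_pos h1, if_pos h2, if_pos h, arith_aux2 p h]
  · rw [if_neg h]
    by_cases h1 : j ≤ n
    · rw [if_pos h1]
      have h2 : ¬ p ∣ n - j := fun h2 => h ((arith_aux p hj).mp ⟨h1, h2⟩)
      rw [if_neg h2]
    · rw [if_neg h1]

theorem ps_sum_coeff (c : Fin p → PowerSeries k) (m : ℕ) (j : Fin p) :
    PowerSeries.coeff (p * m + j) (∑ x : Fin p, (c x) ^ p * PowerSeries.X ^ (x : ℕ)) =
      (PowerSeries.coeff m (c j)) ^ p := by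
  have hp : 0 < p := (Fact.out : p.Prime).pos
  have hmod : (p * m + j) % p = j := by
    rw [Nat.mul_add_mod, Nat.mod_eq_of_lt j.2]
  have hdiv : (p * m + j) / p = m := by
    rw [Nat.mul_add_div hp, Nat.div_eq_of_lt j.2, add_zero]
  rw [map_sum, Finset.sum_eq_single j]
  · rw [ps_term_coeff p _ _ j.2, if_pos hmod, hdiv]
  · intro j' _ hj'
    rw [ps_term_coeff p _ _ j'.2, if_neg]
    rw [hmod]
    intro h
    exact hj' (Fin.ext h).symm
  · intro h
    exact absurd (Finset.mem_univ _) h

theorem IsFrobBasis.powerSeries (hk : Function.Bijective (frobenius k p)) :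
    IsFrobBasis p (fun j : Fin p => (PowerSeries.X : PowerSeries k) ^ (j : ℕ)) where
  surj f := by
    have hp : 0 < p := (Fact.out : p.Prime).pos
    refine ⟨fun j => PowerSeries.mk fun m =>
      Function.surjInv hk.2 (PowerSeries.coeff (p * m + j) f), ?_⟩
    ext n
    obtain ⟨m, j, rfl⟩ : ∃ (m : ℕ) (j : Fin p), n = p * m + j :=
      ⟨n / p, ⟨n % p, Nat.mod_lt n hp⟩, (Nat.div_add_mod n p).symm⟩
    rw [ps_sum_coeff, PowerSeries.coeff_mk, ← frobenius_def, Function.surjInv_eq hk.2]
  inj c c' hcc := by
    funext j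
    ext m
    have h1 := congrArg (PowerSeries.coeff (p * m + j)) hcc
    rw [ps_sum_coeff, ps_sum_coeff] at h1
    rw [← frobenius_def, ← frobenius_def] at h1
    exact hk.1 h1

end PS

section Frac

theorem IsFrobBasis.fractionRing {A K : Type*} [CommRing A] [IsDomain A] [Field K] [Algebra A K]
    [IsFractionRing A K] (p : ℕ) (hp : 0 < p) {J : Type*} [Fintype J] {b : J → A}
    (h : IsFrobBasis p b) : IsFrobBasis p (fun j => algebraMap A K (b j)) where
  surj z := by
    obtain ⟨a, s, hs, rfl⟩ := IsFractionRing.div_surjective A z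
    have hs0 : algebraMap A K s ≠ 0 :=
      IsFractionRing.to_map_ne_zero_of_mem_nonZeroDivisors hs
    obtain ⟨c, hc⟩ := h.surj (a * s ^ (p - 1))
    refine ⟨fun j => algebraMap A K (c j) / algebraMap A K s, ?_⟩
    have hpow : (algebraMap A K s) ^ p = (algebraMap A K s) ^ (p - 1) * algebraMap A K s := by
      rw [← pow_succ]
      congr 1
      omega
    have h1 : algebraMap A K a / algebraMap A K s =
        algebraMap A K (a * s ^ (p - 1)) / (algebraMap A K s) ^ p := by
      rw [div_eq_div_iff hs0 (pow_ne_zero p hs0), map_mul, map_pow, hpow]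
      ring
    rw [h1, hc, map_sum, Finset.sum_div]
    refine Finset.sum_congr rfl fun j _ => ?_
    rw [map_mul, map_pow, div_pow]
    ring
  inj c c' hcc := by
    obtain ⟨s, hs⟩ := IsLocalization.exist_integer_multiples_of_finite (nonZeroDivisors A)
      (Sum.elim c c')
    have hs0 : algebraMap A K (s : A) ≠ 0 :=
      IsFractionRing.to_map_ne_zero_of_mem_nonZeroDivisors s.2
    choose a ha using fun i => hs (Sum.inl i)
    choose a' ha' using fun i => hs (Sum.inr i)
    have ha2 : ∀ i, algebraMap A K (a i) = algebraMap A K (s : A) * c i := by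
      intro i
      rw [ha i, Sum.elim_inl, Algebra.smul_def]
    have ha2' : ∀ i, algebraMap A K (a' i) = algebraMap A K (s : A) * c' i := by
      intro i
      rw [ha' i, Sum.elim_inr, Algebra.smul_def]
    have e1 : ∀ j, algebraMap A K ((a j) ^ p * b j) =
        (algebraMap A K (s : A)) ^ p * ((c j) ^ p * algebraMap A K (b j)) := by
      intro j
      rw [map_mul, map_pow, ha2 j]
      ring
    have e1' : ∀ j, algebraMap A K ((a' j) ^ p * b j) =
        (algebraMap A K (s : A)) ^ p * ((c' j) ^ p * algebraMap A K (b j)) := by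
      intro j
      rw [map_mul, map_pow, ha2' j]
      ring
    have h1 : algebraMap A K (∑ j, (a j) ^ p * b j) = algebraMap A K (∑ j, (a' j) ^ p * b j) := by
      rw [map_sum, map_sum]
      simp_rw [e1, e1', ← Finset.mul_sum]
      rw [hcc]
    have h2 := h.inj a a' (IsFractionRing.injective A K h1)
    funext j
    have h3 : algebraMap A K (s : A) * c j = algebraMap A K (s : A) * c' j := by
      rw [← ha2 j, ← ha2' j, h2]
    exact mul_left_cancel₀ hs0 h3

end Frac

section Field

theorem finrank_of_isFrobBasis {K : Type*} [Field K] (p : ℕ) [Fact p.Prime] [CharP K p]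
    {J : Type*} [Fintype J] {b : J → K} (h : IsFrobBasis p b) :
    Module.finrank (frobenius K p).fieldRange K = Fintype.card J := by
  classical
  have hp : p ≠ 0 := (Fact.out : p.Prime).ne_zero
  have hli : LinearIndependent (frobenius K p).fieldRange b := by
    rw [Fintype.linearIndependent_iff]
    intro g hg j
    have hg' : ∀ j, ∃ c : K, c ^ p = (g j : K) := fun j => by
      obtain ⟨c, hc⟩ := RingHom.mem_fieldRange.mp (g j).2
      exact ⟨c, by rw [← hc, frobenius_def]⟩
    choose c hc using hg'
    have h0 : ∑ j, (c j) ^ p * b j = ∑ j, ((fun _ => 0 : J → K) j) ^ p * b j := by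
      have h00 : ∑ j, (c j) ^ p * b j = 0 := by
        rw [← hg]
        refine Finset.sum_congr rfl fun j _ => ?_
        rw [hc j]
        rfl
      rw [h00]
      symm
      apply Finset.sum_eq_zero
      intro j _
      rw [zero_pow hp, zero_mul]
    have h1 := congrFun (h.inj _ _ h0) j
    apply Subtype.ext
    rw [← hc j, h1, zero_pow hp]
    rfl
  have hsp : ⊤ ≤ Submodule.span (frobenius K p).fieldRange (Set.range b) := by
    intro a _
    obtain ⟨c, hc⟩ := h.surj a
    rw [hc]
    refine Submodule.sum_mem _ fun j _ => ?_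
    have h2 : (c j) ^ p * b j =
        (⟨(c j) ^ p, RingHom.mem_fieldRange.mpr ⟨c j, frobenius_def p (c j)⟩⟩ :
          (frobenius K p).fieldRange) • b j := rfl
    rw [h2]
    exact Submodule.smul_mem _ _ (Submodule.subset_span ⟨j, rfl⟩)
  exact Module.finrank_eq_card_basis (Module.Basis.mk hli hsp)

theorem finrank_frob_eq_of_finite (L K : Type*) [Field L] [Field K] [Algebra L K]
    [FiniteDimensional L K] (p : ℕ) [Fact p.Prime] [CharP L p] [CharP K p] :
    Module.finrank (frobenius L p).fieldRange L = Module.finrank (frobenius K p).fieldRange K := by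
  let g : L →+* K := algebraMap L K
  let fK : K →+* K := frobenius K p
  let L' : Subfield K := g.fieldRange
  have hle : L'.map fK ≤ L' := by
    rintro x ⟨y, hy, rfl⟩
    obtain ⟨z, rfl⟩ := RingHom.mem_fieldRange.mp hy
    refine RingHom.mem_fieldRange.mpr ⟨z ^ p, ?_⟩
    show g (z ^ p) = frobenius K p (g z)
    rw [frobenius_def, map_pow]
  have h1 : (L'.map fK).relfinrank L' * L'.relfinrank ⊤ = (L'.map fK).relfinrank ⊤ :=
    Subfield.relfinrank_mul_relfinrank hle le_top
  have h2 : (L'.map fK).relfinrank ((⊤ : Subfield K).map fK) *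
      ((⊤ : Subfield K).map fK).relfinrank ⊤ = (L'.map fK).relfinrank ⊤ :=
    Subfield.relfinrank_mul_relfinrank ((Subfield.gc_map_comap fK).monotone_l le_top) le_top
  have h3 : (L'.map fK).relfinrank ((⊤ : Subfield K).map fK) = L'.relfinrank ⊤ :=
    Subfield.relfinrank_map_map _ _ fK
  have h5 : (L'.map fK).relfinrank L' = Module.finrank (frobenius L p).fieldRange L := by
    have h50 := Subfield.finrank_comap (A := L'.map fK) g
    rw [← h50]
    have hcomap : (L'.map fK).comap g = (frobenius L p).fieldRange := by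
      ext y
      rw [Subfield.mem_comap, Subfield.mem_map, RingHom.mem_fieldRange]
      constructor
      · rintro ⟨x, hx, hxy⟩
        obtain ⟨z, rfl⟩ := RingHom.mem_fieldRange.mp hx
        refine ⟨z, g.injective ?_⟩
        rw [← hxy]
        show g (frobenius L p z) = frobenius K p (g z)
        rw [frobenius_def, frobenius_def, map_pow]
      · rintro ⟨z, rfl⟩
        refine ⟨g z, RingHom.mem_fieldRange.mpr ⟨z, rfl⟩, ?_⟩
        show frobenius K p (g z) = g (frobenius L p z)
        rw [frobenius_def, frobenius_def, map_pow]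
    rw [hcomap]
  have h6 : ((⊤ : Subfield K).map fK).relfinrank ⊤ =
      Module.finrank (frobenius K p).fieldRange K := by
    rw [Subfield.relfinrank_top_right, ← RingHom.fieldRange_eq_map]
  have hc : 0 < L'.relfinrank ⊤ := by
    rw [Subfield.relfinrank_top_right]
    letI : Algebra L L' := (g.rangeRestrictField).toAlgebra
    haveI : IsScalarTower L L' K := IsScalarTower.of_algebraMap_eq (fun x => rfl)
    haveI : Module.Finite L' K := Module.Finite.of_restrictScalars_finite L L' K
    exact Module.finrank_pos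
  rw [h3] at h2
  rw [← h2, h5, h6, mul_comm] at h1
  exact Nat.eq_of_mul_eq_mul_left hc h1

end Field

/-- `A` admits a Frobenius basis with `r` elements. -/
def HasFrobRank (p : ℕ) (A : Type*) [CommRing A] (r : ℕ) : Prop :=
  ∃ (J : Type) (_ : Fintype J) (b : J → A), Fintype.card J = r ∧ IsFrobBasis p b

theorem HasFrobRank.map {p : ℕ} {A B : Type*} [CommRing A] [CommRing B] {r : ℕ}
    (h : HasFrobRank p A r) (e : A ≃+* B) : HasFrobRank p B r := by
  obtain ⟨J, _, b, hJ, hb⟩ := h
  exact ⟨J, inferInstance, _, hJ, hb.map e⟩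

theorem HasFrobRank.polynomial {p : ℕ} [Fact p.Prime] {A : Type*} [CommRing A] [CharP A p]
    {r : ℕ} (h : HasFrobRank p A r) : HasFrobRank p A[X] (r * p) := by
  obtain ⟨J, _, b, hJ, hb⟩ := h
  refine ⟨J × Fin p, inferInstance, _, ?_, hb.polynomial p⟩
  rw [Fintype.card_prod, Fintype.card_fin, hJ]

theorem HasFrobRank.fractionRing {p : ℕ} (hp : 0 < p) {A K : Type*} [CommRing A] [IsDomain A]
    [Field K] [Algebra A K] [IsFractionRing A K] {r : ℕ} (h : HasFrobRank p A r) :
    HasFrobRank p K r := by
  obtain ⟨J, _, b, hJ, hb⟩ := h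
  exact ⟨J, inferInstance, _, hJ, hb.fractionRing p hp⟩

theorem HasFrobRank.mvPolynomial_fin {p : ℕ} [Fact p.Prime] {A : Type*} [CommRing A] [CharP A p]
    {r : ℕ} (h : HasFrobRank p A r) (d : ℕ) :
    HasFrobRank p (MvPolynomial (Fin d) A) (r * p ^ d) := by
  induction d with
  | zero =>
    rw [pow_zero, mul_one]
    exact h.map (MvPolynomial.isEmptyAlgEquiv A (Fin 0)).symm.toRingEquiv
  | succ d ih =>
    have h1 := ih.polynomial
    rw [pow_succ, ← mul_assoc]
    exact h1.map (MvPolynomial.finSuccEquiv A d).symm.toRingEquiv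

theorem HasFrobRank.mvPolynomial {p : ℕ} [Fact p.Prime] {A : Type*} [CommRing A] [CharP A p]
    {r : ℕ} (h : HasFrobRank p A r) (ι : Type*) [Fintype ι] :
    HasFrobRank p (MvPolynomial ι A) (r * p ^ Fintype.card ι) :=
  (h.mvPolynomial_fin (Fintype.card ι)).map
    (MvPolynomial.renameEquiv A (Fintype.equivFin ι).symm).toRingEquiv

/-- The `p`-degree of a finitely generated extension of transcendence degree `d` of `k((t))`,
`k` a finite field of characteristic `p`, is `p ^ (d + 1)`. -/
theorem finrank_frob_laurent (p : ℕ) [Fact p.Prime]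
    (k : Type u) [Field k] [Finite k] [CharP k p]
    (K : Type u) [Field K] [Algebra (LaurentSeries k) K] [CharP K p]
    (hfg : (⊤ : IntermediateField (LaurentSeries k) K).FG)
    (d : ℕ) (hd : Algebra.trdeg (LaurentSeries k) K = d) :
    Module.finrank (↥(frobenius K p).fieldRange) K = p ^ (d + 1) := by
  classical
  have hp : 0 < p := (Fact.out : p.Prime).pos
  haveI : CharP (LaurentSeries k) p :=
    (RingHom.charP_iff_charP (algebraMap (LaurentSeries k) K) p).mpr inferInstance
  haveI : CharP (PowerSeries k) p :=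
    (RingHom.charP_iff (algebraMap (PowerSeries k) (LaurentSeries k))
      (IsFractionRing.injective _ _) p).mpr inferInstance
  have hk : Function.Bijective (frobenius k p) := by
    have hinj : Function.Injective (frobenius k p) := (frobenius k p).injective
    exact ⟨hinj, Finite.injective_iff_surjective.mp hinj⟩
  have h0 := IsFrobBasis.powerSeries (k := k) p hk
  have h1 : HasFrobRank p (LaurentSeries k) p :=
    ⟨Fin p, inferInstance, _, Fintype.card_fin p, h0.fractionRing p hp⟩
  obtain ⟨s, hs⟩ := exists_isTranscendenceBasis (LaurentSeries k) K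
  have hcard := hs.cardinalMk_eq_trdeg
  rw [hd] at hcard
  haveI : Finite s := by
    rw [← Cardinal.mk_lt_aleph0_iff, hcard]
    exact Cardinal.natCast_lt_aleph0
  letI : Fintype s := Fintype.ofFinite s
  have hcard' : Fintype.card s = d := by
    rw [Cardinal.mk_fintype] at hcard
    exact_mod_cast hcard
  have h2 := h1.mvPolynomial s
  rw [hcard'] at h2
  have h3 : HasFrobRank p (FractionRing (MvPolynomial s (LaurentSeries k))) (p * p ^ d) :=
    h2.fractionRing hp
  have h4 := h3.map hs.1.aevalEquivField.toRingEquiv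
  haveI : CharP (↥(IntermediateField.adjoin (LaurentSeries k) (Set.range (Subtype.val : s → K)))) p :=
    (RingHom.charP_iff_charP (algebraMap
      (↥(IntermediateField.adjoin (LaurentSeries k) (Set.range (Subtype.val : s → K)))) K) p).mpr
      inferInstance
  obtain ⟨J, _, b, hJ, hb⟩ := h4
  have h5 := finrank_of_isFrobBasis p hb
  rw [hJ] at h5
  haveI : Algebra.EssFiniteType (LaurentSeries k) K := IntermediateField.fg_top_iff.mp hfg
  haveI : Algebra.EssFiniteType
      (↥(IntermediateField.adjoin (LaurentSeries k) (Set.range (Subtype.val : s → K)))) K :=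
    Algebra.EssFiniteType.of_comp (LaurentSeries k) _ K
  haveI : Algebra.IsAlgebraic
      (↥(IntermediateField.adjoin (LaurentSeries k) (Set.range (Subtype.val : s → K)))) K :=
    hs.isAlgebraic_field
  haveI : Module.Finite
      (↥(IntermediateField.adjoin (LaurentSeries k) (Set.range (Subtype.val : s → K)))) K :=
    Algebra.finite_of_essFiniteType_of_isAlgebraic
  rw [← finrank_frob_eq_of_finite
    (↥(IntermediateField.adjoin (LaurentSeries k) (Set.range (Subtype.val : s → K)))) K p, h5,
    pow_succ']

end Groth.Agent.Helper28.FrobBasis
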