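import Mathlib
import Groth.Prelude.Def_W4c5flasquetoriphsGLat
set_option autoImplicit false

/-!
Permutation lattices over a finite group: `H¹` vanishing and permutation covers which are
surjective on invariants.
-/

namespace Groth.Agent.Helper28.GLatRes

section perm

variable (G : Type) [Group G] (X : Type) [MulAction G X]

/-- the permutation representation on `X →₀ ℤ` -/
noncomputable def perm : Representation ℤ G (X →₀ ℤ) where
  toFun g := Finsupp.lmapDomain ℤ ℤ (fun x : X => g • x)
  map_one' := by
    apply Finsupp.lhom_ext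
    intro a b
    rw [Finsupp.lmapDomain_apply, Finsupp.mapDomain_single, one_smul]
    rfl
  map_mul' g h := by
    apply Finsupp.lhom_ext
    intro a b
    rw [Module.End.mul_apply]
    simp only [Finsupp.lmapDomain_apply, Finsupp.mapDomain_single, mul_smul]

variable {G X}

lemma perm_single (g : G) (x : X) (n : ℤ) :
    perm G X g (Finsupp.single x n) = Finsupp.single (g • x) n :=
  Finsupp.mapDomain_single

lemma perm_apply (g : G) (p : X →₀ ℤ) (x : X) : (perm G X g p) x = p (g⁻¹ • x) := by
  have hinj : Function.Injective (fun y : X => g • y) := MulAction.injective g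
  have h : (Finsupp.mapDomain (fun y : X => g • y) p) (g • (g⁻¹ • x)) = p (g⁻¹ • x) :=
    Finsupp.mapDomain_apply hinj p _
  rw [smul_inv_smul] at h
  exact h

lemma isPermutation_perm : GLat.IsPermutation (perm G X) :=
  ⟨X, Finsupp.basisSingleOne, fun g i => ⟨g • i, by
    rw [Finsupp.coe_basisSingleOne, perm_single]⟩⟩

/-- `H¹(H, ℤ[X]) = 0` for every subgroup `H` of a finite group -/
theorem isCoflasque_perm [Finite G] [Finite X] : GLat.IsCoflasque (perm G X) := by
  classical
  intro H f hf
  have h1 : f 1 = 0 := by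
    have h := hf 1 1
    rw [mul_one, OneMemClass.coe_one, map_one, Module.End.one_apply] at h
    exact left_eq_add.mp h
  -- vanishing on stabilisers
  have hstab : ∀ (k : H) (x : X), (k : G) • x = x → f k x = 0 := by
    intro k x hk
    have hks : (k : G) ∈ MulAction.stabilizer G x := hk
    have hpow : ∀ n : ℕ, f (k ^ n) x = n * f k x := by
      intro n
      induction n with
      | zero => rw [pow_zero, h1, Nat.cast_zero, zero_mul]; rfl
      | succ n ih =>
        have hinv : (((k ^ n : H) : G))⁻¹ • x = x := by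
          have : (((k ^ n : H) : G))⁻¹ ∈ MulAction.stabilizer G x := by
            rw [Subgroup.coe_pow]
            exact (MulAction.stabilizer G x).inv_mem ((MulAction.stabilizer G x).pow_mem hks n)
          exact this
        rw [pow_succ, hf, Finsupp.add_apply, perm_apply, hinv, ih]
        push_cast
        ring
    have h2 := hpow (orderOf k)
    rw [pow_orderOf_eq_one, h1] at h2
    have h3 : (orderOf k : ℤ) ≠ 0 := by
      have := orderOf_pos k
      exact_mod_cast this.ne'
    have h4 : (0 : ℤ) = orderOf k * f k x := h2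
    rcases mul_eq_zero.mp h4.symm with h5 | h5
    · exact absurd h5 h3
    · exact h5
  -- orbit representatives
  let r : X → X := fun x => (Quotient.mk (MulAction.orbitRel H X) x).out
  have hr : ∀ x, ∃ c : H, (c : G) • r x = x := by
    intro x
    have h : r x ∈ MulAction.orbit H x :=
      MulAction.orbitRel_apply.mp (Quotient.mk_out (s := MulAction.orbitRel H X) x)
    obtain ⟨c, hc⟩ := h
    refine ⟨c⁻¹, ?_⟩
    have hc' : (c : G) • x = r x := hc
    rw [← hc', InvMemClass.coe_inv, inv_smul_smul]
  choose c hc using hr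
  have e3 : ∀ y : X, ((c y : H) : G)⁻¹ • y = r y := by
    intro y
    calc ((c y : H) : G)⁻¹ • y = ((c y : H) : G)⁻¹ • (((c y : H) : G) • r y) := by rw [hc y]
      _ = r y := inv_smul_smul _ _
  have hrr : ∀ (a : H) (x : X), r ((a : G)⁻¹ • x) = r x := by
    intro a x
    have : (Quotient.mk (MulAction.orbitRel H X) ((a : G)⁻¹ • x)) =
        Quotient.mk (MulAction.orbitRel H X) x := by
      apply Quotient.sound
      exact MulAction.orbitRel_apply.mpr ⟨a⁻¹, rfl⟩
    show (Quotient.mk (MulAction.orbitRel H X) ((a : G)⁻¹ • x)).out = _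
    rw [this]
  refine ⟨Finsupp.ofSupportFinite (fun x => - f (c x) x) (Set.toFinite _), fun a => ?_⟩
  ext x
  rw [Finsupp.sub_apply, perm_apply, Finsupp.ofSupportFinite_coe]
  show f a x = -(f (c ((a : G)⁻¹ • x)) ((a : G)⁻¹ • x)) - (-(f (c x) x))
  -- the stabiliser element
  set c' := c ((a : G)⁻¹ • x) with hc'
  set k : H := (c x)⁻¹ * a * c' with hk
  have hkfix : (k : G) • r x = r x := by
    have e1 : (c' : G) • r x = (a : G)⁻¹ • x := by
      have := hc ((a : G)⁻¹ • x)
      rw [hrr] at this
      exact this
    rw [hk, Subgroup.coe_mul, Subgroup.coe_mul, mul_smul, mul_smul, e1, smul_inv_smul,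
      InvMemClass.coe_inv]
    exact e3 x
  have hc'eq : c' = a⁻¹ * (c x * k) := by
    rw [hk]; group
  -- cocycle computations
  have e2 : f c' ((a : G)⁻¹ • x) = f a⁻¹ ((a : G)⁻¹ • x) + f (c x) x + f k (r x) := by
    rw [hc'eq, hf, Finsupp.add_apply, perm_apply, InvMemClass.coe_inv, inv_inv, smul_inv_smul,
      hf, Finsupp.add_apply, perm_apply]
    rw [e3]
    ring
  have e4 : f a x + f a⁻¹ ((a : G)⁻¹ • x) = 0 := by
    have h := hf a a⁻¹
    rw [mul_inv_cancel, h1] at h
    have h' := DFunLike.congr_fun h x
    rw [Finsupp.add_apply, perm_apply] at h'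
    exact h'.symm
  rw [e2, hstab k (r x) hkfix]
  linarith

end perm

section cover

variable {G : Type} [Group G] {A : Type} [AddCommGroup A] (ρ : Representation ℤ G A)

/-- invariants under a subgroup -/
def inv (H : Subgroup G) : Submodule ℤ A where
  carrier := {a | ∀ h : H, ρ (h : G) a = a}
  add_mem' := by
    intro a b ha hb h
    rw [map_add, ha h, hb h]
  zero_mem' := by
    intro h
    rw [map_zero]
  smul_mem' := by
    intro n a ha h
    rw [map_smul, ha h]

lemma mem_inv {H : Subgroup G} {a : A} : a ∈ inv ρ H ↔ ∀ h : H, ρ (h : G) a = a := Iff.rfl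

variable [Finite G] [Module.Finite ℤ A]

/-- a permutation cover which is surjective on the invariants of every subgroup -/
theorem exists_cover : ∃ (X : Type) (_ : MulAction G X) (_ : Finite X)
    (π : (X →₀ ℤ) →ₗ[ℤ] A), GLat.IsEquivariant (perm G X) ρ π ∧
    ∀ (H : Subgroup G) (a : A), a ∈ inv ρ H →
      ∃ p : X →₀ ℤ, (∀ h : H, perm G X (h : G) p = p) ∧ π p = a := by
  classical
  have hfg : ∀ H : Subgroup G, (inv ρ H).FG := fun H => IsNoetherian.noetherian _
  choose S hS using hfg
  let T : Set A := ⋃ H : Subgroup G, (S H : Set A)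
  have hT : T.Finite := Set.finite_iUnion fun H => (S H).finite_toSet
  let Y : Set A := ⋃ g : G, (fun s => ρ g s) '' T
  have hY : Y.Finite := Set.finite_iUnion fun g => hT.image _
  have hstable : ∀ (g : G) (a : A), a ∈ Y → ρ g a ∈ Y := by
    intro g a ha
    obtain ⟨g', hg'⟩ := Set.mem_iUnion.mp ha
    obtain ⟨s, hs, rfl⟩ := hg'
    refine Set.mem_iUnion.mpr ⟨g * g', s, hs, ?_⟩
    show ρ (g * g') s = ρ g (ρ g' s)
    rw [map_mul]
    rfl
  have hTY : T ⊆ Y := by
    intro s hs
    refine Set.mem_iUnion.mpr ⟨1, s, hs, ?_⟩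
    show ρ 1 s = s
    rw [map_one]
    rfl
  letI : MulAction G Y :=
    { smul := fun g y => ⟨ρ g y.1, hstable g y.1 y.2⟩
      one_smul := fun y => Subtype.ext (by
        show ρ 1 y.1 = y.1
        rw [map_one]
        rfl)
      mul_smul := fun g h y => Subtype.ext (by
        show ρ (g * h) y.1 = ρ g (ρ h y.1)
        rw [map_mul]
        rfl) }
  have hsmul : ∀ (g : G) (y : Y), ((g • y : Y) : A) = ρ g y.1 := fun g y => rfl
  haveI : Finite Y := hY.to_subtype
  let π : (Y →₀ ℤ) →ₗ[ℤ] A := Finsupp.linearCombination ℤ (fun y : Y => (y : A))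
  refine ⟨Y, inferInstance, inferInstance, π, ?_, ?_⟩
  · intro g p
    have h : π ∘ₗ (perm G Y g) = (ρ g) ∘ₗ π := by
      apply Finsupp.lhom_ext
      intro y n
      rw [LinearMap.comp_apply, LinearMap.comp_apply, perm_single]
      show Finsupp.linearCombination ℤ (fun y : Y => (y : A)) (Finsupp.single (g • y) n) =
        ρ g (Finsupp.linearCombination ℤ (fun y : Y => (y : A)) (Finsupp.single y n))
      rw [Finsupp.linearCombination_single, Finsupp.linearCombination_single, map_smul, hsmul]
    exact LinearMap.congr_fun h p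
  · intro H a ha
    rw [← hS H] at ha
    induction ha using Submodule.span_induction with
    | mem s hs =>
      have hsT : s ∈ T := Set.mem_iUnion.mpr ⟨H, hs⟩
      have hsinv : s ∈ inv ρ H := by
        rw [← hS H]
        exact Submodule.subset_span hs
      refine ⟨Finsupp.single ⟨s, hTY hsT⟩ 1, fun h => ?_, ?_⟩
      · rw [perm_single]
        congr 1
        exact Subtype.ext (hsinv h)
      · show Finsupp.linearCombination ℤ (fun y : Y => (y : A)) (Finsupp.single _ 1) = s
        rw [Finsupp.linearCombination_single, one_smul]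
    | zero => exact ⟨0, fun h => map_zero _, map_zero _⟩
    | add x y _ _ hx hy =>
      obtain ⟨p, hp1, hp2⟩ := hx
      obtain ⟨p', hp1', hp2'⟩ := hy
      exact ⟨p + p', fun h => by rw [map_add, hp1 h, hp1' h], by rw [map_add, hp2, hp2']⟩
    | smul n x _ hx =>
      obtain ⟨p, hp1, hp2⟩ := hx
      exact ⟨n • p, fun h => by rw [map_smul, hp1 h], by rw [map_smul, hp2]⟩

/-- the coflasque kernel sequence `0 → Q → P → A → 0` -/
theorem exists_coflasque_kernel :
    ∃ (Q : Type) (_ : AddCommGroup Q) (P : Type) (_ : AddCommGroup P)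
      (_ : Module.Finite ℤ Q) (_ : Module.Free ℤ Q) (_ : Module.Finite ℤ P) (_ : Module.Free ℤ P)
      (σ : Representation ℤ G Q) (τ : Representation ℤ G P) (i : Q →ₗ[ℤ] P) (π : P →ₗ[ℤ] A),
      GLat.IsEquivariant σ τ i ∧ GLat.IsEquivariant τ ρ π ∧ Function.Injective i ∧
      Function.Surjective π ∧
      LinearMap.range i = LinearMap.ker π ∧ GLat.IsPermutation τ ∧ GLat.IsCoflasque σ := by
  classical
  obtain ⟨X, instA, instF, π, hπ, hinv⟩ := exists_cover ρ
  have hsurj : Function.Surjective π := by
    intro a
    obtain ⟨p, _, hp⟩ := hinv ⊥ a (by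
      intro h
      have : (h : G) = 1 := Subgroup.mem_bot.mp h.2
      rw [this, map_one]
      rfl)
    exact ⟨p, hp⟩
  have hK : ∀ (g : G) (q : X →₀ ℤ), q ∈ LinearMap.ker π → perm G X g q ∈ LinearMap.ker π := by
    intro g q hq
    rw [LinearMap.mem_ker] at hq ⊢
    rw [hπ g q, hq, map_zero]
  let σ : Representation ℤ G (LinearMap.ker π) :=
    { toFun := fun g => (perm G X g).restrict (hK g)
      map_one' := LinearMap.ext fun q => Subtype.ext (by
        show perm G X 1 q.1 = q.1
        rw [map_one]
        rfl)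
      map_mul' := fun g h => LinearMap.ext fun q => Subtype.ext (by
        show perm G X (g * h) q.1 = perm G X g (perm G X h q.1)
        rw [map_mul]
        rfl) }
  have hσ : ∀ (g : G) (q : LinearMap.ker π), ((σ g q : LinearMap.ker π) : X →₀ ℤ) =
      perm G X g q.1 := fun g q => rfl
  refine ⟨LinearMap.ker π, inferInstance, X →₀ ℤ, inferInstance, inferInstance, inferInstance,
    inferInstance, inferInstance, σ, perm G X, (LinearMap.ker π).subtype, π, ?_, hπ,
    Subtype.val_injective, hsurj, Submodule.range_subtype _, isPermutation_perm, ?_⟩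
  · intro g q
    rfl
  · intro H f hf
    -- push the cocycle to `P`
    obtain ⟨p, hp⟩ := isCoflasque_perm (G := G) (X := X) H (fun a => (f a).1) (by
      intro a b
      have := congrArg Subtype.val (hf a b)
      exact this)
    -- `π p` is `H`-invariant
    have hpinv : π p ∈ inv ρ H := by
      intro a
      have h1 : π (perm G X (a : G) p - p) = 0 := by
        rw [← hp a]
        exact (f a).2
      rw [map_sub, hπ, sub_eq_zero] at h1
      exact h1
    obtain ⟨p', hp'1, hp'2⟩ := hinv H _ hpinv
    have hmem : p - p' ∈ LinearMap.ker π := by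
      rw [LinearMap.mem_ker, map_sub, hp'2, sub_self]
    refine ⟨⟨p - p', hmem⟩, fun a => Subtype.ext ?_⟩
    show (f a).1 = perm G X (a : G) (p - p') - (p - p')
    rw [hp a, map_sub, hp'1 a]
    abel

end cover

end Groth.Agent.Helper28.GLatRes
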