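import Mathlib
import Groth.Agent.Lib.Helper28.GLatRes
set_option autoImplicit false

/-!
Norms, `Ĥ⁻¹` of permutation lattices, the duality lemma for `Ĥ⁰`, and flasque resolutions.
-/

namespace Groth.Agent.Helper28.GLatRes

section norm

variable {G : Type} [Group G] [Finite G] {A : Type} [AddCommGroup A] (ρ : Representation ℤ G A)

/-- the norm `∑_{h ∈ H} h` -/
noncomputable def nrm (H : Subgroup G) : A →ₗ[ℤ] A :=
  letI : Fintype H := Fintype.ofFinite H
  ∑ h : H, ρ (h : G)

lemma nrm_eq_sum (H : Subgroup G) [inst : Fintype H] (x : A) :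
    nrm ρ H x = ∑ h : H, ρ (h : G) x := by
  have e : inst = Fintype.ofFinite H := Subsingleton.elim _ _
  subst e
  letI : Fintype H := Fintype.ofFinite H
  show (∑ h : H, ρ (h : G)) x = ∑ h : H, ρ (h : G) x
  rw [LinearMap.sum_apply]

lemma nrm_apply (H : Subgroup G) (x : A) : nrm ρ H x = ∑ᶠ h : H, ρ (h : G) x := by
  letI : Fintype H := Fintype.ofFinite H
  rw [finsum_eq_sum_of_fintype, nrm_eq_sum]

lemma nrm_mem_inv (H : Subgroup G) (x : A) : nrm ρ H x ∈ inv ρ H := by
  letI : Fintype H := Fintype.ofFinite H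
  intro h
  rw [nrm_eq_sum, map_sum]
  have e : ∀ h' : H, ρ (h : G) (ρ (h' : G) x) = ρ ((h * h' : H) : G) x := by
    intro h'
    rw [Subgroup.coe_mul, map_mul]
    rfl
  simp_rw [e]
  exact Fintype.sum_equiv (Equiv.mulLeft h) _ _ (fun h' => rfl)

lemma nrm_comp (H : Subgroup G) (h : H) (x : A) : nrm ρ H (ρ (h : G) x) = nrm ρ H x := by
  letI : Fintype H := Fintype.ofFinite H
  rw [nrm_eq_sum, nrm_eq_sum]
  have e : ∀ h' : H, ρ (h' : G) (ρ (h : G) x) = ρ ((h' * h : H) : G) x := by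
    intro h'
    rw [Subgroup.coe_mul, map_mul]
    rfl
  simp_rw [e]
  exact Fintype.sum_equiv (Equiv.mulRight h) _ _ (fun h' => rfl)

lemma nrm_of_mem_inv (H : Subgroup G) (a : A) (ha : a ∈ inv ρ H) :
    nrm ρ H a = (Nat.card H : ℤ) • a := by
  letI : Fintype H := Fintype.ofFinite H
  rw [nrm_eq_sum, Finset.sum_congr rfl (fun h _ => ha h), Finset.sum_const, Finset.card_univ,
    Nat.card_eq_fintype_card, natCast_zsmul]

lemma nrm_map {B : Type} [AddCommGroup B] (σ : Representation ℤ G B) (f : A →ₗ[ℤ] B)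
    (hf : GLat.IsEquivariant ρ σ f) (H : Subgroup G) (x : A) :
    f (nrm ρ H x) = nrm σ H (f x) := by
  letI : Fintype H := Fintype.ofFinite H
  rw [nrm_eq_sum, nrm_eq_sum, map_sum]
  exact Finset.sum_congr rfl (fun h _ => hf _ _)

lemma isFlasque_iff : GLat.IsFlasque ρ ↔ ∀ (H : Subgroup G) (m : A), nrm ρ H m = 0 →
    m ∈ Submodule.span ℤ {x : A | ∃ (h : H) (y : A), x = ρ (h : G) y - y} := by
  constructor
  · intro h H m hm
    apply h H m
    rw [← nrm_apply]
    exact hm
  · intro h H m hm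
    apply h H m
    rw [nrm_apply]
    exact hm

end norm

section permHm1

variable {G : Type} [Group G] [Finite G] {X : Type} [MulAction G X]

/-- `Ĥ⁻¹(H, ℤ[X]) = 0` -/
theorem perm_hm1 (H : Subgroup G) (p : X →₀ ℤ) (hp : nrm (perm G X) H p = 0) :
    p ∈ Submodule.span ℤ
      {q : X →₀ ℤ | ∃ (h : H) (y : X →₀ ℤ), q = perm G X (h : G) y - y} := by
  classical
  letI : Fintype H := Fintype.ofFinite H
  let r : X → X := fun x => (Quotient.mk (MulAction.orbitRel H X) x).out
  have hr : ∀ x, ∃ c : H, (c : G) • r x = x := by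
    intro x
    have h : r x ∈ MulAction.orbit H x :=
      MulAction.orbitRel_apply.mp (Quotient.mk_out (s := MulAction.orbitRel H X) x)
    obtain ⟨c, hc⟩ := h
    refine ⟨c⁻¹, ?_⟩
    have hc' : (c : G) • x = r x := hc
    rw [← hc', InvMemClass.coe_inv, inv_smul_smul]
  have hrr : ∀ (h : H) (x : X), r ((h : G) • x) = r x := by
    intro h x
    have : (Quotient.mk (MulAction.orbitRel H X) ((h : G) • x)) =
        Quotient.mk (MulAction.orbitRel H X) x := by
      apply Quotient.sound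
      exact MulAction.orbitRel_apply.mpr ⟨h, rfl⟩
    show (Quotient.mk (MulAction.orbitRel H X) ((h : G) • x)).out = _
    rw [this]
  let R : (X →₀ ℤ) →ₗ[ℤ] (X →₀ ℤ) := Finsupp.lmapDomain ℤ ℤ r
  have hRs : ∀ (x : X) (n : ℤ), R (Finsupp.single x n) = Finsupp.single (r x) n :=
    fun x n => Finsupp.mapDomain_single
  have hR1 : ∀ q : X →₀ ℤ, q - R q ∈ Submodule.span ℤ
      {q : X →₀ ℤ | ∃ (h : H) (y : X →₀ ℤ), q = perm G X (h : G) y - y} := by
    intro q
    induction q using Finsupp.induction_linear with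
    | zero =>
      rw [map_zero, sub_zero]
      exact Submodule.zero_mem _
    | add q q' hq hq' =>
      have e : (q + q') - R (q + q') = (q - R q) + (q' - R q') := by
        rw [map_add]; abel
      rw [e]
      exact Submodule.add_mem _ hq hq'
    | single x n =>
      obtain ⟨c, hc⟩ := hr x
      apply Submodule.subset_span
      refine ⟨c, Finsupp.single (r x) n, ?_⟩
      rw [perm_single, hc, hRs]
  have hR2 : ∀ (h : H) (q : X →₀ ℤ), R (perm G X (h : G) q) = R q := by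
    intro h q
    have e : R ∘ₗ perm G X (h : G) = R := by
      apply Finsupp.lhom_ext
      intro x n
      rw [LinearMap.comp_apply, perm_single, hRs, hRs, hrr]
    exact LinearMap.congr_fun e q
  have hR3 : (Fintype.card H : ℤ) • R p = 0 := by
    have h := congrArg R hp
    rw [nrm_eq_sum, map_sum, map_zero] at h
    simp only [hR2] at h
    rw [Finset.sum_const, Finset.card_univ] at h
    rw [natCast_zsmul]
    exact h
  have hR4 : R p = 0 := by
    ext x
    have h := DFunLike.congr_fun hR3 x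
    rw [Finsupp.smul_apply, smul_eq_mul, Finsupp.zero_apply] at h
    rcases mul_eq_zero.mp h with h' | h'
    · exact absurd h' (by exact_mod_cast Fintype.card_ne_zero)
    · exact h'
  have h := hR1 p
  rwa [hR4, sub_zero] at h

end permHm1

section duality

variable {G : Type} [Group G] [Finite G] {A : Type} [AddCommGroup A] (ρ : Representation ℤ G A)
  [Module.Finite ℤ A] [Module.Free ℤ A]

/-- non-degeneracy of the pairing `Ĥ⁰(H, A) × Ĥ⁰(H, A^∨) → ℤ/|H|` on the left -/
theorem mem_range_nrm (H : Subgroup G) (a : A) (ha : a ∈ inv ρ H)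
    (hdiv : ∀ φ : A →ₗ[ℤ] ℤ, (∀ (h : H) (x : A), φ (ρ (h : G) x) = φ x) →
      (Nat.card H : ℤ) ∣ φ a) :
    ∃ a' : A, nrm ρ H a' = a := by
  classical
  by_contra hcon
  push Not at hcon
  let nL : A →ₗ[ℤ] inv ρ H := LinearMap.codRestrict (inv ρ H) (nrm ρ H) (nrm_mem_inv ρ H)
  have hnL : ∀ x, ((nL x : inv ρ H) : A) = nrm ρ H x := fun x => rfl
  let N : Submodule ℤ (inv ρ H) := LinearMap.range nL
  have haN : (⟨a, ha⟩ : inv ρ H) ∉ N := by
    rintro ⟨a', ha'⟩
    exact hcon a' (congrArg Subtype.val ha')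
  have hne : (N.mkQ ⟨a, ha⟩ : (inv ρ H) ⧸ N) ≠ 0 := by
    rw [Ne, Submodule.mkQ_apply, Submodule.Quotient.mk_eq_zero]
    exact haN
  obtain ⟨χ, hχ⟩ := CharacterModule.exists_character_apply_ne_zero_of_ne_zero hne
  let χ' : ((inv ρ H) ⧸ N) →+ AddCircle (1 : ℚ) := χ
  let g : (inv ρ H) →ₗ[ℤ] AddCircle (1 : ℚ) := χ'.toIntLinearMap ∘ₗ N.mkQ
  let f : ℚ →ₗ[ℤ] AddCircle (1 : ℚ) :=
    (QuotientAddGroup.mk' (AddSubgroup.zmultiples (1 : ℚ))).toIntLinearMap
  have hf : Function.Surjective f := QuotientAddGroup.mk'_surjective _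
  obtain ⟨μ, hμ⟩ := Module.projective_lifting_property f g hf
  have hfz : ∀ q : ℚ, f q = 0 ↔ ∃ k : ℤ, q = k := by
    intro q
    have h1 : f q = 0 ↔ q ∈ AddSubgroup.zmultiples (1 : ℚ) := QuotientAddGroup.eq_zero_iff q
    rw [h1, AddSubgroup.mem_zmultiples_iff]
    constructor
    · rintro ⟨k, hk⟩
      exact ⟨k, by rw [← hk, zsmul_eq_mul, mul_one]⟩
    · rintro ⟨k, hk⟩
      exact ⟨k, by rw [hk, zsmul_eq_mul, mul_one]⟩
  -- integrality on `N`
  have hint : ∀ x : A, ∃ k : ℤ, μ (nL x) = k := by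
    intro x
    rw [← hfz]
    have h2 : f (μ (nL x)) = g (nL x) := LinearMap.congr_fun hμ (nL x)
    rw [h2]
    show χ' (N.mkQ (nL x)) = 0
    have h3 : N.mkQ (nL x) = 0 := by
      rw [Submodule.mkQ_apply, Submodule.Quotient.mk_eq_zero]
      exact ⟨x, rfl⟩
    rw [h3, map_zero]
  have hnint : ∀ k : ℤ, μ ⟨a, ha⟩ ≠ k := by
    intro k hk
    have h2 : f (μ ⟨a, ha⟩) = g ⟨a, ha⟩ := LinearMap.congr_fun hμ _
    have h3 : f (μ ⟨a, ha⟩) = 0 := (hfz _).mpr ⟨k, hk⟩
    rw [h3] at h2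
    exact hχ h2.symm
  choose k hk using hint
  have hkadd : ∀ x y, k (x + y) = k x + k y := by
    intro x y
    have : ((k (x + y) : ℤ) : ℚ) = ((k x + k y : ℤ) : ℚ) := by
      rw [Int.cast_add, ← hk, ← hk, ← hk, map_add, map_add]
    exact_mod_cast this
  let φ : A →ₗ[ℤ] ℤ := (AddMonoidHom.mk' k hkadd).toIntLinearMap
  have hφ : ∀ x, φ x = k x := fun x => rfl
  have hφinv : ∀ (h : H) (x : A), φ (ρ (h : G) x) = φ x := by
    intro h x
    rw [hφ, hφ]
    have : ((k (ρ (h : G) x) : ℤ) : ℚ) = ((k x : ℤ) : ℚ) := by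
      rw [← hk, ← hk]
      congr 1
      exact Subtype.ext (nrm_comp ρ H h x)
    exact_mod_cast this
  obtain ⟨c, hc⟩ := hdiv φ hφinv
  have hcard : (Nat.card H : ℚ) ≠ 0 := by
    have : Nat.card H ≠ 0 := Nat.card_pos.ne'
    exact_mod_cast this
  have e1 : nL a = (Nat.card H : ℤ) • (⟨a, ha⟩ : inv ρ H) :=
    Subtype.ext (nrm_of_mem_inv ρ H a ha)
  have e2 : ((k a : ℤ) : ℚ) = (Nat.card H : ℚ) * μ ⟨a, ha⟩ := by
    rw [← hk, e1, map_smul, zsmul_eq_mul]
    push_cast
    rfl
  rw [hφ] at hc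
  rw [hc] at e2
  push_cast at e2
  have e3 : μ ⟨a, ha⟩ = (c : ℚ) := (mul_left_cancel₀ hcard e2).symm
  exact hnint c e3

end duality

section quot

variable {G : Type} [Group G] {P : Type} [AddCommGroup P] (τ : Representation ℤ G P)
  (W : Submodule ℤ P) (hW : ∀ g : G, W ≤ W.comap (τ g))

/-- the representation induced on a quotient by a stable submodule -/
noncomputable def quotRep : Representation ℤ G (P ⧸ W) where
  toFun g := W.mapQ W (τ g) (hW g)
  map_one' := LinearMap.ext fun y => by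
    obtain ⟨x, rfl⟩ := Submodule.Quotient.mk_surjective W y
    rw [Submodule.mapQ_apply, map_one]
    rfl
  map_mul' g h := LinearMap.ext fun y => by
    obtain ⟨x, rfl⟩ := Submodule.Quotient.mk_surjective W y
    show W.mapQ W (τ (g * h)) (hW (g * h)) (Submodule.Quotient.mk x) =
      W.mapQ W (τ g) (hW g) (W.mapQ W (τ h) (hW h) (Submodule.Quotient.mk x))
    rw [Submodule.mapQ_apply, Submodule.mapQ_apply, Submodule.mapQ_apply, map_mul]
    rfl

lemma quotRep_mk (g : G) (x : P) :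
    quotRep τ W hW g (Submodule.Quotient.mk x) = Submodule.Quotient.mk (τ g x) := rfl

lemma isEquivariant_mkQ : GLat.IsEquivariant τ (quotRep τ W hW) W.mkQ := fun _ _ => rfl

end quot

section flasque

variable {G : Type} [Group G] [Finite G] {B : Type} [AddCommGroup B] (ρ : Representation ℤ G B)
  {P : Type} [AddCommGroup P] (τ : Representation ℤ G P) (i : B →ₗ[ℤ] P)
  (hi : GLat.IsEquivariant ρ τ i)

include hi in
lemma range_stable (g : G) : LinearMap.range i ≤ (LinearMap.range i).comap (τ g) := by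
  rintro _ ⟨b, rfl⟩
  exact ⟨ρ g b, hi g b⟩

include hi in
/-- the cokernel of `i : B → P` is flasque as soon as `Ĥ⁻¹(H, P) = 0` and
`Ĥ⁰(H, B) → Ĥ⁰(H, P)` is injective for all `H` -/
theorem isFlasque_quot (hinj : Function.Injective i)
    (hP : ∀ (H : Subgroup G) (p : P), nrm τ H p = 0 →
      p ∈ Submodule.span ℤ {q : P | ∃ (h : H) (y : P), q = τ (h : G) y - y})
    (hstar : ∀ (H : Subgroup G) (b : B), b ∈ inv ρ H → (∃ p', i b = nrm τ H p') →
      ∃ b', nrm ρ H b' = b) :
    GLat.IsFlasque (quotRep τ (LinearMap.range i) (range_stable ρ τ i hi)) := by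
  rw [isFlasque_iff]
  intro H m hm
  obtain ⟨p, rfl⟩ := Submodule.Quotient.mk_surjective _ m
  have h1 : (LinearMap.range i).mkQ (nrm τ H p) = 0 := by
    rw [nrm_map τ _ _ (isEquivariant_mkQ τ _ (range_stable ρ τ i hi)) H p]
    exact hm
  rw [Submodule.mkQ_apply, Submodule.Quotient.mk_eq_zero] at h1
  obtain ⟨b, hb⟩ := h1
  have hbinv : b ∈ inv ρ H := by
    intro h
    apply hinj
    rw [hi, hb]
    exact nrm_mem_inv τ H p h
  obtain ⟨b', hb'⟩ := hstar H b hbinv ⟨p, hb⟩
  have h2 : nrm τ H (p - i b') = 0 := by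
    rw [map_sub, ← nrm_map ρ τ i hi, hb', hb, sub_self]
  have h3 := hP H _ h2
  have h4 : (Submodule.Quotient.mk p : P ⧸ LinearMap.range i) =
      (LinearMap.range i).mkQ (p - i b') := by
    rw [Submodule.mkQ_apply, Submodule.Quotient.mk_sub]
    have : (Submodule.Quotient.mk (i b') : P ⧸ LinearMap.range i) = 0 :=
      (Submodule.Quotient.mk_eq_zero _).mpr ⟨b', rfl⟩
    rw [this, sub_zero]
  rw [h4]
  have h5 : (LinearMap.range i).mkQ (p - i b') ∈
      (Submodule.span ℤ {q : P | ∃ (h : H) (y : P), q = τ (h : G) y - y}).map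
        (LinearMap.range i).mkQ := Submodule.mem_map_of_mem h3
  rw [Submodule.map_span] at h5
  refine Submodule.span_mono ?_ h5
  rintro _ ⟨q, ⟨h, y, rfl⟩, rfl⟩
  exact ⟨h, Submodule.Quotient.mk y, rfl⟩

end flasque

end Groth.Agent.Helper28.GLatRes
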