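import Mathlib
import Groth.Agent.Lib.Helper28.GLatRes2
set_option autoImplicit false

/-!
Flasque resolutions of lattices over a finite group.
-/

namespace Groth.Agent.Helper28.GLatRes

section emb

variable {G : Type} [Group G] [Finite G] {B : Type} [AddCommGroup B] (ρ : Representation ℤ G B)
  [Module.Finite ℤ B] [Module.Free ℤ B]

/-- an embedding of a lattice into a permutation lattice with saturated image which is injective on
`Ĥ⁰(H, -)` for every subgroup -/
theorem exists_flasque_embedding :
    ∃ (X : Type) (_ : MulAction G X) (_ : Finite X) (i : B →ₗ[ℤ] (X →₀ ℤ)),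
      GLat.IsEquivariant ρ (perm G X) i ∧ Function.Injective i ∧
      (∀ (n : ℤ) (p : X →₀ ℤ), n ≠ 0 → n • p ∈ LinearMap.range i → p ∈ LinearMap.range i) ∧
      ∀ (H : Subgroup G) (b : B), b ∈ inv ρ H → (∃ p', i b = nrm (perm G X) H p') →
        ∃ b', nrm ρ H b' = b := by
  classical
  obtain ⟨X, instA, instF, π, hπ, hinv⟩ := exists_cover ρ.dual
  letI : Fintype X := Fintype.ofFinite X
  have hsurj : Function.Surjective π := by
    intro a
    obtain ⟨p, _, hp⟩ := hinv ⊥ a (by
      intro h
      have : (h : G) = 1 := Subgroup.mem_bot.mp h.2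
      rw [this, map_one]
      rfl)
    exact ⟨p, hp⟩
  let i : B →ₗ[ℤ] (X →₀ ℤ) :=
    { toFun := fun b => Finsupp.ofSupportFinite (fun x => π (Finsupp.single x 1) b)
        (Set.toFinite _)
      map_add' := fun b b' => by
        ext x
        simp only [Finsupp.ofSupportFinite_coe, Finsupp.add_apply, map_add]
      map_smul' := fun n b => by
        ext x
        simp only [Finsupp.ofSupportFinite_coe, Finsupp.smul_apply, map_smul, RingHom.id_apply] }
  have hi : ∀ b x, i b x = π (Finsupp.single x 1) b := fun b x => rfl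
  -- the key identity
  have hK1 : ∀ (p : X →₀ ℤ) (b : B), π p b = ∑ x, p x * i b x := by
    intro p b
    induction p using Finsupp.induction_linear with
    | zero => simp
    | add p q hp hq =>
      rw [map_add, LinearMap.add_apply, hp, hq, ← Finset.sum_add_distrib]
      refine Finset.sum_congr rfl fun x _ => ?_
      rw [Finsupp.add_apply, add_mul]
    | single y n =>
      rw [Finset.sum_eq_single y]
      · rw [Finsupp.single_eq_same, hi]
        have e : Finsupp.single y n = n • Finsupp.single y (1 : ℤ) := by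
          rw [Finsupp.smul_single, smul_eq_mul, mul_one]
        rw [e, map_smul, LinearMap.smul_apply, smul_eq_mul]
      · intro x _ hx
        rw [Finsupp.single_apply, if_neg (Ne.symm hx), zero_mul]
      · intro h
        exact absurd (Finset.mem_univ y) h
  have hequiv : GLat.IsEquivariant ρ (perm G X) i := by
    intro g b
    ext x
    rw [perm_apply, hi, hi]
    have h1 : Finsupp.single (g⁻¹ • x) (1 : ℤ) = perm G X g⁻¹ (Finsupp.single x 1) :=
      (perm_single _ _ _).symm
    rw [h1, hπ g⁻¹]
    show _ = (π (Finsupp.single x 1)) (ρ (g⁻¹)⁻¹ b)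
    rw [inv_inv]
  have hinj : Function.Injective i := by
    rw [injective_iff_map_eq_zero]
    intro b hb
    rw [← Module.forall_dual_apply_eq_zero_iff ℤ]
    intro φ
    obtain ⟨p, rfl⟩ := hsurj φ
    rw [hK1, hb]
    simp
  refine ⟨X, instA, instF, i, hequiv, hinj, ?_, ?_⟩
  · -- saturation
    rintro n p hn ⟨b, hb⟩
    have hdvd : ∀ φ : Module.Dual ℤ B, n ∣ φ b := by
      intro φ
      obtain ⟨q, rfl⟩ := hsurj φ
      rw [hK1, hb]
      refine ⟨∑ x, q x * p x, ?_⟩
      rw [Finset.mul_sum]
      refine Finset.sum_congr rfl fun x _ => ?_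
      rw [Finsupp.smul_apply, smul_eq_mul]
      ring
    let bs := Module.Free.chooseBasis ℤ B
    choose c hc using fun j => hdvd (bs.coord j)
    refine ⟨∑ j, c j • bs j, ?_⟩
    have e1 : n • (∑ j, c j • bs j) = b := by
      rw [Finset.smul_sum]
      conv_rhs => rw [← bs.sum_repr b]
      refine Finset.sum_congr rfl fun j _ => ?_
      rw [smul_smul, ← hc j]
      rfl
    have e2 : n • i (∑ j, c j • bs j) = n • p := by
      rw [← map_smul, e1, hb]
    ext x
    have e3 := DFunLike.congr_fun e2 x
    rw [Finsupp.smul_apply, Finsupp.smul_apply, smul_eq_mul, smul_eq_mul] at e3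
    exact mul_left_cancel₀ hn e3
  · -- injectivity on `Ĥ⁰`
    intro H b hb hp'
    obtain ⟨p', hp'⟩ := hp'
    letI : Fintype H := Fintype.ofFinite H
    apply mem_range_nrm ρ H b hb
    intro φ hφ
    have hφinv : φ ∈ inv ρ.dual H := by
      intro h
      apply LinearMap.ext
      intro x
      show φ (ρ ((h : G)⁻¹) x) = φ x
      have := hφ h⁻¹ x
      rw [InvMemClass.coe_inv] at this
      exact this
    obtain ⟨p, hpinv, hpφ⟩ := hinv H φ hφinv
    have hpx : ∀ (h : H) (y : X), p ((h : G) • y) = p y := by
      intro h y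
      have h1 := DFunLike.congr_fun (hpinv h⁻¹) y
      rw [perm_apply, InvMemClass.coe_inv, inv_inv] at h1
      exact h1
    refine ⟨∑ y, p y * p' y, ?_⟩
    rw [← hpφ, hK1, hp']
    have e1 : ∀ x, (nrm (perm G X) H p') x = ∑ h : H, p' ((h : G)⁻¹ • x) := by
      intro x
      rw [nrm_eq_sum, Finsupp.finsetSum_apply]
      exact Finset.sum_congr rfl fun h _ => perm_apply _ _ _
    simp_rw [e1, Finset.mul_sum]
    rw [Finset.sum_comm]
    have e2 : ∀ h : H, ∑ x, p x * p' ((h : G)⁻¹ • x) = ∑ y, p y * p' y := by
      intro h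
      refine Fintype.sum_equiv (MulAction.toPerm ((h : G)⁻¹)) _ _ (fun x => ?_)
      show p x * p' ((h : G)⁻¹ • x) = p ((h : G)⁻¹ • x) * p' ((h : G)⁻¹ • x)
      have := hpx h⁻¹ x
      rw [InvMemClass.coe_inv] at this
      rw [this]
    rw [Finset.sum_congr rfl (fun h _ => e2 h), Finset.sum_const, Finset.card_univ,
      Nat.card_eq_fintype_card, nsmul_eq_mul, Finset.mul_sum]

end emb

section main

variable {G : Type} [Group G] [Finite G] {A : Type} [AddCommGroup A] (ρ : Representation ℤ G A)
  [Module.Finite ℤ A] [Module.Free ℤ A]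

/-- flasque resolution `0 → A → P → F → 0` of a lattice -/
theorem exists_flasque_resolution :
    ∃ (P : Type) (_ : AddCommGroup P) (F : Type) (_ : AddCommGroup F)
      (_ : Module.Finite ℤ P) (_ : Module.Free ℤ P) (_ : Module.Finite ℤ F) (_ : Module.Free ℤ F)
      (σ : Representation ℤ G P) (τ : Representation ℤ G F) (i : A →ₗ[ℤ] P) (π : P →ₗ[ℤ] F),
      GLat.IsEquivariant ρ σ i ∧ GLat.IsEquivariant σ τ π ∧ Function.Injective i ∧
      Function.Surjective π ∧
      LinearMap.range i = LinearMap.ker π ∧ GLat.IsPermutation σ ∧ GLat.IsFlasque τ := by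
  classical
  obtain ⟨X, instA, instF, i, hi, hinj, hsat, hstar⟩ := exists_flasque_embedding ρ
  haveI : Module.IsTorsionFree ℤ ((X →₀ ℤ) ⧸ LinearMap.range i) := by
    apply Module.IsTorsionFree.of_smul_eq_zero
    intro n m hnm
    obtain ⟨p, rfl⟩ := Submodule.Quotient.mk_surjective _ m
    by_cases hn : n = 0
    · exact Or.inl hn
    · right
      rw [← Submodule.Quotient.mk_smul, Submodule.Quotient.mk_eq_zero] at hnm
      rw [Submodule.Quotient.mk_eq_zero]
      exact hsat n p hn hnm
  refine ⟨X →₀ ℤ, inferInstance, (X →₀ ℤ) ⧸ LinearMap.range i, inferInstance, inferInstance,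
    inferInstance, inferInstance, inferInstance, perm G X,
    quotRep (perm G X) (LinearMap.range i) (range_stable ρ (perm G X) i hi), i,
    (LinearMap.range i).mkQ, hi, isEquivariant_mkQ _ _ _, hinj,
    Submodule.mkQ_surjective _, (Submodule.ker_mkQ _).symm, isPermutation_perm, ?_⟩
  exact isFlasque_quot ρ (perm G X) i hi hinj (fun H p hp => perm_hm1 H p hp) hstar

end main

end Groth.Agent.Helper28.GLatRes
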