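import Mathlib
import Groth.Agent.Lib.Helper28.GLatRes3
set_option autoImplicit false

/-!
Flasque covers `0 → P → F → A → 0` of finitely generated modules over a finite group.
-/

namespace Groth.Agent.Helper28.GLatRes

section reps

variable {G : Type} [Group G] {P P₁ P₂ : Type} [AddCommGroup P] [AddCommGroup P₁]
  [AddCommGroup P₂]

/-- restriction of a representation to a stable submodule -/
noncomputable def subRep (τ : Representation ℤ G P) (W : Submodule ℤ P)
    (hW : ∀ (g : G) (q : P), q ∈ W → τ g q ∈ W) : Representation ℤ G W where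
  toFun g := (τ g).restrict (hW g)
  map_one' := LinearMap.ext fun q => Subtype.ext (by
    show τ 1 q.1 = q.1
    rw [map_one]
    rfl)
  map_mul' g h := LinearMap.ext fun q => Subtype.ext (by
    show τ (g * h) q.1 = τ g (τ h q.1)
    rw [map_mul]
    rfl)

lemma subRep_coe (τ : Representation ℤ G P) (W : Submodule ℤ P)
    (hW : ∀ (g : G) (q : P), q ∈ W → τ g q ∈ W) (g : G) (q : W) :
    ((subRep τ W hW g q : W) : P) = τ g q.1 := rfl

/-- product of two representations -/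
noncomputable def prodRep (τ₁ : Representation ℤ G P₁) (τ₂ : Representation ℤ G P₂) :
    Representation ℤ G (P₁ × P₂) where
  toFun g := (τ₁ g).prodMap (τ₂ g)
  map_one' := LinearMap.ext fun x => Prod.ext (by
    show τ₁ 1 x.1 = x.1
    rw [map_one]
    rfl) (by
    show τ₂ 1 x.2 = x.2
    rw [map_one]
    rfl)
  map_mul' g h := LinearMap.ext fun x => Prod.ext (by
    show τ₁ (g * h) x.1 = τ₁ g (τ₁ h x.1)
    rw [map_mul]
    rfl) (by
    show τ₂ (g * h) x.2 = τ₂ g (τ₂ h x.2)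
    rw [map_mul]
    rfl)

lemma prodRep_apply (τ₁ : Representation ℤ G P₁) (τ₂ : Representation ℤ G P₂) (g : G)
    (x : P₁ × P₂) : prodRep τ₁ τ₂ g x = (τ₁ g x.1, τ₂ g x.2) := rfl

/-- equivariant maps preserve the augmentation submodule -/
lemma map_aug_le {A B : Type} [AddCommGroup A] [AddCommGroup B] (ρ : Representation ℤ G A)
    (σ : Representation ℤ G B) (f : A →ₗ[ℤ] B) (hf : GLat.IsEquivariant ρ σ f)
    (H : Subgroup G) :
    (Submodule.span ℤ {x : A | ∃ (h : H) (y : A), x = ρ (h : G) y - y}).map f ≤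
      Submodule.span ℤ {x : B | ∃ (h : H) (y : B), x = σ (h : G) y - y} := by
  rw [Submodule.map_span]
  apply Submodule.span_mono
  rintro _ ⟨q, ⟨h, y, rfl⟩, rfl⟩
  exact ⟨h, f y, by rw [map_sub, hf]⟩

end reps

section main

variable {G : Type} [Group G] [Finite G] {A : Type} [AddCommGroup A] (ρ : Representation ℤ G A)
  [Module.Finite ℤ A]

/-- flasque cover `0 → P → F → A → 0` -/
theorem exists_flasque_cover :
    ∃ (P : Type) (_ : AddCommGroup P) (F : Type) (_ : AddCommGroup F)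
      (_ : Module.Finite ℤ P) (_ : Module.Free ℤ P) (_ : Module.Finite ℤ F) (_ : Module.Free ℤ F)
      (σ : Representation ℤ G P) (τ : Representation ℤ G F) (i : P →ₗ[ℤ] F) (π : F →ₗ[ℤ] A),
      GLat.IsEquivariant σ τ i ∧ GLat.IsEquivariant τ ρ π ∧ Function.Injective i ∧
      Function.Surjective π ∧
      LinearMap.range i = LinearMap.ker π ∧ GLat.IsPermutation σ ∧ GLat.IsFlasque τ := by
  classical
  obtain ⟨X₁, instA₁, instF₁, π₁, hπ₁, hinv₁⟩ := exists_cover ρ
  have hsurj₁ : Function.Surjective π₁ := by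
    intro a
    obtain ⟨p, _, hp⟩ := hinv₁ ⊥ a (by
      intro h
      have : (h : G) = 1 := Subgroup.mem_bot.mp h.2
      rw [this, map_one]
      rfl)
    exact ⟨p, hp⟩
  have hK : ∀ (g : G) (q : X₁ →₀ ℤ), q ∈ LinearMap.ker π₁ →
      perm G X₁ g q ∈ LinearMap.ker π₁ := by
    intro g q hq
    rw [LinearMap.mem_ker] at hq ⊢
    rw [hπ₁ g q, hq, map_zero]
  -- the kernel lattice and its flasque embedding
  obtain ⟨X₂, instA₂, instF₂, i₂, hi₂, hinj₂, hsat₂, hstar₂⟩ :=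
    exists_flasque_embedding (subRep (perm G X₁) (LinearMap.ker π₁) hK)
  -- the pushout
  let j : (LinearMap.ker π₁) →ₗ[ℤ] (X₁ →₀ ℤ) × (X₂ →₀ ℤ) :=
    LinearMap.prod (LinearMap.ker π₁).subtype (-i₂)
  have hj : ∀ q, j q = (q.1, -(i₂ q)) := fun q => rfl
  have hjeq : GLat.IsEquivariant (subRep (perm G X₁) (LinearMap.ker π₁) hK)
      (prodRep (perm G X₁) (perm G X₂)) j := by
    intro g q
    rw [hj, hj, prodRep_apply]
    refine Prod.ext rfl ?_
    show -(i₂ (subRep (perm G X₁) (LinearMap.ker π₁) hK g q)) = perm G X₂ g (-(i₂ q))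
    rw [hi₂, map_neg]
  let τM := prodRep (perm G X₁) (perm G X₂)
  have hWst := range_stable (subRep (perm G X₁) (LinearMap.ker π₁) hK) τM j hjeq
  let τF := quotRep τM (LinearMap.range j) hWst
  -- membership in the range of `j`
  have hmemW : ∀ p : (X₁ →₀ ℤ) × (X₂ →₀ ℤ), p ∈ LinearMap.range j ↔
      ∃ q : LinearMap.ker π₁, q.1 = p.1 ∧ -(i₂ q) = p.2 := by
    intro p
    constructor
    · rintro ⟨q, rfl⟩
      exact ⟨q, rfl, rfl⟩
    · rintro ⟨q, h1, h2⟩
      exact ⟨q, Prod.ext h1 h2⟩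
  -- the maps
  let ι : (X₂ →₀ ℤ) →ₗ[ℤ] ((X₁ →₀ ℤ) × (X₂ →₀ ℤ)) ⧸ LinearMap.range j :=
    (LinearMap.range j).mkQ ∘ₗ LinearMap.inr ℤ (X₁ →₀ ℤ) (X₂ →₀ ℤ)
  have hι : ∀ p₂, ι p₂ = Submodule.Quotient.mk ((0 : X₁ →₀ ℤ), p₂) := fun p₂ => rfl
  have hle : LinearMap.range j ≤ LinearMap.ker (π₁ ∘ₗ LinearMap.fst ℤ (X₁ →₀ ℤ) (X₂ →₀ ℤ)) := by
    rintro _ ⟨q, rfl⟩
    rw [LinearMap.mem_ker, LinearMap.comp_apply]
    exact q.2
  let πF : (((X₁ →₀ ℤ) × (X₂ →₀ ℤ)) ⧸ LinearMap.range j) →ₗ[ℤ] A :=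
    (LinearMap.range j).liftQ (π₁ ∘ₗ LinearMap.fst ℤ (X₁ →₀ ℤ) (X₂ →₀ ℤ)) hle
  have hπF : ∀ p : (X₁ →₀ ℤ) × (X₂ →₀ ℤ), πF (Submodule.Quotient.mk p) = π₁ p.1 := fun p => rfl
  -- torsion-freeness of the pushout
  haveI : Module.IsTorsionFree ℤ (((X₁ →₀ ℤ) × (X₂ →₀ ℤ)) ⧸ LinearMap.range j) := by
    apply Module.IsTorsionFree.of_smul_eq_zero
    intro n m hnm
    obtain ⟨p, rfl⟩ := Submodule.Quotient.mk_surjective _ m
    by_cases hn : n = 0
    · exact Or.inl hn
    · right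
      rw [← Submodule.Quotient.mk_smul, Submodule.Quotient.mk_eq_zero, hmemW] at hnm
      obtain ⟨q, h1, h2⟩ := hnm
      have h1' : q.1 = n • p.1 := h1
      have h2' : -(i₂ q) = n • p.2 := h2
      have h3 : n • p.2 ∈ LinearMap.range i₂ := ⟨-q, by rw [map_neg, h2']⟩
      obtain ⟨b, hb⟩ := hsat₂ n p.2 hn h3
      have h4 : n • b = -q := by
        apply hinj₂
        rw [map_smul, hb, map_neg, h2']
      rw [Submodule.Quotient.mk_eq_zero, hmemW]
      refine ⟨-b, ?_, ?_⟩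
      · have h5 : n • ((-b : LinearMap.ker π₁) : X₁ →₀ ℤ) = n • p.1 := by
          rw [← h1']
          have := congrArg (fun z : LinearMap.ker π₁ => (z : X₁ →₀ ℤ)) h4
          simp only [Submodule.coe_smul, Submodule.coe_neg] at this
          rw [Submodule.coe_neg, smul_neg, this, neg_neg]
        ext x
        have h6 := DFunLike.congr_fun h5 x
        rw [Finsupp.smul_apply, Finsupp.smul_apply, smul_eq_mul, smul_eq_mul] at h6
        exact mul_left_cancel₀ hn h6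
      · rw [map_neg, neg_neg, hb]
  refine ⟨X₂ →₀ ℤ, inferInstance, ((X₁ →₀ ℤ) × (X₂ →₀ ℤ)) ⧸ LinearMap.range j, inferInstance,
    inferInstance, inferInstance, inferInstance, inferInstance, perm G X₂, τF, ι, πF,
    ?_, ?_, ?_, ?_, ?_, isPermutation_perm, ?_⟩
  · -- ι equivariant
    intro g p₂
    rw [hι, hι]
    show _ = Submodule.Quotient.mk (τM g ((0 : X₁ →₀ ℤ), p₂))
    rw [prodRep_apply, map_zero]
  · -- πF equivariant
    intro g m
    obtain ⟨p, rfl⟩ := Submodule.Quotient.mk_surjective _ m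
    show πF (Submodule.Quotient.mk (τM g p)) = ρ g (πF (Submodule.Quotient.mk p))
    rw [hπF, hπF, prodRep_apply]
    exact hπ₁ g p.1
  · -- ι injective
    rw [injective_iff_map_eq_zero]
    intro p₂ hp₂
    rw [hι, Submodule.Quotient.mk_eq_zero, hmemW] at hp₂
    obtain ⟨q, h1, h2⟩ := hp₂
    have hq : q = 0 := Subtype.ext h1
    rw [hq, map_zero, neg_zero] at h2
    exact h2.symm
  · -- πF surjective
    intro a
    obtain ⟨p₁, hp₁⟩ := hsurj₁ a
    exact ⟨Submodule.Quotient.mk (p₁, 0), hp₁⟩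
  · -- exactness
    apply le_antisymm
    · rintro _ ⟨p₂, rfl⟩
      rw [LinearMap.mem_ker, hι, hπF, map_zero]
    · intro m hm
      obtain ⟨p, rfl⟩ := Submodule.Quotient.mk_surjective _ m
      rw [LinearMap.mem_ker, hπF] at hm
      refine ⟨p.2 + i₂ ⟨p.1, hm⟩, ?_⟩
      rw [hι]
      symm
      rw [← sub_eq_zero, ← Submodule.Quotient.mk_sub, Submodule.Quotient.mk_eq_zero, hmemW]
      refine ⟨⟨p.1, hm⟩, ?_, ?_⟩
      · show p.1 = p.1 - 0
        rw [sub_zero]
      · show -(i₂ ⟨p.1, hm⟩) = p.2 - (p.2 + i₂ ⟨p.1, hm⟩)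
        abel
  · -- flasque
    rw [isFlasque_iff]
    intro H m hm
    obtain ⟨p, rfl⟩ := Submodule.Quotient.mk_surjective _ m
    have h1 : (LinearMap.range j).mkQ (nrm τM H p) = 0 := by
      rw [nrm_map τM _ _ (isEquivariant_mkQ τM _ hWst) H p]
      exact hm
    rw [Submodule.mkQ_apply, Submodule.Quotient.mk_eq_zero, hmemW] at h1
    obtain ⟨q, hq1, hq2⟩ := h1
    have hfst : (nrm τM H p).1 = nrm (perm G X₁) H p.1 :=
      nrm_map τM (perm G X₁) (LinearMap.fst ℤ _ _) (fun _ _ => rfl) H p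
    have hsnd : (nrm τM H p).2 = nrm (perm G X₂) H p.2 :=
      nrm_map τM (perm G X₂) (LinearMap.snd ℤ _ _) (fun _ _ => rfl) H p
    rw [hfst] at hq1
    rw [hsnd] at hq2
    -- `-q` is a norm
    have hb : i₂ (-q) = nrm (perm G X₂) H p.2 := by rw [map_neg, hq2]
    have hbinv : (-q) ∈ inv (subRep (perm G X₁) (LinearMap.ker π₁) hK) H := by
      intro h
      apply hinj₂
      rw [hi₂, hb]
      exact nrm_mem_inv (perm G X₂) H p.2 h
    obtain ⟨b', hb'⟩ := hstar₂ H (-q) hbinv ⟨p.2, hb⟩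
    -- subtract `j (-b')`
    have hnq : nrm (subRep (perm G X₁) (LinearMap.ker π₁) hK) H (-b') = q := by
      rw [map_neg, hb', neg_neg]
    have h2 : nrm τM H (p - j (-b')) = 0 := by
      rw [map_sub, ← nrm_map _ τM j hjeq, hnq]
      refine Prod.ext ?_ ?_
      · show (nrm τM H p).1 - (j q).1 = 0
        rw [hfst, hj, ← hq1, sub_self]
      · show (nrm τM H p).2 - (j q).2 = 0
        rw [hsnd, hj, ← hq2, sub_self]
    have h2a : nrm (perm G X₁) H (p - j (-b')).1 = 0 := by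
      have h := nrm_map τM (perm G X₁) (LinearMap.fst ℤ _ _) (fun _ _ => rfl) H (p - j (-b'))
      rw [h2, map_zero] at h
      exact h.symm
    have h2b : nrm (perm G X₂) H (p - j (-b')).2 = 0 := by
      have h := nrm_map τM (perm G X₂) (LinearMap.snd ℤ _ _) (fun _ _ => rfl) H (p - j (-b'))
      rw [h2, map_zero] at h
      exact h.symm
    have h3a := perm_hm1 H _ h2a
    have h3b := perm_hm1 H _ h2b
    have h4a := map_aug_le (perm G X₁) τM (LinearMap.inl ℤ _ _) (fun g y => by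
      show ((perm G X₁ g y, (0 : X₂ →₀ ℤ)) : (X₁ →₀ ℤ) × (X₂ →₀ ℤ)) = τM g (y, 0)
      rw [prodRep_apply, map_zero]) H (Submodule.mem_map_of_mem h3a)
    have h4b := map_aug_le (perm G X₂) τM (LinearMap.inr ℤ _ _) (fun g y => by
      show (((0 : X₁ →₀ ℤ), perm G X₂ g y) : (X₁ →₀ ℤ) × (X₂ →₀ ℤ)) = τM g (0, y)
      rw [prodRep_apply, map_zero]) H (Submodule.mem_map_of_mem h3b)
    have h5 : p - j (-b') ∈ Submodule.span ℤ
        {x : (X₁ →₀ ℤ) × (X₂ →₀ ℤ) | ∃ (h : H) (y : (X₁ →₀ ℤ) × (X₂ →₀ ℤ)),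
          x = τM (h : G) y - y} := by
      have e : p - j (-b') = LinearMap.inl ℤ _ _ (p - j (-b')).1 +
          LinearMap.inr ℤ _ _ (p - j (-b')).2 := by
        refine Prod.ext ?_ ?_
        · show _ = (p - j (-b')).1 + 0
          rw [add_zero]
        · show _ = 0 + (p - j (-b')).2
          rw [zero_add]
      rw [e]
      exact Submodule.add_mem _ h4a h4b
    have h6 : (Submodule.Quotient.mk p : ((X₁ →₀ ℤ) × (X₂ →₀ ℤ)) ⧸ LinearMap.range j) =
        (LinearMap.range j).mkQ (p - j (-b')) := by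
      rw [Submodule.mkQ_apply, Submodule.Quotient.mk_sub]
      have : (Submodule.Quotient.mk (j (-b')) :
          ((X₁ →₀ ℤ) × (X₂ →₀ ℤ)) ⧸ LinearMap.range j) = 0 :=
        (Submodule.Quotient.mk_eq_zero _).mpr ⟨-b', rfl⟩
      rw [this, sub_zero]
    rw [h6]
    exact map_aug_le τM τF (LinearMap.range j).mkQ (isEquivariant_mkQ τM _ hWst) H
      (Submodule.mem_map_of_mem h5)

end main

end Groth.Agent.Helper28.GLatRes
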