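import Mathlib
import Groth.Agent.Lib.Helper28.GLatRes4
set_option autoImplicit false

/-!
Coflasque resolutions `0 → A → Q → P → 0` of lattices over a finite group.
-/

namespace Groth.Agent.Helper28.GLatRes

section main

variable {G : Type} [Group G] [Finite G] {A : Type} [AddCommGroup A] (ρ : Representation ℤ G A)
  [Module.Finite ℤ A] [Module.Free ℤ A]

/-- coflasque resolution `0 → A → Q → P → 0` of a lattice -/
theorem exists_coflasque_resolution :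
    ∃ (Q : Type) (_ : AddCommGroup Q) (P : Type) (_ : AddCommGroup P)
      (_ : Module.Finite ℤ Q) (_ : Module.Free ℤ Q) (_ : Module.Finite ℤ P) (_ : Module.Free ℤ P)
      (σ : Representation ℤ G Q) (τ : Representation ℤ G P) (i : A →ₗ[ℤ] Q) (π : Q →ₗ[ℤ] P),
      GLat.IsEquivariant ρ σ i ∧ GLat.IsEquivariant σ τ π ∧ Function.Injective i ∧
      Function.Surjective π ∧
      LinearMap.range i = LinearMap.ker π ∧ GLat.IsCoflasque σ ∧ GLat.IsPermutation τ := by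
  classical
  obtain ⟨X₁, instA₁, instF₁, i₁, hi₁, hinj₁, -, -⟩ := exists_flasque_embedding ρ
  have hWst := range_stable ρ (perm G X₁) i₁ hi₁
  let τF := quotRep (perm G X₁) (LinearMap.range i₁) hWst
  let π₁ : (X₁ →₀ ℤ) →ₗ[ℤ] (X₁ →₀ ℤ) ⧸ LinearMap.range i₁ := (LinearMap.range i₁).mkQ
  have hπ₁ : GLat.IsEquivariant (perm G X₁) τF π₁ := isEquivariant_mkQ _ _ hWst
  obtain ⟨X₂, instA₂, instF₂, π₂, hπ₂, hinv₂⟩ := exists_cover τF
  let τM := prodRep (perm G X₁) (perm G X₂)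
  let D : ((X₁ →₀ ℤ) × (X₂ →₀ ℤ)) →ₗ[ℤ] (X₁ →₀ ℤ) ⧸ LinearMap.range i₁ :=
    π₁ ∘ₗ LinearMap.fst ℤ _ _ - π₂ ∘ₗ LinearMap.snd ℤ _ _
  have hmemE : ∀ p : (X₁ →₀ ℤ) × (X₂ →₀ ℤ), p ∈ LinearMap.ker D ↔ π₁ p.1 = π₂ p.2 := by
    intro p
    rw [LinearMap.mem_ker]
    show π₁ p.1 - π₂ p.2 = 0 ↔ _
    exact sub_eq_zero
  have hE : ∀ (g : G) (p : (X₁ →₀ ℤ) × (X₂ →₀ ℤ)), p ∈ LinearMap.ker D →
      τM g p ∈ LinearMap.ker D := by
    intro g p hp
    rw [hmemE] at hp ⊢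
    rw [prodRep_apply]
    show π₁ (perm G X₁ g p.1) = π₂ (perm G X₂ g p.2)
    rw [hπ₁, hπ₂, hp]
  let σ := subRep τM (LinearMap.ker D) hE
  have hi0 : ∀ a : A, ((i₁ a, 0) : (X₁ →₀ ℤ) × (X₂ →₀ ℤ)) ∈ LinearMap.ker D := by
    intro a
    rw [hmemE]
    show π₁ (i₁ a) = π₂ 0
    rw [map_zero]
    exact (Submodule.Quotient.mk_eq_zero _).mpr ⟨a, rfl⟩
  let i : A →ₗ[ℤ] LinearMap.ker D :=
    LinearMap.codRestrict (LinearMap.ker D) (LinearMap.inl ℤ _ _ ∘ₗ i₁) hi0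
  have hicoe : ∀ a, ((i a : LinearMap.ker D) : (X₁ →₀ ℤ) × (X₂ →₀ ℤ)) = (i₁ a, 0) := fun a => rfl
  let π : (LinearMap.ker D) →ₗ[ℤ] (X₂ →₀ ℤ) :=
    LinearMap.snd ℤ _ _ ∘ₗ (LinearMap.ker D).subtype
  have hπc : ∀ e : LinearMap.ker D, π e = e.1.2 := fun e => rfl
  refine ⟨LinearMap.ker D, inferInstance, X₂ →₀ ℤ, inferInstance, inferInstance, inferInstance,
    inferInstance, inferInstance, σ, perm G X₂, i, π, ?_, ?_, ?_, ?_, ?_, ?_, isPermutation_perm⟩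
  · -- i equivariant
    intro g a
    apply Subtype.ext
    rw [hicoe]
    show _ = τM g (i a).1
    rw [hicoe, prodRep_apply, map_zero, hi₁]
  · -- π equivariant
    intro g e
    rfl
  · -- i injective
    intro a a' h
    have h1 := congrArg (fun e : LinearMap.ker D => e.1.1) h
    exact hinj₁ h1
  · -- π surjective
    intro p₂
    obtain ⟨p₁, hp₁⟩ := Submodule.mkQ_surjective (LinearMap.range i₁) (π₂ p₂)
    exact ⟨⟨(p₁, p₂), (hmemE _).mpr hp₁⟩, rfl⟩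
  · -- exactness
    apply le_antisymm
    · rintro _ ⟨a, rfl⟩
      rw [LinearMap.mem_ker, hπc, hicoe]
    · intro e he
      rw [LinearMap.mem_ker, hπc] at he
      have h1 := (hmemE e.1).mp e.2
      rw [he, map_zero] at h1
      have h2 : e.1.1 ∈ LinearMap.range i₁ := (Submodule.Quotient.mk_eq_zero _).mp h1
      obtain ⟨a, ha⟩ := h2
      refine ⟨a, Subtype.ext ?_⟩
      rw [hicoe]
      exact Prod.ext ha he.symm
  · -- coflasque
    intro H f hf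
    have hf' : ∀ a b : H, (f (a * b)).1 = (f a).1 + τM (a : G) (f b).1 := by
      intro a b
      exact congrArg Subtype.val (hf a b)
    obtain ⟨u₁, hu₁⟩ := isCoflasque_perm (G := G) (X := X₁) H (fun a => (f a).1.1) (by
      intro a b
      exact congrArg Prod.fst (hf' a b))
    obtain ⟨u₂, hu₂⟩ := isCoflasque_perm (G := G) (X := X₂) H (fun a => (f a).1.2) (by
      intro a b
      exact congrArg Prod.snd (hf' a b))
    -- the defect is invariant
    have hw : π₁ u₁ - π₂ u₂ ∈ inv τF H := by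
      intro a
      have h1 := (hmemE (f a).1).mp (f a).2
      rw [hu₁ a, hu₂ a, map_sub, map_sub, hπ₁, hπ₂] at h1
      rw [map_sub]
      have h2 : τF (a : G) (π₁ u₁) - τF (a : G) (π₂ u₂) - (π₁ u₁ - π₂ u₂) =
          (τF (a : G) (π₁ u₁) - π₁ u₁) - (τF (a : G) (π₂ u₂) - π₂ u₂) := by abel
      rw [h1, sub_self] at h2
      exact sub_eq_zero.mp h2
    obtain ⟨v, hv1, hv2⟩ := hinv₂ H _ hw
    have hmem : ((u₁, u₂ + v) : (X₁ →₀ ℤ) × (X₂ →₀ ℤ)) ∈ LinearMap.ker D := by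
      rw [hmemE]
      show π₁ u₁ = π₂ (u₂ + v)
      rw [map_add, hv2]
      abel
    refine ⟨⟨(u₁, u₂ + v), hmem⟩, fun a => Subtype.ext ?_⟩
    show (f a).1 = τM (a : G) (u₁, u₂ + v) - (u₁, u₂ + v)
    rw [prodRep_apply]
    refine Prod.ext ?_ ?_
    · exact hu₁ a
    · show (f a).1.2 = perm G X₂ (a : G) (u₂ + v) - (u₂ + v)
      rw [hu₂ a, map_add, hv1 a]
      abel

end main

end Groth.Agent.Helper28.GLatRes
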