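import Mathlib
import Groth.Prelude.Def_W4c6eohyperellchar2Gc

/-!
# Basic computations in the explicit char-2 Dieudonné-type module `GcMod c k`
-/

namespace Groth.Agent.Helper28.Gc
open W4c6eohyperellchar2

variable (c : ℕ) (k : Type*) [Field k] [CharP k 2] [PerfectRing k 2]

lemma F_X_even (j : ℕ) (hj : Even j) (hjc : j ≤ c) : F c k (X c k j) = X c k (j / 2) := by
  obtain ⟨t, rfl⟩ := hj
  refine Prod.ext ?_ ?_
  · funext i
    simp only [F, X, coefX]
    split_ifs with h1 h2 h3 h3
    · simp
    · exfalso; omega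
    · exfalso; omega
    · simp
    · exfalso; omega
    · simp
  · funext i
    simp only [F, X, coefX]
    split_ifs with h1 h2
    · exfalso; omega
    · simp
    · simp

lemma F_X_odd (j : ℕ) (hj : Odd j) (hjc : j ≤ c) :
    F c k (X c k j) = Y c k (c - (j - 1) / 2) := by
  obtain ⟨t, rfl⟩ := hj
  refine Prod.ext ?_ ?_
  · funext i
    simp only [F, X, Y, coefX]
    split_ifs with h1 h2
    · exfalso; omega
    · simp
    · simp
  · funext i
    have hi := i.2
    simp only [F, X, Y, coefX]
    split_ifs with h1 h2 h3 h3 h3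
    · simp
    · exfalso; omega
    · exfalso; omega
    · simp
    · exfalso; omega
    · simp

lemma F_Y (m : ℕ) : F c k (Y c k m) = 0 := by
  refine Prod.ext ?_ ?_
  · funext i
    simp only [F, Y, coefX]
    split_ifs <;> simp
  · funext i
    simp only [F, Y, coefX]
    split_ifs <;> simp

lemma V_Y (m : ℕ) : V c k (Y c k m) = Y c k (2 * m) := by
  refine Prod.ext ?_ ?_
  · rfl
  · funext i
    have hi := i.2
    simp only [V, Y, coefX, coefY]
    split_ifs with h1 h2 h3 h4 h4 h4 h4 h4 <;> first | (exfalso; omega) | simp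

lemma V_X (j : ℕ) (hj1 : 1 ≤ j) (hjc : j ≤ c) : V c k (X c k j) = Y c k (2 * c - 2 * j + 1) := by
  refine Prod.ext ?_ ?_
  · rfl
  · funext i
    have hi := i.2
    simp only [V, X, Y, coefX, coefY]
    split_ifs with h1 h2 h3 h4 h4 h4 h4 h4 <;> first | (exfalso; omega) | simp

lemma F_iterate_X (e l : ℕ) (h : 2 ^ e * l ≤ c) : (F c k)^[e] (X c k (2 ^ e * l)) = X c k l := by
  induction e with
  | zero => simp
  | succ e ih =>
    rw [Function.iterate_succ_apply, F_X_even c k _ ⟨2 ^ e * l, by ring⟩ h]
    have : 2 ^ (e + 1) * l / 2 = 2 ^ e * l := by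
      rw [pow_succ, mul_assoc, mul_comm 2 l, ← mul_assoc]; simp
    rw [this]
    apply ih
    rw [← this]
    exact le_trans (Nat.div_le_self _ _) h

lemma V_iterate_Y (n m : ℕ) : (V c k)^[n] (Y c k m) = Y c k (2 ^ n * m) := by
  induction n generalizing m with
  | zero => simp
  | succ n ih =>
    rw [Function.iterate_succ_apply, V_Y, ih]
    congr 1
    ring

omit [PerfectRing k 2] in
lemma Y_add_self (m : ℕ) : Y c k m + Y c k m = 0 := by
  rw [← two_smul k, CharTwo.two_eq_zero, zero_smul]

/-- A subspace containing all the basis vectors is everything. -/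
lemma eq_top_of_XY_mem (N : Submodule k (GcMod c k))
    (hX : ∀ j, 1 ≤ j → j ≤ c → X c k j ∈ N) (hY : ∀ j, 1 ≤ j → j ≤ c → Y c k j ∈ N) : N = ⊤ := by
  rw [eq_top_iff]
  rintro ⟨a, b⟩ -
  have h1 : ((a, b) : GcMod c k) = ∑ i : Fin c, (a i • X c k (i.val + 1) + b i • Y c k (i.val + 1)) := by
    refine Prod.ext ?_ ?_
    · funext i
      simp only [X, Y, Prod.fst_sum, Prod.fst_add, Prod.smul_fst, Finset.sum_apply, Pi.add_apply,
        Pi.smul_apply, smul_eq_mul, Pi.zero_apply, mul_zero, add_zero]
      rw [Finset.sum_eq_single i]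
      · simp
      · intro j _ hji
        have : ¬ (i.val + 1 = j.val + 1) := fun h => hji (Fin.ext (by omega))
        rw [if_neg this, mul_zero]
      · simp
    · funext i
      simp only [X, Y, Prod.snd_sum, Prod.snd_add, Prod.smul_snd, Finset.sum_apply, Pi.add_apply,
        Pi.smul_apply, smul_eq_mul, Pi.zero_apply, mul_zero, zero_add]
      rw [Finset.sum_eq_single i]
      · simp
      · intro j _ hji
        have : ¬ (i.val + 1 = j.val + 1) := fun h => hji (Fin.ext (by omega))
        rw [if_neg this, mul_zero]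
      · simp
  rw [h1]
  refine Submodule.sum_mem _ fun i _ => Submodule.add_mem _ (Submodule.smul_mem _ _ ?_)
    (Submodule.smul_mem _ _ ?_)
  · exact hX _ (by omega) (by have := i.2; omega)
  · exact hY _ (by omega) (by have := i.2; omega)

/-- every `Y_m` is in the image of `V`. -/
lemma Y_mem_of_V_stable (N : Submodule k (GcMod c k))
    (hV : ∀ v, V c k v ∈ N) : ∀ m, 1 ≤ m → m ≤ c → Y c k m ∈ N := by
  intro m hm1 hmc
  rcases Nat.even_or_odd m with he | ho
  · obtain ⟨t, rfl⟩ := he
    have := V_Y c k t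
    rw [show 2 * t = t + t by ring] at this
    rw [← this]
    exact hV _
  · obtain ⟨t, rfl⟩ := ho
    have := V_X c k (c - t) (by omega) (by omega)
    rw [show 2 * c - 2 * (c - t) + 1 = 2 * t + 1 by omega] at this
    rw [← this]
    exact hV _

end Groth.Agent.Helper28.Gc
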