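import Mathlib
import Groth.Agent.Lib.Helper28.Gc

/-!
# The nilpotent block filtration `Nfil` on `GcMod c k`
-/

namespace Groth.Agent.Helper28.GcNil
open W4c6eohyperellchar2

variable (c : ℕ) (k : Type*) [Field k]

lemma eq_sum_XY (v : GcMod c k) :
    v = ∑ i : Fin c, (v.1 i • X c k (i.val + 1) + v.2 i • Y c k (i.val + 1)) := by
  obtain ⟨a, b⟩ := v
  refine Prod.ext ?_ ?_
  · funext i
    simp only [X, Y, Prod.fst_sum, Prod.fst_add, Prod.smul_fst, Finset.sum_apply, Pi.add_apply,
      Pi.smul_apply, smul_eq_mul, Pi.zero_apply, mul_zero, add_zero]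
    rw [Finset.sum_eq_single i]
    · simp
    · intro j _ hji
      have : ¬ (i.val + 1 = j.val + 1) := fun h => hji (Fin.ext (by omega))
      rw [if_neg this, mul_zero]
    · simp
  · funext i
    simp only [X, Y, Prod.snd_sum, Prod.snd_add, Prod.smul_snd, Finset.sum_apply, Pi.add_apply,
      Pi.smul_apply, smul_eq_mul, Pi.zero_apply, mul_zero, zero_add]
    rw [Finset.sum_eq_single i]
    · simp
    · intro j _ hji
      have : ¬ (i.val + 1 = j.val + 1) := fun h => hji (Fin.ext (by omega))
      rw [if_neg this, mul_zero]
    · simp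

/-- coordinate description of `Nfil`. -/
lemma mem_Nfil_iff (i : ℕ) (v : GcMod c k) :
    v ∈ Nfil c k i ↔ (∀ n : Fin c, i < n.val + 1 → v.2 n = 0) ∧
      (∀ n : Fin c, n.val + 1 ≤ 2 * c - i → v.1 n = 0) := by
  constructor
  · intro hv
    let W : Submodule k (GcMod c k) :=
      { carrier := {v | (∀ n : Fin c, i < n.val + 1 → v.2 n = 0) ∧
          (∀ n : Fin c, n.val + 1 ≤ 2 * c - i → v.1 n = 0)}
        add_mem' := by
          rintro a b ⟨ha1, ha2⟩ ⟨hb1, hb2⟩
          exact ⟨fun n hn => by simp [ha1 n hn, hb1 n hn], fun n hn => by simp [ha2 n hn, hb2 n hn]⟩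
        zero_mem' := ⟨fun _ _ => rfl, fun _ _ => rfl⟩
        smul_mem' := by
          rintro r a ⟨ha1, ha2⟩
          exact ⟨fun n hn => by simp [ha1 n hn], fun n hn => by simp [ha2 n hn]⟩ }
    have : Nfil c k i ≤ W := by
      unfold Nfil
      rw [Submodule.span_le]
      rintro _ (⟨n, hn, rfl⟩ | ⟨n, hn, rfl⟩)
      · refine ⟨fun m hm => ?_, fun m hm => rfl⟩
        show (if m.val + 1 = n then (1:k) else 0) = 0
        rw [if_neg]
        rw [Set.mem_Icc, le_min_iff] at hn
        omega
      · refine ⟨fun m hm => rfl, fun m hm => ?_⟩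
        show (if m.val + 1 = n then (1:k) else 0) = 0
        rw [if_neg]
        rw [Set.mem_Ioc] at hn
        omega
    exact this hv
  · rintro ⟨h1, h2⟩
    rw [eq_sum_XY c k v]
    refine Submodule.sum_mem _ fun n _ => Submodule.add_mem _ ?_ ?_
    · by_cases h : v.1 n = 0
      · rw [h, zero_smul]; exact Submodule.zero_mem _
      · refine Submodule.smul_mem _ _ (Submodule.subset_span (Or.inr ⟨n.val + 1, ?_, rfl⟩))
        have : ¬ (n.val + 1 ≤ 2 * c - i) := fun h' => h (h2 n h')
        have := n.2
        rw [Set.mem_Ioc]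
        omega
    · by_cases h : v.2 n = 0
      · rw [h, zero_smul]; exact Submodule.zero_mem _
      · refine Submodule.smul_mem _ _ (Submodule.subset_span (Or.inl ⟨n.val + 1, ?_, rfl⟩))
        have : ¬ (i < n.val + 1) := fun h' => h (h1 n h')
        have := n.2
        rw [Set.mem_Icc, le_min_iff]
        omega

lemma finrank_sup_span_singleton {M : Type*} [AddCommGroup M] [Module k M] [FiniteDimensional k M]
    (N : Submodule k M) (b : M) (hb : b ∉ N) :
    Module.finrank k ↥(N ⊔ Submodule.span k {b}) = Module.finrank k N + 1 := by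
  have hb0 : b ≠ 0 := fun h => hb (h ▸ N.zero_mem)
  have h1 := Submodule.finrank_sup_add_finrank_inf_eq N (Submodule.span k {b})
  have h2 : N ⊓ Submodule.span k {b} = ⊥ :=
    disjoint_iff.1 ((Submodule.disjoint_span_singleton' hb0).2 hb)
  rw [h2, finrank_bot, finrank_span_singleton hb0] at h1
  simpa using h1

lemma Nfil_succ_of_lt (i : ℕ) (hi : i < c) :
    Nfil c k (i + 1) = Nfil c k i ⊔ Submodule.span k {Y c k (i + 1)} := by
  apply le_antisymm
  · intro v hv
    rw [mem_Nfil_iff] at hv
    have h1 : v - v.2 ⟨i, hi⟩ • Y c k (i + 1) ∈ Nfil c k i := by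
      rw [mem_Nfil_iff]
      refine ⟨fun n hn => ?_, fun n hn => ?_⟩
      · by_cases h : n.val = i
        · have : n = ⟨i, hi⟩ := Fin.ext h
          subst this
          simp [Y]
        · have := hv.1 n (by omega)
          simp [Y, this]
          intro h'; omega
      · have := hv.2 n (by omega)
        simp [Y, this]
    have h2 : v = (v - v.2 ⟨i, hi⟩ • Y c k (i + 1)) + v.2 ⟨i, hi⟩ • Y c k (i + 1) := by abel
    rw [h2]
    exact Submodule.add_mem _ (Submodule.mem_sup_left h1)
      (Submodule.mem_sup_right (Submodule.smul_mem _ _ (Submodule.mem_span_singleton_self _)))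
  · refine sup_le ?_ ?_
    · intro v hv
      rw [mem_Nfil_iff] at hv ⊢
      exact ⟨fun n hn => hv.1 n (by omega), fun n hn => hv.2 n (by omega)⟩
    · rw [Submodule.span_singleton_le_iff_mem, mem_Nfil_iff]
      refine ⟨fun n hn => ?_, fun n hn => rfl⟩
      show (if n.val + 1 = i + 1 then (1:k) else 0) = 0
      rw [if_neg]; omega

lemma Nfil_succ_of_ge (i : ℕ) (hi : c ≤ i) (hi2 : i < 2 * c) :
    Nfil c k (i + 1) = Nfil c k i ⊔ Submodule.span k {X c k (2 * c - i)} := by
  have hlt : 2 * c - i - 1 < c := by omega
  apply le_antisymm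
  · intro v hv
    rw [mem_Nfil_iff] at hv
    have h1 : v - v.1 ⟨2 * c - i - 1, hlt⟩ • X c k (2 * c - i) ∈ Nfil c k i := by
      rw [mem_Nfil_iff]
      refine ⟨fun n hn => ?_, fun n hn => ?_⟩
      · have := n.2
        omega
      · by_cases h : n.val = 2 * c - i - 1
        · have : n = ⟨2 * c - i - 1, hlt⟩ := Fin.ext h
          subst this
          simp only [X]
          rw [Prod.fst_sub, Prod.smul_fst, Pi.sub_apply, Pi.smul_apply, smul_eq_mul]
          show _ - _ * (if 2 * c - i - 1 + 1 = 2 * c - i then (1:k) else 0) = 0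
          rw [if_pos (by omega), mul_one, sub_self]
        · have := hv.2 n (by omega)
          simp [X, this]
          intro h'; omega
    have h2 : v = (v - v.1 ⟨2 * c - i - 1, hlt⟩ • X c k (2 * c - i)) +
        v.1 ⟨2 * c - i - 1, hlt⟩ • X c k (2 * c - i) := by abel
    rw [h2]
    exact Submodule.add_mem _ (Submodule.mem_sup_left h1)
      (Submodule.mem_sup_right (Submodule.smul_mem _ _ (Submodule.mem_span_singleton_self _)))
  · refine sup_le ?_ ?_
    · intro v hv
      rw [mem_Nfil_iff] at hv ⊢
      exact ⟨fun n hn => hv.1 n (by omega), fun n hn => hv.2 n (by omega)⟩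
    · rw [Submodule.span_singleton_le_iff_mem, mem_Nfil_iff]
      refine ⟨fun n hn => rfl, fun n hn => ?_⟩
      show (if n.val + 1 = 2 * c - i then (1:k) else 0) = 0
      rw [if_neg]; omega

lemma finrank_Nfil (i : ℕ) (hi : i ≤ 2 * c) : Module.finrank k (Nfil c k i) = i := by
  induction i with
  | zero =>
    have : Nfil c k 0 = ⊥ := by
      rw [eq_bot_iff]
      intro v hv
      rw [mem_Nfil_iff] at hv
      rw [Submodule.mem_bot]
      refine Prod.ext ?_ ?_
      · funext n; exact hv.2 n (by have := n.2; omega)
      · funext n; exact hv.1 n (by omega)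
    rw [this, finrank_bot]
  | succ i ih =>
    by_cases h : i < c
    · rw [Nfil_succ_of_lt c k i h, finrank_sup_span_singleton, ih (by omega)]
      rw [mem_Nfil_iff]
      intro hv
      have := hv.1 ⟨i, h⟩ (by simp)
      simp [Y] at this
    · have hlt : 2 * c - i - 1 < c := by omega
      rw [Nfil_succ_of_ge c k i (by omega) (by omega), finrank_sup_span_singleton, ih (by omega)]
      rw [mem_Nfil_iff]
      intro hv
      have := hv.2 ⟨2 * c - i - 1, hlt⟩ (by simp; omega)
      simp [X] at this
      omega


variable (a : ℕ → k)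

lemma NF_preimage (ha : a c ≠ 0) (i : ℕ) (hi : i ≤ 2 * c) (v : GcMod c k) :
    NF c k a v ∈ Nfil c k i ↔ v ∈ Nfil c k (c + (i + 1) / 2) := by
  rw [mem_Nfil_iff, mem_Nfil_iff]
  constructor
  · rintro ⟨hl, hs⟩
    refine ⟨fun n hn => by have := n.2; omega, ?_⟩
    have key : ∀ N : ℕ, ∀ n : Fin c, n.val = N → n.val + 1 ≤ 2 * c - (c + (i + 1) / 2) →
        v.1 n = 0 := by
      intro N
      induction N using Nat.strong_induction_on with
      | _ N ih =>
        intro n hn hT
        have hnc := n.2
        by_cases h2 : 2 * (n.val + 1) ≤ c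
        · have h3 := hs ⟨2 * (n.val + 1) - 1, by omega⟩ (by simp only; omega)
          simp only [NF, coefX] at h3
          rw [if_pos (by omega), dif_pos (by omega)] at h3
          have h4 : (⟨(2 * (n.val + 1) - 1 + 1) / 2 - 1, by omega⟩ : Fin c) = n := Fin.ext (by simp only; omega)
          rw [h4] at h3
          exact pow_eq_zero_iff (two_ne_zero) |>.1 h3
        · have h3 := hl ⟨2 * (c - (n.val + 1)), by omega⟩ (by simp only; omega)
          simp only [NF] at h3
          rw [if_pos (by omega)] at h3
          rw [Finset.sum_eq_single n] at h3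
          · rw [if_pos ⟨by omega, by omega⟩] at h3
            have h5 : n.val + 1 + 2 * (c - (n.val + 1)) / 2 = c := by omega
            rw [h5] at h3
            rcases mul_eq_zero.1 h3 with h6 | h6
            · exact pow_eq_zero_iff (two_ne_zero) |>.1 h6
            · exact absurd h6 ha
          · intro j _ hjn
            split_ifs with h7
            · have hjlt : j.val < n.val := by
                rcases lt_trichotomy j.val n.val with h8 | h8 | h8
                · exact h8
                · exact absurd (Fin.ext h8) hjn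
                · omega
              rw [ih j.val (by omega) j rfl (by omega)]
              simp
            · rfl
          · intro h; exact absurd (Finset.mem_univ _) h
    exact fun n hn => key n.val n rfl hn
  · rintro ⟨-, hx⟩
    refine ⟨fun n hn => ?_, fun n hn => ?_⟩
    · simp only [NF]
      split_ifs with h1
      · refine Finset.sum_eq_zero fun j _ => ?_
        split_ifs with h2
        · rw [hx j (by omega)]
          simp
        · rfl
      · rfl
    · simp only [NF, coefX]
      split_ifs with h1 h2
      · rw [hx _ (by simp only; omega)]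
        simp
      · simp
      · rfl


section NVpart

variable [CharP k 2] [PerfectRing k 2]

/-- coefficient matrix of the `σ → λ` part of `NV` (before taking square roots). -/
def Acoef (m : ℕ) (j : Fin c) : k :=
  if (j.val + 1) % 2 = 1 ∧ m + j.val / 2 ≤ c then a (m + j.val / 2) else 0

lemma NV_snd (v : GcMod c k) (n : Fin c) :
    (NV c k a v).2 n = (frobeniusEquiv k 2).symm
      (coefY v (2 * (n.val + 1)) + ∑ j : Fin c, v.1 j * Acoef c k a (n.val + 1) j) := by
  simp only [NV]
  rw [map_add, map_sum]
  congr 1
  refine Finset.sum_congr rfl fun j _ => ?_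
  unfold Acoef
  split_ifs <;> simp

omit [CharP k 2] [PerfectRing k 2] in
lemma solve (ha : a c ≠ 0) (r : ℕ → k) (h : ℕ) (hh : h ≤ c) : ∀ d : ℕ, ∃ x : Fin c → k,
    (∀ j : Fin c, x j ≠ 0 → j.val % 2 = 0 ∧ c - h ≤ j.val / 2 ∧ j.val / 2 < c - h + d) ∧
    ∀ m, c < 2 * m → m ≤ h → h < m + d → ∑ j : Fin c, x j * Acoef c k a m j = r m := by
  intro d
  induction d with
  | zero =>
    refine ⟨0, fun j hj => absurd rfl hj, fun m _ h2 h3 => by omega⟩
  | succ d ih =>
    obtain ⟨x, hx1, hx2⟩ := ih
    by_cases hcase : c < 2 * (h - d) ∧ d ≤ h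
    · obtain ⟨hc1, hc2⟩ := hcase
      have hj0 : 2 * (c - (h - d)) < c := by omega
      classical
      refine ⟨fun j => x j + if j = ⟨2 * (c - (h - d)), hj0⟩ then
        (r (h - d) - ∑ j : Fin c, x j * Acoef c k a (h - d) j) / a c else 0, ?_, ?_⟩
      · intro j hj
        by_cases hjj : j = ⟨2 * (c - (h - d)), hj0⟩
        · subst hjj
          simp only
          omega
        · simp only [if_neg hjj, add_zero] at hj
          have := hx1 j hj
          omega
      · intro m hm1 hm2 hm3
        have hsum : ∑ j : Fin c, (x j + if j = ⟨2 * (c - (h - d)), hj0⟩ then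
            (r (h - d) - ∑ j : Fin c, x j * Acoef c k a (h - d) j) / a c else 0) * Acoef c k a m j =
            ∑ j : Fin c, x j * Acoef c k a m j +
              (r (h - d) - ∑ j : Fin c, x j * Acoef c k a (h - d) j) / a c *
                Acoef c k a m ⟨2 * (c - (h - d)), hj0⟩ := by
          simp only [add_mul, Finset.sum_add_distrib, ite_mul, zero_mul]
          rw [Finset.sum_ite_eq' Finset.univ]
          simp
        rw [hsum]
        by_cases hmm : m = h - d
        · subst hmm
          have : Acoef c k a (h - d) ⟨2 * (c - (h - d)), hj0⟩ = a c := by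
            unfold Acoef
            rw [if_pos ⟨by simp only; omega, by simp only; omega⟩]
            congr 1
            simp only
            omega
          rw [this]
          field_simp
          ring
        · have : Acoef c k a m ⟨2 * (c - (h - d)), hj0⟩ = 0 := by
            unfold Acoef
            rw [if_neg]
            simp only
            omega
          rw [this, mul_zero, add_zero]
          exact hx2 m hm1 hm2 (by omega)
    · refine ⟨x, fun j hj => ?_, fun m hm1 hm2 hm3 => ?_⟩
      · have := hx1 j hj
        omega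
      · exact hx2 m hm1 hm2 (by omega)

lemma NV_image (ha : a c ≠ 0) (i : ℕ) (hi : i ≤ 2 * c) :
    NV c k a '' (Nfil c k i : Set (GcMod c k)) = (Nfil c k (i / 2) : Set (GcMod c k)) := by
  ext w
  constructor
  · rintro ⟨v, hv, rfl⟩
    rw [SetLike.mem_coe, mem_Nfil_iff] at hv ⊢
    refine ⟨fun n hn => ?_, fun n hn => rfl⟩
    rw [NV_snd]
    have h1 : coefY v (2 * (n.val + 1)) = 0 := by
      unfold coefY
      split_ifs with h
      · exact hv.1 _ (by simp only; omega)
      · rfl
    have h2 : ∑ j : Fin c, v.1 j * Acoef c k a (n.val + 1) j = 0 := by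
      refine Finset.sum_eq_zero fun j _ => ?_
      unfold Acoef
      split_ifs with h
      · rw [hv.2 j (by omega), zero_mul]
      · rw [mul_zero]
    rw [h1, h2, add_zero, map_zero]
  · intro hw
    rw [SetLike.mem_coe, mem_Nfil_iff] at hw
    obtain ⟨hw2, hw1⟩ := hw
    have hh : i / 2 ≤ c := by omega
    obtain ⟨x, hx1, hx2⟩ := solve c k a ha (fun m => coefY w m ^ 2) (i / 2) hh (i / 2 + 1)
    -- vanishing for large m
    have hZ : ∀ m, i / 2 < m → ∑ j : Fin c, x j * Acoef c k a m j = 0 ∧ coefY w m = 0 := by
      intro m hm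
      constructor
      · refine Finset.sum_eq_zero fun j _ => ?_
        by_cases hxj : x j = 0
        · rw [hxj, zero_mul]
        · have := hx1 j hxj
          unfold Acoef
          rw [if_neg, mul_zero]
          omega
      · unfold coefY
        split_ifs with h
        · exact hw2 _ (by simp only; omega)
        · rfl
    have hE : ∀ m, c < 2 * m → ∑ j : Fin c, x j * Acoef c k a m j = coefY w m ^ 2 := by
      intro m hm
      by_cases hmh : m ≤ i / 2
      · exact hx2 m hm hmh (by omega)
      · have := hZ m (by omega)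
        rw [this.1, this.2]
        simp
    refine ⟨(x, fun n => if (n.val + 1) % 2 = 0 then coefY w ((n.val + 1) / 2) ^ 2 -
      ∑ j : Fin c, x j * Acoef c k a ((n.val + 1) / 2) j else 0), ?_, ?_⟩
    · rw [SetLike.mem_coe, mem_Nfil_iff]
      refine ⟨fun n hn => ?_, fun n hn => ?_⟩
      · simp only
        split_ifs with h
        · have := hZ ((n.val + 1) / 2) (by omega)
          rw [this.1, this.2]
          simp
        · rfl
      · simp only
        by_contra hxn
        have := hx1 n hxn
        omega
    · refine Prod.ext ?_ ?_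
      · funext n
        have := n.2
        exact (hw1 n (by omega)).symm
      · funext n
        have hn := n.2
        rw [NV_snd]
        rw [(frobeniusEquiv k 2).symm_apply_eq, frobeniusEquiv_def]
        have hwn : coefY w (n.val + 1) = w.2 n := by
          unfold coefY
          rw [dif_pos ⟨by omega, by omega⟩]
          rfl
        by_cases h2 : 2 * (n.val + 1) ≤ c
        · have : coefY (x, fun n : Fin c => if (n.val + 1) % 2 = 0 then
              coefY w ((n.val + 1) / 2) ^ 2 -
              ∑ j : Fin c, x j * Acoef c k a ((n.val + 1) / 2) j else 0) (2 * (n.val + 1)) =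
              coefY w (n.val + 1) ^ 2 - ∑ j : Fin c, x j * Acoef c k a (n.val + 1) j := by
            unfold coefY
            rw [dif_pos ⟨by omega, by omega⟩]
            simp only
            rw [if_pos (by omega)]
            have : (2 * (n.val + 1) - 1 + 1) / 2 = n.val + 1 := by omega
            rw [this]
          rw [this, hwn]
          ring
        · have : coefY (x, fun n : Fin c => if (n.val + 1) % 2 = 0 then
              coefY w ((n.val + 1) / 2) ^ 2 -
              ∑ j : Fin c, x j * Acoef c k a ((n.val + 1) / 2) j else 0) (2 * (n.val + 1)) = 0 := by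
            unfold coefY
            rw [dif_neg]
            omega
          rw [this, zero_add, hE (n.val + 1) (by omega), hwn]

end NVpart

end Groth.Agent.Helper28.GcNil
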