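import Mathlib
import Groth.Prelude.Def_Coh
import Groth.Prelude.Def_TorSh
import Groth.Prelude.Def_FlatMod2
import Groth.Agent.Lib.Helper13.QCohLoc
import Groth.Agent.Lib.Helper13.QCohStalk
import Groth.Agent.Lib.Helper3.CohLen

universe u
open CategoryTheory CategoryTheory.Limits AlgebraicGeometry

namespace Groth.Agent.Helper28.GenStalk

/-- in a reduced ring an element outside every minimal prime is regular -/
theorem isRegular_of_notMem_minimalPrimes {R : Type*} [CommRing R] [IsReduced R] (a : R)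
    (ha : ∀ q ∈ minimalPrimes R, a ∉ q) : IsRegular a := by
  have hl : IsLeftRegular a := by
    rw [isLeftRegular_iff_right_eq_zero_of_mul]
    intro b hab
    have hb : b ∈ (⊥ : Ideal R).radical := by
      rw [← Ideal.sInf_minimalPrimes, Ideal.mem_sInf]
      intro q hq
      have hq' : q ∈ minimalPrimes R := hq
      have : a * b ∈ q := by rw [hab]; exact q.zero_mem
      exact (hq'.1.1.mem_or_mem this).resolve_left (ha q hq')
    have : IsNilpotent b := by
      obtain ⟨n, hn⟩ := hb
      exact ⟨n, by simpa using hn⟩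
    exact this.eq_zero
  exact isLeftRegular_iff_isRegular.1 hl

/-- (local algebra) a nonzero element of a torsion-free module over a reduced noetherian ring has
its annihilator contained in a minimal prime -/
theorem exists_minimalPrime_of_smul_eq_zero {R : Type*} [CommRing R] [IsReduced R]
    [IsNoetherianRing R] {N : Type*} [AddCommGroup N] [Module R N] [Module.IsTorsionFree R N]
    (f : N) (hf : f ≠ 0) :
    ∃ q ∈ minimalPrimes R, ∀ a : R, a • f = 0 → a ∈ q := by
  classical
  by_contra hcon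
  push Not at hcon
  let I : Ideal R := LinearMap.ker (LinearMap.toSpanSingleton R N f)
  have hI : ∀ a : R, a ∈ I ↔ a • f = 0 := fun a => by
    simp [I, LinearMap.mem_ker, LinearMap.toSpanSingleton_apply]
  have hfin : (minimalPrimes R).Finite := minimalPrimes.finite_of_isNoetherianRing R
  have hnot : ¬ ((I : Set R) ⊆ ⋃ q ∈ (↑hfin.toFinset : Set (Ideal R)), (q : Set R)) := by
    rw [Ideal.subset_union_prime (R := R) (s := hfin.toFinset) (f := fun q => q) ⊥ ⊥]
    · rintro ⟨q, hq, hle⟩
      rw [Set.Finite.mem_toFinset] at hq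
      obtain ⟨a, ha0, haq⟩ := hcon q hq
      exact haq (hle ((hI a).2 ha0))
    · intro q hq _ _
      rw [Set.Finite.mem_toFinset] at hq
      exact hq.1.1
  rw [Set.not_subset] at hnot
  obtain ⟨a, haI, hau⟩ := hnot
  have ha : ∀ q ∈ minimalPrimes R, a ∉ q := by
    intro q hq haq
    apply hau
    simp only [Set.mem_iUnion]
    exact ⟨q, by simpa using hq, haq⟩
  have hreg := isRegular_of_notMem_minimalPrimes a ha
  have hs : IsSMulRegular N a := Module.IsTorsionFree.isSMulRegular hreg
  have h0 : a • f = a • (0 : N) := by rw [(hI a).1 haI, smul_zero]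
  exact hf (hs h0)


open Groth.Agent.Helper13.QCohLoc Groth.Agent.Helper13.QCoh in
/-- (GEN) a nonzero torsion-free coherent module on a reduced locally noetherian scheme has a nonzero
stalk of finite length at a generic point `ξ` of an irreducible component. -/
theorem exists_minimal_point_length_ne_zero {X : Scheme.{u}} [IsReduced X] [IsLocallyNoetherian X]
    (G : X.Modules) (hG : Coh.IsCoh G) (htf : TorSh.IsTorsionFree G) (h0 : ¬ IsZero G) :
    ∃ ξ : X, (∀ y : X, ξ ∈ closure ({y} : Set X) → y = ξ) ∧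
      (Module.length (X.presheaf.stalk ξ) (G.presheaf.stalk ξ)).toNat ≠ 0 := by
  obtain ⟨hqc, hft⟩ := hG
  haveI : G.IsQuasicoherent := hqc
  haveI : SheafOfModules.IsFiniteType (R := X.ringCatSheaf) G := hft
  -- a point with nonzero stalk
  have hx : ∃ x : X, Nontrivial (G.presheaf.stalk x) := by
    by_contra hcon
    push Not at hcon
    apply h0
    rw [isZero_iff_stalk]
    intro x
    exact hcon x
  obtain ⟨x, hxnt⟩ := hx
  obtain ⟨_, ⟨U, hU, rfl⟩, hxU, -⟩ :=
    X.isBasis_affineOpens.exists_subset_of_mem_open (Set.mem_univ x) isOpen_univ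
  have hU' : IsAffineOpen U := hU
  letI : Algebra Γ(X, U) (X.presheaf.stalk x) :=
    TopCat.Presheaf.algebra_section_stalk X.presheaf ⟨x, hxU⟩
  letI := modStalk G (⟨x, hxU⟩ : U)
  haveI := isScalarTower_stalk G (⟨x, hxU⟩ : U)
  haveI := isLocalizedModule_germ G hU' ⟨x, hxU⟩
  haveI hloc := hU'.isLocalization_stalk ⟨x, hxU⟩
  haveI : IsNoetherianRing (X.presheaf.stalk x) := inferInstance
  haveI : _root_.IsReduced (X.presheaf.stalk x) := inferInstance
  haveI : Module.IsTorsionFree (X.presheaf.stalk x) (G.presheaf.stalk x) := htf x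
  obtain ⟨f, hf⟩ := exists_ne (0 : G.presheaf.stalk x)
  obtain ⟨𝔮, h𝔮, hann⟩ := exists_minimalPrime_of_smul_eq_zero (R := X.presheaf.stalk x) f hf
  haveI h𝔮p : 𝔮.IsPrime := h𝔮.1.1
  set p := hU'.primeIdealOf ⟨x, hxU⟩ with hp
  let q' : PrimeSpectrum Γ(X, U) :=
    (⟨𝔮, h𝔮p⟩ : PrimeSpectrum (X.presheaf.stalk x)).comap (algebraMap Γ(X, U) (X.presheaf.stalk x))
  have hq'mem : ∀ a : Γ(X, U), a ∈ q'.asIdeal ↔ algebraMap Γ(X, U) (X.presheaf.stalk x) a ∈ 𝔮 :=
    fun a => Iff.rfl
  have hunit : ∀ t : p.asIdeal.primeCompl,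
      algebraMap Γ(X, U) (X.presheaf.stalk x) t ∉ 𝔮 := by
    intro t ht
    have hu : IsUnit (algebraMap Γ(X, U) (X.presheaf.stalk x) t) :=
      IsLocalization.map_units _ t
    exact h𝔮p.ne_top (Ideal.eq_top_of_isUnit_mem _ ht hu)
  have hq'p : q' ≤ p := by
    intro a ha
    by_contra hna
    exact hunit ⟨a, hna⟩ ha
  -- a section whose germ at `x` is a unit multiple of `f`
  obtain ⟨⟨m, t⟩, hmt⟩ := IsLocalizedModule.surj p.asIdeal.primeCompl
    (germLin G (⟨x, hxU⟩ : U)) f
  -- annihilator of `m` lies in `q'`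
  have hannm : ∀ g : Γ(X, U), g • m = 0 → g ∈ q'.asIdeal := by
    intro g hg
    rw [hq'mem]
    have h1 : (algebraMap Γ(X, U) (X.presheaf.stalk x) g *
        algebraMap Γ(X, U) (X.presheaf.stalk x) t) • f = 0 := by
      rw [mul_smul, algebraMap_smul, algebraMap_smul]
      change g • (t • f) = 0
      rw [hmt, ← map_smul, hg, map_zero]
    rcases h𝔮p.mem_or_mem (hann _ h1) with h2 | h2
    · exact h2
    · exact absurd h2 (hunit t)
  -- the point corresponding to q'
  let ξ : U := hU'.isoSpec.inv q'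
  have hξ : hU'.primeIdealOf ξ = q' := by
    change hU'.isoSpec.hom (hU'.isoSpec.inv q') = q'
    rw [← Scheme.Hom.comp_apply, Iso.inv_hom_id]
    rfl
  have hξnt : Nontrivial (G.presheaf.stalk (ξ : X)) := by
    letI := modStalk G ξ
    haveI := isScalarTower_stalk G ξ
    haveI := isLocalizedModule_germ G hU' ξ
    refine ⟨⟨germLin G ξ m, 0, fun h => ?_⟩⟩
    rw [IsLocalizedModule.eq_zero_iff (hU'.primeIdealOf ξ).asIdeal.primeCompl] at h
    obtain ⟨s, hs⟩ := h
    have hs' : (s : Γ(X, U)) ∈ q'.asIdeal := hannm _ hs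
    rw [← hξ] at hs'
    exact s.2 hs'
  -- minimality of ξ
  have hmin : ∀ y : X, (ξ : X) ∈ closure ({y} : Set X) → y = (ξ : X) := by
    intro y hy
    have hsp : y ⤳ (ξ : X) := specializes_iff_mem_closure.2 hy
    have hyU : y ∈ U := hsp.mem_open U.isOpen ξ.2
    have h1 : (⟨y, hyU⟩ : U) ⤳ ξ := (subtype_specializes_iff _ _).2 hsp
    have h2 : hU'.primeIdealOf ⟨y, hyU⟩ ⤳ hU'.primeIdealOf ξ := h1.map hU'.isoSpec.hom.continuous
    have hle : hU'.primeIdealOf ⟨y, hyU⟩ ≤ q' := by
      rw [← hξ]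
      exact (PrimeSpectrum.le_iff_specializes _ _).2 h2
    set qy := hU'.primeIdealOf ⟨y, hyU⟩ with hqy
    have hdisj : Disjoint (p.asIdeal.primeCompl : Set Γ(X, U)) (qy.asIdeal : Set Γ(X, U)) := by
      rw [Set.disjoint_left]
      intro a ha haq
      exact ha (hq'p (hle haq))
    have hJp : (Ideal.map (algebraMap Γ(X, U) (X.presheaf.stalk x)) qy.asIdeal).IsPrime :=
      IsLocalization.isPrime_of_isPrime_disjoint p.asIdeal.primeCompl _ _ qy.2 hdisj
    have hJc : (Ideal.map (algebraMap Γ(X, U) (X.presheaf.stalk x)) qy.asIdeal).comap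
        (algebraMap Γ(X, U) (X.presheaf.stalk x)) = qy.asIdeal :=
      IsLocalization.under_map_of_isPrime_disjoint p.asIdeal.primeCompl _ qy.2 hdisj
    have hJle : Ideal.map (algebraMap Γ(X, U) (X.presheaf.stalk x)) qy.asIdeal ≤ 𝔮 := by
      rw [Ideal.map_le_iff_le_comap]
      exact hle
    have h𝔮le : 𝔮 ≤ Ideal.map (algebraMap Γ(X, U) (X.presheaf.stalk x)) qy.asIdeal :=
      h𝔮.2 ⟨hJp, bot_le⟩ hJle
    have hq'le : q' ≤ qy := by
      intro a ha
      rw [← hJc]
      exact h𝔮le ha
    have heq : qy = hU'.primeIdealOf ξ := by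
      rw [hξ]
      exact le_antisymm hle hq'le
    have h3 := congrArg (fun z => hU'.fromSpec z) heq
    simp only [hqy, hU'.fromSpec_primeIdealOf] at h3
    exact h3
  refine ⟨(ξ : X), hmin, ?_⟩
  have hlt : Module.length (X.presheaf.stalk (ξ : X)) (G.presheaf.stalk (ξ : X)) < ⊤ :=
    Groth.Agent.Helper3.CohLen.length_stalk_lt_top G (ξ : X)
      (fun z _ hz => hmin z (specializes_iff_mem_closure.1 hz))
  have hne : Module.length (X.presheaf.stalk (ξ : X)) (G.presheaf.stalk (ξ : X)) ≠ 0 := by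
    rw [Ne, Module.length_eq_zero_iff]
    exact not_subsingleton_iff_nontrivial.2 hξnt
  intro h
  rcases ENat.toNat_eq_zero.1 h with h | h
  · exact hne h
  · exact (ne_of_lt hlt) h

end Groth.Agent.Helper28.GenStalk
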