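import Mathlib

/-!
# Local freeness of graded projective modules around a fixed point (helper28)

`exists_nonhomog`: Nakayama + projective lifting + adjugate: if `f i` reduce to a basis of `P/mP`
then there is `s ∉ m` with `s • P ⊆ span f` and `s` killing all coefficients of relations.
`decompose_smul_of_mem`, `decompose_mem_span`: graded bookkeeping.
`main`: the homogeneous version.
-/

namespace Groth.Agent.Helper28.GrFree

open DirectSum

universe u v w x

section Nak

variable {A : Type w} [CommRing A] {P : Type x} [AddCommGroup P] [Module A P]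

theorem exists_nonhomog [Module.Finite A P] [Module.Projective A P]
    (m : Ideal A) [hmax : m.IsMaximal] {n : ℕ} (f : Fin n → P)
    (hli : LinearIndependent (A ⧸ m)
      (fun i => (Submodule.Quotient.mk (f i) : P ⧸ (m • (⊤ : Submodule A P)))))
    (hsp : Submodule.span A (Set.range f) ⊔ m • (⊤ : Submodule A P) = ⊤) :
    ∃ s : A, s ∉ m ∧ (∀ p : P, ∃ c : Fin n → A, s • p = ∑ i, c i • f i) ∧
      (∀ c : Fin n → A, ∑ i, c i • f i = 0 → ∀ i, s * c i = 0) := by
  classical
  haveI hprime : m.IsPrime := Ideal.IsMaximal.isPrime hmax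
  set F : Submodule A P := Submodule.span A (Set.range f) with hF
  -- N1 : Nakayama
  obtain ⟨r, hr1, hr⟩ : ∃ r : A, r - 1 ∈ m ∧ ∀ p : P, r • p ∈ F := by
    have hfg : (⊤ : Submodule A (P ⧸ F)).FG := Module.finite_def.mp inferInstance
    have hle : (⊤ : Submodule A (P ⧸ F)) ≤ m • (⊤ : Submodule A (P ⧸ F)) := by
      intro q _
      obtain ⟨p, rfl⟩ := Submodule.Quotient.mk_surjective F q
      have hp : p ∈ F ⊔ m • (⊤ : Submodule A P) := by rw [hsp]; trivial
      obtain ⟨x, hx, y, hy, rfl⟩ := Submodule.mem_sup.mp hp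
      have h1 : (Submodule.Quotient.mk (x + y) : P ⧸ F) = F.mkQ y := by
        rw [Submodule.Quotient.mk_add, (Submodule.Quotient.mk_eq_zero F).mpr hx, zero_add]
        rfl
      rw [h1]
      have h2 : F.mkQ y ∈ (m • (⊤ : Submodule A P)).map F.mkQ := Submodule.mem_map_of_mem hy
      rw [Submodule.map_smul''] at h2
      exact Submodule.smul_mono le_rfl le_top h2
    obtain ⟨r, hr1, hr⟩ :=
      Submodule.exists_sub_one_mem_and_smul_eq_zero_of_fg_of_le_smul m _ hfg hle
    refine ⟨r, hr1, fun p => ?_⟩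
    have h3 := hr (Submodule.Quotient.mk p) trivial
    rwa [← Submodule.Quotient.mk_smul, Submodule.Quotient.mk_eq_zero] at h3
  have hrm : r ∉ m := fun h =>
    hmax.ne_top ((Ideal.eq_top_iff_one m).mpr (by simpa using m.sub_mem h hr1))
  -- N2 : projective lifting
  obtain ⟨σ, hσ⟩ : ∃ σ : P →ₗ[A] (Fin n → A), ∀ p, ∑ i, σ p i • f i = r • p := by
    let π : (Fin n → A) →ₗ[A] P := Fintype.linearCombination A f
    have hrange : LinearMap.range π = F := Fintype.range_linearCombination A f
    have hmem : ∀ p : P, (r • LinearMap.id : P →ₗ[A] P) p ∈ LinearMap.range π := by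
      intro p
      rw [hrange]
      exact hr p
    obtain ⟨h, hh⟩ := Module.projective_lifting_property π.rangeRestrict
      (LinearMap.codRestrict (LinearMap.range π) (r • LinearMap.id) hmem)
      π.surjective_rangeRestrict
    refine ⟨h, fun p => ?_⟩
    have h1 : π.rangeRestrict (h p) =
        LinearMap.codRestrict (LinearMap.range π) (r • LinearMap.id) hmem p := by
      rw [← hh]; rfl
    have h2 := congrArg Subtype.val h1
    exact h2
  -- N3 : the matrix
  let E : Matrix (Fin n) (Fin n) A := fun i j => σ (f j) i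
  have hE : ∀ j, ∑ i, E i j • f i = r • f j := fun j => hσ (f j)
  have hrel : ∀ c : Fin n → A, ∑ j, c j • f j = 0 → E.mulVec c = 0 := by
    intro c hc
    have h0 : σ (∑ j, c j • f j) = 0 := by rw [hc, map_zero]
    rw [map_sum] at h0
    ext i
    have h1 := congrFun h0 i
    simp only [map_smul, Finset.sum_apply, Pi.smul_apply, smul_eq_mul, Pi.zero_apply] at h1
    rw [Pi.zero_apply, ← h1]
    show ∑ j, E i j * c j = ∑ j, c j * σ (f j) i
    exact Finset.sum_congr rfl (fun j _ => mul_comm (E i j) (c j))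
  have hdet : ∀ c : Fin n → A, ∑ j, c j • f j = 0 → ∀ i, E.det * c i = 0 := by
    intro c hc i
    have h1 : E.adjugate.mulVec (E.mulVec c) = 0 := by rw [hrel c hc, Matrix.mulVec_zero]
    rw [Matrix.mulVec_mulVec, Matrix.adjugate_mul, Matrix.smul_mulVec, Matrix.one_mulVec] at h1
    have h2 := congrFun h1 i
    simpa using h2
  -- N4 : det E ∉ m
  have hEm : ∀ i j, Ideal.Quotient.mk m (E i j) = if i = j then Ideal.Quotient.mk m r else 0 := by
    intro i j
    have h1 : ∑ i', (E i' j - if i' = j then r else 0) • f i' = 0 := by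
      simp only [sub_smul, Finset.sum_sub_distrib, hE j, ite_smul, zero_smul, Finset.sum_ite_eq',
        Finset.mem_univ, if_true, sub_self]
    have h2 : ∑ i', (Ideal.Quotient.mk m (E i' j - if i' = j then r else 0)) •
        (Submodule.Quotient.mk (f i') : P ⧸ (m • (⊤ : Submodule A P))) = 0 := by
      have h3 := congrArg (Submodule.Quotient.mk (p := m • (⊤ : Submodule A P))) h1
      rw [Submodule.Quotient.mk_zero] at h3
      rw [← h3]
      have h4 : (Submodule.Quotient.mk (p := m • (⊤ : Submodule A P))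
          (∑ i', (E i' j - if i' = j then r else 0) • f i')) =
          ∑ i', Submodule.Quotient.mk (p := m • (⊤ : Submodule A P))
            ((E i' j - if i' = j then r else 0) • f i') :=
        map_sum (Submodule.mkQ (m • (⊤ : Submodule A P))) _ _
      rw [h4]
      rfl
    have h5 := Fintype.linearIndependent_iff.mp hli _ h2 i
    rw [map_sub, sub_eq_zero] at h5
    rw [h5]
    split_ifs
    · rfl
    · exact map_zero _
  have hdetm : E.det ∉ m := by
    intro h
    have h1 : Ideal.Quotient.mk m E.det = 0 := Ideal.Quotient.eq_zero_iff_mem.mpr h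
    rw [RingHom.map_det] at h1
    have h2 : (Ideal.Quotient.mk m).mapMatrix E =
        (Ideal.Quotient.mk m r) • (1 : Matrix (Fin n) (Fin n) (A ⧸ m)) := by
      ext i j
      simp only [RingHom.mapMatrix_apply, Matrix.map_apply, hEm, Matrix.smul_apply,
        Matrix.one_apply, smul_eq_mul, mul_ite, mul_one, mul_zero]
    rw [h2, Matrix.det_smul, Matrix.det_one, mul_one, Fintype.card_fin, ← map_pow,
      Ideal.Quotient.eq_zero_iff_mem] at h1
    exact hrm (hprime.mem_of_pow_mem n h1)
  refine ⟨r * E.det, fun h => (hprime.mem_or_mem h).elim hrm hdetm, fun p => ?_, fun c hc i => ?_⟩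
  · refine ⟨fun i => E.det * σ p i, ?_⟩
    rw [mul_comm, mul_smul, ← hσ p, Finset.smul_sum]
    exact Finset.sum_congr rfl (fun i _ => (mul_smul _ _ _).symm)
  · rw [mul_assoc, hdet c hc i, mul_zero]

end Nak

section Graded

variable {k : Type u} [Field k] {M : Type v} [AddCommGroup M] [DecidableEq M]
    {A : Type w} [CommRing A] [Algebra k A] (𝒜 : M → Submodule k A) [GradedAlgebra 𝒜]
    {P : Type x} [AddCommGroup P] [Module A P] [Module k P]
    (ℳ : M → Submodule k P) [Decomposition ℳ] [SetLike.GradedSMul 𝒜 ℳ]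

theorem decompose_smul_of_mem {ν : M} {p : P} (hp : p ∈ ℳ ν) (a : A) (l : M) :
    (decompose ℳ (a • p) l : P) = (decompose 𝒜 a (l - ν) : A) • p := by
  refine DirectSum.Decomposition.inductionOn 𝒜
    (motive := fun a => (decompose ℳ (a • p) l : P) = (decompose 𝒜 a (l - ν) : A) • p)
    ?_ ?_ ?_ a
  · simp only [zero_smul, decompose_zero, DirectSum.zero_apply, ZeroMemClass.coe_zero]
  · intro κ a
    have hmem : (a : A) • p ∈ ℳ (κ + ν) := by
      have h := SetLike.GradedSMul.smul_mem (A := 𝒜) (B := ℳ) a.2 hp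
      rwa [vadd_eq_add] at h
    by_cases h : κ + ν = l
    · subst h
      rw [decompose_of_mem_same ℳ hmem, add_sub_cancel_right, decompose_of_mem_same 𝒜 a.2]
    · have h' : κ ≠ l - ν := by
        intro h'
        apply h
        rw [h']
        abel
      rw [decompose_of_mem_ne ℳ hmem h, decompose_of_mem_ne 𝒜 a.2 h', zero_smul]
  · intro a b ha hb
    rw [add_smul, decompose_add, DirectSum.add_apply, Submodule.coe_add, ha, hb, decompose_add,
      DirectSum.add_apply, Submodule.coe_add, add_smul]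

theorem coe_decompose_sum {ι : Type*} (s : Finset ι) (g : ι → P) (l : M) :
    (decompose ℳ (∑ i ∈ s, g i) l : P) = ∑ i ∈ s, (decompose ℳ (g i) l : P) := by
  classical
  induction s using Finset.induction_on with
  | empty => simp only [Finset.sum_empty, decompose_zero, DirectSum.zero_apply,
      ZeroMemClass.coe_zero]
  | insert a s ha ih =>
    rw [Finset.sum_insert ha, Finset.sum_insert ha, decompose_add, DirectSum.add_apply,
      Submodule.coe_add, ih]

include 𝒜 in
theorem decompose_mem_span {n : ℕ} (wt : Fin n → M) (f : Fin n → P) (hf : ∀ i, f i ∈ ℳ (wt i))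
    {x : P} (hx : x ∈ Submodule.span A (Set.range f)) (l : M) :
    (decompose ℳ x l : P) ∈ Submodule.span A (Set.range f) := by
  obtain ⟨c, rfl⟩ := (Submodule.mem_span_range_iff_exists_fun A).mp hx
  rw [coe_decompose_sum]
  refine Submodule.sum_mem _ (fun i _ => ?_)
  rw [decompose_smul_of_mem 𝒜 ℳ (hf i)]
  exact Submodule.smul_mem _ _ (Submodule.subset_span ⟨i, rfl⟩)

theorem main [Module.Finite A P] [Module.Projective A P]
    (m : Ideal A) [m.IsMaximal]
    {n : ℕ} (wt : Fin n → M) (f : Fin n → P) (hf : ∀ i, f i ∈ ℳ (wt i))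
    (hli : LinearIndependent (A ⧸ m)
      (fun i => (Submodule.Quotient.mk (f i) : P ⧸ (m • (⊤ : Submodule A P)))))
    (hsp : Submodule.span A (Set.range f) ⊔ m • (⊤ : Submodule A P) = ⊤) :
    ∃ s : A, SetLike.IsHomogeneousElem 𝒜 s ∧ s ∉ m ∧
      (∀ p : P, ∃ (N : ℕ) (c : Fin n → A), s ^ N • p = ∑ i, c i • f i) ∧
      (∀ c : Fin n → A, ∑ i, c i • f i = 0 → ∃ N : ℕ, ∀ i, s ^ N * c i = 0) := by
  classical
  obtain ⟨s', hs'm, ha', hb'⟩ := exists_nonhomog m f hli hsp
  obtain ⟨μ, hμ⟩ : ∃ μ, (decompose 𝒜 s' μ : A) ∉ m := by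
    by_contra hcon
    push Not at hcon
    apply hs'm
    rw [← DirectSum.sum_support_decompose 𝒜 s']
    exact m.sum_mem (fun i _ => hcon i)
  refine ⟨(decompose 𝒜 s' μ : A), ⟨μ, (decompose 𝒜 s' μ).2⟩, hμ, ?_, ?_⟩
  · intro p
    have key : ∀ ν, (decompose 𝒜 s' μ : A) • (decompose ℳ p ν : P) ∈
        Submodule.span A (Set.range f) := by
      intro ν
      have h1 := decompose_smul_of_mem 𝒜 ℳ (decompose ℳ p ν).2 s' (μ + ν)
      rw [add_sub_cancel_right] at h1
      rw [← h1]
      apply decompose_mem_span 𝒜 ℳ wt f hf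
      obtain ⟨c, hc⟩ := ha' (decompose ℳ p ν : P)
      exact (Submodule.mem_span_range_iff_exists_fun A).mpr ⟨c, hc.symm⟩
    have hmem : (decompose 𝒜 s' μ : A) • p ∈ Submodule.span A (Set.range f) := by
      rw [← DirectSum.sum_support_decompose ℳ p, Finset.smul_sum]
      exact Submodule.sum_mem _ (fun ν _ => key ν)
    obtain ⟨c, hc⟩ := (Submodule.mem_span_range_iff_exists_fun A).mp hmem
    exact ⟨1, c, by rw [pow_one]; exact hc.symm⟩
  · intro c hc
    refine ⟨1, fun i => ?_⟩
    rw [pow_one]
    have hl : ∀ l : M, ∑ i, (decompose 𝒜 (c i) (l - wt i) : A) • f i = 0 := by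
      intro l
      have h1 := coe_decompose_sum ℳ Finset.univ (fun i => c i • f i) l
      rw [hc, decompose_zero, DirectSum.zero_apply, ZeroMemClass.coe_zero] at h1
      rw [h1]
      exact Finset.sum_congr rfl (fun i _ => (decompose_smul_of_mem 𝒜 ℳ (hf i) (c i) l).symm)
    have hk : ∀ (i : Fin n) (κ : M),
        (decompose 𝒜 s' μ : A) * (decompose 𝒜 (c i) κ : A) = 0 := by
      intro i κ
      have h1 := hb' _ (hl (κ + wt i)) i
      rw [add_sub_cancel_right] at h1
      have h2 := DirectSum.coe_decompose_mul_add_of_right_mem 𝒜 (a := s')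
        (b := (decompose 𝒜 (c i) κ : A)) (i := μ) (j := κ) (decompose 𝒜 (c i) κ).2
      rw [← h2, h1, decompose_zero, DirectSum.zero_apply, ZeroMemClass.coe_zero]
    rw [← DirectSum.sum_support_decompose 𝒜 (c i), Finset.mul_sum]
    exact Finset.sum_eq_zero (fun κ _ => hk i κ)

end Graded

end Groth.Agent.Helper28.GrFree
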