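import Mathlib
import Groth.Agent.Lib.Helper28.GrModQcoh
import Groth.Agent.Lib.Helper6.QcohFT

/-!
# Finite type of `M~` on `Proj` under (TF), when `Proj` is covered by the `D_+(f)`, `deg f = 1`
(helper28; the degree-one case of `Helper6/TildeFT`, for general gradings)
-/

set_option autoImplicit false
universe u
open DirectSum CategoryTheory CategoryTheory.Limits AlgebraicGeometry Opposite TopologicalSpace

namespace Groth.Agent.Helper28.GrModFT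

open Groth.Agent.Helper28.GrModQcoh

variable {A σ : Type u} [CommRing A] [SetLike σ A] [AddSubgroupClass σ A] (𝒜 : ℕ → σ)
  [GradedRing 𝒜]
variable {M τ : Type u} [AddCommGroup M] [Module A M] [SetLike τ M] [AddSubgroupClass τ M]
  (ℳ : ℕ → τ) [DirectSum.Decomposition ℳ] [SetLike.GradedSMul 𝒜 ℳ]

include 𝒜 in
theorem proj_smul_lt {i : ℕ} {m : M} (hm : m ∈ ℳ i) (a : A) {c : ℕ} (hc : c < i) :
    ((decompose ℳ (a • m) c : ℳ c) : M) = 0 := by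
  classical
  conv_lhs => rw [← DirectSum.sum_support_decompose 𝒜 a, Finset.sum_smul, DirectSum.decompose_sum]
  rw [DFinsupp.finsetSum_apply, AddSubmonoidClass.coe_finsetSum]
  refine Finset.sum_eq_zero (fun j' _ => ?_)
  have hmem : (decompose 𝒜 a j' : A) • m ∈ ℳ (j' + i) :=
    SetLike.GradedSMul.smul_mem (decompose 𝒜 a j').2 hm
  exact DirectSum.decompose_of_mem_ne ℳ hmem (by omega)

/-- the homogeneous coefficient: degree `c - i` component of `a` if `i ≤ c`, else `0`. -/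
noncomputable def hcoef (a : A) (c i : ℕ) : A := if i ≤ c then (decompose 𝒜 a (c - i) : A) else 0

theorem hcoef_mem (a : A) (c i : ℕ) : hcoef 𝒜 a c i ∈ 𝒜 (c - i) := by
  unfold hcoef
  split_ifs
  · exact (decompose 𝒜 a (c - i)).2
  · exact zero_mem _

theorem hcoef_eq_zero (a : A) {c i : ℕ} (h : c < i) : hcoef 𝒜 a c i = 0 := by
  unfold hcoef
  rw [if_neg (by omega)]

theorem proj_smul_eq_hcoef {i : ℕ} {m : M} (hm : m ∈ ℳ i) (a : A) (c : ℕ) :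
    ((decompose ℳ (a • m) c : ℳ c) : M) = hcoef 𝒜 a c i • m := by
  unfold hcoef
  split_ifs with h
  · obtain ⟨j, rfl⟩ : ∃ j, c = j + i := ⟨c - i, by omega⟩
    rw [Groth.Agent.Helper6.GrModFrac.proj_smul 𝒜 ℳ hm a j, Nat.add_sub_cancel]
  · rw [zero_smul]
    exact proj_smul_lt 𝒜 ℳ hm a (by omega)

/-- a homogeneous element which is a combination of homogeneous elements is a combination with
homogeneous coefficients. -/
theorem eq_sum_hcoef {ι : Type*} (I : Finset ι) (a : ι → A) (g : ι → M) (dg : ι → ℕ)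
    (hg : ∀ i ∈ I, g i ∈ ℳ (dg i)) {c : ℕ} {m : M} (hm : m ∈ ℳ c)
    (h : m = ∑ i ∈ I, a i • g i) : m = ∑ i ∈ I, hcoef 𝒜 (a i) c (dg i) • g i := by
  classical
  have h1 : m = ((decompose ℳ m c : ℳ c) : M) := (DirectSum.decompose_of_mem_same ℳ hm).symm
  rw [h1]
  conv_lhs => rw [h, DirectSum.decompose_sum]
  rw [DFinsupp.finsetSum_apply, AddSubmonoidClass.coe_finsetSum]
  exact Finset.sum_congr rfl (fun i hi => proj_smul_eq_hcoef 𝒜 ℳ (hg i hi) (a i) c)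

section sections

variable {f : A} (hf : f ∈ 𝒜 1)

include hf in
theorem pow_mem_one (e : ℕ) : f ^ e ∈ 𝒜 e := by
  simpa [smul_eq_mul] using SetLike.pow_mem_graded e hf

/-- the section `a/f^e` of the structure sheaf over `D₊(f)`. -/
noncomputable def osec (e : ℕ) (a : A) (ha : a ∈ 𝒜 e) : Γ(Proj 𝒜, Proj.basicOpen 𝒜 f) :=
  (Proj.awayToSection 𝒜 f) (HomogeneousLocalization.mk
    ⟨e, ⟨a, ha⟩, ⟨f ^ e, pow_mem_one 𝒜 hf e⟩, ⟨e, rfl⟩⟩)

theorem osec_val (e : ℕ) (a : A) (ha : a ∈ 𝒜 e) (x : ProjectiveSpectrum 𝒜)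
    (hx : f ∉ x.asHomogeneousIdeal) :
    (((osec 𝒜 hf e a ha).1 ⟨x, (ProjectiveSpectrum.mem_basicOpen 𝒜 f x).2 hx⟩ :
      GrTwist.A0 𝒜 x)).val =
      (Localization.mk a ⟨f ^ e, fun h => hx (x.isPrime.mem_of_pow_mem e h)⟩ : GrTwist.Loc 𝒜 x) :=
  rfl

/-- `m ↦ m/f^k`, as an additive map `ℳ k → Γ(M~, D₊(f))`. -/
noncomputable def μ (k : ℕ) : ℳ k →+ Γ(GrMod.tilde 𝒜 ℳ 0, Proj.basicOpen 𝒜 f) where
  toFun m := (fracOn 𝒜 ℳ 0 m ⟨f ^ k, pow_mem_one 𝒜 hf k⟩ (by simp) (Proj.basicOpen 𝒜 f)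
    (fun x h => (ProjectiveSpectrum.mem_basicOpen 𝒜 f x.1).1 x.2 (x.1.isPrime.mem_of_pow_mem k h)) :
    GrMod.sect 𝒜 ℳ 0 (op (Proj.basicOpen 𝒜 f)))
  map_zero' := by
    apply Subtype.ext
    funext x
    apply Subtype.ext
    exact LocalizedModule.zero_mk _
  map_add' m m' := by
    apply Subtype.ext
    funext x
    apply Subtype.ext
    change LocalizedModule.mk (m.1 + m'.1) _ = LocalizedModule.mk m.1 _ + LocalizedModule.mk m'.1 _
    rw [LocalizedModule.mk_add_mk, ← smul_add, LocalizedModule.mk_cancel_common_left]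

theorem osec_smul_μ (e k K : ℕ) (hK : K = e + k) (a : A) (ha : a ∈ 𝒜 e) (m : M)
    (hm : m ∈ ℳ k) (h : a • m ∈ ℳ K) :
    osec 𝒜 hf e a ha • μ 𝒜 ℳ hf k ⟨m, hm⟩ = μ 𝒜 ℳ hf K ⟨a • m, h⟩ := by
  subst hK
  apply Subtype.ext
  funext x
  apply Subtype.ext
  have hxf : f ∉ x.1.asHomogeneousIdeal := (ProjectiveSpectrum.mem_basicOpen 𝒜 f x.1).1 x.2
  change ((((osec 𝒜 hf e a ha).1 x • (μ 𝒜 ℳ hf k ⟨m, hm⟩).1 x :
    GrMod.tildeAt 𝒜 ℳ 0 x.1)) : GrMod.LocMod 𝒜 (M := M) x.1) =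
    (LocalizedModule.mk (a • m) ⟨f ^ (e + k), fun h =>
      hxf (x.1.isPrime.mem_of_pow_mem (e + k) h)⟩ : GrMod.LocMod 𝒜 (M := M) x.1)
  rw [GrMod.coe_smul_val]
  rw [show ((osec 𝒜 hf e a ha).1 x : GrTwist.A0 𝒜 x.1).val = _ from osec_val 𝒜 hf e a ha x.1 hxf]
  change (Localization.mk a _ : GrTwist.Loc 𝒜 x.1) • LocalizedModule.mk m _ = _
  rw [LocalizedModule.mk_smul_mk]
  congr 1
  apply Subtype.ext
  exact (pow_add f e k).symm

include hf in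
open scoped Classical in
/-- the sections of `M~` over `D_+(f)`, `deg f = 1`, form a finitely generated module under (TF). -/
theorem fg_sections_one (n : ℕ) (Gm : Finset M) (dg : M → ℕ) (hGm : ∀ g ∈ Gm, g ∈ ℳ (dg g))
    (htail : ∀ c, n ≤ c → ∀ m ∈ ℳ c, m ∈ Submodule.span A (Gm : Set M)) :
    (⊤ : Submodule Γ(Proj 𝒜, Proj.basicOpen 𝒜 f)
      Γ(GrMod.tilde 𝒜 ℳ 0, Proj.basicOpen 𝒜 f)).FG := by
  let gen : ↥Gm → Γ(GrMod.tilde 𝒜 ℳ 0, Proj.basicOpen 𝒜 f) := fun g =>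
    μ 𝒜 ℳ hf (dg g.1) ⟨g.1, hGm g.1 g.2⟩
  let G : Submodule Γ(Proj 𝒜, Proj.basicOpen 𝒜 f) Γ(GrMod.tilde 𝒜 ℳ 0, Proj.basicOpen 𝒜 f) :=
    Submodule.span _ (Set.range gen)
  have hGfg : G.FG := Submodule.fg_span (Set.finite_range gen)
  rw [← top_le_iff.mp (show ⊤ ≤ G from ?_)]
  · exact hGfg
  intro s _
  obtain ⟨L, q, m, hm, hq, hval⟩ := Groth.Agent.Helper6.GrModFrac.exists_global_frac 𝒜 ℳ 0
    Nat.one_pos hf (s : GrMod.sect 𝒜 ℳ 0 (op (Proj.basicOpen 𝒜 f)))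
  have hqL : q = L := by
    have : (q : ℤ) = ((L : ℕ) : ℤ) := by push_cast at hq ⊢; linarith
    exact_mod_cast this
  subst hqL
  have hm' : f ^ n • m ∈ ℳ (n + q) :=
    SetLike.GradedSMul.smul_mem (pow_mem_one 𝒜 hf n) hm
  have hs : s = μ 𝒜 ℳ hf (n + q) ⟨f ^ n • m, hm'⟩ := by
    apply Subtype.ext
    funext x
    apply Subtype.ext
    have hxf : f ∉ x.1.asHomogeneousIdeal := (ProjectiveSpectrum.mem_basicOpen 𝒜 f x.1).1 x.2
    refine (hval x.1 hxf).trans ?_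
    change _ = (LocalizedModule.mk (f ^ n • m) ⟨f ^ (n + q), fun h =>
      hxf (x.1.isPrime.mem_of_pow_mem (n + q) h)⟩ : GrMod.LocMod 𝒜 (M := M) x.1)
    rw [LocalizedModule.mk_eq]
    refine ⟨1, ?_⟩
    simp only [one_smul, Submonoid.smul_def, smul_smul]
    congr 1
    ring
  rw [hs]
  have hspanm := htail _ (Nat.le_add_right n q) _ hm'
  obtain ⟨cf, -, hcf⟩ := Submodule.mem_span_finset.1 hspanm
  have hdec := eq_sum_hcoef 𝒜 ℳ Gm cf (fun g => g) dg hGm hm' hcf.symm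
  have hterm : ∀ g ∈ Gm, ∃ hmem : hcoef 𝒜 (cf g) (n + q) (dg g) • g ∈ ℳ (n + q),
      μ 𝒜 ℳ hf (n + q) ⟨_, hmem⟩ ∈ G := by
    intro g hg
    by_cases hle : dg g ≤ n + q
    · have hb := hcoef_mem 𝒜 (cf g) (n + q) (dg g)
      have hmem : hcoef 𝒜 (cf g) (n + q) (dg g) • g ∈ ℳ (n + q) := by
        have : hcoef 𝒜 (cf g) (n + q) (dg g) • g ∈ ℳ (n + q - dg g + dg g) :=
          SetLike.GradedSMul.smul_mem hb (hGm g hg)
        rwa [Nat.sub_add_cancel hle] at this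
      refine ⟨hmem, ?_⟩
      rw [← osec_smul_μ 𝒜 ℳ hf (n + q - dg g) (dg g) (n + q) (Nat.sub_add_cancel hle).symm
        _ hb g (hGm g hg) hmem]
      exact G.smul_mem _ (Submodule.subset_span ⟨⟨g, hg⟩, rfl⟩)
    · have hz : hcoef 𝒜 (cf g) (n + q) (dg g) = 0 := hcoef_eq_zero 𝒜 _ (by omega)
      have h0 : hcoef 𝒜 (cf g) (n + q) (dg g) • g = 0 := by rw [hz, zero_smul]
      refine ⟨h0 ▸ zero_mem _, ?_⟩
      have : (⟨hcoef 𝒜 (cf g) (n + q) (dg g) • g, h0 ▸ zero_mem _⟩ : ℳ (n + q)) = 0 :=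
        Subtype.ext h0
      rw [this, map_zero]
      exact zero_mem _
  choose hmem hG using hterm
  have hsum : (⟨f ^ n • m, hm'⟩ : ℳ (n + q)) =
      ∑ g ∈ Gm.attach, ⟨hcoef 𝒜 (cf g.1) (n + q) (dg g.1) • g.1, hmem g.1 g.2⟩ := by
    apply Subtype.ext
    rw [AddSubmonoidClass.coe_finsetSum]
    simp only
    rw [Finset.sum_attach Gm (fun g => hcoef 𝒜 (cf g) (n + q) (dg g) • g)]
    exact hdec
  rw [hsum, map_sum]
  exact G.sum_mem (fun g _ => hG g.1 g.2)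

end sections

set_option backward.isDefEq.respectTransparency false in
/-- under (TF), `M~` is of finite type when `Proj` is covered by the `D_+(f)`, `deg f = 1`. -/
theorem tilde_isFiniteType_of_degree_one
    (hcov : ∀ x : Proj 𝒜, ∃ f ∈ 𝒜 1, f ∉ x.asHomogeneousIdeal)
    (hTF : ∃ n : ℕ, (Submodule.span A (⋃ k ∈ Set.Ici n, (ℳ k : Set M))).FG) :
    SheafOfModules.IsFiniteType (R := (Proj 𝒜).ringCatSheaf) (GrMod.tilde 𝒜 ℳ 0) := by
  classical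
  obtain ⟨n, hn⟩ := hTF
  obtain ⟨Gm, hGsub, hGspan⟩ := (Submodule.fg_span_iff_fg_span_finset_subset _).1 hn
  have hdg : ∀ g ∈ Gm, ∃ k, g ∈ ℳ k := by
    intro g hg
    have := hGsub hg
    simp only [Set.mem_iUnion, SetLike.mem_coe, exists_prop] at this
    obtain ⟨k, _, hk⟩ := this
    exact ⟨k, hk⟩
  choose! dg hdg' using hdg
  have htail : ∀ c, n ≤ c → ∀ m ∈ ℳ c, m ∈ Submodule.span A (Gm : Set M) := by
    intro c hc m hm
    rw [← hGspan]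
    refine Submodule.subset_span ?_
    simp only [Set.mem_iUnion, SetLike.mem_coe, exists_prop]
    exact ⟨c, hc, hm⟩
  haveI := tilde_isQuasicoherent 𝒜 ℳ 0
  refine Groth.Agent.Helper6.QcohLocal.isFiniteType_of_affineOpens (X := Proj 𝒜)
    (GrMod.tilde 𝒜 ℳ 0) (ι := {f : A // f ∈ 𝒜 1})
    (fun i => Proj.basicOpen 𝒜 i.1)
    (fun i => Proj.isAffineOpen_basicOpen 𝒜 i.1 i.2 Nat.one_pos)
    (fun x => ?_) (fun i => inferInstance) (fun i => ?_)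
  · obtain ⟨f, hf, hfx⟩ := hcov x
    exact ⟨⟨f, hf⟩, (ProjectiveSpectrum.mem_basicOpen 𝒜 f x).2 hfx⟩
  · have hfgs := fg_sections_one 𝒜 ℳ i.2 n Gm dg hdg' htail
    obtain ⟨k, t, ht⟩ := Submodule.fg_iff_exists_fin_generating_family.1 hfgs
    exact ⟨k, t, ht⟩

end Groth.Agent.Helper28.GrModFT
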