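import Mathlib
import Groth.Prelude.Def_GrTwist
import Groth.Prelude.Def_Coh
import Groth.Prelude.Def_Pic
import Groth.Agent.Lib.Helper28.GrTwistMul
import Groth.Agent.Lib.Helper28.TwistTensor
import Groth.Agent.Lib.Helper13.TensorPow
import Groth.Agent.Lib.Helper13.GenLocus

/-!
# Port of `Helper28/TwistTensor` to the general-grading twisting sheaves `GrTwist.twist` (helper28)
-/

set_option autoImplicit false
universe u
open CategoryTheory AlgebraicGeometry Opposite TopologicalSpace TopCat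

namespace Groth.Agent.Helper28.GrTwistTensor

open Groth.Agent.Helper13 Groth.Agent.Helper13.QCoh Groth.Agent.Helper13.FinType

variable {A σ : Type u} [CommRing A] [SetLike σ A] [AddSubgroupClass σ A] (𝒜 : ℕ → σ)
  [GradedRing 𝒜]

open GrTwist GrTwistMul

/-! ### products on the fibres -/

theorem mul_mem_twistAt₂ {m n k : ℤ} (h : k = m + n) (x : ProjectiveSpectrum 𝒜)
    {q q' : Loc 𝒜 x} (hq : q ∈ twistAt 𝒜 m x) (hq' : q' ∈ twistAt 𝒜 n x) :
    q * q' ∈ twistAt 𝒜 k x := by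
  induction hq using Submodule.span_induction with
  | mem q hq =>
    obtain ⟨i, j, a, s, hs, hdeg, rfl⟩ := hq
    induction hq' using Submodule.span_induction with
    | mem q' hq' =>
      obtain ⟨i', j', a', s', hs', hdeg', rfl⟩ := hq'
      refine Submodule.subset_span ⟨i + i', j + j',
        ⟨a.1 * a'.1, SetLike.mul_mem_graded a.2 a'.2⟩,
        ⟨s.1 * s'.1, SetLike.mul_mem_graded s.2 s'.2⟩,
        fun hmem => (x.isPrime.mem_or_mem hmem).elim hs hs', ?_, ?_⟩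
      · push_cast; omega
      · rw [Localization.mk_mul]
        rfl
    | zero => rw [mul_zero]; exact Submodule.zero_mem _
    | add a b _ _ ha hb => rw [mul_add]; exact Submodule.add_mem _ ha hb
    | smul c q' _ hq' =>
      rw [mul_smul_comm]
      exact Submodule.smul_mem _ c hq'
  | zero => rw [zero_mul]; exact Submodule.zero_mem _
  | add a b _ _ ha hb => rw [add_mul]; exact Submodule.add_mem _ ha hb
  | smul c q _ hq =>
    rw [smul_mul_assoc]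
    exact Submodule.smul_mem _ c hq

variable {𝒜}

/-- the product of a section of `O(m)` and a section of `O(n)`. -/
def mulSec₂ {m n k : ℤ} (h : k = m + n) (U : (Opens (ProjectiveSpectrum.top 𝒜))ᵒᵖ)
    (s : sectN (𝒜 := 𝒜) m U) (t : sectN (𝒜 := 𝒜) n U) : sectN (𝒜 := 𝒜) k U :=
  ⟨fun x => ⟨(s.1 x).1 * (t.1 x).1, mul_mem_twistAt₂ 𝒜 h x.1 (s.1 x).2 (t.1 x).2⟩, fun x => by
    have hs : (isLocFracN 𝒜 m).pred s.1 := s.2
    have ht : (isLocFracN 𝒜 n).pred t.1 := t.2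
    obtain ⟨Va, ma, ia, i, j, a, b, nina, ca, wa⟩ := hs x
    obtain ⟨Vb, mb, ib, i', j', a', b', ninb, cb, wb⟩ := ht x
    have nin : ∀ y : (Va ⊓ Vb : Opens _), b.1 * b'.1 ∉ y.1.asHomogeneousIdeal := fun y hmem =>
      (y.1.isPrime.mem_or_mem hmem).elim (nina ⟨y.1, y.2.1⟩) (ninb ⟨y.1, y.2.2⟩)
    refine ⟨Va ⊓ Vb, ⟨ma, mb⟩, Opens.infLELeft _ _ ≫ ia, i + i', j + j',
      ⟨a.1 * a'.1, SetLike.mul_mem_graded a.2 a'.2⟩,
      ⟨b.1 * b'.1, SetLike.mul_mem_graded b.2 b'.2⟩, nin, ?_, fun y => ?_⟩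
    · rcases ca with ha | ha
      · rcases cb with hb | hb
        · left; push_cast; omega
        · right
          change a.1 * a'.1 = 0
          rw [hb, mul_zero]
      · right
        change a.1 * a'.1 = 0
        rw [ha, zero_mul]
    · have e1 : (s.1 ((Opens.infLELeft Va Vb ≫ ia) y)).1 =
          Localization.mk a.1 ⟨b.1, nina ⟨y.1, y.2.1⟩⟩ := wa ⟨y.1, y.2.1⟩
      have e2 : (t.1 ((Opens.infLELeft Va Vb ≫ ia) y)).1 =
          Localization.mk a'.1 ⟨b'.1, ninb ⟨y.1, y.2.2⟩⟩ := wb ⟨y.1, y.2.2⟩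
      change (s.1 ((Opens.infLELeft Va Vb ≫ ia) y)).1 * (t.1 ((Opens.infLELeft Va Vb ≫ ia) y)).1 = _
      rw [e1, e2, Localization.mk_mul]
      rfl⟩

theorem mulSec₂_val {m n k : ℤ} (h : k = m + n) (U : (Opens (ProjectiveSpectrum.top 𝒜))ᵒᵖ)
    (s : sectN (𝒜 := 𝒜) m U) (t : sectN (𝒜 := 𝒜) n U) (x : U.unop) :
    ((mulSec₂ h U s t).1 x).1 = (s.1 x).1 * (t.1 x).1 := rfl

theorem mulSec₂_add_left {m n k : ℤ} (h : k = m + n) (U : (Opens (ProjectiveSpectrum.top 𝒜))ᵒᵖ)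
    (s s' : sectN (𝒜 := 𝒜) m U) (t : sectN (𝒜 := 𝒜) n U) :
    mulSec₂ h U (s + s') t = mulSec₂ h U s t + mulSec₂ h U s' t := by
  apply Subtype.ext
  funext x
  apply Subtype.ext
  exact add_mul _ _ _

theorem mulSec₂_add_right {m n k : ℤ} (h : k = m + n) (U : (Opens (ProjectiveSpectrum.top 𝒜))ᵒᵖ)
    (s : sectN (𝒜 := 𝒜) m U) (t t' : sectN (𝒜 := 𝒜) n U) :
    mulSec₂ h U s (t + t') = mulSec₂ h U s t + mulSec₂ h U s t' := by
  apply Subtype.ext
  funext x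
  apply Subtype.ext
  exact mul_add _ _ _

theorem mulSec₂_smul_left {m n k : ℤ} (h : k = m + n) (U : (Opens (ProjectiveSpectrum.top 𝒜))ᵒᵖ)
    (c : O U) (s : sectN (𝒜 := 𝒜) m U) (t : sectN (𝒜 := 𝒜) n U) :
    mulSec₂ h U (c • s) t = c • mulSec₂ h U s t := by
  apply Subtype.ext
  funext x
  apply Subtype.ext
  change ((c.1 x • s.1 x : twistAt 𝒜 m x.1) : Loc 𝒜 x.1) * (t.1 x).1 =
    ((c.1 x • (mulSec₂ h U s t).1 x : twistAt 𝒜 k x.1) : Loc 𝒜 x.1)
  rw [coe_smul_val, coe_smul_val, mulSec₂_val]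
  exact mul_assoc _ _ _

theorem mulSec₂_smul_right {m n k : ℤ} (h : k = m + n) (U : (Opens (ProjectiveSpectrum.top 𝒜))ᵒᵖ)
    (c : O U) (s : sectN (𝒜 := 𝒜) m U) (t : sectN (𝒜 := 𝒜) n U) :
    mulSec₂ h U s (c • t) = c • mulSec₂ h U s t := by
  apply Subtype.ext
  funext x
  apply Subtype.ext
  change (s.1 x).1 * ((c.1 x • t.1 x : twistAt 𝒜 n x.1) : Loc 𝒜 x.1) =
    ((c.1 x • (mulSec₂ h U s t).1 x : twistAt 𝒜 k x.1) : Loc 𝒜 x.1)
  rw [coe_smul_val, coe_smul_val, mulSec₂_val]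
  exact mul_left_comm _ _ _

variable (𝒜)

/-- the multiplication `O(m) × O(n) → O(m+n)` as a bilinear family. -/
noncomputable def mulFamily {m n k : ℤ} (h : k = m + n) :
    Tensor.BilinFamily (GrTwist.twist 𝒜 m) (GrTwist.twist 𝒜 n) (GrTwist.twist 𝒜 k) where
  β U := show Γ(GrTwist.twist 𝒜 m, U) →ₗ[Γ(Proj 𝒜, U)] Γ(GrTwist.twist 𝒜 n, U) →ₗ[Γ(Proj 𝒜, U)]
      Γ(GrTwist.twist 𝒜 k, U) from
    LinearMap.mk₂ Γ(Proj 𝒜, U) (fun s t => mulSec₂ h (op U) s t)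
      (fun s s' t => mulSec₂_add_left h (op U) s s' t)
      (fun c s t => mulSec₂_smul_left h (op U) c s t)
      (fun s t t' => mulSec₂_add_right h (op U) s t t')
      (fun c s t => mulSec₂_smul_right h (op U) c s t)
  res i s t := rfl

/-- the multiplication map `O(m) ⊗ O(n) ⟶ O(m+n)`. -/
noncomputable def mulTensorHom {m n k : ℤ} (h : k = m + n) :
    CohB1.tensorMod (GrTwist.twist 𝒜 m) (GrTwist.twist 𝒜 n) ⟶ GrTwist.twist 𝒜 k :=
  (mulFamily 𝒜 h).hom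

theorem mulTensorHom_app_tmul {m n k : ℤ} (h : k = m + n) (U : (Proj 𝒜).Opens)
    (s : Γ(GrTwist.twist 𝒜 m, U)) (t : Γ(GrTwist.twist 𝒜 n, U)) :
    (mulTensorHom 𝒜 h).app U (Tensor.tmul _ _ s t) = mulSec₂ h (op U) s t :=
  (mulFamily 𝒜 h).hom_app_tmul s t

/-- compatibility of the product with multiplication by a homogeneous element on the first
factor. -/
theorem mulTensorHom_comp_mulHom {e : ℕ} {G : A} (hG : G ∈ 𝒜 e) {m m' n k k' : ℤ}
    (hm : m' = m + e) (hk' : k' = k + e) (h : k = m + n) (h' : k' = m' + n) :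
    mulTensorHom 𝒜 h ≫ mulHom 𝒜 hG hk' =
      Tensor.map (mulHom 𝒜 hG hm) (𝟙 (GrTwist.twist 𝒜 n)) ≫ mulTensorHom 𝒜 h' := by
  apply Tensor.hom_ext
  intro U s t
  rw [Scheme.Modules.Hom.comp_app, ConcreteCategory.comp_apply, mulTensorHom_app_tmul,
    Scheme.Modules.Hom.comp_app, ConcreteCategory.comp_apply, Tensor.map_app_tmul,
    mulTensorHom_app_tmul]
  change mulSec hG hk' (op U) (mulSec₂ h (op U) s t) =
    mulSec₂ h' (op U) (mulSec hG hm (op U) s) t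
  apply Subtype.ext
  funext x
  apply Subtype.ext
  exact (mul_assoc _ _ _).symm

theorem lidHom_eq (n : ℤ) (h : n = 0 + n) :
    Tensor.lidHom (GrTwist.twist 𝒜 n) =
      Tensor.map (zeroHom 𝒜) (𝟙 (GrTwist.twist 𝒜 n)) ≫ mulTensorHom 𝒜 h := by
  apply Tensor.hom_ext
  intro U c t
  rw [Tensor.lidHom_app_tmul, Scheme.Modules.Hom.comp_app, ConcreteCategory.comp_apply,
    Tensor.map_app_tmul, mulTensorHom_app_tmul]
  change ((show O (𝒜 := 𝒜) (op U) from c) • (show sectN (𝒜 := 𝒜) n (op U) from t)) =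
    mulSec₂ h (op U) ((show O (𝒜 := 𝒜) (op U) from c) • oneSec (op U)) t
  apply Subtype.ext
  funext x
  apply Subtype.ext
  change (((show O (𝒜 := 𝒜) (op U) from c).1 x •
      (show sectN (𝒜 := 𝒜) n (op U) from t).1 x : twistAt 𝒜 n x.1) : Loc 𝒜 x.1) =
    ((((show O (𝒜 := 𝒜) (op U) from c) • oneSec (op U) : sectN (𝒜 := 𝒜) 0 (op U))).1 x).1 *
      ((show sectN (𝒜 := 𝒜) n (op U) from t).1 x).1
  rw [coe_smul_val, smul_oneSec_val]

theorem isIso_mulTensorHom_zero (n : ℤ) (h : n = 0 + n) : IsIso (mulTensorHom 𝒜 h) := by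
  have e := lidHom_eq 𝒜 n h
  haveI : IsIso (Tensor.map (zeroHom 𝒜) (𝟙 (GrTwist.twist 𝒜 n))) := by
    change IsIso (Tensor.mapIso (zeroIso 𝒜) (Iso.refl (GrTwist.twist 𝒜 n))).hom
    infer_instance
  haveI : IsIso (Tensor.map (zeroHom 𝒜) (𝟙 (GrTwist.twist 𝒜 n)) ≫ mulTensorHom 𝒜 h) := by
    rw [← e]
    infer_instance
  exact IsIso.of_isIso_comp_left (Tensor.map (zeroHom 𝒜) (𝟙 (GrTwist.twist 𝒜 n)))
    (mulTensorHom 𝒜 h)

theorem isIso_restrict_mulTensorHom_pos {e : ℕ} {G : A} (hG : G ∈ 𝒜 e) {m n k : ℤ}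
    (hm : m = 0 + e) (h : k = m + n) (U : (Proj 𝒜).Opens) (hU : U ≤ Proj.basicOpen 𝒜 G) :
    IsIso ((Scheme.Modules.restrictFunctor U.ι).map (mulTensorHom 𝒜 h)) := by
  have hk' : k = n + e := by omega
  have h0 : n = 0 + n := (zero_add n).symm
  have sq := mulTensorHom_comp_mulHom 𝒜 hG hm hk' h0 h
  have sqF := congrArg (Scheme.Modules.restrictFunctor U.ι).map sq
  rw [Functor.map_comp, Functor.map_comp] at sqF
  haveI := isIso_mulTensorHom_zero 𝒜 n h0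
  haveI i1 := isIso_restrict_mulHom 𝒜 hG hk' U hU
  haveI i2 := isIso_restrict_mulHom 𝒜 hG hm U hU
  haveI i3 : IsIso ((Scheme.Modules.restrictFunctor U.ι).map
      (Tensor.map (mulHom 𝒜 hG hm) (𝟙 (GrTwist.twist 𝒜 n)))) :=
    TwistMul.isIso_restrict_map _ _ U i2 (by rw [CategoryTheory.Functor.map_id]; infer_instance)
  haveI i4 : IsIso ((Scheme.Modules.restrictFunctor U.ι).map
      (Tensor.map (mulHom 𝒜 hG hm) (𝟙 (GrTwist.twist 𝒜 n))) ≫
      (Scheme.Modules.restrictFunctor U.ι).map (mulTensorHom 𝒜 h)) := by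
    rw [← sqF]
    infer_instance
  exact IsIso.of_isIso_comp_left ((Scheme.Modules.restrictFunctor U.ι).map
      (Tensor.map (mulHom 𝒜 hG hm) (𝟙 (GrTwist.twist 𝒜 n)))) _

theorem isIso_restrict_mulTensorHom_neg {e : ℕ} {G : A} (hG : G ∈ 𝒜 e) {m n k : ℤ}
    (hm : (0 : ℤ) = m + e) (h : k = m + n) (U : (Proj 𝒜).Opens)
    (hU : U ≤ Proj.basicOpen 𝒜 G) :
    IsIso ((Scheme.Modules.restrictFunctor U.ι).map (mulTensorHom 𝒜 h)) := by
  have hk' : n = k + e := by omega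
  have h0 : n = 0 + n := (zero_add n).symm
  have sq := mulTensorHom_comp_mulHom 𝒜 hG hm hk' h h0
  have sqF := congrArg (Scheme.Modules.restrictFunctor U.ι).map sq
  rw [Functor.map_comp, Functor.map_comp] at sqF
  haveI := isIso_mulTensorHom_zero 𝒜 n h0
  haveI i1 := isIso_restrict_mulHom 𝒜 hG hk' U hU
  haveI i2 := isIso_restrict_mulHom 𝒜 hG hm U hU
  haveI i3 : IsIso ((Scheme.Modules.restrictFunctor U.ι).map
      (Tensor.map (mulHom 𝒜 hG hm) (𝟙 (GrTwist.twist 𝒜 n)))) :=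
    TwistMul.isIso_restrict_map _ _ U i2 (by rw [CategoryTheory.Functor.map_id]; infer_instance)
  haveI i4 : IsIso ((Scheme.Modules.restrictFunctor U.ι).map (mulTensorHom 𝒜 h) ≫
      (Scheme.Modules.restrictFunctor U.ι).map (mulHom 𝒜 hG hk')) := by
    rw [sqF]
    infer_instance
  exact IsIso.of_isIso_comp_right _ ((Scheme.Modules.restrictFunctor U.ι).map (mulHom 𝒜 hG hk'))

/-- the multiplication `O(m) ⊗ O(n) ⟶ O(m+n)` is an isomorphism as soon as `Proj` is covered by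
opens `D_+(G)` with `deg G = ± m`. -/
theorem isIso_mulTensorHom {m n k : ℤ} (h : k = m + n)
    (hcov : ∀ x : Proj 𝒜, ∃ (e : ℕ) (G : A), G ∈ 𝒜 e ∧ G ∉ x.asHomogeneousIdeal ∧
      (m = 0 + (e : ℤ) ∨ (0 : ℤ) = m + e)) :
    IsIso (mulTensorHom 𝒜 h) := by
  apply LocFree.isIso_of_stalk_bijective
  intro x
  obtain ⟨e, G, hG, hGx, hor⟩ := hcov x
  have hiso : IsIso ((Scheme.Modules.restrictFunctor (Proj.basicOpen 𝒜 G).ι).map
      (mulTensorHom 𝒜 h)) := by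
    rcases hor with hm | hm
    · exact isIso_restrict_mulTensorHom_pos 𝒜 hG hm h _ le_rfl
    · exact isIso_restrict_mulTensorHom_neg 𝒜 hG hm h _ le_rfl
  exact (GenLoc.isIso_restrict_iff _ _).1 hiso x hGx

theorem cov_of_mul {m : ℤ} (x : Proj 𝒜) {d : ℕ} {f : A} (hf : f ∈ 𝒜 d)
    (hfx : f ∉ x.asHomogeneousIdeal) (c : ℤ) (hm : m = c * d) :
    ∃ (e : ℕ) (G : A), G ∈ 𝒜 e ∧ G ∉ x.asHomogeneousIdeal ∧
      (m = 0 + (e : ℤ) ∨ (0 : ℤ) = m + e) := by
  refine ⟨c.natAbs • d, f ^ c.natAbs, SetLike.pow_mem_graded _ hf,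
    fun hmem => hfx (x.isPrime.mem_of_pow_mem _ hmem), ?_⟩
  rcases le_total 0 c with hc | hc
  · left
    rw [hm, zero_add, smul_eq_mul, Nat.cast_mul, Int.natAbs_of_nonneg hc]
  · right
    rw [hm, smul_eq_mul, Nat.cast_mul, Int.ofNat_natAbs_of_nonpos hc]
    ring


end Groth.Agent.Helper28.GrTwistTensor
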