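import Mathlib
import Groth.Prelude.Def_GrTwist
import Groth.Prelude.Def_GrMod3
import Groth.Prelude.Def_Coh
import Groth.Agent.Lib.Helper28.GrTwistTensor

/-!
# Port of `Helper28/TildeMul`, `TildeTensor`, `TildeTwist` to the general-grading modules
`GrMod.tilde` (helper28): the pairing `M(k)~ ⊗ O(n) ⟶ M(k+n)~`
-/

set_option autoImplicit false
universe u
open CategoryTheory AlgebraicGeometry Opposite TopologicalSpace TopCat

namespace Groth.Agent.Helper28.GrModTensor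

open Groth.Agent.Helper13 Groth.Agent.Helper13.QCoh Groth.Agent.Helper13.FinType

variable {A σ : Type u} [CommRing A] [SetLike σ A] [AddSubgroupClass σ A] (𝒜 : ℕ → σ)
  [GradedRing 𝒜]
variable {M τ : Type u} [AddCommGroup M] [Module A M] [SetLike τ M] [AddSubgroupClass τ M]
  (ℳ : ℕ → τ) [SetLike.GradedSMul 𝒜 ℳ]

open GrTwist GrTwistMul GrTwistTensor

/-! ### multiplication by a homogeneous element on the fibres of `M(n)~` -/

theorem a0_smul_comm (x : ProjectiveSpectrum 𝒜) (r : Loc 𝒜 x) (c : A0 𝒜 x)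
    (q : GrMod.LocMod 𝒜 (M := M) x) : r • (c • q) = c • (r • q) := by
  rw [GrMod.a0_smul_def, GrMod.a0_smul_def, smul_comm]

theorem smul_mem_tildeAt {e : ℕ} {g : A} (hg : g ∈ 𝒜 e) {m m' : ℤ} (h : m' = m + e)
    (x : ProjectiveSpectrum 𝒜) {q : GrMod.LocMod 𝒜 (M := M) x}
    (hq : q ∈ GrMod.tildeAt 𝒜 ℳ m x) :
    algebraMap A (Loc 𝒜 x) g • q ∈ GrMod.tildeAt 𝒜 ℳ m' x := by
  induction hq using Submodule.span_induction with
  | mem q hq =>
    obtain ⟨i, j, a, s, hs, hdeg, rfl⟩ := hq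
    refine Submodule.subset_span ⟨e + i, j, ⟨g • a.1, SetLike.GradedSMul.smul_mem hg a.2⟩, s, hs,
      ?_, ?_⟩
    · push_cast; omega
    · rw [← Localization.mk_one_eq_algebraMap, LocalizedModule.mk_smul_mk, one_mul]
  | zero => rw [smul_zero]; exact Submodule.zero_mem _
  | add a b _ _ ha hb => rw [smul_add]; exact Submodule.add_mem _ ha hb
  | smul c q _ hq =>
    rw [a0_smul_comm]
    exact Submodule.smul_mem _ c hq

theorem inv_smul_mem_tildeAt {e : ℕ} {g : A} (hg : g ∈ 𝒜 e) {m m' : ℤ} (h : m' = m + e)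
    (x : ProjectiveSpectrum 𝒜) (hgx : g ∉ x.asHomogeneousIdeal)
    {q : GrMod.LocMod 𝒜 (M := M) x} (hq : q ∈ GrMod.tildeAt 𝒜 ℳ m' x) :
    (Localization.mk 1 ⟨g, hgx⟩ : Loc 𝒜 x) • q ∈ GrMod.tildeAt 𝒜 ℳ m x := by
  induction hq using Submodule.span_induction with
  | mem q hq =>
    obtain ⟨i, j, a, s, hs, hdeg, rfl⟩ := hq
    refine Submodule.subset_span ⟨i, e + j, a, ⟨g * s.1, SetLike.mul_mem_graded hg s.2⟩,
      fun hmem => (x.isPrime.mem_or_mem hmem).elim hgx hs, ?_, ?_⟩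
    · push_cast; omega
    · rw [LocalizedModule.mk_smul_mk, one_smul]
      rfl
  | zero => rw [smul_zero]; exact Submodule.zero_mem _
  | add a b _ _ ha hb => rw [smul_add]; exact Submodule.add_mem _ ha hb
  | smul c q _ hq =>
    rw [a0_smul_comm]
    exact Submodule.smul_mem _ c hq

variable {𝒜 ℳ}

/-- multiplication by the homogeneous element `g` of degree `e`, on sections
`M(m)~(U) → M(m+e)~(U)`. -/
def mulSecT {e : ℕ} {g : A} (hg : g ∈ 𝒜 e) {m m' : ℤ} (h : m' = m + e)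
    (U : (Opens (ProjectiveSpectrum.top 𝒜))ᵒᵖ) (s : GrMod.sect 𝒜 ℳ m U) :
    GrMod.sect 𝒜 ℳ m' U :=
  ⟨fun x => ⟨algebraMap A (Loc 𝒜 x.1) g • (s.1 x).1, smul_mem_tildeAt 𝒜 ℳ hg h x.1 (s.1 x).2⟩,
    fun x => by
    have hs : (GrMod.isLocFrac 𝒜 ℳ m).pred s.1 := s.2
    obtain ⟨V, hxV, iV, i', j, a, t, nin, hor, w⟩ := hs x
    refine ⟨V, hxV, iV, e + i', j, ⟨g • a.1, SetLike.GradedSMul.smul_mem hg a.2⟩, t, nin, ?_,
      fun y => ?_⟩
    · rcases hor with hor | hor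
      · left; push_cast; omega
      · right
        change g • a.1 = 0
        rw [hor, smul_zero]
    · change algebraMap A (Loc 𝒜 (iV y).1) g • (s.1 (iV y)).1 =
        LocalizedModule.mk (g • a.1) ⟨t.1, nin y⟩
      have hw : (s.1 (iV y)).1 = LocalizedModule.mk a.1 ⟨t.1, nin y⟩ := w y
      rw [hw, ← Localization.mk_one_eq_algebraMap, LocalizedModule.mk_smul_mk, one_mul]⟩

theorem mulSecT_val {e : ℕ} {g : A} (hg : g ∈ 𝒜 e) {m m' : ℤ} (h : m' = m + e)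
    (U : (Opens (ProjectiveSpectrum.top 𝒜))ᵒᵖ) (s : GrMod.sect 𝒜 ℳ m U) (x : U.unop) :
    ((mulSecT hg h U s).1 x).1 = algebraMap A (Loc 𝒜 x.1) g • (s.1 x).1 := rfl

theorem mulSecT_add {e : ℕ} {g : A} (hg : g ∈ 𝒜 e) {m m' : ℤ} (h : m' = m + e)
    (U : (Opens (ProjectiveSpectrum.top 𝒜))ᵒᵖ) (s t : GrMod.sect 𝒜 ℳ m U) :
    mulSecT hg h U (s + t) = mulSecT hg h U s + mulSecT hg h U t := by
  apply Subtype.ext
  funext x
  apply Subtype.ext
  exact smul_add _ _ _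

theorem mulSecT_smul {e : ℕ} {g : A} (hg : g ∈ 𝒜 e) {m m' : ℤ} (h : m' = m + e)
    (U : (Opens (ProjectiveSpectrum.top 𝒜))ᵒᵖ) (c : O U) (s : GrMod.sect 𝒜 ℳ m U) :
    mulSecT hg h U (c • s) = c • mulSecT hg h U s := by
  apply Subtype.ext
  funext x
  apply Subtype.ext
  change algebraMap A (Loc 𝒜 x.1) g •
      ((c.1 x • s.1 x : GrMod.tildeAt 𝒜 ℳ m x.1) : GrMod.LocMod 𝒜 (M := M) x.1) =
    ((c.1 x • (mulSecT hg h U s).1 x : GrMod.tildeAt 𝒜 ℳ m' x.1) :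
      GrMod.LocMod 𝒜 (M := M) x.1)
  rw [GrMod.coe_smul_val, GrMod.coe_smul_val, mulSecT_val]
  exact smul_comm _ _ _

theorem mulSecT_bijective {e : ℕ} {g : A} (hg : g ∈ 𝒜 e) {m m' : ℤ} (h : m' = m + e)
    (V : Opens (ProjectiveSpectrum.top 𝒜)) (hV : ∀ x : V, g ∉ x.1.asHomogeneousIdeal) :
    Function.Bijective (mulSecT (ℳ := ℳ) hg h (op V)) := by
  constructor
  · intro s t hst
    apply Subtype.ext
    funext x
    apply Subtype.ext
    have h1 : algebraMap A (Loc 𝒜 x.1) g • (s.1 x).1 = algebraMap A (Loc 𝒜 x.1) g • (t.1 x).1 :=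
      congrArg (fun r : GrMod.sect 𝒜 ℳ m' (op V) => (r.1 x).1) hst
    have hu : IsUnit (algebraMap A (Loc 𝒜 x.1) g) :=
      IsLocalization.map_units (Loc 𝒜 x.1)
        (⟨g, hV x⟩ : x.1.asHomogeneousIdeal.toIdeal.primeCompl)
    exact hu.smul_left_cancel.mp h1
  · intro t
    have ht : (GrMod.isLocFrac 𝒜 ℳ m').pred t.1 := t.2
    refine ⟨⟨fun x => ⟨(Localization.mk 1 ⟨g, hV x⟩ : Loc 𝒜 x.1) • (t.1 x).1,
      inv_smul_mem_tildeAt 𝒜 ℳ hg h x.1 (hV x) (t.1 x).2⟩, fun x => ?_⟩, ?_⟩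
    · obtain ⟨W, hxW, iW, i', j, a, b, nin, hor, w⟩ := ht x
      have nin' : ∀ y : W, g * b.1 ∉ y.1.asHomogeneousIdeal := fun y hmem =>
        (y.1.isPrime.mem_or_mem hmem).elim (hV (iW y)) (nin y)
      refine ⟨W, hxW, iW, i', e + j, a, ⟨g * b.1, SetLike.mul_mem_graded hg b.2⟩, nin', ?_,
        fun y => ?_⟩
      · rcases hor with hor | hor
        · left; push_cast; omega
        · right; exact hor
      · change (Localization.mk 1 ⟨g, hV (iW y)⟩ : Loc 𝒜 (iW y).1) • (t.1 (iW y)).1 =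
          LocalizedModule.mk a.1 ⟨g * b.1, nin' y⟩
        have hw : (t.1 (iW y)).1 = LocalizedModule.mk a.1 ⟨b.1, nin y⟩ := w y
        rw [hw, LocalizedModule.mk_smul_mk, one_smul]
        rfl
    · apply Subtype.ext
      funext x
      apply Subtype.ext
      change algebraMap A (Loc 𝒜 x.1) g • ((Localization.mk 1 ⟨g, hV x⟩ : Loc 𝒜 x.1) • (t.1 x).1) =
        (t.1 x).1
      have h2 : algebraMap A (Loc 𝒜 x.1) g * Localization.mk 1 ⟨g, hV x⟩ = 1 := by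
        rw [← Localization.mk_one_eq_algebraMap, Localization.mk_mul, mul_one, one_mul]
        exact Localization.mk_self (⟨g, hV x⟩ : x.1.asHomogeneousIdeal.toIdeal.primeCompl)
      rw [smul_smul, h2, one_smul]

variable (𝒜 ℳ)

/-- multiplication by the homogeneous element `g` of degree `e`, as a morphism
`M(m)~ ⟶ M(m + e)~`. -/
noncomputable def mulHomT {e : ℕ} {g : A} (hg : g ∈ 𝒜 e) {m m' : ℤ} (h : m' = m + e) :
    GrMod.tilde 𝒜 ℳ m ⟶ GrMod.tilde 𝒜 ℳ m' :=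
  (⟨PresheafOfModules.homMk (M₁ := GrMod.tildePMod 𝒜 ℳ m) (M₂ := GrMod.tildePMod 𝒜 ℳ m')
    { app := fun U => AddCommGrpCat.ofHom
        { toFun := mulSecT hg h U
          map_zero' := by
            have h0 := mulSecT_add (ℳ := ℳ) hg h U 0 0
            rw [add_zero] at h0
            exact left_eq_add.mp h0
          map_add' := mulSecT_add hg h U }
      naturality := fun U V i => by ext s; rfl }
    (fun U c s => mulSecT_smul hg h U c s)⟩ : SheafOfModules.Hom _ _)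

theorem mulHomT_app {e : ℕ} {g : A} (hg : g ∈ 𝒜 e) {m m' : ℤ} (h : m' = m + e)
    (V : (Proj 𝒜).Opens) (s : Γ(GrMod.tilde 𝒜 ℳ m, V)) :
    (mulHomT 𝒜 ℳ hg h).app V s = mulSecT hg h (op V) s := rfl

/-- multiplication by `g` is an isomorphism after restriction to an open contained in `D_+(g)`. -/
theorem isIso_restrict_mulHomT {e : ℕ} {g : A} (hg : g ∈ 𝒜 e) {m m' : ℤ} (h : m' = m + e)
    (V : (Proj 𝒜).Opens) (hV : V ≤ Proj.basicOpen 𝒜 g) :
    IsIso ((Scheme.Modules.restrictFunctor V.ι).map (mulHomT 𝒜 ℳ hg h)) := by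
  rw [Scheme.Modules.Hom.isIso_iff_isIso_app]
  intro W
  rw [ConcreteCategory.isIso_iff_bijective]
  have hW : ∀ x : (V.ι ''ᵁ W : (Proj 𝒜).Opens), g ∉ x.1.asHomogeneousIdeal := by
    intro x
    have hx : x.1 ∈ Proj.basicOpen 𝒜 g := hV (V.ι_image_le W x.2)
    exact (Proj.mem_basicOpen 𝒜 g x.1).mp hx
  exact mulSecT_bijective hg h (V.ι ''ᵁ W) hW


/-! ### the pairing `M(k)~ × O(n) → M(k+n)~` on the fibres -/

theorem smul_mem_tildeAt₂ {k n k' : ℤ} (h : k' = k + n) (x : ProjectiveSpectrum 𝒜)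
    {c : Loc 𝒜 x} {q : GrMod.LocMod 𝒜 (M := M) x} (hc : c ∈ twistAt 𝒜 n x)
    (hq : q ∈ GrMod.tildeAt 𝒜 ℳ k x) : c • q ∈ GrMod.tildeAt 𝒜 ℳ k' x := by
  induction hc using Submodule.span_induction with
  | mem c hc =>
    obtain ⟨i, j, a, s, hs, hdeg, rfl⟩ := hc
    induction hq using Submodule.span_induction with
    | mem q hq =>
      obtain ⟨i', j', m, s', hs', hdeg', rfl⟩ := hq
      refine Submodule.subset_span ⟨i + i', j + j',
        ⟨a.1 • m.1, SetLike.GradedSMul.smul_mem a.2 m.2⟩,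
        ⟨s.1 * s'.1, SetLike.mul_mem_graded s.2 s'.2⟩,
        fun hmem => (x.isPrime.mem_or_mem hmem).elim hs hs', ?_, ?_⟩
      · push_cast; omega
      · rw [LocalizedModule.mk_smul_mk]
        rfl
    | zero => rw [smul_zero]; exact Submodule.zero_mem _
    | add a b _ _ ha hb => rw [smul_add]; exact Submodule.add_mem _ ha hb
    | smul c0 q' _ hq' =>
      rw [a0_smul_comm]
      exact Submodule.smul_mem _ c0 hq'
  | zero => rw [zero_smul]; exact Submodule.zero_mem _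
  | add a b _ _ ha hb => rw [add_smul]; exact Submodule.add_mem _ ha hb
  | smul c0 c _ hc =>
    have h1 : (c0 • c) • q = c0 • (c • q) := by
      rw [Algebra.smul_def, HomogeneousLocalization.algebraMap_apply, mul_smul,
        GrMod.a0_smul_def]
    rw [h1]
    exact Submodule.smul_mem _ c0 hc

variable {𝒜 ℳ}

/-- the product of a section of `M(k)~` and a section of `O(n)`. -/
def mulSec₂T {k n k' : ℤ} (h : k' = k + n) (U : (Opens (ProjectiveSpectrum.top 𝒜))ᵒᵖ)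
    (s : GrMod.sect 𝒜 ℳ k U) (t : sectN (𝒜 := 𝒜) n U) : GrMod.sect 𝒜 ℳ k' U :=
  ⟨fun x => ⟨(t.1 x).1 • (s.1 x).1, smul_mem_tildeAt₂ 𝒜 ℳ h x.1 (t.1 x).2 (s.1 x).2⟩, fun x => by
    have hs : (GrMod.isLocFrac 𝒜 ℳ k).pred s.1 := s.2
    have ht : (isLocFracN 𝒜 n).pred t.1 := t.2
    obtain ⟨Va, ma, ia, i, j, a, b, nina, ca, wa⟩ := hs x
    obtain ⟨Vb, mb, ib, i', j', a', b', ninb, cb, wb⟩ := ht x
    have nin : ∀ y : (Va ⊓ Vb : Opens _), b'.1 * b.1 ∉ y.1.asHomogeneousIdeal := fun y hmem =>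
      (y.1.isPrime.mem_or_mem hmem).elim (ninb ⟨y.1, y.2.2⟩) (nina ⟨y.1, y.2.1⟩)
    refine ⟨Va ⊓ Vb, ⟨ma, mb⟩, Opens.infLELeft _ _ ≫ ia, i' + i, j' + j,
      ⟨a'.1 • a.1, SetLike.GradedSMul.smul_mem a'.2 a.2⟩,
      ⟨b'.1 * b.1, SetLike.mul_mem_graded b'.2 b.2⟩, nin, ?_, fun y => ?_⟩
    · rcases ca with ha | ha
      · rcases cb with hb | hb
        · left; push_cast; omega
        · right
          change a'.1 • a.1 = 0
          rw [hb, zero_smul]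
      · right
        change a'.1 • a.1 = 0
        rw [ha, smul_zero]
    · have e1 : (s.1 ((Opens.infLELeft Va Vb ≫ ia) y)).1 =
          LocalizedModule.mk a.1 ⟨b.1, nina ⟨y.1, y.2.1⟩⟩ := wa ⟨y.1, y.2.1⟩
      have e2 : (t.1 ((Opens.infLELeft Va Vb ≫ ia) y)).1 =
          Localization.mk a'.1 ⟨b'.1, ninb ⟨y.1, y.2.2⟩⟩ := wb ⟨y.1, y.2.2⟩
      change (t.1 ((Opens.infLELeft Va Vb ≫ ia) y)).1 • (s.1 ((Opens.infLELeft Va Vb ≫ ia) y)).1 = _
      rw [e1, e2, LocalizedModule.mk_smul_mk]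
      rfl⟩

theorem mulSec₂T_val {k n k' : ℤ} (h : k' = k + n) (U : (Opens (ProjectiveSpectrum.top 𝒜))ᵒᵖ)
    (s : GrMod.sect 𝒜 ℳ k U) (t : sectN (𝒜 := 𝒜) n U) (x : U.unop) :
    ((mulSec₂T h U s t).1 x).1 = (t.1 x).1 • (s.1 x).1 := rfl

theorem mulSec₂T_add_left {k n k' : ℤ} (h : k' = k + n)
    (U : (Opens (ProjectiveSpectrum.top 𝒜))ᵒᵖ) (s s' : GrMod.sect 𝒜 ℳ k U)
    (t : sectN (𝒜 := 𝒜) n U) :
    mulSec₂T h U (s + s') t = mulSec₂T h U s t + mulSec₂T h U s' t := by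
  apply Subtype.ext
  funext x
  apply Subtype.ext
  exact smul_add _ _ _

theorem mulSec₂T_add_right {k n k' : ℤ} (h : k' = k + n)
    (U : (Opens (ProjectiveSpectrum.top 𝒜))ᵒᵖ) (s : GrMod.sect 𝒜 ℳ k U)
    (t t' : sectN (𝒜 := 𝒜) n U) :
    mulSec₂T h U s (t + t') = mulSec₂T h U s t + mulSec₂T h U s t' := by
  apply Subtype.ext
  funext x
  apply Subtype.ext
  exact add_smul _ _ _

theorem mulSec₂T_smul_left {k n k' : ℤ} (h : k' = k + n)
    (U : (Opens (ProjectiveSpectrum.top 𝒜))ᵒᵖ) (c : O U) (s : GrMod.sect 𝒜 ℳ k U)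
    (t : sectN (𝒜 := 𝒜) n U) :
    mulSec₂T h U (c • s) t = c • mulSec₂T h U s t := by
  apply Subtype.ext
  funext x
  apply Subtype.ext
  change (t.1 x).1 • ((c.1 x • s.1 x : GrMod.tildeAt 𝒜 ℳ k x.1) :
      GrMod.LocMod 𝒜 (M := M) x.1) =
    ((c.1 x • (mulSec₂T h U s t).1 x : GrMod.tildeAt 𝒜 ℳ k' x.1) :
      GrMod.LocMod 𝒜 (M := M) x.1)
  rw [GrMod.coe_smul_val, GrMod.coe_smul_val, mulSec₂T_val]
  exact smul_comm _ _ _

theorem mulSec₂T_smul_right {k n k' : ℤ} (h : k' = k + n)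
    (U : (Opens (ProjectiveSpectrum.top 𝒜))ᵒᵖ) (c : O U) (s : GrMod.sect 𝒜 ℳ k U)
    (t : sectN (𝒜 := 𝒜) n U) :
    mulSec₂T h U s (c • t) = c • mulSec₂T h U s t := by
  apply Subtype.ext
  funext x
  apply Subtype.ext
  change ((c.1 x • t.1 x : twistAt 𝒜 n x.1) : Loc 𝒜 x.1) • (s.1 x).1 =
    ((c.1 x • (mulSec₂T h U s t).1 x : GrMod.tildeAt 𝒜 ℳ k' x.1) :
      GrMod.LocMod 𝒜 (M := M) x.1)
  rw [GrTwist.coe_smul_val, GrMod.coe_smul_val, mulSec₂T_val]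
  exact mul_smul _ _ _

variable (𝒜 ℳ)

/-- the pairing `M(k)~ × O(n) → M(k+n)~` as a bilinear family. -/
noncomputable def mulFamilyT {k n k' : ℤ} (h : k' = k + n) :
    Tensor.BilinFamily (GrMod.tilde 𝒜 ℳ k) (GrTwist.twist 𝒜 n) (GrMod.tilde 𝒜 ℳ k') where
  β U := show Γ(GrMod.tilde 𝒜 ℳ k, U) →ₗ[Γ(Proj 𝒜, U)] Γ(GrTwist.twist 𝒜 n, U) →ₗ[Γ(Proj 𝒜, U)]
      Γ(GrMod.tilde 𝒜 ℳ k', U) from
    LinearMap.mk₂ Γ(Proj 𝒜, U) (fun s t => mulSec₂T h (op U) s t)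
      (fun s s' t => mulSec₂T_add_left h (op U) s s' t)
      (fun c s t => mulSec₂T_smul_left h (op U) c s t)
      (fun s t t' => mulSec₂T_add_right h (op U) s t t')
      (fun c s t => mulSec₂T_smul_right h (op U) c s t)
  res i s t := rfl

/-- the multiplication map `M(k)~ ⊗ O(n) ⟶ M(k+n)~`. -/
noncomputable def mulTensorHomT {k n k' : ℤ} (h : k' = k + n) :
    CohB1.tensorMod (GrMod.tilde 𝒜 ℳ k) (GrTwist.twist 𝒜 n) ⟶ GrMod.tilde 𝒜 ℳ k' :=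
  (mulFamilyT 𝒜 ℳ h).hom

theorem mulTensorHomT_app_tmul {k n k' : ℤ} (h : k' = k + n) (U : (Proj 𝒜).Opens)
    (s : Γ(GrMod.tilde 𝒜 ℳ k, U)) (t : Γ(GrTwist.twist 𝒜 n, U)) :
    (mulTensorHomT 𝒜 ℳ h).app U (Tensor.tmul _ _ s t) = mulSec₂T h (op U) s t :=
  (mulFamilyT 𝒜 ℳ h).hom_app_tmul s t

/-- compatibility of the pairing with multiplication by a homogeneous element on the second
factor. -/
theorem mulTensorHomT_comp_mulHomT {e : ℕ} {G : A} (hG : G ∈ 𝒜 e) {k n n' k' k'' : ℤ}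
    (hn : n' = n + e) (hk : k'' = k' + e) (h : k' = k + n) (h' : k'' = k + n') :
    mulTensorHomT 𝒜 ℳ h ≫ mulHomT 𝒜 ℳ hG hk =
      Tensor.map (𝟙 (GrMod.tilde 𝒜 ℳ k)) (mulHom 𝒜 hG hn) ≫ mulTensorHomT 𝒜 ℳ h' := by
  apply Tensor.hom_ext
  intro U s t
  rw [Scheme.Modules.Hom.comp_app, ConcreteCategory.comp_apply, mulTensorHomT_app_tmul,
    Scheme.Modules.Hom.comp_app, ConcreteCategory.comp_apply, Tensor.map_app_tmul,
    mulTensorHomT_app_tmul]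
  change mulSecT hG hk (op U) (mulSec₂T h (op U) s t) =
    mulSec₂T h' (op U) s (mulSec hG hn (op U) t)
  apply Subtype.ext
  funext x
  apply Subtype.ext
  exact (mul_smul _ _ _).symm

theorem ridHom_eq (k : ℤ) (h : k = k + 0) :
    (Tensor.rid (GrMod.tilde 𝒜 ℳ k)).hom =
      Tensor.map (𝟙 (GrMod.tilde 𝒜 ℳ k)) (zeroHom 𝒜) ≫ mulTensorHomT 𝒜 ℳ h := by
  apply Tensor.hom_ext
  intro U t c
  rw [Tensor.rid_hom_app_tmul, Scheme.Modules.Hom.comp_app, ConcreteCategory.comp_apply,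
    Tensor.map_app_tmul, mulTensorHomT_app_tmul]
  change ((show O (𝒜 := 𝒜) (op U) from c) • (show GrMod.sect 𝒜 ℳ k (op U) from t)) =
    mulSec₂T h (op U) t ((show O (𝒜 := 𝒜) (op U) from c) • oneSec (op U))
  apply Subtype.ext
  funext x
  apply Subtype.ext
  change (((show O (𝒜 := 𝒜) (op U) from c).1 x •
      (show GrMod.sect 𝒜 ℳ k (op U) from t).1 x : GrMod.tildeAt 𝒜 ℳ k x.1) :
        GrMod.LocMod 𝒜 (M := M) x.1) =
    ((((show O (𝒜 := 𝒜) (op U) from c) • oneSec (op U) : sectN (𝒜 := 𝒜) 0 (op U))).1 x).1 •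
      ((show GrMod.sect 𝒜 ℳ k (op U) from t).1 x).1
  rw [GrMod.coe_smul_val, smul_oneSec_val]

theorem isIso_mulTensorHomT_zero (k : ℤ) (h : k = k + 0) : IsIso (mulTensorHomT 𝒜 ℳ h) := by
  have e := ridHom_eq 𝒜 ℳ k h
  haveI : IsIso (Tensor.map (𝟙 (GrMod.tilde 𝒜 ℳ k)) (zeroHom 𝒜)) := by
    change IsIso (Tensor.mapIso (Iso.refl (GrMod.tilde 𝒜 ℳ k)) (zeroIso 𝒜)).hom
    infer_instance
  haveI : IsIso (Tensor.map (𝟙 (GrMod.tilde 𝒜 ℳ k)) (zeroHom 𝒜) ≫ mulTensorHomT 𝒜 ℳ h) := by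
    rw [← e]
    infer_instance
  exact IsIso.of_isIso_comp_left (Tensor.map (𝟙 (GrMod.tilde 𝒜 ℳ k)) (zeroHom 𝒜))
    (mulTensorHomT 𝒜 ℳ h)

/-- over an open of `D_+(G)`, the pairings for `O(n)` and `O(n + deg G)` are isomorphisms
simultaneously. -/
theorem isIso_restrict_mulTensorHomT_iff {e : ℕ} {G : A} (hG : G ∈ 𝒜 e) {k n n' k' k'' : ℤ}
    (hn : n' = n + e) (h : k' = k + n) (h' : k'' = k + n') (U : (Proj 𝒜).Opens)
    (hU : U ≤ Proj.basicOpen 𝒜 G) :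
    IsIso ((Scheme.Modules.restrictFunctor U.ι).map (mulTensorHomT 𝒜 ℳ h)) ↔
      IsIso ((Scheme.Modules.restrictFunctor U.ι).map (mulTensorHomT 𝒜 ℳ h')) := by
  have hk : k'' = k' + e := by omega
  have sq := mulTensorHomT_comp_mulHomT 𝒜 ℳ hG hn hk h h'
  have sqF := congrArg (Scheme.Modules.restrictFunctor U.ι).map sq
  rw [Functor.map_comp, Functor.map_comp] at sqF
  haveI i1 := isIso_restrict_mulHomT 𝒜 ℳ hG hk U hU
  haveI i2 := isIso_restrict_mulHom 𝒜 hG hn U hU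
  haveI i3 : IsIso ((Scheme.Modules.restrictFunctor U.ι).map
      (Tensor.map (𝟙 (GrMod.tilde 𝒜 ℳ k)) (mulHom 𝒜 hG hn))) :=
    TwistMul.isIso_restrict_map _ _ U (by rw [CategoryTheory.Functor.map_id]; infer_instance) i2
  constructor
  · intro hiso
    haveI := hiso
    haveI i4 : IsIso ((Scheme.Modules.restrictFunctor U.ι).map
        (Tensor.map (𝟙 (GrMod.tilde 𝒜 ℳ k)) (mulHom 𝒜 hG hn)) ≫
        (Scheme.Modules.restrictFunctor U.ι).map (mulTensorHomT 𝒜 ℳ h')) := by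
      rw [← sqF]
      infer_instance
    exact IsIso.of_isIso_comp_left ((Scheme.Modules.restrictFunctor U.ι).map
      (Tensor.map (𝟙 (GrMod.tilde 𝒜 ℳ k)) (mulHom 𝒜 hG hn))) _
  · intro hiso
    haveI := hiso
    haveI i4 : IsIso ((Scheme.Modules.restrictFunctor U.ι).map (mulTensorHomT 𝒜 ℳ h) ≫
        (Scheme.Modules.restrictFunctor U.ι).map (mulHomT 𝒜 ℳ hG hk)) := by
      rw [sqF]
      infer_instance
    exact IsIso.of_isIso_comp_right _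
      ((Scheme.Modules.restrictFunctor U.ι).map (mulHomT 𝒜 ℳ hG hk))


theorem isIso_restrict_mulTensorHomT_pos {e : ℕ} {G : A} (hG : G ∈ 𝒜 e) {k n k' : ℤ}
    (hn : n = 0 + e) (h : k' = k + n) (U : (Proj 𝒜).Opens) (hU : U ≤ Proj.basicOpen 𝒜 G) :
    IsIso ((Scheme.Modules.restrictFunctor U.ι).map (mulTensorHomT 𝒜 ℳ h)) := by
  have h0 : k = k + 0 := (add_zero k).symm
  haveI := isIso_mulTensorHomT_zero 𝒜 ℳ k h0
  exact (isIso_restrict_mulTensorHomT_iff 𝒜 ℳ hG hn h0 h U hU).mp inferInstance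

theorem isIso_restrict_mulTensorHomT_neg {e : ℕ} {G : A} (hG : G ∈ 𝒜 e) {k n k' : ℤ}
    (hn : (0 : ℤ) = n + e) (h : k' = k + n) (U : (Proj 𝒜).Opens)
    (hU : U ≤ Proj.basicOpen 𝒜 G) :
    IsIso ((Scheme.Modules.restrictFunctor U.ι).map (mulTensorHomT 𝒜 ℳ h)) := by
  have h0 : k = k + 0 := (add_zero k).symm
  haveI := isIso_mulTensorHomT_zero 𝒜 ℳ k h0
  exact (isIso_restrict_mulTensorHomT_iff 𝒜 ℳ hG hn h h0 U hU).mpr inferInstance

/-- the pairing `M(k)~ ⊗ O(n) ⟶ M(k+n)~` is an isomorphism as soon as `Proj` is covered by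
opens `D_+(G)` with `deg G = ± n`. -/
theorem isIso_mulTensorHomT {k n k' : ℤ} (h : k' = k + n)
    (hcov : ∀ x : Proj 𝒜, ∃ (e : ℕ) (G : A), G ∈ 𝒜 e ∧ G ∉ x.asHomogeneousIdeal ∧
      (n = 0 + (e : ℤ) ∨ (0 : ℤ) = n + e)) :
    IsIso (mulTensorHomT 𝒜 ℳ h) := by
  apply LocFree.isIso_of_stalk_bijective
  intro x
  obtain ⟨e, G, hG, hGx, hor⟩ := hcov x
  have hiso : IsIso ((Scheme.Modules.restrictFunctor (Proj.basicOpen 𝒜 G).ι).map
      (mulTensorHomT 𝒜 ℳ h)) := by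
    rcases hor with hm | hm
    · exact isIso_restrict_mulTensorHomT_pos 𝒜 ℳ hG hm h _ le_rfl
    · exact isIso_restrict_mulTensorHomT_neg 𝒜 ℳ hG hm h _ le_rfl
  exact (GenLoc.isIso_restrict_iff _ _).1 hiso x hGx


end Groth.Agent.Helper28.GrModTensor
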