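import Mathlib
import Groth.Prelude.Def_RelProj3
import Groth.Agent.Lib.Helper28.RelSys
import Groth.Agent.Lib.Helper28.RelTwistTriv
import Groth.Agent.Lib.Helper28.GrTwistTensor
import Groth.Agent.Lib.Helper13.TensorRestrict

/-!
# The multiplication `O_P(m) ⊗ O_P(n) ⟶ O_P(m+n)` on a relative `Proj` (helper28)

The twisting sheaves are given through their chartwise identifications (`RelProj.IsRelTwist`);
the multiplication is glued from the chartwise products of sections.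
-/

set_option autoImplicit false
universe u
open CategoryTheory CategoryTheory.Limits AlgebraicGeometry Opposite TopologicalSpace
open scoped HomogeneousIdeal

noncomputable section

namespace Groth.Agent.Helper28.RelSys

open ChartGlue GrTwist GrTwistMul GrTwistTensor Groth.Agent.Helper13

section General

variable {X : Scheme.{u}}

lemma app_bijective_of_isIso {M N : X.Modules} (φ : M ⟶ N) [hi : IsIso φ] (W : X.Opens) :
    Function.Bijective (φ.app W) := by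
  have h := (Scheme.Modules.Hom.isIso_iff_isIso_app (φ := φ)).1 hi W
  rwa [ConcreteCategory.isIso_iff_bijective] at h

lemma app_bijective_of_isIso_restrict {M N : X.Modules} (φ : M ⟶ N) (U : X.Opens)
    (hi : IsIso ((Scheme.Modules.restrictFunctor U.ι).map φ)) (W : X.Opens) (hW : W ≤ U) :
    Function.Bijective (φ.app W) := by
  haveI := hi
  have h1 : Function.Bijective (φ.app (U.ι ''ᵁ (U.ι ⁻¹ᵁ W))) :=
    app_bijective_of_isIso ((Scheme.Modules.restrictFunctor U.ι).map φ) (U.ι ⁻¹ᵁ W)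
  have e : U.ι ''ᵁ (U.ι ⁻¹ᵁ W) = W := by
    rw [Scheme.Hom.image_preimage_eq_opensRange_inf, Scheme.Opens.opensRange_ι]
    exact inf_eq_right.2 hW
  rw [e] at h1
  exact h1

/-- restrict, then apply a morphism. -/
def rl {M N : X.Modules} (φ : M ⟶ N) {W W' : X.Opens} (h1 : W' ≤ W) (s : Γ(M, W)) : Γ(N, W') :=
  φ.app W' (rs M h1 s)

lemma rl_add {M N : X.Modules} (φ : M ⟶ N) {W W' : X.Opens} (h1 : W' ≤ W) (s t : Γ(M, W)) :
    rl φ h1 (s + t) = rl φ h1 s + rl φ h1 t := by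
  unfold rl
  rw [rs_add, map_add]

lemma rl_smul {M N : X.Modules} (φ : M ⟶ N) {W W' : X.Opens} (h1 : W' ≤ W) (c : Γ(X, W))
    (s : Γ(M, W)) :
    rl φ h1 (c • s) = X.presheaf.map (homOfLE h1).op c • rl φ h1 s := by
  unfold rl
  rw [rs_smul, Scheme.Modules.Hom.app_smul]

lemma rl_rs {M N : X.Modules} (φ : M ⟶ N) {W W' W'' : X.Opens} (h : W' ≤ W) (h1 : W'' ≤ W')
    (s : Γ(M, W)) : rl φ h1 (rs M h s) = rl φ (h1.trans h) s := by
  unfold rl
  rw [rs_rs]

lemma rs_rl {M N : X.Modules} (φ : M ⟶ N) {W W' W'' : X.Opens} (h1 : W' ≤ W) (h' : W'' ≤ W')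
    (s : Γ(M, W)) : rs N h' (rl φ h1 s) = rl φ (h'.trans h1) s := by
  unfold rl
  rw [← app_rs, rs_rs]

lemma rl_self {M N : X.Modules} (φ : M ⟶ N) {W : X.Opens} (h : W ≤ W) (s : Γ(M, W)) :
    rl φ h s = φ.app W s := by
  unfold rl
  rw [rs_self]

end General

variable {S : Scheme.{u}} (𝒮 : RelProj.QCGrAlg S) {P : Scheme.{u}} (p : P ⟶ S)
  (chart : ∀ (U : S.Opens) (hU : IsAffineOpen U),
    (((p ⁻¹ᵁ U : P.Opens) : Scheme.{u}) ≅ Proj (𝒮.deg U hU)))

/-! ### products of sections of the targets -/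

/-- the product of sections of the targets. -/
def mulT {m n k : ℤ} (h : k = m + n) (U : Aff S) (W : P.Opens)
    (a : Γ(twN 𝒮 p chart m U, W)) (b : Γ(twN 𝒮 p chart n U, W)) : Γ(twN 𝒮 p chart k U, W) :=
  mulSec₂ (𝒜 := 𝒮.deg U.1 U.2) h (op (RelProj.emb p chart U.1 U.2 ⁻¹ᵁ W)) a b

lemma mulT_add_left {m n k : ℤ} (h : k = m + n) (U : Aff S) (W : P.Opens)
    (a a' : Γ(twN 𝒮 p chart m U, W)) (b : Γ(twN 𝒮 p chart n U, W)) :
    mulT 𝒮 p chart h U W (a + a') b = mulT 𝒮 p chart h U W a b + mulT 𝒮 p chart h U W a' b :=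
  mulSec₂_add_left (𝒜 := 𝒮.deg U.1 U.2) h _ a a' b

lemma mulT_add_right {m n k : ℤ} (h : k = m + n) (U : Aff S) (W : P.Opens)
    (a : Γ(twN 𝒮 p chart m U, W)) (b b' : Γ(twN 𝒮 p chart n U, W)) :
    mulT 𝒮 p chart h U W a (b + b') = mulT 𝒮 p chart h U W a b + mulT 𝒮 p chart h U W a b' :=
  mulSec₂_add_right (𝒜 := 𝒮.deg U.1 U.2) h _ a b b'

lemma mulT_smul_left {m n k : ℤ} (h : k = m + n) (U : Aff S) (W : P.Opens) (c : Γ(P, W))
    (a : Γ(twN 𝒮 p chart m U, W)) (b : Γ(twN 𝒮 p chart n U, W)) :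
    mulT 𝒮 p chart h U W (c • a) b = c • mulT 𝒮 p chart h U W a b :=
  mulSec₂_smul_left (𝒜 := 𝒮.deg U.1 U.2) h _
    (show O (𝒜 := 𝒮.deg U.1 U.2) (op (RelProj.emb p chart U.1 U.2 ⁻¹ᵁ W)) from
      ((RelProj.emb p chart U.1 U.2).app W).hom c) a b

lemma mulT_smul_right {m n k : ℤ} (h : k = m + n) (U : Aff S) (W : P.Opens) (c : Γ(P, W))
    (a : Γ(twN 𝒮 p chart m U, W)) (b : Γ(twN 𝒮 p chart n U, W)) :
    mulT 𝒮 p chart h U W a (c • b) = c • mulT 𝒮 p chart h U W a b :=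
  mulSec₂_smul_right (𝒜 := 𝒮.deg U.1 U.2) h _
    (show O (𝒜 := 𝒮.deg U.1 U.2) (op (RelProj.emb p chart U.1 U.2 ⁻¹ᵁ W)) from
      ((RelProj.emb p chart U.1 U.2).app W).hom c) a b

lemma mulT_rs {m n k : ℤ} (h : k = m + n) (U : Aff S) {W W' : P.Opens} (hW : W' ≤ W)
    (a : Γ(twN 𝒮 p chart m U, W)) (b : Γ(twN 𝒮 p chart n U, W)) :
    rs (twN 𝒮 p chart k U) hW (mulT 𝒮 p chart h U W a b) =
      mulT 𝒮 p chart h U W' (rs (twN 𝒮 p chart m U) hW a) (rs (twN 𝒮 p chart n U) hW b) := rfl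

lemma mulT_rel {m n k : ℤ} (h : k = m + n) (U : Aff S) (r : Γ(S, U.1)) (W : P.Opens)
    (a : Γ(twN 𝒮 p chart m U, W)) (a' : Γ(twN 𝒮 p chart m (bo U r), W))
    (b : Γ(twN 𝒮 p chart n U, W)) (b' : Γ(twN 𝒮 p chart n (bo U r), W))
    (ha : twistRelAt 𝒮 p chart m U r W a a') (hb : twistRelAt 𝒮 p chart n U r W b b') :
    twistRelAt 𝒮 p chart k U r W (mulT 𝒮 p chart h U W a b)
      (mulT 𝒮 p chart h (bo U r) W a' b') := by
  unfold twistRelAt
  intro y hy hy'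
  have e1 := ha y hy hy'
  have e2 := hb y hy hy'
  exact (congrArg₂ (· * ·) e1 e2).trans (map_mul _ _ _).symm

/-! ### the glued product -/

section Pair

variable {𝒮 p chart}
variable (hP : RelProj.IsRelProj 𝒮 p chart) {m n k : ℤ} (h : k = m + n)
  {L : P.Modules}
  {lam : ∀ (U : S.Opens) (hU : IsAffineOpen U),
    L ⟶ (Scheme.Modules.pushforward (RelProj.emb p chart U hU)).obj
      (GrTwist.twist (𝒮.deg U hU) m)}
  (hL : RelProj.IsRelTwist 𝒮 p chart m L lam)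
  {L' : P.Modules}
  {lam' : ∀ (U : S.Opens) (hU : IsAffineOpen U),
    L' ⟶ (Scheme.Modules.pushforward (RelProj.emb p chart U hU)).obj
      (GrTwist.twist (𝒮.deg U hU) n)}
  (hL' : RelProj.IsRelTwist 𝒮 p chart n L' lam')
  {L'' : P.Modules}
  {lam'' : ∀ (U : S.Opens) (hU : IsAffineOpen U),
    L'' ⟶ (Scheme.Modules.pushforward (RelProj.emb p chart U hU)).obj
      (GrTwist.twist (𝒮.deg U hU) k)}
  (hL'' : RelProj.IsRelTwist 𝒮 p chart k L'' lam'')

/-- the family of chartwise products. -/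
def pairFam {W : P.Opens} (a : Γ(L, W)) (b : Γ(L', W)) : Fam (twistSys 𝒮 p chart hP k) W where
  c := fun (U : Aff S) W' h1 _ =>
    mulT 𝒮 p chart h U W' (rl (lam U.1 U.2) h1 a) (rl (lam' U.1 U.2) h1 b)
  res := fun (U : Aff S) W' W'' h1 _ hh =>
    congrArg₂ (mulT 𝒮 p chart h U W'') (rs_rl (lam U.1 U.2) h1 hh a)
      (rs_rl (lam' U.1 U.2) h1 hh b)
  rel := fun (U D : Aff S) _ W' h1 _ _ r e b' hb' => by
    subst e
    obtain rfl := eq_of_heq hb'
    exact mulT_rel 𝒮 p chart h U r W' _ _ _ _ (hL.compat U.1 U.2 r W' (rs L h1 a))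
      (hL'.compat U.1 U.2 r W' (rs L' h1 b))

/-- the glued product of two sections. -/
def pairSec {W : P.Opens} (a : Γ(L, W)) (b : Γ(L', W)) : Γ(L'', W) :=
  glueSec (adapted_of_isRelTwist hP hL'') (pairFam hP h hL hL' a b)

lemma pairSec_spec {W : P.Opens} (a : Γ(L, W)) (b : Γ(L', W)) (U : Aff S) (W' : P.Opens)
    (h1 : W' ≤ W) (h2 : W' ≤ p ⁻¹ᵁ U.1) :
    rl (lam'' U.1 U.2) h1 (pairSec hP h hL hL' hL'' a b) =
      mulT 𝒮 p chart h U W' (rl (lam U.1 U.2) h1 a) (rl (lam' U.1 U.2) h1 b) :=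
  glueSec_spec (adapted_of_isRelTwist hP hL'') (pairFam hP h hL hL' a b) U W' h1 h2

lemma pairSec_unique {W : P.Opens} (a : Γ(L, W)) (b : Γ(L', W)) (σ : Γ(L'', W))
    (hσ : ∀ (U : Aff S) (W' : P.Opens) (h1 : W' ≤ W) (_ : W' ≤ p ⁻¹ᵁ U.1),
      rl (lam'' U.1 U.2) h1 σ =
        mulT 𝒮 p chart h U W' (rl (lam U.1 U.2) h1 a) (rl (lam' U.1 U.2) h1 b)) :
    σ = pairSec hP h hL hL' hL'' a b :=
  glueSec_unique (adapted_of_isRelTwist hP hL'') (pairFam hP h hL hL' a b) σ hσ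

lemma pairSec_add_left {W : P.Opens} (a a' : Γ(L, W)) (b : Γ(L', W)) :
    pairSec hP h hL hL' hL'' (a + a') b =
      pairSec hP h hL hL' hL'' a b + pairSec hP h hL hL' hL'' a' b := by
  symm
  apply pairSec_unique
  intro U W' h1 h2
  rw [rl_add, rl_add, pairSec_spec hP h hL hL' hL'' a b U W' h1 h2,
    pairSec_spec hP h hL hL' hL'' a' b U W' h1 h2, mulT_add_left]

lemma pairSec_add_right {W : P.Opens} (a : Γ(L, W)) (b b' : Γ(L', W)) :
    pairSec hP h hL hL' hL'' a (b + b') =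
      pairSec hP h hL hL' hL'' a b + pairSec hP h hL hL' hL'' a b' := by
  symm
  apply pairSec_unique
  intro U W' h1 h2
  rw [rl_add, rl_add, pairSec_spec hP h hL hL' hL'' a b U W' h1 h2,
    pairSec_spec hP h hL hL' hL'' a b' U W' h1 h2, mulT_add_right]

lemma pairSec_smul_left {W : P.Opens} (c : Γ(P, W)) (a : Γ(L, W)) (b : Γ(L', W)) :
    pairSec hP h hL hL' hL'' (c • a) b = c • pairSec hP h hL hL' hL'' a b := by
  symm
  apply pairSec_unique
  intro U W' h1 h2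
  rw [rl_smul, rl_smul, pairSec_spec hP h hL hL' hL'' a b U W' h1 h2, mulT_smul_left]

lemma pairSec_smul_right {W : P.Opens} (c : Γ(P, W)) (a : Γ(L, W)) (b : Γ(L', W)) :
    pairSec hP h hL hL' hL'' a (c • b) = c • pairSec hP h hL hL' hL'' a b := by
  symm
  apply pairSec_unique
  intro U W' h1 h2
  rw [rl_smul, rl_smul, pairSec_spec hP h hL hL' hL'' a b U W' h1 h2, mulT_smul_right]

lemma pairSec_res {W W₁ : P.Opens} (hW : W₁ ≤ W) (a : Γ(L, W)) (b : Γ(L', W)) :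
    rs L'' hW (pairSec hP h hL hL' hL'' a b) =
      pairSec hP h hL hL' hL'' (rs L hW a) (rs L' hW b) := by
  apply pairSec_unique
  intro U W' h1 h2
  rw [rl_rs, rl_rs, rl_rs, pairSec_spec hP h hL hL' hL'' a b U W' (h1.trans hW) h2]

/-- the multiplication as a bilinear family. -/
def pairFamily : Tensor.BilinFamily L L' L'' where
  β W := LinearMap.mk₂ Γ(P, W) (fun a b => pairSec hP h hL hL' hL'' a b)
    (fun a a' b => pairSec_add_left hP h hL hL' hL'' a a' b)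
    (fun c a b => pairSec_smul_left hP h hL hL' hL'' c a b)
    (fun a b b' => pairSec_add_right hP h hL hL' hL'' a b b')
    (fun c a b => pairSec_smul_right hP h hL hL' hL'' c a b)
  res i a b := pairSec_res hP h hL hL' hL'' i.le a b

/-- the multiplication `O_P(m) ⊗ O_P(n) ⟶ O_P(k)`, `k = m + n`. -/
def pairHom : CohB1.tensorMod L L' ⟶ L'' := (pairFamily hP h hL hL' hL'').hom

lemma pairHom_app_tmul (W : P.Opens) (a : Γ(L, W)) (b : Γ(L', W)) :
    (pairHom hP h hL hL' hL'').app W (Tensor.tmul L L' a b) = pairSec hP h hL hL' hL'' a b :=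
  (pairFamily hP h hL hL' hL'').hom_app_tmul a b

end Pair

end Groth.Agent.Helper28.RelSys

end
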