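import Mathlib
import Groth.Agent.Lib.Helper28.RelTwistPair

/-!
# The multiplication `O_P(m) ⊗ O_P(n) ⟶ O_P(m+n)` on a relative `Proj` is an isomorphism
where `O_P(m)` is trivialised by a homogeneous element of degree `± m` (helper28)
-/

set_option autoImplicit false
universe u
open CategoryTheory CategoryTheory.Limits AlgebraicGeometry Opposite TopologicalSpace
open scoped HomogeneousIdeal

noncomputable section

namespace Groth.Agent.Helper28.RelSys

open ChartGlue GrTwist GrTwistMul GrTwistTensor Groth.Agent.Helper13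

variable {S : Scheme.{u}} {𝒮 : RelProj.QCGrAlg S} {P : Scheme.{u}} {p : P ⟶ S}
  {chart : ∀ (U : S.Opens) (hU : IsAffineOpen U),
    (((p ⁻¹ᵁ U : P.Opens) : Scheme.{u}) ≅ Proj (𝒮.deg U hU))}

section Square

variable (hP : RelProj.IsRelProj 𝒮 p chart) {m n k : ℤ} (h : k = m + n)
  {L : P.Modules}
  {lam : ∀ (U : S.Opens) (hU : IsAffineOpen U),
    L ⟶ (Scheme.Modules.pushforward (RelProj.emb p chart U hU)).obj
      (GrTwist.twist (𝒮.deg U hU) m)}
  (hL : RelProj.IsRelTwist 𝒮 p chart m L lam)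
  {L' : P.Modules}
  {lam' : ∀ (U : S.Opens) (hU : IsAffineOpen U),
    L' ⟶ (Scheme.Modules.pushforward (RelProj.emb p chart U hU)).obj
      (GrTwist.twist (𝒮.deg U hU) n)}
  (hL' : RelProj.IsRelTwist 𝒮 p chart n L' lam')
  {L'' : P.Modules}
  {lam'' : ∀ (U : S.Opens) (hU : IsAffineOpen U),
    L'' ⟶ (Scheme.Modules.pushforward (RelProj.emb p chart U hU)).obj
      (GrTwist.twist (𝒮.deg U hU) k)}
  (hL'' : RelProj.IsRelTwist 𝒮 p chart k L'' lam'')

omit hP in
lemma restrictIso_hom_app (V : Aff S) (V' : (Proj (𝒮.deg V.1 V.2)).Opens)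
    (s : Γ(L, RelProj.emb p chart V.1 V.2 ''ᵁ V')) :
    (RelTwist.restrictIso hL V.1 V.2).hom.app V' s =
      (GrTwist.twist (𝒮.deg V.1 V.2) m).presheaf.map
        (eqToHom ((RelProj.emb p chart V.1 V.2).preimage_image_eq V').symm).op
        ((lam V.1 V.2).app (RelProj.emb p chart V.1 V.2 ''ᵁ V') s) := rfl

/-- on a chart, the glued multiplication is the multiplication of the twisting sheaves of the
graded ring. -/
theorem pair_square (V : Aff S) :
    Tensor.restrictHom (RelProj.emb p chart V.1 V.2) L L' ≫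
      (Scheme.Modules.restrictFunctor (RelProj.emb p chart V.1 V.2)).map
        (pairHom hP h hL hL' hL'') ≫ (RelTwist.restrictIso hL'' V.1 V.2).hom =
    Tensor.map (RelTwist.restrictIso hL V.1 V.2).hom (RelTwist.restrictIso hL' V.1 V.2).hom ≫
      mulTensorHom (𝒮.deg V.1 V.2) h := by
  apply Tensor.hom_ext
  intro V' s t
  have hle : RelProj.emb p chart V.1 V.2 ''ᵁ V' ≤ p ⁻¹ᵁ V.1 :=
    RelTwist.image_emb_le p chart V.1 V.2 V'
  have e1 : (Tensor.restrictHom (RelProj.emb p chart V.1 V.2) L L').app V'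
      (Tensor.tmul (L.restrict (RelProj.emb p chart V.1 V.2))
        (L'.restrict (RelProj.emb p chart V.1 V.2)) s t) =
      Tensor.tmul L L' (show Γ(L, RelProj.emb p chart V.1 V.2 ''ᵁ V') from s)
        (show Γ(L', RelProj.emb p chart V.1 V.2 ''ᵁ V') from t) :=
    Tensor.restrictHom_app_tmul (RelProj.emb p chart V.1 V.2) L L' s t
  have e2 := pairHom_app_tmul hP h hL hL' hL'' (RelProj.emb p chart V.1 V.2 ''ᵁ V')
    (show Γ(L, RelProj.emb p chart V.1 V.2 ''ᵁ V') from s)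
    (show Γ(L', RelProj.emb p chart V.1 V.2 ''ᵁ V') from t)
  have e3 : (lam'' V.1 V.2).app (RelProj.emb p chart V.1 V.2 ''ᵁ V')
      (pairSec hP h hL hL' hL'' (show Γ(L, RelProj.emb p chart V.1 V.2 ''ᵁ V') from s)
        (show Γ(L', RelProj.emb p chart V.1 V.2 ''ᵁ V') from t)) =
      mulT 𝒮 p chart h V (RelProj.emb p chart V.1 V.2 ''ᵁ V')
        ((lam V.1 V.2).app (RelProj.emb p chart V.1 V.2 ''ᵁ V') s)
        ((lam' V.1 V.2).app (RelProj.emb p chart V.1 V.2 ''ᵁ V') t) := by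
    have := pairSec_spec hP h hL hL' hL'' (W := RelProj.emb p chart V.1 V.2 ''ᵁ V')
      (show Γ(L, RelProj.emb p chart V.1 V.2 ''ᵁ V') from s)
      (show Γ(L', RelProj.emb p chart V.1 V.2 ''ᵁ V') from t) V
      (RelProj.emb p chart V.1 V.2 ''ᵁ V') le_rfl hle
    rw [rl_self, rl_self, rl_self] at this
    exact this
  have e4 : (Tensor.map (RelTwist.restrictIso hL V.1 V.2).hom
      (RelTwist.restrictIso hL' V.1 V.2).hom ≫ mulTensorHom (𝒮.deg V.1 V.2) h).app V'
      (Tensor.tmul (L.restrict (RelProj.emb p chart V.1 V.2))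
        (L'.restrict (RelProj.emb p chart V.1 V.2)) s t) =
      mulSec₂ (𝒜 := 𝒮.deg V.1 V.2) h (op V')
        ((RelTwist.restrictIso hL V.1 V.2).hom.app V' s)
        ((RelTwist.restrictIso hL' V.1 V.2).hom.app V' t) := by
    rw [Scheme.Modules.Hom.comp_app, ConcreteCategory.comp_apply, Tensor.map_app_tmul,
      mulTensorHom_app_tmul]
  rw [e4]
  have e5 : (Tensor.restrictHom (RelProj.emb p chart V.1 V.2) L L' ≫
      (Scheme.Modules.restrictFunctor (RelProj.emb p chart V.1 V.2)).map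
        (pairHom hP h hL hL' hL'') ≫ (RelTwist.restrictIso hL'' V.1 V.2).hom).app V'
      (Tensor.tmul (L.restrict (RelProj.emb p chart V.1 V.2))
        (L'.restrict (RelProj.emb p chart V.1 V.2)) s t) =
      (RelTwist.restrictIso hL'' V.1 V.2).hom.app V'
        ((pairHom hP h hL hL' hL'').app (RelProj.emb p chart V.1 V.2 ''ᵁ V')
          ((Tensor.restrictHom (RelProj.emb p chart V.1 V.2) L L').app V'
            (Tensor.tmul (L.restrict (RelProj.emb p chart V.1 V.2))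
              (L'.restrict (RelProj.emb p chart V.1 V.2)) s t))) := rfl
  rw [e5, e1, e2, restrictIso_hom_app, e3, restrictIso_hom_app, restrictIso_hom_app]
  rfl

/-- the glued multiplication is bijective on sections over the image of an open of `D_+(G)`,
`deg G = ± m`. -/
theorem pairHom_app_bijective_image (V : Aff S) {e : ℕ} {G : 𝒮.presheaf.obj (op V.1)}
    (hG : G ∈ 𝒮.deg V.1 V.2 e) (hm : m = 0 + (e : ℤ) ∨ (0 : ℤ) = m + e)
    (V' : (Proj (𝒮.deg V.1 V.2)).Opens) (hV' : V' ≤ Proj.basicOpen (𝒮.deg V.1 V.2) G) :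
    Function.Bijective
      ((pairHom hP h hL hL' hL'').app (RelProj.emb p chart V.1 V.2 ''ᵁ V')) := by
  have hiso : IsIso ((Scheme.Modules.restrictFunctor V'.ι).map
      (mulTensorHom (𝒮.deg V.1 V.2) h)) := by
    rcases hm with hm | hm
    · exact isIso_restrict_mulTensorHom_pos _ hG hm h V' hV'
    · exact isIso_restrict_mulTensorHom_neg _ hG hm h V' hV'
  have hb := app_bijective_of_isIso_restrict _ V' hiso V' le_rfl
  have sq := pair_square hP h hL hL' hL'' V
  have sqa : ∀ x, (RelTwist.restrictIso hL'' V.1 V.2).hom.app V'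
      ((pairHom hP h hL hL' hL'').app (RelProj.emb p chart V.1 V.2 ''ᵁ V')
        ((Tensor.restrictHom (RelProj.emb p chart V.1 V.2) L L').app V' x)) =
      (mulTensorHom (𝒮.deg V.1 V.2) h).app V'
        ((Tensor.map (RelTwist.restrictIso hL V.1 V.2).hom
          (RelTwist.restrictIso hL' V.1 V.2).hom).app V' x) := by
    intro x
    have := congrArg (fun φ => φ.app V' x) sq
    exact this
  have b1 := app_bijective_of_isIso (Tensor.restrictHom (RelProj.emb p chart V.1 V.2) L L') V'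
  have b3 := app_bijective_of_isIso (RelTwist.restrictIso hL'' V.1 V.2).hom V'
  haveI : IsIso (Tensor.map (RelTwist.restrictIso hL V.1 V.2).hom
      (RelTwist.restrictIso hL' V.1 V.2).hom) := by
    change IsIso (Tensor.mapIso (RelTwist.restrictIso hL V.1 V.2)
      (RelTwist.restrictIso hL' V.1 V.2)).hom
    infer_instance
  have b4 := app_bijective_of_isIso (Tensor.map (RelTwist.restrictIso hL V.1 V.2).hom
      (RelTwist.restrictIso hL' V.1 V.2).hom) V'
  have hc : Function.Bijective ((fun z => (RelTwist.restrictIso hL'' V.1 V.2).hom.app V'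
      ((pairHom hP h hL hL' hL'').app (RelProj.emb p chart V.1 V.2 ''ᵁ V') z)) ∘
      ((Tensor.restrictHom (RelProj.emb p chart V.1 V.2) L L').app V')) := by
    have e : ((fun z => (RelTwist.restrictIso hL'' V.1 V.2).hom.app V'
        ((pairHom hP h hL hL' hL'').app (RelProj.emb p chart V.1 V.2 ''ᵁ V') z)) ∘
        ((Tensor.restrictHom (RelProj.emb p chart V.1 V.2) L L').app V')) =
        fun x => (mulTensorHom (𝒮.deg V.1 V.2) h).app V'
          ((Tensor.map (RelTwist.restrictIso hL V.1 V.2).hom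
            (RelTwist.restrictIso hL' V.1 V.2).hom).app V' x) := funext sqa
    rw [e]
    exact hb.comp b4
  have hc2 := (Function.Bijective.of_comp_iff _ b1).1 hc
  exact (Function.Bijective.of_comp_iff' b3 _).1 hc2

/-- the glued multiplication is bijective on sections over the opens inside the image of
`D_+(G)`, `deg G = ± m`. -/
theorem pairHom_app_bijective (V : Aff S) {e : ℕ} {G : 𝒮.presheaf.obj (op V.1)}
    (hG : G ∈ 𝒮.deg V.1 V.2 e) (hm : m = 0 + (e : ℤ) ∨ (0 : ℤ) = m + e) (W : P.Opens)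
    (hW : W ≤ RelProj.emb p chart V.1 V.2 ''ᵁ Proj.basicOpen (𝒮.deg V.1 V.2) G) :
    Function.Bijective ((pairHom hP h hL hL' hL'').app W) := by
  have e1 : W = RelProj.emb p chart V.1 V.2 ''ᵁ (RelProj.emb p chart V.1 V.2 ⁻¹ᵁ W) := by
    rw [Scheme.Hom.image_preimage_eq_opensRange_inf]
    exact (inf_eq_right.2 (hW.trans (Scheme.Hom.image_le_opensRange _ _))).symm
  have e2 : RelProj.emb p chart V.1 V.2 ⁻¹ᵁ W ≤ Proj.basicOpen (𝒮.deg V.1 V.2) G := by
    have := (RelProj.emb p chart V.1 V.2).preimage_mono hW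
    rwa [Scheme.Hom.preimage_image_eq] at this
  obtain ⟨V', hV', rfl⟩ : ∃ V' : (Proj (𝒮.deg V.1 V.2)).Opens,
      V' ≤ Proj.basicOpen (𝒮.deg V.1 V.2) G ∧ W = RelProj.emb p chart V.1 V.2 ''ᵁ V' :=
    ⟨_, e2, e1⟩
  exact pairHom_app_bijective_image hP h hL hL' hL'' V hG hm V' hV'

end Square

/-! ### the cover condition -/

variable (𝒮 p chart) in
/-- near `x`, some homogeneous element of degree `± m` is invertible. -/
def CovAt (m : ℤ) (x : P) : Prop :=
  ∃ (V : Aff S) (e : ℕ) (G : 𝒮.presheaf.obj (op V.1)) (y : Proj (𝒮.deg V.1 V.2)),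
    G ∈ 𝒮.deg V.1 V.2 e ∧ (RelProj.emb p chart V.1 V.2).base y = x ∧
      G ∉ y.asHomogeneousIdeal ∧ (m = 0 + (e : ℤ) ∨ (0 : ℤ) = m + e)

lemma covAt_of_mem {m : ℤ} (V : Aff S) {d : ℕ} {f : 𝒮.presheaf.obj (op V.1)}
    (hf : f ∈ 𝒮.deg V.1 V.2 d) (y : Proj (𝒮.deg V.1 V.2)) (hfy : f ∉ y.asHomogeneousIdeal)
    (c : ℤ) (hm : m = c * d) :
    CovAt 𝒮 p chart m ((RelProj.emb p chart V.1 V.2).base y) := by
  obtain ⟨e, G, hG, hGy, hm'⟩ := cov_of_mul (𝒮.deg V.1 V.2) y hf hfy c hm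
  exact ⟨V, e, G, y, hG, rfl, hGy, hm'⟩

lemma covAt_of_genDegOne (hgen : 𝒮.IsGenDegOne) (m : ℤ) (x : P) : CovAt 𝒮 p chart m x := by
  obtain ⟨V, hxV⟩ := cover p x
  have hx : x ∈ (RelProj.emb p chart V.1 V.2).opensRange := by
    rw [RelTwist.opensRange_emb]; exact hxV
  obtain ⟨y, rfl⟩ := hx
  obtain ⟨f, hf, hfy⟩ := RelTwist.exists_deg_one_nmem (𝒮.deg V.1 V.2) (hgen V.1 V.2) y
  exact covAt_of_mem V hf y hfy m (by simp)

section Iso

variable (hP : RelProj.IsRelProj 𝒮 p chart) {m n k : ℤ} (h : k = m + n)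
  {L : P.Modules}
  {lam : ∀ (U : S.Opens) (hU : IsAffineOpen U),
    L ⟶ (Scheme.Modules.pushforward (RelProj.emb p chart U hU)).obj
      (GrTwist.twist (𝒮.deg U hU) m)}
  (hL : RelProj.IsRelTwist 𝒮 p chart m L lam)
  {L' : P.Modules}
  {lam' : ∀ (U : S.Opens) (hU : IsAffineOpen U),
    L' ⟶ (Scheme.Modules.pushforward (RelProj.emb p chart U hU)).obj
      (GrTwist.twist (𝒮.deg U hU) n)}
  (hL' : RelProj.IsRelTwist 𝒮 p chart n L' lam')
  {L'' : P.Modules}
  {lam'' : ∀ (U : S.Opens) (hU : IsAffineOpen U),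
    L'' ⟶ (Scheme.Modules.pushforward (RelProj.emb p chart U hU)).obj
      (GrTwist.twist (𝒮.deg U hU) k)}
  (hL'' : RelProj.IsRelTwist 𝒮 p chart k L'' lam'')

theorem exists_nhds_bijective (x : P) (hx : CovAt 𝒮 p chart m x) :
    ∃ V₀ : P.Opens, x ∈ V₀ ∧
      ∀ W : P.Opens, W ≤ V₀ → Function.Bijective ((pairHom hP h hL hL' hL'').app W) := by
  obtain ⟨V, e, G, y, hG, rfl, hGy, hm⟩ := hx
  refine ⟨RelProj.emb p chart V.1 V.2 ''ᵁ Proj.basicOpen (𝒮.deg V.1 V.2) G,
    ⟨y, (Proj.mem_basicOpen (𝒮.deg V.1 V.2) G y).2 hGy, rfl⟩, fun W hW => ?_⟩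
  exact pairHom_app_bijective hP h hL hL' hL'' V hG hm W hW

/-- the glued multiplication is an isomorphism when `O_P(m)` is everywhere trivialised by a
homogeneous element of degree `± m`. -/
theorem isIso_pairHom (hcov : ∀ x : P, CovAt 𝒮 p chart m x) :
    IsIso (pairHom hP h hL hL' hL'') :=
  isIso_of_locally_bijective _ (fun x => exists_nhds_bijective hP h hL hL' hL'' x (hcov x))

/-- the restricted version. -/
theorem isIso_restrict_pairHom (U : P.Opens) (hcov : ∀ x ∈ U, CovAt 𝒮 p chart m x) :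
    IsIso ((Scheme.Modules.restrictFunctor U.ι).map (pairHom hP h hL hL' hL'')) := by
  apply isIso_of_locally_bijective
  intro x'
  have hxU : U.ι.base x' ∈ U := x'.2
  obtain ⟨V₀, hx, hV₀⟩ := exists_nhds_bijective hP h hL hL' hL'' (U.ι.base x') (hcov _ hxU)
  refine ⟨U.ι ⁻¹ᵁ V₀, hx, fun V'' hV'' => ?_⟩
  exact hV₀ (U.ι ''ᵁ V'') (by
    rintro _ ⟨z, hz, rfl⟩
    exact hV'' hz)

end Iso

end Groth.Agent.Helper28.RelSys

end
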