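import Mathlib
import Groth.Agent.Lib.Helper28.RelTwistPair2
import Groth.Agent.Lib.Helper28.GrModTensor

/-!
# The multiplication `ℳ(k)~ ⊗ O_P(n) ⟶ ℳ(k+n)~` on a relative `Proj` (helper28)
-/

set_option autoImplicit false
universe u
open CategoryTheory CategoryTheory.Limits AlgebraicGeometry Opposite TopologicalSpace
open scoped HomogeneousIdeal

noncomputable section

namespace Groth.Agent.Helper28.RelSys

open ChartGlue GrTwist GrTwistMul GrTwistTensor GrModTensor Groth.Agent.Helper13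

variable {S : Scheme.{u}} (𝒮 : RelProj.QCGrAlg S) {P : Scheme.{u}} (p : P ⟶ S)
  (chart : ∀ (U : S.Opens) (hU : IsAffineOpen U),
    (((p ⁻¹ᵁ U : P.Opens) : Scheme.{u}) ≅ Proj (𝒮.deg U hU)))
  (ℳ : RelProj.GrModule 𝒮)

/-! ### products of sections of the targets -/

/-- the product of a section of the target of `ℳ(k)~` and a section of the target of `O(n)`. -/
def mulTT {k n k' : ℤ} (h : k' = k + n) (U : Aff S) (W : P.Opens)
    (a : Γ(tdN 𝒮 p chart ℳ k U, W)) (b : Γ(twN 𝒮 p chart n U, W)) :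
    Γ(tdN 𝒮 p chart ℳ k' U, W) :=
  mulSec₂T (𝒜 := 𝒮.deg U.1 U.2) (ℳ := ℳ.deg U.1 U.2) h
    (op (RelProj.emb p chart U.1 U.2 ⁻¹ᵁ W)) a b

lemma mulTT_add_left {k n k' : ℤ} (h : k' = k + n) (U : Aff S) (W : P.Opens)
    (a a' : Γ(tdN 𝒮 p chart ℳ k U, W)) (b : Γ(twN 𝒮 p chart n U, W)) :
    mulTT 𝒮 p chart ℳ h U W (a + a') b =
      mulTT 𝒮 p chart ℳ h U W a b + mulTT 𝒮 p chart ℳ h U W a' b :=
  mulSec₂T_add_left (𝒜 := 𝒮.deg U.1 U.2) (ℳ := ℳ.deg U.1 U.2) h _ a a' b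

lemma mulTT_add_right {k n k' : ℤ} (h : k' = k + n) (U : Aff S) (W : P.Opens)
    (a : Γ(tdN 𝒮 p chart ℳ k U, W)) (b b' : Γ(twN 𝒮 p chart n U, W)) :
    mulTT 𝒮 p chart ℳ h U W a (b + b') =
      mulTT 𝒮 p chart ℳ h U W a b + mulTT 𝒮 p chart ℳ h U W a b' :=
  mulSec₂T_add_right (𝒜 := 𝒮.deg U.1 U.2) (ℳ := ℳ.deg U.1 U.2) h _ a b b'

lemma mulTT_smul_left {k n k' : ℤ} (h : k' = k + n) (U : Aff S) (W : P.Opens) (c : Γ(P, W))
    (a : Γ(tdN 𝒮 p chart ℳ k U, W)) (b : Γ(twN 𝒮 p chart n U, W)) :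
    mulTT 𝒮 p chart ℳ h U W (c • a) b = c • mulTT 𝒮 p chart ℳ h U W a b :=
  mulSec₂T_smul_left (𝒜 := 𝒮.deg U.1 U.2) (ℳ := ℳ.deg U.1 U.2) h _
    (show O (𝒜 := 𝒮.deg U.1 U.2) (op (RelProj.emb p chart U.1 U.2 ⁻¹ᵁ W)) from
      ((RelProj.emb p chart U.1 U.2).app W).hom c) a b

lemma mulTT_smul_right {k n k' : ℤ} (h : k' = k + n) (U : Aff S) (W : P.Opens) (c : Γ(P, W))
    (a : Γ(tdN 𝒮 p chart ℳ k U, W)) (b : Γ(twN 𝒮 p chart n U, W)) :
    mulTT 𝒮 p chart ℳ h U W a (c • b) = c • mulTT 𝒮 p chart ℳ h U W a b :=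
  mulSec₂T_smul_right (𝒜 := 𝒮.deg U.1 U.2) (ℳ := ℳ.deg U.1 U.2) h _
    (show O (𝒜 := 𝒮.deg U.1 U.2) (op (RelProj.emb p chart U.1 U.2 ⁻¹ᵁ W)) from
      ((RelProj.emb p chart U.1 U.2).app W).hom c) a b

lemma mulTT_rs {k n k' : ℤ} (h : k' = k + n) (U : Aff S) {W W' : P.Opens} (hW : W' ≤ W)
    (a : Γ(tdN 𝒮 p chart ℳ k U, W)) (b : Γ(twN 𝒮 p chart n U, W)) :
    rs (tdN 𝒮 p chart ℳ k' U) hW (mulTT 𝒮 p chart ℳ h U W a b) =
      mulTT 𝒮 p chart ℳ h U W' (rs (tdN 𝒮 p chart ℳ k U) hW a)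
        (rs (twN 𝒮 p chart n U) hW b) := rfl

lemma mulTT_rel {k n k' : ℤ} (h : k' = k + n) (U : Aff S) (r : Γ(S, U.1)) (W : P.Opens)
    (a : Γ(tdN 𝒮 p chart ℳ k U, W)) (a' : Γ(tdN 𝒮 p chart ℳ k (bo U r), W))
    (b : Γ(twN 𝒮 p chart n U, W)) (b' : Γ(twN 𝒮 p chart n (bo U r), W))
    (ha : tildeRelAt 𝒮 p chart ℳ k U r W a a') (hb : twistRelAt 𝒮 p chart n U r W b b') :
    tildeRelAt 𝒮 p chart ℳ k' U r W (mulTT 𝒮 p chart ℳ h U W a b)
      (mulTT 𝒮 p chart ℳ h (bo U r) W a' b') := by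
  unfold tildeRelAt
  intro y hy hy'
  have e1 := ha y hy hy'
  have e2 := hb y hy hy'
  exact (congrArg₂ (· • ·) e2 e1).trans (GrMod.locModMap_smul _ _ _ _ _ _).symm

/-! ### the glued product -/

section Pair

variable {𝒮 p chart ℳ}
variable (hP : RelProj.IsRelProj 𝒮 p chart) {k n k' : ℤ} (h : k' = k + n)
  {F : P.Modules}
  {lam : ∀ (U : S.Opens) (hU : IsAffineOpen U),
    F ⟶ (Scheme.Modules.pushforward (RelProj.emb p chart U hU)).obj
      (GrMod.tilde (𝒮.deg U hU) (ℳ.deg U hU) k)}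
  (hF : RelProj.IsRelTilde 𝒮 p chart ℳ k F lam)
  {L : P.Modules}
  {lamL : ∀ (U : S.Opens) (hU : IsAffineOpen U),
    L ⟶ (Scheme.Modules.pushforward (RelProj.emb p chart U hU)).obj
      (GrTwist.twist (𝒮.deg U hU) n)}
  (hL : RelProj.IsRelTwist 𝒮 p chart n L lamL)
  {F' : P.Modules}
  {lam' : ∀ (U : S.Opens) (hU : IsAffineOpen U),
    F' ⟶ (Scheme.Modules.pushforward (RelProj.emb p chart U hU)).obj
      (GrMod.tilde (𝒮.deg U hU) (ℳ.deg U hU) k')}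
  (hF' : RelProj.IsRelTilde 𝒮 p chart ℳ k' F' lam')

/-- the family of chartwise products. -/
def pairFamT {W : P.Opens} (a : Γ(F, W)) (b : Γ(L, W)) :
    Fam (tildeSys 𝒮 p chart ℳ hP k') W where
  c := fun (U : Aff S) W' h1 _ =>
    mulTT 𝒮 p chart ℳ h U W' (rl (lam U.1 U.2) h1 a) (rl (lamL U.1 U.2) h1 b)
  res := fun (U : Aff S) W' W'' h1 _ hh =>
    congrArg₂ (mulTT 𝒮 p chart ℳ h U W'') (rs_rl (lam U.1 U.2) h1 hh a)
      (rs_rl (lamL U.1 U.2) h1 hh b)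
  rel := fun (U D : Aff S) _ W' h1 _ _ r e b' hb' => by
    subst e
    obtain rfl := eq_of_heq hb'
    exact mulTT_rel 𝒮 p chart ℳ h U r W' _ _ _ _ (hF.compat U.1 U.2 r W' (rs F h1 a))
      (hL.compat U.1 U.2 r W' (rs L h1 b))

/-- the glued product of two sections. -/
def pairSecT {W : P.Opens} (a : Γ(F, W)) (b : Γ(L, W)) : Γ(F', W) :=
  glueSec (adapted_of_isRelTilde hP hF') (pairFamT hP h hF hL a b)

lemma pairSecT_spec {W : P.Opens} (a : Γ(F, W)) (b : Γ(L, W)) (U : Aff S) (W' : P.Opens)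
    (h1 : W' ≤ W) (h2 : W' ≤ p ⁻¹ᵁ U.1) :
    rl (lam' U.1 U.2) h1 (pairSecT hP h hF hL hF' a b) =
      mulTT 𝒮 p chart ℳ h U W' (rl (lam U.1 U.2) h1 a) (rl (lamL U.1 U.2) h1 b) :=
  glueSec_spec (adapted_of_isRelTilde hP hF') (pairFamT hP h hF hL a b) U W' h1 h2

lemma pairSecT_unique {W : P.Opens} (a : Γ(F, W)) (b : Γ(L, W)) (σ : Γ(F', W))
    (hσ : ∀ (U : Aff S) (W' : P.Opens) (h1 : W' ≤ W) (_ : W' ≤ p ⁻¹ᵁ U.1),
      rl (lam' U.1 U.2) h1 σ =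
        mulTT 𝒮 p chart ℳ h U W' (rl (lam U.1 U.2) h1 a) (rl (lamL U.1 U.2) h1 b)) :
    σ = pairSecT hP h hF hL hF' a b :=
  glueSec_unique (adapted_of_isRelTilde hP hF') (pairFamT hP h hF hL a b) σ hσ

lemma pairSecT_add_left {W : P.Opens} (a a' : Γ(F, W)) (b : Γ(L, W)) :
    pairSecT hP h hF hL hF' (a + a') b =
      pairSecT hP h hF hL hF' a b + pairSecT hP h hF hL hF' a' b := by
  symm
  apply pairSecT_unique
  intro U W' h1 h2
  rw [rl_add, rl_add, pairSecT_spec hP h hF hL hF' a b U W' h1 h2,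
    pairSecT_spec hP h hF hL hF' a' b U W' h1 h2, mulTT_add_left]

lemma pairSecT_add_right {W : P.Opens} (a : Γ(F, W)) (b b' : Γ(L, W)) :
    pairSecT hP h hF hL hF' a (b + b') =
      pairSecT hP h hF hL hF' a b + pairSecT hP h hF hL hF' a b' := by
  symm
  apply pairSecT_unique
  intro U W' h1 h2
  rw [rl_add, rl_add, pairSecT_spec hP h hF hL hF' a b U W' h1 h2,
    pairSecT_spec hP h hF hL hF' a b' U W' h1 h2, mulTT_add_right]

lemma pairSecT_smul_left {W : P.Opens} (c : Γ(P, W)) (a : Γ(F, W)) (b : Γ(L, W)) :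
    pairSecT hP h hF hL hF' (c • a) b = c • pairSecT hP h hF hL hF' a b := by
  symm
  apply pairSecT_unique
  intro U W' h1 h2
  rw [rl_smul, rl_smul, pairSecT_spec hP h hF hL hF' a b U W' h1 h2, mulTT_smul_left]

lemma pairSecT_smul_right {W : P.Opens} (c : Γ(P, W)) (a : Γ(F, W)) (b : Γ(L, W)) :
    pairSecT hP h hF hL hF' a (c • b) = c • pairSecT hP h hF hL hF' a b := by
  symm
  apply pairSecT_unique
  intro U W' h1 h2
  rw [rl_smul, rl_smul, pairSecT_spec hP h hF hL hF' a b U W' h1 h2, mulTT_smul_right]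

lemma pairSecT_res {W W₁ : P.Opens} (hW : W₁ ≤ W) (a : Γ(F, W)) (b : Γ(L, W)) :
    rs F' hW (pairSecT hP h hF hL hF' a b) =
      pairSecT hP h hF hL hF' (rs F hW a) (rs L hW b) := by
  apply pairSecT_unique
  intro U W' h1 h2
  rw [rl_rs, rl_rs, rl_rs, pairSecT_spec hP h hF hL hF' a b U W' (h1.trans hW) h2]

/-- the multiplication as a bilinear family. -/
def pairFamilyT : Tensor.BilinFamily F L F' where
  β W := LinearMap.mk₂ Γ(P, W) (fun a b => pairSecT hP h hF hL hF' a b)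
    (fun a a' b => pairSecT_add_left hP h hF hL hF' a a' b)
    (fun c a b => pairSecT_smul_left hP h hF hL hF' c a b)
    (fun a b b' => pairSecT_add_right hP h hF hL hF' a b b')
    (fun c a b => pairSecT_smul_right hP h hF hL hF' c a b)
  res i a b := pairSecT_res hP h hF hL hF' i.le a b

/-- the multiplication `ℳ(k)~ ⊗ O_P(n) ⟶ ℳ(k')~`, `k' = k + n`. -/
def pairHomT : CohB1.tensorMod F L ⟶ F' := (pairFamilyT hP h hF hL hF').hom

lemma pairHomT_app_tmul (W : P.Opens) (a : Γ(F, W)) (b : Γ(L, W)) :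
    (pairHomT hP h hF hL hF').app W (Tensor.tmul F L a b) = pairSecT hP h hF hL hF' a b :=
  (pairFamilyT hP h hF hL hF').hom_app_tmul a b

end Pair

/-! ### the chartwise identification of `ℳ(k)~` -/

section RestrictIso

variable {𝒮 p chart ℳ}
variable {k : ℤ} {F : P.Modules}
  {lam : ∀ (U : S.Opens) (hU : IsAffineOpen U),
    F ⟶ (Scheme.Modules.pushforward (RelProj.emb p chart U hU)).obj
      (GrMod.tilde (𝒮.deg U hU) (ℳ.deg U hU) k)}

theorem isIso_restrict_lamT (hF : RelProj.IsRelTilde 𝒮 p chart ℳ k F lam) (U : S.Opens)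
    (hU : IsAffineOpen U) :
    IsIso ((Scheme.Modules.restrictFunctor (RelProj.emb p chart U hU)).map (lam U hU)) := by
  rw [Scheme.Modules.Hom.isIso_iff_isIso_app]
  intro W
  rw [ConcreteCategory.isIso_iff_bijective]
  exact hF.bijective U hU _ (RelTwist.image_emb_le p chart U hU W)

/-- the chartwise identification `F|_{p⁻¹U} ≅ ℳ(U)(k)~`. -/
def restrictIsoT (hF : RelProj.IsRelTilde 𝒮 p chart ℳ k F lam) (U : S.Opens)
    (hU : IsAffineOpen U) :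
    F.restrict (RelProj.emb p chart U hU) ≅ GrMod.tilde (𝒮.deg U hU) (ℳ.deg U hU) k :=
  haveI := isIso_restrict_lamT hF U hU
  asIso ((Scheme.Modules.restrictFunctor (RelProj.emb p chart U hU)).map (lam U hU)) ≪≫
    (Scheme.Modules.restrictFunctorAdjCounitIso (RelProj.emb p chart U hU)).app _

lemma restrictIsoT_hom_app (hF : RelProj.IsRelTilde 𝒮 p chart ℳ k F lam) (V : Aff S)
    (V' : (Proj (𝒮.deg V.1 V.2)).Opens) (s : Γ(F, RelProj.emb p chart V.1 V.2 ''ᵁ V')) :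
    (restrictIsoT hF V.1 V.2).hom.app V' s =
      (GrMod.tilde (𝒮.deg V.1 V.2) (ℳ.deg V.1 V.2) k).presheaf.map
        (eqToHom ((RelProj.emb p chart V.1 V.2).preimage_image_eq V').symm).op
        ((lam V.1 V.2).app (RelProj.emb p chart V.1 V.2 ''ᵁ V') s) := rfl

end RestrictIso

end Groth.Agent.Helper28.RelSys

end
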