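import Mathlib
import Groth.Agent.Lib.Helper28.GrModQcoh
import Groth.Agent.Lib.Helper28.RelTildePair
import Groth.Agent.Lib.Helper13.ExtQCoh

/-!
# Quasi-coherence of the twisting sheaves and of the modules `ℳ(n)~` on a relative `Proj`
(helper28)
-/

set_option autoImplicit false
universe u
open CategoryTheory CategoryTheory.Limits AlgebraicGeometry Opposite TopologicalSpace
open scoped HomogeneousIdeal

noncomputable section

namespace Groth.Agent.Helper28.RelSys

open Groth.Agent.Helper13 Groth.Agent.Helper13.QCohLocal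

/-- quasi-coherence is local for open immersions. -/
theorem isQuasicoherent_of_forall_exists_immersion {X : Scheme.{u}} (F : X.Modules)
    (h : ∀ x : X, ∃ (Z : Scheme.{u}) (f : Z ⟶ X) (_ : IsOpenImmersion f) (T : Z.Modules),
      x ∈ Set.range f.base ∧ T.IsQuasicoherent ∧ Nonempty (F.restrict f ≅ T)) :
    F.IsQuasicoherent := by
  choose Z f hf T hx hT e using h
  have key : ∀ x, ∃ (κ : Type u) (W : κ → (Z x).Opens)
      (_ : ∀ i, ((T x).restrict (W i).ι).Presentation),
      IsOpenCover W ∧ (∀ i, IsAffineOpen (W i)) := fun x =>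
    haveI := hT x
    (T x).exists_isOpenCover_presentation
  choose κ W P hW _ using key
  haveI : ∀ x, IsOpenImmersion (f x) := hf
  refine isQuasicoherent_of_presentations F (ι := Σ x, κ x)
    (fun j => ((W j.1 j.2).ι ≫ f j.1).opensRange) ?_ (fun j => ⟨?_⟩)
  · rw [IsOpenCover, eq_top_iff]
    intro x _
    obtain ⟨z, hz⟩ := hx x
    have hz' : z ∈ ⨆ i, W x i := by
      rw [(hW x).iSup_eq_top]; trivial
    obtain ⟨i, hi⟩ := Opens.mem_iSup.1 hz'
    refine Opens.mem_iSup.2 ⟨⟨x, i⟩, ?_⟩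
    exact ⟨⟨z, hi⟩, hz⟩
  · refine presentationOpensRange _ F ?_
    exact SheafOfModules.Presentation.ofIsIso.{u, u, u}
      ((Scheme.Modules.restrictFunctor (W j.1 j.2).ι).map (e j.1).some.inv ≫
        ((Scheme.Modules.restrictFunctorComp _ _).app F).inv) (P j.1 j.2)

variable {S : Scheme.{u}} {𝒮 : RelProj.QCGrAlg S} {P : Scheme.{u}} {p : P ⟶ S}
  {chart : ∀ (U : S.Opens) (hU : IsAffineOpen U),
    (((p ⁻¹ᵁ U : P.Opens) : Scheme.{u}) ≅ Proj (𝒮.deg U hU))}

/-- the modules `ℳ(n)~` on a relative `Proj` are quasi-coherent. -/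
theorem isQuasicoherent_of_isRelTilde {ℳ : RelProj.GrModule 𝒮} {n : ℤ} {F : P.Modules}
    {lam : ∀ (U : S.Opens) (hU : IsAffineOpen U),
      F ⟶ (Scheme.Modules.pushforward (RelProj.emb p chart U hU)).obj
        (GrMod.tilde (𝒮.deg U hU) (ℳ.deg U hU) n)}
    (hF : RelProj.IsRelTilde 𝒮 p chart ℳ n F lam) : F.IsQuasicoherent := by
  apply isQuasicoherent_of_forall_exists_immersion
  intro x
  obtain ⟨V, hxV⟩ := cover p x
  have hx : x ∈ (RelProj.emb p chart V.1 V.2).opensRange := by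
    rw [RelTwist.opensRange_emb]; exact hxV
  exact ⟨_, RelProj.emb p chart V.1 V.2, inferInstance, _, hx,
    GrModQcoh.tilde_isQuasicoherent (𝒮.deg V.1 V.2) (ℳ.deg V.1 V.2) n,
    ⟨restrictIsoT hF V.1 V.2⟩⟩

/-- the twisting sheaves on a relative `Proj` are quasi-coherent. -/
theorem isQuasicoherent_of_isRelTwist {n : ℤ} {L : P.Modules}
    {lam : ∀ (U : S.Opens) (hU : IsAffineOpen U),
      L ⟶ (Scheme.Modules.pushforward (RelProj.emb p chart U hU)).obj
        (GrTwist.twist (𝒮.deg U hU) n)}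
    (hL : RelProj.IsRelTwist 𝒮 p chart n L lam) : L.IsQuasicoherent := by
  apply isQuasicoherent_of_forall_exists_immersion
  intro x
  obtain ⟨V, hxV⟩ := cover p x
  have hx : x ∈ (RelProj.emb p chart V.1 V.2).opensRange := by
    rw [RelTwist.opensRange_emb]; exact hxV
  exact ⟨_, RelProj.emb p chart V.1 V.2, inferInstance, _, hx,
    GrModQcoh.twist_isQuasicoherent (𝒮.deg V.1 V.2) n,
    ⟨RelTwist.restrictIso hL V.1 V.2⟩⟩

end Groth.Agent.Helper28.RelSys

end
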