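import Mathlib
import Groth.Prelude.Def_RelProj3

/-!
# The maps of localized modules `M_{ψ⁻¹ y} → N_y` for a degree-zero localization (helper28)
-/

set_option autoImplicit false
universe u
open CategoryTheory AlgebraicGeometry Opposite TopologicalSpace
open scoped HomogeneousIdeal

namespace Groth.Agent.Helper28.GrModLoc

lemma mk_eq_zero_iff' {R : Type*} [CommSemiring R] {T : Submonoid R} {M : Type*} [AddCommMonoid M]
    [Module R M] (m : M) (s : T) :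
    LocalizedModule.mk m s = 0 ↔ ∃ u : T, (u : R) • m = 0 := by
  rw [← LocalizedModule.zero_mk s, LocalizedModule.mk_eq]
  constructor
  · rintro ⟨u, hu⟩
    refine ⟨u * s, ?_⟩
    rw [smul_zero, smul_zero] at hu
    rw [Submonoid.coe_mul, mul_smul]
    exact hu
  · rintro ⟨u, hu⟩
    refine ⟨u, ?_⟩
    rw [smul_zero, smul_zero]
    change (u : R) • (s : R) • m = 0
    rw [smul_comm, hu, smul_zero]

lemma mkm_congr {R : Type*} [CommSemiring R] {T : Submonoid R} {M : Type*} [AddCommMonoid M]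
    [Module R M] {m m' : M} {s s' : T} (hm : m = m') (hs : (s : R) = s') :
    LocalizedModule.mk m s = LocalizedModule.mk m' s' := by
  subst hm
  congr 1
  exact Subtype.ext hs

variable {A σ : Type u} [CommRing A] [SetLike σ A] [AddSubgroupClass σ A] {𝒜 : ℕ → σ}
  [GradedRing 𝒜]
variable {M τ : Type u} [AddCommGroup M] [Module A M] [SetLike τ M] [AddSubgroupClass τ M]
  {ℳ : ℕ → τ} [SetLike.GradedSMul 𝒜 ℳ]
variable {B σ' : Type u} [CommRing B] [SetLike σ' B] [AddSubgroupClass σ' B] {ℬ : ℕ → σ'}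
  [GradedRing ℬ]
variable {N τ' : Type u} [AddCommGroup N] [Module B N] [SetLike τ' N] [AddSubgroupClass τ' N]
  {𝒩 : ℕ → τ'} [SetLike.GradedSMul ℬ 𝒩]
variable {D σ'' : Type u} [CommRing D] [SetLike σ'' D] [AddSubgroupClass σ'' D] {𝒟 : ℕ → σ''}
  [GradedRing 𝒟]
variable {Q τ'' : Type u} [AddCommGroup Q] [Module D Q] [SetLike τ'' Q] [AddSubgroupClass τ'' Q]
  {𝒬 : ℕ → τ''} [SetLike.GradedSMul 𝒟 𝒬]

/-- the maps of localized modules compose, on values of sections. -/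
lemma locModMap_comp (α : 𝒜 →+*ᵍ ℬ) (hα : ℬ₊ ≤ (𝒜₊).map α) (β : ℬ →+*ᵍ 𝒟)
    (hβ : 𝒟₊ ≤ (ℬ₊).map β) (γ : 𝒜 →+*ᵍ 𝒟) (hγ : 𝒟₊ ≤ (𝒜₊).map γ)
    (va : M →ₛₗ[α.toRingHom] N) (vb : N →ₛₗ[β.toRingHom] Q) (vc : M →ₛₗ[γ.toRingHom] Q)
    (hcomm : ∀ a, β (α a) = γ a) (hvcomm : ∀ m, vb (va m) = vc m) (n : ℤ)
    (U₀ : Opens (ProjectiveSpectrum.top 𝒜)) (t : GrMod.sect 𝒜 ℳ n (op U₀))
    (y : ProjectiveSpectrum 𝒟)
    (h1 : ProjectiveSpectrum.comap α hα (ProjectiveSpectrum.comap β hβ y) ∈ U₀)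
    (h2 : ProjectiveSpectrum.comap γ hγ y ∈ U₀) :
    GrMod.locModMap β hβ vb y (GrMod.locModMap α hα va (ProjectiveSpectrum.comap β hβ y)
        (t.1 ⟨_, h1⟩).1) =
      GrMod.locModMap γ hγ vc y (t.1 ⟨_, h2⟩).1 := by
  have hpt : ProjectiveSpectrum.comap α hα (ProjectiveSpectrum.comap β hβ y) =
      ProjectiveSpectrum.comap γ hγ y := by
    apply ProjectiveSpectrum.ext
    ext a
    change β (α a) ∈ y.asHomogeneousIdeal ↔ γ a ∈ y.asHomogeneousIdeal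
    rw [hcomm]
  have ht : (GrMod.isLocFrac 𝒜 ℳ n).pred t.1 := t.2
  obtain ⟨V, hxV, iV, i, j, a, b, nin, hor, w⟩ := ht ⟨_, h1⟩
  have hxV2 : ProjectiveSpectrum.comap γ hγ y ∈ V := by
    rw [← hpt]; exact hxV
  have e1 : (t.1 ⟨_, h1⟩).1 = LocalizedModule.mk a.1 ⟨b.1, nin ⟨_, hxV⟩⟩ := w ⟨_, hxV⟩
  have e2 : (t.1 ⟨_, h2⟩).1 = LocalizedModule.mk a.1 ⟨b.1, nin ⟨_, hxV2⟩⟩ := w ⟨_, hxV2⟩
  rw [e1, e2, GrMod.locModMap_mk, GrMod.locModMap_mk, GrMod.locModMap_mk]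
  exact mkm_congr (hvcomm _) (hcomm _)

variable (ψ : 𝒜 →+*ᵍ ℬ) (hψ : ℬ₊ ≤ (𝒜₊).map ψ) (v : M →ₛₗ[ψ.toRingHom] N)

/-- for a localization at an element `c`, the maps of localized modules are injective. -/
theorem locModMap_injective (c : A) (hcu : IsUnit (ψ c))
    (hkerM : ∀ m : M, v m = 0 → ∃ k : ℕ, c ^ k • m = 0)
    (hsurj : ∀ b : B, ∃ (k : ℕ) (a : A), ψ a = b * ψ c ^ k) (y : ProjectiveSpectrum ℬ) :
    Function.Injective (GrMod.locModMap ψ hψ v y) := by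
  have hv : ∀ (a : A) (m : M), v (a • m) = ψ a • v m := fun a m => v.map_smulₛₗ a m
  have hyp : y.asHomogeneousIdeal.toIdeal.IsPrime := y.isPrime
  have hcy : ∀ k : ℕ, ψ c ^ k ∉ y.asHomogeneousIdeal.toIdeal := fun k h =>
    hyp.ne_top (Ideal.eq_top_of_isUnit_mem _ h (hcu.pow k))
  rw [injective_iff_map_eq_zero]
  intro q
  induction q using LocalizedModule.induction_on with
  | h m s =>
    intro hq
    rw [GrMod.locModMap_mk, mk_eq_zero_iff'] at hq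
    obtain ⟨w, hw⟩ := hq
    obtain ⟨k, t', ht'⟩ := hsurj (w : B)
    have h0 : v (t' • m) = 0 := by
      rw [hv, ht', mul_comm, mul_smul, hw, smul_zero]
    obtain ⟨l, hl⟩ := hkerM _ h0
    have hnin : c ^ l * t' ∈
        (ProjectiveSpectrum.comap ψ hψ y).asHomogeneousIdeal.toIdeal.primeCompl := by
      intro hmem
      have hmem' : ψ (c ^ l * t') ∈ y.asHomogeneousIdeal.toIdeal := hmem
      rw [map_mul, map_pow, ht'] at hmem'
      rcases hyp.mem_or_mem hmem' with h | h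
      · exact hcy l h
      · rcases hyp.mem_or_mem h with h | h
        · exact w.2 h
        · exact hcy k h
    rw [mk_eq_zero_iff']
    refine ⟨⟨c ^ l * t', hnin⟩, ?_⟩
    change (c ^ l * t') • m = 0
    rw [mul_smul]
    exact hl

/-- homogeneous module fractions over `B = A[1/c]`, `c` of degree zero, lift to homogeneous
fractions over `A`. -/
theorem exists_lift_frac_mod (c : A) (hc0 : c ∈ 𝒜 0) (hcu : IsUnit (ψ c))
    (hlift : ∀ (i : ℕ) (b : B), b ∈ ℬ i → ∃ (k : ℕ) (a : A), a ∈ 𝒜 i ∧ ψ a = b * ψ c ^ k)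
    (hliftM : ∀ (i : ℕ) (μ : N), μ ∈ 𝒩 i → ∃ (k : ℕ) (m : M), m ∈ ℳ i ∧ v m = ψ c ^ k • μ)
    {i j : ℕ} (μ : N) (σ₀ : B) (hμ : μ ∈ 𝒩 i) (hσ : σ₀ ∈ ℬ j) :
    ∃ (m : M) (s : A), m ∈ ℳ i ∧ s ∈ 𝒜 j ∧
      ∀ (y : ProjectiveSpectrum ℬ) (hσy : σ₀ ∉ y.asHomogeneousIdeal),
        ∃ hs : s ∉ (ProjectiveSpectrum.comap ψ hψ y).asHomogeneousIdeal,
          GrMod.locModMap ψ hψ v y (LocalizedModule.mk m ⟨s, hs⟩) =
            (LocalizedModule.mk μ ⟨σ₀, hσy⟩ : GrMod.LocMod ℬ (M := N) y) := by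
  have hv : ∀ (a : A) (m : M), v (a • m) = ψ a • v m := fun a m => v.map_smulₛₗ a m
  obtain ⟨k, m', hm', em⟩ := hliftM i μ hμ
  obtain ⟨l, s', hs', es⟩ := hlift j σ₀ hσ
  have hck : ∀ m : ℕ, c ^ m ∈ 𝒜 0 := fun m => by
    have h := SetLike.pow_mem_graded m hc0
    rwa [smul_zero] at h
  refine ⟨c ^ l • m', s' * c ^ k, ?_, ?_, ?_⟩
  · have h := SetLike.GradedSMul.smul_mem (A := 𝒜) (B := ℳ) (hck l) hm'
    rwa [vadd_eq_add, zero_add] at h
  · have h := SetLike.mul_mem_graded hs' (hck k)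
    rwa [add_zero] at h
  · intro y hσy
    have hyp : y.asHomogeneousIdeal.toIdeal.IsPrime := y.isPrime
    have hcy : ∀ m : ℕ, ψ c ^ m ∉ y.asHomogeneousIdeal.toIdeal := fun m h =>
      hyp.ne_top (Ideal.eq_top_of_isUnit_mem _ h (hcu.pow m))
    have hs : s' * c ^ k ∉ (ProjectiveSpectrum.comap ψ hψ y).asHomogeneousIdeal := by
      intro hmem
      have hmem' : ψ (s' * c ^ k) ∈ y.asHomogeneousIdeal.toIdeal := hmem
      rw [map_mul, map_pow, es] at hmem'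
      rcases hyp.mem_or_mem hmem' with h | h
      · rcases hyp.mem_or_mem h with h | h
        · exact hσy h
        · exact hcy l h
      · exact hcy k h
    refine ⟨hs, ?_⟩
    rw [GrMod.locModMap_mk, LocalizedModule.mk_eq]
    refine ⟨1, ?_⟩
    rw [one_smul, one_smul]
    change σ₀ • v (c ^ l • m') = ψ (s' * c ^ k) • μ
    rw [hv, em, map_mul, map_pow, map_pow, es, smul_smul, smul_smul]

end Groth.Agent.Helper28.GrModLoc
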