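import Mathlib
import Groth.Agent.Lib.Helper28.GrModFT

/-!
# (TF) and `M~ = 0` imply (TN), for a graded ring generated in degree one with `A_1` finitely
generated (helper28)
-/

set_option autoImplicit false
universe u
open DirectSum CategoryTheory CategoryTheory.Limits AlgebraicGeometry Opposite TopologicalSpace

namespace Groth.Agent.Helper28.GrModTN

open Groth.Agent.Helper28.GrModQcoh Groth.Agent.Helper28.GrModFT

section map

variable {M M' τ τ' : Type*} [AddCommGroup M] [AddCommGroup M'] [SetLike τ M]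
  [AddSubgroupClass τ M] [SetLike τ' M'] [AddSubgroupClass τ' M']
  (ℳ : ℕ → τ) [DirectSum.Decomposition ℳ] (ℳ' : ℕ → τ') [DirectSum.Decomposition ℳ']

/-- a degree-preserving additive map commutes with the projections. -/
theorem decompose_map (ψ : M →+ M') (hψ : ∀ j m, m ∈ ℳ j → ψ m ∈ ℳ' j) (m : M) (k : ℕ) :
    ((decompose ℳ' (ψ m) k : ℳ' k) : M') = ψ ((decompose ℳ m k : ℳ k) : M) := by
  classical
  conv_lhs => rw [← DirectSum.sum_support_decompose ℳ m, map_sum, DirectSum.decompose_sum]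
  rw [DFinsupp.finsetSum_apply, AddSubmonoidClass.coe_finsetSum]
  have key : ∀ j ∈ DFinsupp.support (decompose ℳ m),
      ((decompose ℳ' (ψ ((decompose ℳ m j : ℳ j) : M)) k : ℳ' k) : M') =
        if j = k then ψ ((decompose ℳ m k : ℳ k) : M) else 0 := by
    intro j _
    have hmem := hψ j _ (decompose ℳ m j).2
    split_ifs with h
    · subst h
      exact DirectSum.decompose_of_mem_same ℳ' hmem
    · exact DirectSum.decompose_of_mem_ne ℳ' hmem h
  rw [Finset.sum_congr rfl key, Finset.sum_ite_eq']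
  split_ifs with h
  · rfl
  · rw [DFinsupp.notMem_support_iff] at h
    rw [h, ZeroMemClass.coe_zero, map_zero]

end map

variable {A σ : Type u} [CommRing A] [SetLike σ A] [AddSubgroupClass σ A] (𝒜 : ℕ → σ)
  [GradedRing 𝒜]
variable {M τ : Type u} [AddCommGroup M] [Module A M] [SetLike τ M] [AddSubgroupClass τ M]
  (ℳ : ℕ → τ) [DirectSum.Decomposition ℳ] [SetLike.GradedSMul 𝒜 ℳ]

/-- if all sections of `M~` over `D_+(f)`, `deg f = 1`, vanish, every homogeneous element is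
killed by a power of `f`. -/
theorem exists_pow_smul_eq_zero_of_sections_zero {f : A} (hf : f ∈ 𝒜 1)
    (h0 : ∀ s : Γ(GrMod.tilde 𝒜 ℳ 0, Proj.basicOpen 𝒜 f), s = 0) {k : ℕ} {m : M}
    (hm : m ∈ ℳ k) : ∃ N : ℕ, f ^ N • m = 0 := by
  refine Groth.Agent.Helper6.GrModFrac.exists_pow_smul_eq_zero 𝒜 ℳ Nat.one_pos hf hm
    (fun x hx => ?_)
  have h1 := h0 (μ 𝒜 ℳ hf k ⟨m, hm⟩)
  have hxU : x ∈ Proj.basicOpen 𝒜 f := (ProjectiveSpectrum.mem_basicOpen 𝒜 f x).2 hx
  have hfk : f ^ k ∈ x.asHomogeneousIdeal.toIdeal.primeCompl :=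
    fun h => hx (x.isPrime.mem_of_pow_mem k h)
  have h2 : (LocalizedModule.mk m ⟨f ^ k, hfk⟩ : GrMod.LocMod 𝒜 (M := M) x) = 0 :=
    congrArg (fun s : GrMod.sect 𝒜 ℳ 0 (op (Proj.basicOpen 𝒜 f)) =>
      ((s.1 ⟨x, hxU⟩ : GrMod.tildeAt 𝒜 ℳ 0 x) : GrMod.LocMod 𝒜 (M := M) x)) h1
  rw [← LocalizedModule.zero_mk (1 : x.asHomogeneousIdeal.toIdeal.primeCompl),
    LocalizedModule.mk_eq] at h2
  obtain ⟨u, hu⟩ := h2
  refine ⟨u.1, u.2, ?_⟩
  simpa [Submonoid.smul_def] using hu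

/-- products of elements of degree `0` and `1` are homogeneous, and lie in the matching power of
the ideal generated by the degree-one part. -/
theorem monomial_mem (x : A)
    (hx : x ∈ Submonoid.closure ((𝒜 0 : Set A) ∪ (𝒜 1 : Set A))) :
    ∃ e : ℕ, x ∈ 𝒜 e ∧ x ∈ (Ideal.span (𝒜 1 : Set A)) ^ e := by
  induction hx using Submonoid.closure_induction with
  | mem x hx =>
    rcases hx with hx | hx
    · exact ⟨0, hx, by rw [pow_zero, Ideal.one_eq_top]; exact Submodule.mem_top⟩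
    · exact ⟨1, hx, by rw [pow_one]; exact Ideal.subset_span hx⟩
  | one => exact ⟨0, SetLike.GradedOne.one_mem, by
      rw [pow_zero, Ideal.one_eq_top]; exact Submodule.mem_top⟩
  | mul x y _ _ hx hy =>
    obtain ⟨e, hxe, hxJ⟩ := hx
    obtain ⟨e', hye, hyJ⟩ := hy
    exact ⟨e + e', SetLike.GradedMul.mul_mem hxe hye, by
      rw [pow_add]; exact Ideal.mul_mem_mul hxJ hyJ⟩

/-- generated in degree one: the degree-`e` component lies in the `e`-th power of the ideal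
generated by the degree-one part. -/
theorem proj_mem_pow (hgen : Subring.closure ((𝒜 0 : Set A) ∪ (𝒜 1 : Set A)) = ⊤) (a : A)
    (e : ℕ) : ((decompose 𝒜 a e : 𝒜 e) : A) ∈ (Ideal.span (𝒜 1 : Set A)) ^ e := by
  have ha : a ∈ Subring.closure ((𝒜 0 : Set A) ∪ (𝒜 1 : Set A)) := hgen ▸ Subring.mem_top a
  rw [Subring.mem_closure_iff] at ha
  induction ha using AddSubgroup.closure_induction with
  | mem x hx =>
    obtain ⟨e', hxe, hxJ⟩ := monomial_mem 𝒜 x hx
    by_cases h : e' = e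
    · subst h
      rw [DirectSum.decompose_of_mem_same 𝒜 hxe]
      exact hxJ
    · rw [DirectSum.decompose_of_mem_ne 𝒜 hxe h]
      exact zero_mem _
  | zero =>
    rw [DirectSum.decompose_zero]
    exact zero_mem _
  | add x y _ _ hx hy =>
    rw [DirectSum.decompose_add, DirectSum.add_apply, AddMemClass.coe_add]
    exact add_mem hx hy
  | neg x _ hx =>
    have : ((decompose 𝒜 (-x) e : 𝒜 e) : A) = -((decompose 𝒜 x e : 𝒜 e) : A) := by
      rw [DirectSum.decompose_neg]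
      rfl
    rw [this]
    exact neg_mem hx

theorem mem_pow_of_mem (hgen : Subring.closure ((𝒜 0 : Set A) ∪ (𝒜 1 : Set A)) = ⊤) {a : A}
    {e : ℕ} (ha : a ∈ 𝒜 e) : a ∈ (Ideal.span (𝒜 1 : Set A)) ^ e := by
  have := proj_mem_pow 𝒜 hgen a e
  rwa [DirectSum.decompose_of_mem_same 𝒜 ha] at this

open scoped Classical in
/-- (TF) and vanishing of the sections of `M~` over the `D_+(f)`, `deg f = 1`, imply (TN), when
the ring is generated in degree one and the ideal generated by `A_1` is finitely generated by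
elements of degree one. -/
theorem tn_of_sections_zero
    (hgen : Subring.closure ((𝒜 0 : Set A) ∪ (𝒜 1 : Set A)) = ⊤)
    (T : Finset A) (hT : ∀ t ∈ T, t ∈ 𝒜 1) (hTspan : ∀ x ∈ 𝒜 1, x ∈ Ideal.span (T : Set A))
    (hTF : ∃ n : ℕ, (Submodule.span A (⋃ k ∈ Set.Ici n, (ℳ k : Set M))).FG)
    (h0 : ∀ f ∈ 𝒜 1, ∀ s : Γ(GrMod.tilde 𝒜 ℳ 0, Proj.basicOpen 𝒜 f), s = 0) :
    ∃ N : ℕ, ∀ k, N ≤ k → ∀ m ∈ ℳ k, m = 0 := by
  obtain ⟨n, hn⟩ := hTF
  obtain ⟨Gm, hGsub, hGspan⟩ := (Submodule.fg_span_iff_fg_span_finset_subset _).1 hn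
  have hdg : ∀ g ∈ Gm, ∃ k, g ∈ ℳ k := by
    intro g hg
    have := hGsub hg
    simp only [Set.mem_iUnion, SetLike.mem_coe, exists_prop] at this
    obtain ⟨k, _, hk⟩ := this
    exact ⟨k, hk⟩
  choose! dg hdg' using hdg
  have htail : ∀ c, n ≤ c → ∀ m ∈ ℳ c, m ∈ Submodule.span A (Gm : Set M) := by
    intro c hc m hm
    rw [← hGspan]
    refine Submodule.subset_span ?_
    simp only [Set.mem_iUnion, SetLike.mem_coe, exists_prop]
    exact ⟨c, hc, hm⟩
  have hJle : Ideal.span (𝒜 1 : Set A) ≤ Ideal.span (T : Set A) :=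
    Ideal.span_le.2 (fun x hx => hTspan x hx)
  have hk : ∀ g ∈ Gm, ∃ k : ℕ,
      (Ideal.span (T : Set A)) ^ k ≤ Groth.Agent.Helper6.GrModFrac.ann (A := A) g := by
    intro g hg
    refine Ideal.exists_pow_le_of_le_radical_of_fg ?_ ⟨T, rfl⟩
    refine Ideal.span_le.2 (fun t ht => ?_)
    obtain ⟨N, hN⟩ := exists_pow_smul_eq_zero_of_sections_zero 𝒜 ℳ (hT t ht) (h0 t (hT t ht))
      (hdg' g hg)
    exact ⟨N, Groth.Agent.Helper6.GrModFrac.mem_ann.2 hN⟩
  choose! kf hkf using hk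
  refine ⟨n + Gm.sup dg + Gm.sup kf, fun c hc m hm => ?_⟩
  have hspanm := htail c (by omega) m hm
  obtain ⟨cf, -, hcf⟩ := Submodule.mem_span_finset.1 hspanm
  have hdec := eq_sum_hcoef 𝒜 ℳ Gm cf (fun g => g) dg hdg' hm hcf.symm
  rw [hdec]
  refine Finset.sum_eq_zero (fun g hg => ?_)
  have h1 : dg g ≤ Gm.sup dg := Finset.le_sup hg
  have h2 : kf g ≤ Gm.sup kf := Finset.le_sup hg
  have hmemJ : hcoef 𝒜 (cf g) c (dg g) ∈ (Ideal.span (T : Set A)) ^ (kf g) := by
    have h3 := mem_pow_of_mem 𝒜 hgen (hcoef_mem 𝒜 (cf g) c (dg g))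
    have h4 : (Ideal.span (𝒜 1 : Set A)) ^ (c - dg g) ≤ (Ideal.span (T : Set A)) ^ (kf g) :=
      (Ideal.pow_right_mono hJle _).trans (Ideal.pow_le_pow_right (by omega))
    exact h4 h3
  exact Groth.Agent.Helper6.GrModFrac.mem_ann.1 (hkf g hg hmemJ)

end Groth.Agent.Helper28.GrModTN
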