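import Mathlib
import Groth.Agent.Lib.Helper28.RelTwistPair2
import Groth.Agent.Lib.Helper13.FreeMod

/-!
# The structure sheaf of a relative `Proj` is `O_P(0)`; `O_P(n) ⊗ O_P(-n) ≅ O` on quasi-compact
opens for `n` divisible enough (helper28)
-/

set_option autoImplicit false
universe u
open CategoryTheory CategoryTheory.Limits AlgebraicGeometry Opposite TopologicalSpace
open scoped HomogeneousIdeal

noncomputable section

namespace Groth.Agent.Helper28.RelSys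

open ChartGlue GrTwist GrTwistMul GrTwistTensor Groth.Agent.Helper13 Groth.Agent.Helper13.LocFree

section Comap

variable {A σ : Type u} [CommRing A] [SetLike σ A] [AddSubgroupClass σ A] {𝒜 : ℕ → σ}
  [GradedRing 𝒜]
variable {B τ : Type u} [CommRing B] [SetLike τ B] [AddSubgroupClass τ B] {ℬ : ℕ → τ}
  [GradedRing ℬ]
variable (ψ : 𝒜 →+*ᵍ ℬ) (hψ : ℬ₊ ≤ (𝒜₊).map ψ)

/-- values of the pullback of a function along a composite `Proj ℬ ⟶ Proj 𝒜 ⟶ X`. -/
lemma val_app_comp {X : Scheme.{u}} (e : Proj 𝒜 ⟶ X) (e' : Proj ℬ ⟶ X)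
    (hcomp : Proj.map ψ hψ ≫ e = e') (W : X.Opens) (c : Γ(X, W)) (y : ProjectiveSpectrum ℬ)
    (hy : e'.base y ∈ W) (hy' : e.base (ProjectiveSpectrum.comap ψ hψ y) ∈ W) :
    ((show O (𝒜 := ℬ) (op (e' ⁻¹ᵁ W)) from (e'.app W).hom c).1 ⟨y, hy⟩).val =
      GrTwist.locMap ψ hψ y
        ((show O (𝒜 := 𝒜) (op (e ⁻¹ᵁ W)) from (e.app W).hom c).1 ⟨_, hy'⟩).val := by
  subst hcomp
  have h1 : (show O (𝒜 := ℬ) (op ((Proj.map ψ hψ ≫ e) ⁻¹ᵁ W)) from
      ((Proj.map ψ hψ ≫ e).app W).hom c) =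
      Proj.comapStructureSheaf ψ hψ (e ⁻¹ᵁ W) ((Proj.map ψ hψ ≫ e) ⁻¹ᵁ W) (fun z hz => hz)
        (show O (𝒜 := 𝒜) (op (e ⁻¹ᵁ W)) from (e.app W).hom c) := rfl
  rw [h1, GrTwist.comapStructureSheaf_apply, HomogeneousLocalization.val_localRingHom]
  rfl

end Comap

variable {S : Scheme.{u}} (𝒮 : RelProj.QCGrAlg S) {P : Scheme.{u}} (p : P ⟶ S)
  (chart : ∀ (U : S.Opens) (hU : IsAffineOpen U),
    (((p ⁻¹ᵁ U : P.Opens) : Scheme.{u}) ≅ Proj (𝒮.deg U hU)))

/-- the chartwise identification of the structure sheaf with `O(0)`. -/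
def lamZero (U : S.Opens) (hU : IsAffineOpen U) :
    Coh.structureModule P ⟶ (Scheme.Modules.pushforward (RelProj.emb p chart U hU)).obj
      (GrTwist.twist (𝒮.deg U hU) 0) :=
  homOfSec ((Scheme.Modules.pushforward (RelProj.emb p chart U hU)).obj
      (GrTwist.twist (𝒮.deg U hU) 0))
    (show Γ((Scheme.Modules.pushforward (RelProj.emb p chart U hU)).obj
      (GrTwist.twist (𝒮.deg U hU) 0), ⊤) from
      oneSec (𝒜 := 𝒮.deg U hU) (op (RelProj.emb p chart U hU ⁻¹ᵁ ⊤)))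

lemma lamZero_app (U : S.Opens) (hU : IsAffineOpen U) (W : P.Opens) (c : Γ(P, W)) :
    (lamZero 𝒮 p chart U hU).app W (toO W c) =
      ((show O (𝒜 := 𝒮.deg U hU) (op (RelProj.emb p chart U hU ⁻¹ᵁ W)) from
          ((RelProj.emb p chart U hU).app W).hom c) •
        oneSec (op (RelProj.emb p chart U hU ⁻¹ᵁ W)) :
        sectN (𝒜 := 𝒮.deg U hU) 0 (op (RelProj.emb p chart U hU ⁻¹ᵁ W))) :=
  homOfSec_app ((Scheme.Modules.pushforward (RelProj.emb p chart U hU)).obj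
      (GrTwist.twist (𝒮.deg U hU) 0))
    (show Γ((Scheme.Modules.pushforward (RelProj.emb p chart U hU)).obj
      (GrTwist.twist (𝒮.deg U hU) 0), ⊤) from
      oneSec (𝒜 := 𝒮.deg U hU) (op (RelProj.emb p chart U hU ⁻¹ᵁ ⊤))) W c

lemma lamZero_val (U : S.Opens) (hU : IsAffineOpen U) (W : P.Opens) (c : Γ(P, W))
    (y : ProjectiveSpectrum (𝒮.deg U hU)) (hy : (RelProj.emb p chart U hU).base y ∈ W) :
    GrTwist.val (V := RelProj.emb p chart U hU ⁻¹ᵁ W)
        ((lamZero 𝒮 p chart U hU).app W (toO W c)) ⟨y, hy⟩ =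
      ((show O (𝒜 := 𝒮.deg U hU) (op (RelProj.emb p chart U hU ⁻¹ᵁ W)) from
          ((RelProj.emb p chart U hU).app W).hom c).1 ⟨y, hy⟩).val := by
  have h1 := smul_oneSec_val (𝒜 := 𝒮.deg U hU) (op (RelProj.emb p chart U hU ⁻¹ᵁ W))
    (show O (𝒜 := 𝒮.deg U hU) (op (RelProj.emb p chart U hU ⁻¹ᵁ W)) from
      ((RelProj.emb p chart U hU).app W).hom c) ⟨y, hy⟩
  exact (congrArg (fun t : sectN (𝒜 := 𝒮.deg U hU) 0 (op (RelProj.emb p chart U hU ⁻¹ᵁ W)) =>
    (t.1 ⟨y, hy⟩).1) (lamZero_app 𝒮 p chart U hU W c)).trans h1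

variable {𝒮 p chart} in
/-- the structure sheaf is the twisting sheaf `O_P(0)`. -/
theorem isRelTwist_zero (hP : RelProj.IsRelProj 𝒮 p chart) :
    RelProj.IsRelTwist 𝒮 p chart 0 (Coh.structureModule P) (lamZero 𝒮 p chart) where
  bijective U hU W hW := by
    have hi1 : IsIso ((RelProj.emb p chart U hU).app W) := by
      apply Scheme.Hom.isIso_app
      rw [RelTwist.opensRange_emb]
      exact hW
    have b1 := ConcreteCategory.bijective_of_isIso ((RelProj.emb p chart U hU).app W)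
    have b2 := smul_oneSec_bijective (𝒜 := 𝒮.deg U hU) (op (RelProj.emb p chart U hU ⁻¹ᵁ W))
    have hb : Function.Bijective (fun c : Γ(P, W) =>
        ((show O (𝒜 := 𝒮.deg U hU) (op (RelProj.emb p chart U hU ⁻¹ᵁ W)) from
          ((RelProj.emb p chart U hU).app W).hom c) •
        oneSec (op (RelProj.emb p chart U hU ⁻¹ᵁ W)) :
        sectN (𝒜 := 𝒮.deg U hU) 0 (op (RelProj.emb p chart U hU ⁻¹ᵁ W)))) := b2.comp b1
    constructor
    · intro c c' hcc
      have e1 := lamZero_app 𝒮 p chart U hU W (show Γ(P, W) from c)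
      have e2 := lamZero_app 𝒮 p chart U hU W (show Γ(P, W) from c')
      exact hb.1 (e1.symm.trans (hcc.trans e2))
    · intro t
      obtain ⟨c, hc⟩ := hb.2 t
      exact ⟨toO W c, (lamZero_app 𝒮 p chart U hU W c).trans hc⟩
  compat U hU r W s y hy hy' := by
    have e1 := lamZero_val 𝒮 p chart (S.basicOpen r) (hU.basicOpen r) W (show Γ(P, W) from s)
      y hy
    have e2 := lamZero_val 𝒮 p chart U hU W (show Γ(P, W) from s) _ hy'
    have e3 := val_app_comp (𝒮.res hU (hU.basicOpen r) (S.basicOpen_le r))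
      (𝒮.irrelevant_le_map U hU r) (RelProj.emb p chart U hU)
      (RelProj.emb p chart (S.basicOpen r) (hU.basicOpen r)) (RelProj.map_res_emb hP U hU r) W
      (show Γ(P, W) from s) y hy hy'
    exact e1.trans (e3.trans (congrArg _ e2.symm))

variable {𝒮 p chart} in
/-- on a quasi-compact open of a relative `Proj`, `O(n) ⊗ O(-n) ≅ O` for `n` divisible by a
suitable `d > 0`. -/
theorem exists_d_tensor_neg (hP : RelProj.IsRelProj 𝒮 p chart) (U : P.Opens)
    (hU : IsCompact (U : Set P)) :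
    ∃ d : ℕ, 0 < d ∧ ∀ (n : ℤ), (d : ℤ) ∣ n →
      ∀ (L : P.Modules)
        (lam : ∀ (V : S.Opens) (hV : IsAffineOpen V),
          L ⟶ (Scheme.Modules.pushforward (RelProj.emb p chart V hV)).obj
            (GrTwist.twist (𝒮.deg V hV) n)),
        RelProj.IsRelTwist 𝒮 p chart n L lam →
      ∀ (L' : P.Modules)
        (lam' : ∀ (V : S.Opens) (hV : IsAffineOpen V),
          L' ⟶ (Scheme.Modules.pushforward (RelProj.emb p chart V hV)).obj
            (GrTwist.twist (𝒮.deg V hV) (-n))),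
        RelProj.IsRelTwist 𝒮 p chart (-n) L' lam' →
          Nonempty (CohB1.tensorMod (L.restrict U.ι) (L'.restrict U.ι) ≅
            Coh.structureModule (U : Scheme.{u})) := by
  classical
  choose V hV m g hm hg hx using
    fun x : P => RelTwist.exists_chart_basicOpen (p := p) (chart := chart) x
  obtain ⟨t0, -, ht0⟩ := hU.elim_nhds_subcover
    (fun x => Set.range ((Proj.basicOpen (𝒮.deg (V x) (hV x)) (g x)).ι ≫
      RelProj.emb p chart (V x) (hV x)))
    (fun x _ => (Scheme.Hom.isOpenEmbedding _).isOpen_range.mem_nhds (hx x))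
  refine ⟨∏ x ∈ t0, m x, Finset.prod_pos (fun x _ => hm x), ?_⟩
  rintro n ⟨c, rfl⟩ L lam hL L' lam' hL'
  have h0 : (0 : ℤ) = ((∏ x ∈ t0, m x : ℕ) : ℤ) * c + -(((∏ x ∈ t0, m x : ℕ) : ℤ) * c) := by
    ring
  have hZ := isRelTwist_zero (𝒮 := 𝒮) (p := p) (chart := chart) hP
  have hcov : ∀ u ∈ U, CovAt 𝒮 p chart (((∏ x ∈ t0, m x : ℕ) : ℤ) * c) u := by
    intro u hu
    obtain ⟨z, hz, huz⟩ := Set.mem_iUnion₂.mp (ht0 hu)
    obtain ⟨q, hq⟩ : m z ∣ ∏ x ∈ t0, m x := Finset.dvd_prod_of_mem m hz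
    obtain ⟨w, rfl⟩ := huz
    exact covAt_of_mem ⟨V z, hV z⟩ (hg z) w.1
      ((Proj.mem_basicOpen (𝒮.deg (V z) (hV z)) (g z) w.1).1 w.2) (c * q) (by
        rw [hq]; push_cast; ring)
  haveI := isIso_restrict_pairHom hP h0 hL hL' hZ U hcov
  exact ⟨(Tensor.restrictIso U.ι L L').symm ≪≫
    asIso ((Scheme.Modules.restrictFunctor U.ι).map (pairHom hP h0 hL hL' hZ)) ≪≫
    Scheme.Modules.restrictUnitIso U.ι⟩

end Groth.Agent.Helper28.RelSys

end
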