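import Mathlib
import Groth.Agent.Lib.Helper28.RelTwistZero

/-!
# The comparison map `O_{Proj 𝒜}(n) ⟶ h_* O_{Proj ℬ}(n)` along the morphism of relative `Proj`s
induced by a graded homomorphism (helper28)
-/

set_option autoImplicit false
universe u
open CategoryTheory CategoryTheory.Limits AlgebraicGeometry Opposite TopologicalSpace
open scoped HomogeneousIdeal

noncomputable section

namespace Groth.Agent.Helper28.RelSys

open ChartGlue GrTwist GrTwistMul Groth.Agent.Helper13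

section Ring

variable {A σ : Type u} [CommRing A] [SetLike σ A] [AddSubgroupClass σ A] {𝒜 : ℕ → σ}
  [GradedRing 𝒜]
variable {B τ : Type u} [CommRing B] [SetLike τ B] [AddSubgroupClass τ B] {ℬ : ℕ → τ}
  [GradedRing ℬ]
variable {C σ' : Type u} [CommRing C] [SetLike σ' C] [AddSubgroupClass σ' C] {𝒞 : ℕ → σ'}
  [GradedRing 𝒞]
variable {D τ' : Type u} [CommRing D] [SetLike τ' D] [AddSubgroupClass τ' D] {𝒟 : ℕ → τ'}
  [GradedRing 𝒟]

lemma mk_congr' {R : Type u} [CommRing R] {Mm : Submonoid R} {a a' : R} {s s' : Mm} (ha : a = a')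
    (hs : (s : R) = s') : Localization.mk a s = Localization.mk a' s' := by
  subst ha
  congr 1
  exact Subtype.ext hs

/-- the two routes around a commutative square of graded rings agree on values of sections. -/
lemma locMap_two_routes (α : 𝒜 →+*ᵍ ℬ) (hα : ℬ₊ ≤ (𝒜₊).map α) (β : ℬ →+*ᵍ 𝒟)
    (hβ : 𝒟₊ ≤ (ℬ₊).map β) (γ : 𝒜 →+*ᵍ 𝒞) (hγ : 𝒞₊ ≤ (𝒜₊).map γ) (δ : 𝒞 →+*ᵍ 𝒟)
    (hδ : 𝒟₊ ≤ (𝒞₊).map δ) (hcomm : ∀ a, β (α a) = δ (γ a)) (n : ℤ)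
    (U₀ : Opens (ProjectiveSpectrum.top 𝒜)) (t : sectN (𝒜 := 𝒜) n (op U₀))
    (y : ProjectiveSpectrum 𝒟)
    (h1 : ProjectiveSpectrum.comap α hα (ProjectiveSpectrum.comap β hβ y) ∈ U₀)
    (h2 : ProjectiveSpectrum.comap γ hγ (ProjectiveSpectrum.comap δ hδ y) ∈ U₀) :
    GrTwist.locMap β hβ y (GrTwist.locMap α hα (ProjectiveSpectrum.comap β hβ y)
        (t.1 ⟨_, h1⟩).1) =
      GrTwist.locMap δ hδ y (GrTwist.locMap γ hγ (ProjectiveSpectrum.comap δ hδ y)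
        (t.1 ⟨_, h2⟩).1) := by
  have hpt : ProjectiveSpectrum.comap α hα (ProjectiveSpectrum.comap β hβ y) =
      ProjectiveSpectrum.comap γ hγ (ProjectiveSpectrum.comap δ hδ y) := by
    apply ProjectiveSpectrum.ext
    ext a
    change β (α a) ∈ y.asHomogeneousIdeal ↔ δ (γ a) ∈ y.asHomogeneousIdeal
    rw [hcomm]
  have ht : (isLocFracN 𝒜 n).pred t.1 := t.2
  obtain ⟨V, hxV, iV, i, j, a, b, nin, hor, w⟩ := ht ⟨_, h1⟩
  have hxV2 : ProjectiveSpectrum.comap γ hγ (ProjectiveSpectrum.comap δ hδ y) ∈ V := by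
    rw [← hpt]; exact hxV
  have e1 : (t.1 ⟨_, h1⟩).1 = Localization.mk a.1 ⟨b.1, nin ⟨_, hxV⟩⟩ := w ⟨_, hxV⟩
  have e2 : (t.1 ⟨_, h2⟩).1 = Localization.mk a.1 ⟨b.1, nin ⟨_, hxV2⟩⟩ := w ⟨_, hxV2⟩
  rw [e1, e2, GrTwist.locMap_mk, GrTwist.locMap_mk, GrTwist.locMap_mk, GrTwist.locMap_mk]
  exact mk_congr' (hcomm _) (hcomm _)

variable (ψ : 𝒜 →+*ᵍ ℬ) (hψ : ℬ₊ ≤ (𝒜₊).map ψ)

/-- the structure sheaf component of a composite `Proj ℬ ⟶ Proj 𝒜 ⟶ X`, restricted. -/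
lemma scalar_compat {X : Scheme.{u}} (e : Proj 𝒜 ⟶ X) (e' : Proj ℬ ⟶ X)
    (hcomp : Proj.map ψ hψ ≫ e = e') (W : X.Opens) (c : Γ(X, W)) (V : (Proj ℬ).Opens)
    (hV : V ≤ e' ⁻¹ᵁ W)
    (hUV : V.1 ⊆ ProjectiveSpectrum.comap ψ hψ ⁻¹' (e ⁻¹ᵁ W).1) :
    (show O (𝒜 := ℬ) (op V) from
      ((Proj ℬ).presheaf.map (homOfLE hV).op).hom ((e'.app W).hom c)) =
      Proj.comapStructureSheaf ψ hψ (e ⁻¹ᵁ W) V hUV
        (show O (𝒜 := 𝒜) (op (e ⁻¹ᵁ W)) from (e.app W).hom c) := by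
  subst hcomp
  rfl

end Ring

section Rel

variable {S : Scheme.{u}} {𝒜 ℬ : RelProj.QCGrAlg S} (φ : 𝒜.toQCAlg ⟶ ℬ.toQCAlg)
  (hφ : RelProj.IsGradedHom φ)
  (hirr : ∀ (U : S.Opens) (hU : IsAffineOpen U),
    (ℬ.deg U hU)₊ ≤ ((𝒜.deg U hU)₊).map (RelProj.gradedHomAt φ hφ U hU))
  {PA PB : Scheme.{u}} {pA : PA ⟶ S} {pB : PB ⟶ S}
  {chartA : ∀ (U : S.Opens) (hU : IsAffineOpen U),
    (((pA ⁻¹ᵁ U : PA.Opens) : Scheme.{u}) ≅ Proj (𝒜.deg U hU))}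
  {chartB : ∀ (U : S.Opens) (hU : IsAffineOpen U),
    (((pB ⁻¹ᵁ U : PB.Opens) : Scheme.{u}) ≅ Proj (ℬ.deg U hU))}
  (hA : RelProj.IsRelProj 𝒜 pA chartA) (hB : RelProj.IsRelProj ℬ pB chartB)
  {h : PB ⟶ PA} (hh : RelProj.IsRelProjMap φ hφ hirr chartA chartB h)

include hh in
lemma emb_comp (U : S.Opens) (hU : IsAffineOpen U) :
    RelProj.emb pB chartB U hU ≫ h =
      Proj.map (RelProj.gradedHomAt φ hφ U hU) (hirr U hU) ≫ RelProj.emb pA chartA U hU := by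
  unfold RelProj.emb
  rw [Category.assoc, hh U hU, Iso.inv_hom_id_assoc]

include hh in
lemma emb_comap_eq (U : S.Opens) (hU : IsAffineOpen U) (y : Proj (ℬ.deg U hU)) :
    (RelProj.emb pA chartA U hU).base
      (ProjectiveSpectrum.comap (RelProj.gradedHomAt φ hφ U hU) (hirr U hU) y) =
      h.base ((RelProj.emb pB chartB U hU).base y) := by
  have := congrArg (fun f => f.base y) (emb_comp φ hφ hirr hh U hU)
  exact this.symm

include hh in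
lemma comap_subset (U : S.Opens) (hU : IsAffineOpen U) (W : PA.Opens) (W'' : PB.Opens)
    (h1 : W'' ≤ h ⁻¹ᵁ W) :
    (RelProj.emb pB chartB U hU ⁻¹ᵁ W'').1 ⊆
      ProjectiveSpectrum.comap (RelProj.gradedHomAt φ hφ U hU) (hirr U hU) ⁻¹'
        (RelProj.emb pA chartA U hU ⁻¹ᵁ W).1 := by
  intro y hy
  change (RelProj.emb pA chartA U hU).base
      (ProjectiveSpectrum.comap (RelProj.gradedHomAt φ hφ U hU) (hirr U hU) y) ∈ W
  rw [emb_comap_eq φ hφ hirr hh U hU y]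
  exact h1 hy

lemma gradedHomAt_res {U V : S.Opens} (hU : IsAffineOpen U) (hV : IsAffineOpen V) (i : V ≤ U)
    (a : 𝒜.presheaf.obj (op U)) :
    RelProj.gradedHomAt φ hφ V hV (𝒜.res hU hV i a) =
      ℬ.res hU hV i (RelProj.gradedHomAt φ hφ U hU a) := by
  have := φ.hom.naturality (homOfLE i).op
  exact congr($this a)

variable {n : ℤ} {LA : PA.Modules}
  {lamA : ∀ (U : S.Opens) (hU : IsAffineOpen U),
    LA ⟶ (Scheme.Modules.pushforward (RelProj.emb pA chartA U hU)).obj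
      (GrTwist.twist (𝒜.deg U hU) n)}
  (hLA : RelProj.IsRelTwist 𝒜 pA chartA n LA lamA)
  {LB : PB.Modules}
  {lamB : ∀ (U : S.Opens) (hU : IsAffineOpen U),
    LB ⟶ (Scheme.Modules.pushforward (RelProj.emb pB chartB U hU)).obj
      (GrTwist.twist (ℬ.deg U hU) n)}
  (hLB : RelProj.IsRelTwist ℬ pB chartB n LB lamB)

/-- the chartwise comparison of a section. -/
def cmpAt (U : Aff S) (W : PA.Opens) (W'' : PB.Opens) (h1 : W'' ≤ h ⁻¹ᵁ W) (s : Γ(LA, W)) :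
    Γ(twN ℬ pB chartB n U, W'') :=
  GrTwist.comapApp (RelProj.gradedHomAt φ hφ U.1 U.2) (hirr U.1 U.2) n
    (RelProj.emb pA chartA U.1 U.2 ⁻¹ᵁ W) (RelProj.emb pB chartB U.1 U.2 ⁻¹ᵁ W'')
    (comap_subset φ hφ hirr hh U.1 U.2 W W'' h1) ((lamA U.1 U.2).app W s)

lemma cmpAt_val (U : Aff S) (W : PA.Opens) (W'' : PB.Opens) (h1 : W'' ≤ h ⁻¹ᵁ W)
    (s : Γ(LA, W)) (y : ProjectiveSpectrum (ℬ.deg U.1 U.2))
    (hy : (RelProj.emb pB chartB U.1 U.2).base y ∈ W'') :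
    GrTwist.val (V := RelProj.emb pB chartB U.1 U.2 ⁻¹ᵁ W'')
        (cmpAt φ hφ hirr hh (lamA := lamA) U W W'' h1 s) ⟨y, hy⟩ =
      GrTwist.locMap (RelProj.gradedHomAt φ hφ U.1 U.2) (hirr U.1 U.2) y
        (GrTwist.val (V := RelProj.emb pA chartA U.1 U.2 ⁻¹ᵁ W) ((lamA U.1 U.2).app W s)
          ⟨_, comap_subset φ hφ hirr hh U.1 U.2 W W'' h1 hy⟩) := rfl

include hA hLA in
lemma cmpAt_rel (U : Aff S) (r : Γ(S, U.1)) (W : PA.Opens) (W'' : PB.Opens)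
    (h1 : W'' ≤ h ⁻¹ᵁ W) (s : Γ(LA, W)) :
    twistRelAt ℬ pB chartB n U r W'' (cmpAt φ hφ hirr hh (lamA := lamA) U W W'' h1 s)
      (cmpAt φ hφ hirr hh (lamA := lamA) (bo U r) W W'' h1 s) := by
  unfold twistRelAt
  intro y hy hy'
  have hyA := comap_subset φ hφ hirr hh (S.basicOpen r) (U.2.basicOpen r) W W'' h1 hy
  have hyA' := emb_comap_mem hA U r W _ hyA
  have e1 := hLA.compat U.1 U.2 r W s _ hyA hyA'
  refine (congrArg (GrTwist.locMap (RelProj.gradedHomAt φ hφ (S.basicOpen r) (U.2.basicOpen r))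
    (hirr _ _) y) e1).trans ?_
  exact locMap_two_routes (𝒜.res U.2 (U.2.basicOpen r) (S.basicOpen_le r))
    (𝒜.irrelevant_le_map U.1 U.2 r)
    (RelProj.gradedHomAt φ hφ (S.basicOpen r) (U.2.basicOpen r)) (hirr _ _)
    (RelProj.gradedHomAt φ hφ U.1 U.2) (hirr U.1 U.2)
    (ℬ.res U.2 (U.2.basicOpen r) (S.basicOpen_le r)) (ℬ.irrelevant_le_map U.1 U.2 r)
    (fun a => gradedHomAt_res φ hφ U.2 (U.2.basicOpen r) (S.basicOpen_le r) a) n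
    (RelProj.emb pA chartA U.1 U.2 ⁻¹ᵁ W) ((lamA U.1 U.2).app W s) y hyA'
    (comap_subset φ hφ hirr hh U.1 U.2 W W'' h1 hy')

/-- the family of chartwise comparisons of a section. -/
def cmpFam (W : PA.Opens) (s : Γ(LA, W)) : Fam (twistSys ℬ pB chartB hB n) (h ⁻¹ᵁ W) where
  c := fun (U : Aff S) W'' h1 _ => cmpAt φ hφ hirr hh (lamA := lamA) U W W'' h1 s
  res := fun (U : Aff S) W' W'' h1 _ hh' => rfl
  rel := fun (U D : Aff S) _ W'' h1 _ _ r e b' hb' => by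
    subst e
    obtain rfl := eq_of_heq hb'
    exact cmpAt_rel φ hφ hirr hA hh hLA U r W W'' h1 s

/-- the comparison map on sections. -/
def cmpSec (W : PA.Opens) (s : Γ(LA, W)) : Γ(LB, h ⁻¹ᵁ W) :=
  glueSec (adapted_of_isRelTwist hB hLB) (cmpFam φ hφ hirr hA hB hh hLA W s)

lemma cmpSec_spec (W : PA.Opens) (s : Γ(LA, W)) (U : Aff S) (W'' : PB.Opens)
    (h1 : W'' ≤ h ⁻¹ᵁ W) (h2 : W'' ≤ pB ⁻¹ᵁ U.1) :
    rl (lamB U.1 U.2) h1 (cmpSec φ hφ hirr hA hB hh hLA hLB W s) =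
      cmpAt φ hφ hirr hh (lamA := lamA) U W W'' h1 s :=
  glueSec_spec (adapted_of_isRelTwist hB hLB) (cmpFam φ hφ hirr hA hB hh hLA W s) U W'' h1 h2

lemma cmpSec_unique (W : PA.Opens) (s : Γ(LA, W)) (σ : Γ(LB, h ⁻¹ᵁ W))
    (hσ : ∀ (U : Aff S) (W'' : PB.Opens) (h1 : W'' ≤ h ⁻¹ᵁ W) (_ : W'' ≤ pB ⁻¹ᵁ U.1),
      rl (lamB U.1 U.2) h1 σ = cmpAt φ hφ hirr hh (lamA := lamA) U W W'' h1 s) :
    σ = cmpSec φ hφ hirr hA hB hh hLA hLB W s :=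
  glueSec_unique (adapted_of_isRelTwist hB hLB) (cmpFam φ hφ hirr hA hB hh hLA W s) σ hσ

omit hA in
lemma cmpAt_add (U : Aff S) (W : PA.Opens) (W'' : PB.Opens) (h1 : W'' ≤ h ⁻¹ᵁ W)
    (s s' : Γ(LA, W)) :
    cmpAt φ hφ hirr hh (lamA := lamA) U W W'' h1 (s + s') =
      cmpAt φ hφ hirr hh (lamA := lamA) U W W'' h1 s +
        cmpAt φ hφ hirr hh (lamA := lamA) U W W'' h1 s' := by
  have e : (lamA U.1 U.2).app W (s + s') =
      (lamA U.1 U.2).app W s + (lamA U.1 U.2).app W s' := map_add _ _ _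
  exact (congrArg (GrTwist.comapApp (RelProj.gradedHomAt φ hφ U.1 U.2) (hirr U.1 U.2) n
    (RelProj.emb pA chartA U.1 U.2 ⁻¹ᵁ W) (RelProj.emb pB chartB U.1 U.2 ⁻¹ᵁ W'')
    (comap_subset φ hφ hirr hh U.1 U.2 W W'' h1)) e).trans (map_add _ _ _)

omit hA in
lemma cmpAt_res (U : Aff S) {W W' : PA.Opens} (hW : W' ≤ W) (W'' : PB.Opens)
    (h1 : W'' ≤ h ⁻¹ᵁ W') (s : Γ(LA, W)) :
    cmpAt φ hφ hirr hh (lamA := lamA) U W' W'' h1 (rs LA hW s) =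
      cmpAt φ hφ hirr hh (lamA := lamA) U W W'' (h1.trans (h.preimage_mono hW)) s := by
  have e : (lamA U.1 U.2).app W' (rs LA hW s) =
      rs (twN 𝒜 pA chartA n U) hW ((lamA U.1 U.2).app W s) := app_rs _ hW s
  refine (congrArg (GrTwist.comapApp (RelProj.gradedHomAt φ hφ U.1 U.2) (hirr U.1 U.2) n
    (RelProj.emb pA chartA U.1 U.2 ⁻¹ᵁ W') (RelProj.emb pB chartB U.1 U.2 ⁻¹ᵁ W'')
    (comap_subset φ hφ hirr hh U.1 U.2 W' W'' h1)) e).trans ?_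
  exact Subtype.ext (funext fun y => Subtype.ext rfl)

lemma cmpSec_add (W : PA.Opens) (s s' : Γ(LA, W)) :
    cmpSec φ hφ hirr hA hB hh hLA hLB W (s + s') =
      cmpSec φ hφ hirr hA hB hh hLA hLB W s + cmpSec φ hφ hirr hA hB hh hLA hLB W s' := by
  symm
  apply cmpSec_unique
  intro U W'' h1 h2
  rw [rl_add, cmpSec_spec φ hφ hirr hA hB hh hLA hLB W s U W'' h1 h2,
    cmpSec_spec φ hφ hirr hA hB hh hLA hLB W s' U W'' h1 h2, cmpAt_add]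

lemma cmpSec_res {W W' : PA.Opens} (hW : W' ≤ W) (s : Γ(LA, W)) :
    rs LB (h.preimage_mono hW) (cmpSec φ hφ hirr hA hB hh hLA hLB W s) =
      cmpSec φ hφ hirr hA hB hh hLA hLB W' (rs LA hW s) := by
  apply cmpSec_unique
  intro U W'' h1 h2
  rw [rl_rs, cmpSec_spec φ hφ hirr hA hB hh hLA hLB W s U W'' _ h2, cmpAt_res]

end Rel

end Groth.Agent.Helper28.RelSys

end
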