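import Mathlib
import Groth.Agent.Lib.Helper28.RelTwistComap

/-!
# The comparison map `O_{Proj 𝒜}(n) ⟶ h_* O_{Proj ℬ}(n)`: linearity, the morphism, uniqueness
(helper28)
-/

set_option autoImplicit false
universe u
open CategoryTheory CategoryTheory.Limits AlgebraicGeometry Opposite TopologicalSpace
open scoped HomogeneousIdeal

noncomputable section

namespace Groth.Agent.Helper28.RelSys

open ChartGlue GrTwist GrTwistMul Groth.Agent.Helper13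

variable {S : Scheme.{u}} {𝒜 ℬ : RelProj.QCGrAlg S} (φ : 𝒜.toQCAlg ⟶ ℬ.toQCAlg)
  (hφ : RelProj.IsGradedHom φ)
  (hirr : ∀ (U : S.Opens) (hU : IsAffineOpen U),
    (ℬ.deg U hU)₊ ≤ ((𝒜.deg U hU)₊).map (RelProj.gradedHomAt φ hφ U hU))
  {PA PB : Scheme.{u}} {pA : PA ⟶ S} {pB : PB ⟶ S}
  {chartA : ∀ (U : S.Opens) (hU : IsAffineOpen U),
    (((pA ⁻¹ᵁ U : PA.Opens) : Scheme.{u}) ≅ Proj (𝒜.deg U hU))}
  {chartB : ∀ (U : S.Opens) (hU : IsAffineOpen U),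
    (((pB ⁻¹ᵁ U : PB.Opens) : Scheme.{u}) ≅ Proj (ℬ.deg U hU))}
  (hA : RelProj.IsRelProj 𝒜 pA chartA) (hB : RelProj.IsRelProj ℬ pB chartB)
  {h : PB ⟶ PA} (hh : RelProj.IsRelProjMap φ hφ hirr chartA chartB h)
  {n : ℤ} {LA : PA.Modules}
  {lamA : ∀ (U : S.Opens) (hU : IsAffineOpen U),
    LA ⟶ (Scheme.Modules.pushforward (RelProj.emb pA chartA U hU)).obj
      (GrTwist.twist (𝒜.deg U hU) n)}
  (hLA : RelProj.IsRelTwist 𝒜 pA chartA n LA lamA)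
  {LB : PB.Modules}
  {lamB : ∀ (U : S.Opens) (hU : IsAffineOpen U),
    LB ⟶ (Scheme.Modules.pushforward (RelProj.emb pB chartB U hU)).obj
      (GrTwist.twist (ℬ.deg U hU) n)}
  (hLB : RelProj.IsRelTwist ℬ pB chartB n LB lamB)

lemma cmpAt_smul (U : Aff S) (W : PA.Opens) (W'' : PB.Opens) (h1 : W'' ≤ h ⁻¹ᵁ W)
    (c : Γ(PA, W)) (s : Γ(LA, W)) :
    cmpAt φ hφ hirr hh (lamA := lamA) U W W'' h1 (c • s) =
      (PB.presheaf.map (homOfLE h1).op).hom ((h.app W).hom c) •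
        cmpAt φ hφ hirr hh (lamA := lamA) U W W'' h1 s := by
  have e : (lamA U.1 U.2).app W (c • s) = c • (lamA U.1 U.2).app W s :=
    Scheme.Modules.Hom.app_smul _ c s
  have hUV := comap_subset φ hφ hirr hh U.1 U.2 W W'' h1
  have e1 := GrTwist.comapApp_smul (RelProj.gradedHomAt φ hφ U.1 U.2) (hirr U.1 U.2) n
    (RelProj.emb pA chartA U.1 U.2 ⁻¹ᵁ W) (RelProj.emb pB chartB U.1 U.2 ⁻¹ᵁ W'') hUV
    (show O (𝒜 := 𝒜.deg U.1 U.2) (op (RelProj.emb pA chartA U.1 U.2 ⁻¹ᵁ W)) from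
      ((RelProj.emb pA chartA U.1 U.2).app W).hom c) ((lamA U.1 U.2).app W s)
  have hV : RelProj.emb pB chartB U.1 U.2 ⁻¹ᵁ W'' ≤
      (RelProj.emb pB chartB U.1 U.2 ≫ h) ⁻¹ᵁ W := fun y hy => h1 hy
  have e2 := scalar_compat (RelProj.gradedHomAt φ hφ U.1 U.2) (hirr U.1 U.2)
    (RelProj.emb pA chartA U.1 U.2) (RelProj.emb pB chartB U.1 U.2 ≫ h)
    (emb_comp φ hφ hirr hh U.1 U.2).symm W c (RelProj.emb pB chartB U.1 U.2 ⁻¹ᵁ W'') hV hUV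
  have nat := (RelProj.emb pB chartB U.1 U.2).naturality (homOfLE h1).op
  have e3 : ((RelProj.emb pB chartB U.1 U.2).app W'').hom
      ((PB.presheaf.map (homOfLE h1).op).hom ((h.app W).hom c)) =
      ((Proj (ℬ.deg U.1 U.2)).presheaf.map (homOfLE hV).op).hom
        (((RelProj.emb pB chartB U.1 U.2 ≫ h).app W).hom c) := congr($nat ((h.app W).hom c))
  have e4 : (show O (𝒜 := ℬ.deg U.1 U.2) (op (RelProj.emb pB chartB U.1 U.2 ⁻¹ᵁ W'')) from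
      ((RelProj.emb pB chartB U.1 U.2).app W'').hom
        ((PB.presheaf.map (homOfLE h1).op).hom ((h.app W).hom c))) =
      Proj.comapStructureSheaf (RelProj.gradedHomAt φ hφ U.1 U.2) (hirr U.1 U.2)
        (RelProj.emb pA chartA U.1 U.2 ⁻¹ᵁ W) (RelProj.emb pB chartB U.1 U.2 ⁻¹ᵁ W'') hUV
        (show O (𝒜 := 𝒜.deg U.1 U.2) (op (RelProj.emb pA chartA U.1 U.2 ⁻¹ᵁ W)) from
          ((RelProj.emb pA chartA U.1 U.2).app W).hom c) := e3.trans e2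
  refine (congrArg (GrTwist.comapApp (RelProj.gradedHomAt φ hφ U.1 U.2) (hirr U.1 U.2) n
    (RelProj.emb pA chartA U.1 U.2 ⁻¹ᵁ W) (RelProj.emb pB chartB U.1 U.2 ⁻¹ᵁ W'') hUV) e).trans ?_
  refine e1.trans ?_
  exact congrArg (fun r : O (𝒜 := ℬ.deg U.1 U.2) (op (RelProj.emb pB chartB U.1 U.2 ⁻¹ᵁ W'')) =>
    (r • (GrTwist.comapApp (RelProj.gradedHomAt φ hφ U.1 U.2) (hirr U.1 U.2) n
      (RelProj.emb pA chartA U.1 U.2 ⁻¹ᵁ W) (RelProj.emb pB chartB U.1 U.2 ⁻¹ᵁ W'') hUV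
      ((lamA U.1 U.2).app W s)) : sectN (𝒜 := ℬ.deg U.1 U.2) n
        (op (RelProj.emb pB chartB U.1 U.2 ⁻¹ᵁ W'')))) e4.symm

lemma cmpSec_smul (W : PA.Opens) (c : Γ(PA, W)) (s : Γ(LA, W)) :
    cmpSec φ hφ hirr hA hB hh hLA hLB W (c • s) =
      ((h.app W).hom c) • cmpSec φ hφ hirr hA hB hh hLA hLB W s := by
  symm
  apply cmpSec_unique
  intro U W'' h1 h2
  rw [rl_smul, cmpSec_spec φ hφ hirr hA hB hh hLA hLB W s U W'' h1 h2, cmpAt_smul]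

/-- the comparison morphism `O_{Proj 𝒜}(n) ⟶ h_* O_{Proj ℬ}(n)`. -/
def cmpHom : LA ⟶ (Scheme.Modules.pushforward h).obj LB :=
  (⟨PresheafOfModules.homMk (M₁ := LA.val) (M₂ := ((Scheme.Modules.pushforward h).obj LB).val)
    { app := fun W => AddCommGrpCat.ofHom
        (AddMonoidHom.mk' (fun s : Γ(LA, W.unop) =>
          (cmpSec φ hφ hirr hA hB hh hLA hLB W.unop s : Γ(LB, h ⁻¹ᵁ W.unop)))
          (fun s t => cmpSec_add φ hφ hirr hA hB hh hLA hLB W.unop s t))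
      naturality := fun U V i => by
        ext s
        exact (cmpSec_res φ hφ hirr hA hB hh hLA hLB i.unop.le s).symm }
    (fun W r s => cmpSec_smul φ hφ hirr hA hB hh hLA hLB W.unop r s)⟩ : SheafOfModules.Hom _ _)

lemma cmpHom_app (W : PA.Opens) (s : Γ(LA, W)) :
    (cmpHom φ hφ hirr hA hB hh hLA hLB).app W s = cmpSec φ hφ hirr hA hB hh hLA hLB W s := rfl

omit hA hB hLA hLB in
lemma emb_mem_preimage (U : S.Opens) (hU : IsAffineOpen U) (y : Proj (ℬ.deg U hU)) :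
    (RelProj.emb pB chartB U hU).base y ∈ pB ⁻¹ᵁ U := by
  have h1 : (RelProj.emb pB chartB U hU).base y ∈ (RelProj.emb pB chartB U hU).opensRange :=
    ⟨y, rfl⟩
  rw [RelTwist.opensRange_emb] at h1
  exact h1

/-- the valuewise description of a morphism agreeing with the comparison. -/
def IsCmp (θ : LA ⟶ (Scheme.Modules.pushforward h).obj LB) : Prop :=
  ∀ (U : S.Opens) (hU : IsAffineOpen U) (W : PA.Opens) (s : Γ(LA, W))
    (y : ProjectiveSpectrum (ℬ.deg U hU))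
    (hy : (RelProj.emb pB chartB U hU).base y ∈ h ⁻¹ᵁ W)
    (hy' : (RelProj.emb pA chartA U hU).base
      (ProjectiveSpectrum.comap (RelProj.gradedHomAt φ hφ U hU) (hirr U hU) y) ∈ W),
    GrTwist.val (V := RelProj.emb pB chartB U hU ⁻¹ᵁ (h ⁻¹ᵁ W))
        ((lamB U hU).app (h ⁻¹ᵁ W) (θ.app W s)) ⟨y, hy⟩ =
      GrTwist.locMap (RelProj.gradedHomAt φ hφ U hU) (hirr U hU) y
        (GrTwist.val (V := RelProj.emb pA chartA U hU ⁻¹ᵁ W) ((lamA U hU).app W s) ⟨_, hy'⟩)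

theorem isCmp_cmpHom :
    IsCmp φ hφ hirr (lamA := lamA) (lamB := lamB) (cmpHom φ hφ hirr hA hB hh hLA hLB) := by
  intro U hU W s y hy hy'
  have hyU := emb_mem_preimage (pB := pB) (chartB := chartB) U hU y
  have spec := cmpSec_spec φ hφ hirr hA hB hh hLA hLB W s ⟨U, hU⟩ (h ⁻¹ᵁ W ⊓ pB ⁻¹ᵁ U)
    inf_le_left inf_le_right
  have e1 : rl (lamB U hU) (inf_le_left : h ⁻¹ᵁ W ⊓ pB ⁻¹ᵁ U ≤ h ⁻¹ᵁ W)
      (cmpSec φ hφ hirr hA hB hh hLA hLB W s) =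
      rs (twN ℬ pB chartB n ⟨U, hU⟩) (inf_le_left : h ⁻¹ᵁ W ⊓ pB ⁻¹ᵁ U ≤ h ⁻¹ᵁ W)
        ((lamB U hU).app (h ⁻¹ᵁ W) (cmpSec φ hφ hirr hA hB hh hLA hLB W s)) := app_rs _ _ _
  have e2 := congrArg (fun t : Γ(twN ℬ pB chartB n ⟨U, hU⟩, h ⁻¹ᵁ W ⊓ pB ⁻¹ᵁ U) =>
    GrTwist.val (V := RelProj.emb pB chartB U hU ⁻¹ᵁ (h ⁻¹ᵁ W ⊓ pB ⁻¹ᵁ U)) t ⟨y, ⟨hy, hyU⟩⟩)
    (e1.symm.trans spec)
  exact e2

include hh in
omit hA hLA in
theorem eq_cmpHom_of_isCmp (θ : LA ⟶ (Scheme.Modules.pushforward h).obj LB)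
    (hθ : IsCmp φ hφ hirr (lamA := lamA) (lamB := lamB) θ) (W : PA.Opens) (s : Γ(LA, W))
    (U : Aff S) (W'' : PB.Opens) (h1 : W'' ≤ h ⁻¹ᵁ W) :
    rl (lamB U.1 U.2) h1 (θ.app W s) = cmpAt φ hφ hirr hh (lamA := lamA) U W W'' h1 s := by
  have e1 : rl (lamB U.1 U.2) h1 (θ.app W s) =
      rs (twN ℬ pB chartB n U) h1 ((lamB U.1 U.2).app (h ⁻¹ᵁ W) (θ.app W s)) := app_rs _ _ _
  rw [e1]
  refine twist_sec_ext (ℬ.deg U.1 U.2) n (V := RelProj.emb pB chartB U.1 U.2 ⁻¹ᵁ W'') _ _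
    (fun y => ?_)
  exact hθ U.1 U.2 W s y.1 (h1 y.2) (comap_subset φ hφ hirr hh U.1 U.2 W W'' h1 y.2)

include hA hB hh hLA hLB in
/-- existence and uniqueness of the comparison morphism. -/
theorem existsUnique_cmp :
    ∃! θ : LA ⟶ (Scheme.Modules.pushforward h).obj LB,
      IsCmp φ hφ hirr (lamA := lamA) (lamB := lamB) θ := by
  refine ⟨cmpHom φ hφ hirr hA hB hh hLA hLB, isCmp_cmpHom φ hφ hirr hA hB hh hLA hLB, ?_⟩
  intro θ hθ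
  apply Scheme.Modules.hom_ext
  intro W
  ext s
  change θ.app W s = cmpSec φ hφ hirr hA hB hh hLA hLB W s
  apply cmpSec_unique
  intro U W'' h1 _
  exact eq_cmpHom_of_isCmp φ hφ hirr hh θ hθ W s U W'' h1

end Groth.Agent.Helper28.RelSys

end
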