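import Mathlib
import Groth.Agent.Lib.Helper28.RelTwistComap2

/-!
# The maps of localizations `A_{ψ⁻¹ y} → B_y` for a degree-zero localization `B = A[1/c]` (helper28)
-/

set_option autoImplicit false
universe u
open CategoryTheory AlgebraicGeometry Opposite TopologicalSpace
open scoped HomogeneousIdeal

namespace Groth.Agent.Helper28.GrTwistLoc

open GrTwist Groth.Agent.Helper28.RelSys

variable {A σ : Type u} [CommRing A] [SetLike σ A] [AddSubgroupClass σ A] {𝒜 : ℕ → σ}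
  [GradedRing 𝒜]
variable {B τ : Type u} [CommRing B] [SetLike τ B] [AddSubgroupClass τ B] {ℬ : ℕ → τ}
  [GradedRing ℬ]
variable {D τ' : Type u} [CommRing D] [SetLike τ' D] [AddSubgroupClass τ' D] {𝒟 : ℕ → τ'}
  [GradedRing 𝒟]

/-- the maps of localizations compose, on values of sections. -/
lemma locMap_comp (α : 𝒜 →+*ᵍ ℬ) (hα : ℬ₊ ≤ (𝒜₊).map α) (β : ℬ →+*ᵍ 𝒟)
    (hβ : 𝒟₊ ≤ (ℬ₊).map β) (γ : 𝒜 →+*ᵍ 𝒟) (hγ : 𝒟₊ ≤ (𝒜₊).map γ)
    (hcomm : ∀ a, β (α a) = γ a) (n : ℤ)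
    (U₀ : Opens (ProjectiveSpectrum.top 𝒜)) (t : sectN (𝒜 := 𝒜) n (op U₀))
    (y : ProjectiveSpectrum 𝒟)
    (h1 : ProjectiveSpectrum.comap α hα (ProjectiveSpectrum.comap β hβ y) ∈ U₀)
    (h2 : ProjectiveSpectrum.comap γ hγ y ∈ U₀) :
    GrTwist.locMap β hβ y (GrTwist.locMap α hα (ProjectiveSpectrum.comap β hβ y)
        (t.1 ⟨_, h1⟩).1) =
      GrTwist.locMap γ hγ y (t.1 ⟨_, h2⟩).1 := by
  have hpt : ProjectiveSpectrum.comap α hα (ProjectiveSpectrum.comap β hβ y) =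
      ProjectiveSpectrum.comap γ hγ y := by
    apply ProjectiveSpectrum.ext
    ext a
    change β (α a) ∈ y.asHomogeneousIdeal ↔ γ a ∈ y.asHomogeneousIdeal
    rw [hcomm]
  have ht : (isLocFracN 𝒜 n).pred t.1 := t.2
  obtain ⟨V, hxV, iV, i, j, a, b, nin, hor, w⟩ := ht ⟨_, h1⟩
  have hxV2 : ProjectiveSpectrum.comap γ hγ y ∈ V := by
    rw [← hpt]; exact hxV
  have e1 : (t.1 ⟨_, h1⟩).1 = Localization.mk a.1 ⟨b.1, nin ⟨_, hxV⟩⟩ := w ⟨_, hxV⟩
  have e2 : (t.1 ⟨_, h2⟩).1 = Localization.mk a.1 ⟨b.1, nin ⟨_, hxV2⟩⟩ := w ⟨_, hxV2⟩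
  rw [e1, e2, GrTwist.locMap_mk, GrTwist.locMap_mk, GrTwist.locMap_mk]
  exact mk_congr' (hcomm _) (hcomm _)

variable (ψ : 𝒜 →+*ᵍ ℬ) (hψ : ℬ₊ ≤ (𝒜₊).map ψ)

/-- for a localization at an element `c` (`ψ c` a unit, kernel killed by powers of `c`, every
element a fraction with denominator a power of `c`) the maps of localizations are injective. -/
theorem locMap_injective (c : A) (hcu : IsUnit (ψ c))
    (hker : ∀ a : A, ψ a = 0 → ∃ k : ℕ, c ^ k * a = 0)
    (hsurj : ∀ b : B, ∃ (k : ℕ) (a : A), ψ a = b * ψ c ^ k) (y : ProjectiveSpectrum ℬ) :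
    Function.Injective (GrTwist.locMap ψ hψ y) := by
  have hyp : y.asHomogeneousIdeal.toIdeal.IsPrime := y.isPrime
  have hcy : ∀ k : ℕ, ψ c ^ k ∉ y.asHomogeneousIdeal.toIdeal := fun k h =>
    hyp.ne_top (Ideal.eq_top_of_isUnit_mem _ h (hcu.pow k))
  rw [injective_iff_map_eq_zero]
  intro q
  induction q using Localization.induction_on with
  | H as =>
    obtain ⟨a, s⟩ := as
    intro hq
    rw [GrTwist.locMap_mk, Localization.mk_eq_mk'_apply, IsLocalization.mk'_eq_zero_iff] at hq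
    obtain ⟨m, hm⟩ := hq
    obtain ⟨k, t', ht'⟩ := hsurj (m : B)
    have h0 : ψ (t' * a) = 0 := by rw [map_mul, ht', mul_right_comm, hm, zero_mul]
    obtain ⟨l, hl⟩ := hker _ h0
    have hnin : c ^ l * t' ∈
        (ProjectiveSpectrum.comap ψ hψ y).asHomogeneousIdeal.toIdeal.primeCompl := by
      intro hmem
      have hmem' : ψ (c ^ l * t') ∈ y.asHomogeneousIdeal.toIdeal := hmem
      rw [map_mul, map_pow, ht'] at hmem'
      rcases hyp.mem_or_mem hmem' with h | h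
      · exact hcy l h
      · rcases hyp.mem_or_mem h with h | h
        · exact m.2 h
        · exact hcy k h
    rw [Localization.mk_eq_mk'_apply, IsLocalization.mk'_eq_zero_iff]
    exact ⟨⟨c ^ l * t', hnin⟩, by rw [mul_assoc]; exact hl⟩

/-- homogeneous fractions over `B = A[1/c]`, `c` of degree zero, lift to homogeneous fractions
over `A`. -/
theorem exists_lift_frac (c : A) (hc0 : c ∈ 𝒜 0) (hcu : IsUnit (ψ c))
    (hlift : ∀ (i : ℕ) (b : B), b ∈ ℬ i → ∃ (k : ℕ) (a : A), a ∈ 𝒜 i ∧ ψ a = b * ψ c ^ k)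
    {i j : ℕ} (β σ' : B) (hβ : β ∈ ℬ i) (hσ : σ' ∈ ℬ j) :
    ∃ (α s : A), α ∈ 𝒜 i ∧ s ∈ 𝒜 j ∧
      ∀ (y : ProjectiveSpectrum ℬ) (hσy : σ' ∉ y.asHomogeneousIdeal),
        ∃ hs : s ∉ (ProjectiveSpectrum.comap ψ hψ y).asHomogeneousIdeal,
          GrTwist.locMap ψ hψ y (Localization.mk α ⟨s, hs⟩) = Localization.mk β ⟨σ', hσy⟩ := by
  obtain ⟨k, α', hα', eα⟩ := hlift i β hβ
  obtain ⟨l, s', hs', es⟩ := hlift j σ' hσ
  have hck : ∀ m : ℕ, c ^ m ∈ 𝒜 0 := fun m => by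
    have h := SetLike.pow_mem_graded m hc0
    rwa [smul_zero] at h
  refine ⟨α' * c ^ l, s' * c ^ k, ?_, ?_, ?_⟩
  · have h := SetLike.mul_mem_graded hα' (hck l)
    rwa [add_zero] at h
  · have h := SetLike.mul_mem_graded hs' (hck k)
    rwa [add_zero] at h
  · intro y hσy
    have hyp : y.asHomogeneousIdeal.toIdeal.IsPrime := y.isPrime
    have hcy : ∀ m : ℕ, ψ c ^ m ∉ y.asHomogeneousIdeal.toIdeal := fun m h =>
      hyp.ne_top (Ideal.eq_top_of_isUnit_mem _ h (hcu.pow m))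
    have hs : s' * c ^ k ∉ (ProjectiveSpectrum.comap ψ hψ y).asHomogeneousIdeal := by
      intro hmem
      have hmem' : ψ (s' * c ^ k) ∈ y.asHomogeneousIdeal.toIdeal := hmem
      rw [map_mul, map_pow, es] at hmem'
      rcases hyp.mem_or_mem hmem' with h | h
      · rcases hyp.mem_or_mem h with h | h
        · exact hσy h
        · exact hcy l h
      · exact hcy k h
    refine ⟨hs, ?_⟩
    rw [GrTwist.locMap_mk, Localization.mk_eq_mk_iff, Localization.r_iff_exists]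
    refine ⟨1, ?_⟩
    simp only [OneMemClass.coe_one, one_mul]
    rw [map_mul, map_mul, map_pow, map_pow, eα, es]
    ring

end Groth.Agent.Helper28.GrTwistLoc
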