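import Mathlib
import Groth.Agent.Lib.Helper12.GrpCohTorsion
set_option autoImplicit false
open CategoryTheory groupCohomology Limits

namespace Groth.Agent.Helper28.GrpCohDiv

variable {k : Type} [CommRing k] {G : Type} [Group G] [Finite G]

theorem isZero_of_uniquely_divisible (K : Rep k G)
    (hdiv : ∀ a : K, ∃ b : K, Nat.card G • b = a)
    (htors : ∀ a : K, Nat.card G • a = 0 → a = 0) (n : ℕ) :
    IsZero (groupCohomology K (n + 1)) := by
  let ψ : K ⟶ K := Nat.card G • 𝟙 K
  have hψ : ∀ x : K, ψ.hom x = Nat.card G • x := fun x => by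
    exact congrFun (Representation.IntertwiningMap.coe_nsmul _ _ (𝟙 K : K ⟶ K).hom (Nat.card G)) x
  have hmono : Mono ψ := by
    rw [Rep.mono_iff_injective]
    intro x y hxy
    rw [hψ, hψ] at hxy
    have : Nat.card G • (x - y) = 0 := by rw [smul_sub, hxy, sub_self]
    exact sub_eq_zero.1 (htors _ this)
  have hepi : Epi ψ := by
    rw [Rep.epi_iff_surjective]
    intro x
    obtain ⟨b, hb⟩ := hdiv x
    exact ⟨b, by rw [hψ, hb]⟩
  have hiso : IsIso ψ := isIso_of_mono_of_epi ψ
  have h1 : (functor k G (n + 1)).map ψ = Nat.card G • 𝟙 (groupCohomology K (n + 1)) := by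
    show (cochainsFunctor k G ⋙ HomologicalComplex.homologyFunctor _ _ (n + 1)).map ψ = _
    rw [Functor.map_nsmul, CategoryTheory.Functor.map_id]
    rfl
  have h2 : (functor k G (n + 1)).map ψ = 0 := by
    rw [h1]
    refine ConcreteCategory.hom_ext _ _ fun x => ?_
    exact Groth.Agent.Helper12.GrpCohTorsion.card_nsmul_eq_zero K n x
  have h3 : IsIso ((functor k G (n + 1)).map ψ) := inferInstance
  have h4 : Epi ((functor k G (n + 1)).map ψ) := inferInstance
  exact @IsZero.of_epi_eq_zero _ _ _ _ _ _ h4 h2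


theorem bijective_of_ker_uniquely_divisible {A B : Rep k G} (φ : A ⟶ B)
    (hsurj : Function.Surjective φ.hom)
    (hdiv : ∀ a : A, φ.hom a = 0 → ∃ b : A, φ.hom b = 0 ∧ Nat.card G • b = a)
    (htors : ∀ a : A, φ.hom a = 0 → Nat.card G • a = 0 → a = 0)
    (n : ℕ) :
    Function.Bijective ((functor k G (n + 1)).map φ).hom := by
  have w : kernel.ι φ ≫ φ = 0 := kernel.condition φ
  have hepi : Epi φ := (Rep.epi_iff_surjective _).2 hsurj
  have hS : (ShortComplex.mk (kernel.ι φ) φ w).ShortExact :=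
    { exact := ShortComplex.exact_of_f_is_kernel _ (kernelIsKernel φ)
      mono_f := inferInstance
      epi_g := hepi }
  have hex : Function.Exact (kernel.ι φ).hom φ.hom := by
    have := hS.exact
    rw [← ShortComplex.exact_map_iff_of_faithful _ (forget₂ (Rep.{0} k G) (ModuleCat.{0} k))] at this
    rw [ShortComplex.ShortExact.moduleCat_exact_iff_function_exact] at this
    exact this
  have hinj : Function.Injective (kernel.ι φ).hom := (Rep.mono_iff_injective _).1 inferInstance
  have hι0 : ∀ x, φ.hom ((kernel.ι φ).hom x) = 0 := fun x => hex.apply_apply_eq_zero x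
  have hK : ∀ m, IsZero (groupCohomology (kernel φ) (m + 1)) := by
    intro m
    apply isZero_of_uniquely_divisible
    · intro a
      obtain ⟨b, hb0, hb⟩ := hdiv ((kernel.ι φ).hom a) (hι0 a)
      obtain ⟨c, hc⟩ := (hex b).1 hb0
      refine ⟨c, hinj ?_⟩
      rw [map_nsmul, hc, hb]
    · intro a ha
      apply hinj
      rw [map_zero]
      apply htors _ (hι0 a)
      rw [← map_nsmul, ha, map_zero]
  have e2 := (map_cochainsFunctor_shortExact hS).homology_exact₂ (n + 1)
  have e3 := (map_cochainsFunctor_shortExact hS).homology_exact₃ (n + 1) (n + 2) rfl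
  have hmono : Mono ((functor k G (n + 1)).map φ) := e2.mono_g ((hK n).eq_of_src _ _)
  have hepi' : Epi ((functor k G (n + 1)).map φ) := e3.epi_f ((hK (n + 1)).eq_of_tgt _ _)
  exact ⟨(ModuleCat.mono_iff_injective _).1 hmono, (ModuleCat.epi_iff_surjective _).1 hepi'⟩

end Groth.Agent.Helper28.GrpCohDiv

namespace Groth.Agent.Helper28.GrpCohDiv
open IsLocalRing Polynomial

theorem unit_div (R : Type) [CommRing R] [HenselianLocalRing R] (N : ℕ) (hN : 0 < N)
    (hNk : (N : ResidueField R) ≠ 0) (u : Rˣ) (hu : residue R u = 1) :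
    ∃ v : Rˣ, residue R v = 1 ∧ v ^ N = u := by
  have hNu : IsUnit (N : R) := by
    rw [← residue_ne_zero_iff_isUnit]; simpa using hNk
  have hmon : (X ^ N - C (u : R) : R[X]).Monic := monic_X_pow_sub_C _ hN.ne'
  obtain ⟨a, ha, ha1⟩ := HenselianLocalRing.is_henselian (X ^ N - C (u : R) : R[X]) hmon 1
    (by
      rw [← residue_eq_zero_iff]
      simp [hu])
    (by
      simp [derivative_X_pow]
      exact hNu)
  have haN : a ^ N = u := by
    have := ha
    simp [IsRoot] at this
    exact sub_eq_zero.1 this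
  have hau : IsUnit a := by
    have : IsUnit (a ^ N) := haN ▸ u.isUnit
    exact (isUnit_pow_iff hN.ne').1 this
  refine ⟨hau.unit, ?_, ?_⟩
  · rw [← residue_eq_zero_iff, map_sub, map_one, sub_eq_zero] at ha1
    simpa using ha1
  · ext; simpa using haN

theorem unit_tors (R : Type) [CommRing R] [IsLocalRing R] (N : ℕ)
    (hNk : (N : ResidueField R) ≠ 0) (u : Rˣ) (hu : residue R u = 1) (huN : u ^ N = 1) :
    u = 1 := by
  have h1 : ((u : R) - 1) * ∑ i ∈ Finset.range N, (u : R) ^ i = 0 := by
    rw [mul_geom_sum, ← Units.val_pow_eq_pow_val, huN]; simp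
  have h2 : IsUnit (∑ i ∈ Finset.range N, (u : R) ^ i) := by
    rw [← residue_ne_zero_iff_isUnit, map_sum]
    simp [hu, hNk]
  have h3 : (u : R) - 1 = 0 := by
    rcases h2 with ⟨w, hw⟩
    rw [← hw] at h1
    exact (Units.mul_left_eq_zero w).1 h1
  ext
  simpa using sub_eq_zero.1 h3

end Groth.Agent.Helper28.GrpCohDiv
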