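import Mathlib
set_option autoImplicit false
open CategoryTheory groupCohomology

namespace Groth.Agent.Helper28.GrpCoh

variable {Q : Type} [Group Q] [Fintype Q]

theorem card_smul_mem_coboundaries₂ (A : Rep ℤ Q) (f : cocycles₂ A) :
    ((Fintype.card Q : ℤ) • (f : Q × Q → A)) ∈ coboundaries₂ A := by
  refine ⟨fun g => ∑ x : Q, f (g, x), ?_⟩
  funext ⟨g, h⟩
  have hc := (mem_cocycles₂_iff (f : Q × Q → A)).1 f.2 g h
  have hsum : ∑ j, (f (g * h, j) + f (g, h)) = ∑ j, (A.ρ g (f (h, j)) + f (g, h * j)) :=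
    Finset.sum_congr rfl (fun j _ => hc j)
  have hre : ∑ j, f (g, h * j) = ∑ j, f (g, j) :=
    Fintype.sum_equiv (Equiv.mulLeft h) _ _ (fun j => rfl)
  simp only [Finset.sum_add_distrib, Finset.sum_const, Finset.card_univ, ← map_sum] at hsum
  rw [hre] at hsum
  simp only [d₁₂_hom_apply, Pi.smul_apply, natCast_zsmul]
  calc A.ρ g (∑ x, f (h, x)) - ∑ x, f (g * h, x) + ∑ x, f (g, x)
      = (A.ρ g (∑ x, f (h, x)) + ∑ x, f (g, x)) - ∑ x, f (g * h, x) := by abel
    _ = Fintype.card Q • f (g, h) := by rw [← hsum]; abel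

/-- A morphism which is pointwise `card Q` times another one induces zero on `H²`. -/
theorem map_eq_zero_of_card_smul {A B : Rep ℤ Q} (φ ψ : A ⟶ B)
    (h : ∀ a, φ.hom a = (Fintype.card Q : ℤ) • ψ.hom a) :
    (functor ℤ Q 2).map φ = 0 := by
  show groupCohomology.map (MonoidHom.id Q) φ 2 = 0
  rw [← cancel_epi (H2π A), H2π_comp_map, Limits.comp_zero]
  refine ConcreteCategory.hom_ext _ _ fun c => ?_
  show H2π B (mapCocycles₂ (MonoidHom.id Q) φ c) = 0
  rw [H2π_eq_zero_iff]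
  have := card_smul_mem_coboundaries₂ B (mapCocycles₂ (MonoidHom.id Q) ψ c)
  convert this using 1
  funext ⟨g, k⟩
  show φ.hom (c (g, k)) = (Fintype.card Q : ℤ) • ψ.hom (c (g, k))
  exact h _

section triv

variable (Q) {k : Type} [CommRing k]

/-- A linear map, as a morphism of trivial representations. -/
noncomputable def trivHom {V W : Type} [AddCommGroup V] [AddCommGroup W] [Module k V] [Module k W]
    (f : V →ₗ[k] W) :
    Rep.trivial k Q V ⟶ Rep.trivial k Q W := Rep.ofHom ⟨f, fun _ => rfl⟩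

omit [Fintype Q] in
@[simp] lemma trivHom_apply {V W : Type} [AddCommGroup V] [AddCommGroup W] [Module k V] [Module k W]
    (f : V →ₗ[k] W) (x : V) : (trivHom Q f).hom x = f x := rfl

omit [Fintype Q] in
lemma trivHom_comp_eq_zero {V₁ V₂ V₃ : Type} [AddCommGroup V₁] [AddCommGroup V₂] [AddCommGroup V₃]
    [Module k V₁] [Module k V₂] [Module k V₃]
    (f : V₁ →ₗ[k] V₂) (g : V₂ →ₗ[k] V₃) (h : g ∘ₗ f = 0) :
    trivHom Q f ≫ trivHom Q g = 0 := by
  show trivHom Q (g ∘ₗ f) = 0
  rw [h]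
  rfl

omit [Fintype Q] in
lemma triv_shortExact {V₁ V₂ V₃ : Type} [AddCommGroup V₁] [AddCommGroup V₂] [AddCommGroup V₃]
    [Module k V₁] [Module k V₂] [Module k V₃]
    (f : V₁ →ₗ[k] V₂) (g : V₂ →ₗ[k] V₃) (hf : Function.Injective f) (hg : Function.Surjective g)
    (hfg : Function.Exact f g) (w : trivHom Q f ≫ trivHom Q g = 0) :
    (ShortComplex.mk (trivHom Q f) (trivHom Q g) w).ShortExact where
  exact := by
    rw [← ShortComplex.exact_map_iff_of_faithful _ (forget₂ (Rep.{0} k Q) (ModuleCat.{0} k))]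
    rw [ShortComplex.ShortExact.moduleCat_exact_iff_function_exact]
    exact hfg
  mono_f := (Rep.mono_iff_injective _).2 hf
  epi_g := (Rep.epi_iff_surjective _).2 hg

end triv

set_option maxHeartbeats 400000 in
/-- If `M` is divisible by `n = card Q`, its `n`-torsion is cyclic and `H³(Q, ℤ) = 0`,
then `H²(Q, M) = 0` (trivial actions). -/
theorem H2_subsingleton_of_divisible (M : Type) [AddCommGroup M]
    (hQ : Subsingleton (groupCohomology (Rep.trivial ℤ Q ℤ) 3))
    (hD : ∀ a : M, ∃ b : M, (Fintype.card Q) • b = a)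
    (ζ : M) (hζ : Fintype.card Q • ζ = 0)
    (hC : ∀ a : M, Fintype.card Q • a = 0 → ∃ m : ℤ, a = m • ζ) :
    Subsingleton (groupCohomology (Rep.trivial ℤ Q M) 2) := by
  classical
  have hn0 : Fintype.card Q ≠ 0 := Fintype.card_ne_zero
  let nmul : M →ₗ[ℤ] M := (Fintype.card Q : ℤ) • LinearMap.id
  have hnmul : ∀ a, nmul a = Fintype.card Q • a := fun a => by
    simp [nmul]
  let μ : Submodule ℤ M := LinearMap.ker nmul
  have hμ : ∀ a : M, a ∈ μ ↔ Fintype.card Q • a = 0 := fun a => by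
    rw [LinearMap.mem_ker, hnmul]
  let ζ' : μ := ⟨ζ, (hμ ζ).2 hζ⟩
  let toMu : ℤ →ₗ[ℤ] μ := LinearMap.toSpanSingleton ℤ μ ζ'
  have htoMu : ∀ m : ℤ, ((toMu m : μ) : M) = m • ζ := fun m => by
    simp [toMu, ζ']
  have hdpos : 0 < addOrderOf ζ :=
    addOrderOf_pos_iff.2 (isOfFinAddOrder_iff_nsmul_eq_zero.2 ⟨_, Nat.pos_of_ne_zero hn0, hζ⟩)
  let multd : ℤ →ₗ[ℤ] ℤ := (addOrderOf ζ : ℤ) • LinearMap.id
  have hmultd : ∀ m : ℤ, multd m = (addOrderOf ζ : ℤ) * m := fun m => by simp [multd]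
  -- second short exact sequence `0 → ℤ → ℤ → μ → 0`
  have inj2 : Function.Injective multd := by
    intro a b hab
    rw [hmultd, hmultd] at hab
    exact mul_left_cancel₀ (by exact_mod_cast hdpos.ne') hab
  have surj2 : Function.Surjective toMu := by
    rintro ⟨a, ha⟩
    obtain ⟨m, hm⟩ := hC a ((hμ a).1 ha)
    exact ⟨m, Subtype.ext ((htoMu m).trans hm.symm)⟩
  have exact2 : Function.Exact multd toMu := by
    intro m
    constructor
    · intro h
      have h' : m • ζ = 0 := by rw [← htoMu, h]; rfl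
      obtain ⟨c, hc⟩ := (addOrderOf_dvd_iff_zsmul_eq_zero.2 h')
      exact ⟨c, by rw [hmultd, hc]⟩
    · rintro ⟨c, rfl⟩
      apply Subtype.ext
      rw [htoMu, hmultd]
      show ((addOrderOf ζ : ℤ) * c) • ζ = 0
      rw [mul_comm, mul_smul, natCast_zsmul, addOrderOf_nsmul_eq_zero, smul_zero]
  have w2 : trivHom Q multd ≫ trivHom Q toMu = 0 :=
    trivHom_comp_eq_zero Q _ _ (LinearMap.ext fun m => exact2.apply_apply_eq_zero m)
  have hS2 := triv_shortExact Q multd toMu inj2 surj2 exact2 w2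
  -- first short exact sequence `0 → μ → M → M → 0`
  have surj1 : Function.Surjective nmul := by
    intro a
    obtain ⟨b, hb⟩ := hD a
    exact ⟨b, by rw [hnmul, hb]⟩
  have exact1 : Function.Exact μ.subtype nmul := LinearMap.exact_subtype_ker_map nmul
  have w1 : trivHom Q μ.subtype ≫ trivHom Q nmul = 0 :=
    trivHom_comp_eq_zero Q _ _ (LinearMap.ext fun m => exact1.apply_apply_eq_zero m)
  have hS1 := triv_shortExact Q μ.subtype nmul μ.injective_subtype surj1 exact1 w1
  -- consequences of the long exact sequences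
  have e1 := (map_cochainsFunctor_shortExact hS1).homology_exact₂ 2
  have z1 : (functor ℤ Q 2).map (trivHom Q nmul) = 0 :=
    map_eq_zero_of_card_smul (trivHom Q nmul) (𝟙 _) (fun a => rfl)
  have epi1 : Epi ((functor ℤ Q 2).map (trivHom Q μ.subtype)) :=
    e1.epi_f z1
  have e2 := (map_cochainsFunctor_shortExact hS2).homology_exact₃ 2 3 rfl
  have hz3 : Limits.IsZero (groupCohomology (Rep.trivial ℤ Q ℤ) 3) :=
    ModuleCat.isZero_of_subsingleton _
  have epi2 : Epi ((functor ℤ Q 2).map (trivHom Q toMu)) :=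
    e2.epi_f (hz3.eq_of_tgt _ _)
  -- the composite is zero
  obtain ⟨ξ, hξ⟩ := hD ζ
  have z3 : (functor ℤ Q 2).map (trivHom Q toMu ≫ trivHom Q μ.subtype) = 0 :=
    map_eq_zero_of_card_smul _ (trivHom Q (LinearMap.toSpanSingleton ℤ M ξ)) (fun a => by
      show ((toMu a : μ) : M) = (Fintype.card Q : ℤ) • (a • ξ)
      rw [htoMu, ← hξ, natCast_zsmul, smul_comm])
  have hcomp : (functor ℤ Q 2).map (trivHom Q toMu) ≫
      (functor ℤ Q 2).map (trivHom Q μ.subtype) = 0 := by
    rw [← Functor.map_comp, z3]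
  have hepi : Epi ((functor ℤ Q 2).map (trivHom Q toMu) ≫
      (functor ℤ Q 2).map (trivHom Q μ.subtype)) := epi_comp' epi2 epi1
  have hzero : Limits.IsZero (groupCohomology (Rep.trivial ℤ Q M) 2) :=
    @Limits.IsZero.of_epi_eq_zero _ _ _ _ _ _ hepi hcomp
  exact ModuleCat.subsingleton_of_isZero hzero

end Groth.Agent.Helper28.GrpCoh
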