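import Mathlib
import Groth.Agent.Lib.Helper28.AlgGrpShear

/-!
# Translates of opens in a group scheme over a field are open (helper28)
-/
set_option autoImplicit false
universe v u' u
open CategoryTheory MonoidalCategory CartesianMonoidalCategory MonObj GrpObj AlgebraicGeometry

namespace Groth.Agent.Helper28.GrpTranslate

section cat
variable {C : Type u'} [Category.{v} C] [CartesianMonoidalCategory C] {G : C} [GrpObj G]

/-- `(t, g) ↦ a(t) g`. -/
noncomputable def trans {T : C} (a : T ⟶ G) : T ⊗ G ⟶ G := (fst T G ≫ a) * snd T G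

lemma whisker_mul {T : C} (a : T ⟶ G) : (a ▷ G) ≫ μ[G] = trans a := by
  unfold trans
  rw [Hom.mul_def]
  congr 1
  apply CartesianMonoidalCategory.hom_ext
  · simp
  · simp

/-- `(t, g) ↦ (t, a(t) g)`. -/
noncomputable def shearHom {T : C} (a : T ⟶ G) : T ⊗ G ⟶ T ⊗ G := lift (fst T G) (trans a)

@[simp] lemma shearHom_fst {T : C} (a : T ⟶ G) : shearHom a ≫ fst T G = fst T G := by
  simp [shearHom]

@[simp] lemma shearHom_snd {T : C} (a : T ⟶ G) : shearHom a ≫ snd T G = trans a := by
  simp [shearHom]

lemma shearHom_trans {T : C} (a b : T ⟶ G) : shearHom a ≫ trans b = trans (b * a) := by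
  have h1 : shearHom a ≫ trans b = (shearHom a ≫ fst T G ≫ b) * (shearHom a ≫ snd T G) := by
    unfold trans
    rw [MonObj.comp_mul]
  rw [h1, ← Category.assoc, shearHom_fst, shearHom_snd]
  unfold trans
  rw [MonObj.comp_mul (fst T G) b a, _root_.mul_assoc]

lemma shearHom_comp {T : C} (a b : T ⟶ G) : shearHom a ≫ shearHom b = shearHom (b * a) := by
  apply CartesianMonoidalCategory.hom_ext
  · rw [Category.assoc, shearHom_fst, shearHom_fst, shearHom_fst]
  · rw [Category.assoc, shearHom_snd, shearHom_snd, shearHom_trans]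

lemma shearHom_one {T : C} : shearHom (1 : T ⟶ G) = 𝟙 _ := by
  apply CartesianMonoidalCategory.hom_ext
  · rw [shearHom_fst, Category.id_comp]
  · rw [shearHom_snd, Category.id_comp]
    unfold trans
    rw [MonObj.comp_one, _root_.one_mul]

/-- the shear automorphism of `T ⊗ G`. -/
noncomputable def shearIso {T : C} (a : T ⟶ G) : T ⊗ G ≅ T ⊗ G where
  hom := shearHom a
  inv := shearHom a⁻¹
  hom_inv_id := by rw [shearHom_comp, _root_.inv_mul_cancel, shearHom_one]
  inv_hom_id := by rw [shearHom_comp, _root_.mul_inv_cancel, shearHom_one]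

lemma tensorHom_mul {T W : C} (a : T ⟶ G) (w : W ⟶ G) :
    (a ⊗ₘ w) ≫ μ[G] = (T ◁ w) ≫ (shearIso a).hom ≫ snd T G := by
  rw [tensorHom_def', Category.assoc, whisker_mul]
  show _ = (T ◁ w) ≫ shearHom a ≫ snd T G
  rw [shearHom_snd]

end cat

theorem isOpen_range {S : Scheme.{u}} (G : Over S) [GrpObj G] {T W : Over S} (a : T ⟶ G)
    (w : W ⟶ G) [IsOpenImmersion w.left] [UniversallyOpen T.hom] :
    IsOpen (Set.range ⇑((a ⊗ₘ w) ≫ μ[G]).left) := by
  rw [tensorHom_mul, Over.comp_left, Over.comp_left]
  have sq : IsPullback (snd T W).left (T ◁ w).left w.left (snd T G).left :=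
    (AlgGrpShear.isPullback_snd T w).map (Over.forget S)
  haveI : IsOpenImmersion (T ◁ w).left :=
    MorphismProperty.of_isPullback (P := @IsOpenImmersion) sq ‹_›
  haveI : UniversallyOpen (snd T G).left := by
    rw [Over.snd_left]; infer_instance
  haveI : IsIso (shearIso a).hom.left := (Over.forget S).map_isIso (shearIso a).hom
  have h : UniversallyOpen ((T ◁ w).left ≫ (shearIso a).hom.left ≫ (snd T G).left) :=
    inferInstance
  exact (Scheme.Hom.isOpenMap _).isOpen_range

end Groth.Agent.Helper28.GrpTranslate
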