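import Mathlib
import Groth.Prelude.Def_CohB1
import Groth.Agent.Lib.Helper28.ProjFrac
import Groth.Agent.Lib.Helper6.ProjClosedAlg

/-!
# Algebra of a hyperplane in projective space (helper28)

* `ker_awayMap_eq_span`: if the kernel of a graded ring hom `ψ` is generated by a degree one element
  `ℓ`, the kernel of `Away.map ψ f` is generated by `ℓ/f`.
* `Hyp.ψ`: for a nonzero linear form `ℓ = Σ a_i x_i` in `n + 2` variables over a field, the surjective
  graded map `k[x_0..x_{n+1}] → k[y_0..y_n]` with kernel `(ℓ)`.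
-/

set_option autoImplicit false
universe u
open HomogeneousLocalization MvPolynomial
open Groth.Agent.Helper28.ProjFrac Groth.Agent.Helper6.ProjClosedAlg

noncomputable section

namespace Groth.Agent.Helper28.HyperplaneAlg

section away

variable {R A B : Type u} [CommRing R] [CommRing A] [CommRing B] [Algebra R A] [Algebra R B]
  {𝒜 : ℕ → Submodule R A} {ℬ : ℕ → Submodule R B} [GradedAlgebra 𝒜] [GradedAlgebra ℬ]
  (ψ : 𝒜 →+*ᵍ ℬ) {ℓ : A} (hℓ : ℓ ∈ 𝒜 1) (hker : ∀ a, ψ a = 0 → a ∈ Ideal.span {ℓ})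
  (hℓ0 : ψ ℓ = 0) {f : A} (hf : f ∈ 𝒜 1)

include hℓ0 in
theorem awayMap_mk1_eq_zero : Away.map ψ f (mk1 hf 1 ℓ hℓ) = 0 :=
  (mk_mem_ker_awayMap_iff ψ hf 1 ℓ _).2 ⟨0, by rw [pow_zero, one_mul]; exact hℓ0⟩

include hker in
theorem mem_span_of_awayMap_eq_zero (x : Away 𝒜 f) (hx : Away.map ψ f x = 0) :
    x ∈ Ideal.span {mk1 hf 1 ℓ hℓ} := by
  obtain ⟨m, a, ha, rfl⟩ := Away.mk_surjective 𝒜 hf x
  have ha' : a ∈ 𝒜 m := by simpa using ha
  obtain ⟨N, hN⟩ := (mk_mem_ker_awayMap_iff ψ hf m a ha).1 hx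
  have hN' : ψ (f ^ (N + 1) * a) = 0 := by
    rw [pow_succ', mul_assoc, map_mul, hN, mul_zero]
  obtain ⟨b, hb⟩ := Ideal.mem_span_singleton'.1 (hker _ hN')
  have hdeg : f ^ (N + 1) * a ∈ 𝒜 (N + m + 1) := by
    have h := pow_mul_mem hf (N + 1) ha'
    have e : N + 1 + m = N + m + 1 := by omega
    rwa [e] at h
  have hb'mem : pr 𝒜 (N + m) b ∈ 𝒜 (N + m) := pr_mem _ _
  have key : f ^ (N + 1) * a = pr 𝒜 (N + m) b * ℓ := by
    have h1 : pr 𝒜 (N + m + 1) (f ^ (N + 1) * a) = f ^ (N + 1) * a := pr_of_mem hdeg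
    rw [← h1, ← hb]
    exact DirectSum.coe_decompose_mul_add_of_right_mem 𝒜 hℓ
  have e1 : Away.mk 𝒜 hf m a ha = mk1 hf (N + m) (pr 𝒜 (N + m) b) hb'mem * mk1 hf 1 ℓ hℓ := by
    apply HomogeneousLocalization.val_injective
    rw [HomogeneousLocalization.val_mul, val_mk1, val_mk1, Away.val_mk, Localization.mk_mul,
      Localization.mk_eq_mk_iff, Localization.r_iff_exists]
    refine ⟨1, ?_⟩
    simp only [OneMemClass.coe_one, one_mul, Submonoid.coe_mul]
    rw [← key]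
    ring
  rw [e1]
  exact Ideal.mul_mem_left _ _ (Ideal.subset_span rfl)

include hker hℓ0 in
theorem ker_awayMap_eq_span :
    RingHom.ker (Away.map ψ f) = Ideal.span {mk1 hf 1 ℓ hℓ} := by
  apply le_antisymm
  · intro x hx
    exact mem_span_of_awayMap_eq_zero ψ hℓ hker hf x ((RingHom.mem_ker).1 hx)
  · rw [Ideal.span_le, Set.singleton_subset_iff]
    exact (RingHom.mem_ker).2 (awayMap_mk1_eq_zero ψ hℓ hℓ0 hf)

end away

namespace Hyp

variable {k : Type u} [Field k] {n : ℕ} (a : Fin (n + 1 + 1) → k) (j : Fin (n + 1 + 1))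

/-- the linear form `Σ a_i x_i` -/
def lin : MvPolynomial (Fin (n + 1 + 1)) k := ∑ i, a i • (X i : MvPolynomial (Fin (n + 1 + 1)) k)

/-- `Σ_{t} a_{σ t} y_t` -/
def rest : MvPolynomial (Fin (n + 1)) k :=
  ∑ t, a (j.succAbove t) • (X t : MvPolynomial (Fin (n + 1)) k)

/-- the images of the variables -/
def gfun : Fin (n + 1 + 1) → MvPolynomial (Fin (n + 1)) k :=
  Fin.insertNth (α := fun _ => MvPolynomial (Fin (n + 1)) k) j (-(a j)⁻¹ • rest a j)
    (fun t => (X t : MvPolynomial (Fin (n + 1)) k))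

theorem gfun_same : gfun a j j = -(a j)⁻¹ • rest a j :=
  Fin.insertNth_apply_same (α := fun _ => MvPolynomial (Fin (n + 1)) k) j _ _

theorem gfun_succAbove (t : Fin (n + 1)) : gfun a j (j.succAbove t) = X t :=
  Fin.insertNth_apply_succAbove (α := fun _ => MvPolynomial (Fin (n + 1)) k) j _ _ t

theorem rest_mem : rest a j ∈ homogeneousSubmodule (Fin (n + 1)) k 1 :=
  Submodule.sum_mem _ fun t _ => Submodule.smul_mem _ _ (isHomogeneous_X k t)

theorem gfun_isHomogeneous (i : Fin (n + 1 + 1)) : (gfun a j i).IsHomogeneous 1 := by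
  rcases Fin.eq_self_or_eq_succAbove j i with rfl | ⟨t, rfl⟩
  · rw [gfun_same]
    exact Submodule.smul_mem _ _ (rest_mem a i)
  · rw [gfun_succAbove]
    exact isHomogeneous_X k t

/-- the algebra map `k[x] → k[y]` -/
def ψ₀ : MvPolynomial (Fin (n + 1 + 1)) k →ₐ[k] MvPolynomial (Fin (n + 1)) k := aeval (gfun a j)

/-- the section `k[y] → k[x]` -/
def ρ : MvPolynomial (Fin (n + 1)) k →ₐ[k] MvPolynomial (Fin (n + 1 + 1)) k := rename j.succAbove

theorem ψ₀_X (i : Fin (n + 1 + 1)) : ψ₀ a j (X i) = gfun a j i := aeval_X _ _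

theorem ψ₀_ρ (q : MvPolynomial (Fin (n + 1)) k) : ψ₀ a j (ρ j q) = q := by
  have h : (ψ₀ a j).comp (ρ j) = AlgHom.id k _ := by
    apply MvPolynomial.algHom_ext
    intro t
    change ψ₀ a j (rename j.succAbove (X t)) = X t
    rw [rename_X, ψ₀_X, gfun_succAbove]
  exact congrArg (fun F : MvPolynomial (Fin (n + 1)) k →ₐ[k] MvPolynomial (Fin (n + 1)) k => F q) h

theorem ψ₀_surjective : Function.Surjective (ψ₀ a j) := fun q => ⟨ρ j q, ψ₀_ρ a j q⟩

theorem lin_eq : lin a = a j • (X j : MvPolynomial (Fin (n + 1 + 1)) k) + ρ j (rest a j) := by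
  unfold lin rest ρ
  rw [Fin.sum_univ_succAbove _ j, map_sum]
  congr 1
  refine Finset.sum_congr rfl fun t _ => ?_
  rw [map_smul, rename_X]

theorem ψ₀_lin (haj : a j ≠ 0) : ψ₀ a j (lin a) = 0 := by
  rw [lin_eq a j, map_add, map_smul, ψ₀_X, gfun_same, ψ₀_ρ, smul_smul, mul_neg,
    mul_inv_cancel₀ haj, neg_one_smul, neg_add_cancel]

theorem sub_mem (haj : a j ≠ 0) (p : MvPolynomial (Fin (n + 1 + 1)) k) :
    Ideal.Quotient.mk (Ideal.span {lin a}) (ρ j (ψ₀ a j p)) =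
      Ideal.Quotient.mk (Ideal.span {lin a}) p := by
  have h : (Ideal.Quotient.mkₐ k (Ideal.span {lin a})).comp ((ρ j).comp (ψ₀ a j)) =
      Ideal.Quotient.mkₐ k (Ideal.span {lin a}) := by
    apply MvPolynomial.algHom_ext
    intro i
    change Ideal.Quotient.mk _ (ρ j (ψ₀ a j (X i))) = Ideal.Quotient.mk _ (X i)
    rw [ψ₀_X]
    rcases Fin.eq_self_or_eq_succAbove j i with rfl | ⟨t, rfl⟩
    · rw [gfun_same, Ideal.Quotient.mk_eq_mk_iff_sub_mem]
      have e : ρ i (-(a i)⁻¹ • rest a i) - X i = -(a i)⁻¹ • lin a := by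
        rw [lin_eq a i, map_smul, smul_add, smul_smul, neg_mul, inv_mul_cancel₀ haj, neg_one_smul]
        ring
      rw [e]
      exact Submodule.smul_of_tower_mem _ _ (Ideal.subset_span rfl)
    · rw [gfun_succAbove]
      change Ideal.Quotient.mk _ (rename j.succAbove (X t)) = _
      rw [rename_X]
  exact congrArg (fun F : MvPolynomial (Fin (n + 1 + 1)) k →ₐ[k] _ => F p) h

theorem mem_span_of_ψ₀_eq_zero (haj : a j ≠ 0) (p : MvPolynomial (Fin (n + 1 + 1)) k)
    (hp : ψ₀ a j p = 0) : p ∈ Ideal.span {lin a} := by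
  have h := sub_mem a j haj p
  rw [hp, map_zero, map_zero] at h
  exact Ideal.Quotient.eq_zero_iff_mem.1 h.symm

/-- the graded ring hom -/
def ψ : CohB1.polyGrading (n + 1) k →+*ᵍ CohB1.polyGrading n k :=
  ⟨(ψ₀ a j).toRingHom, fun {i} {x} hx => by
    have h := MvPolynomial.IsHomogeneous.aeval (S := k) (show x.IsHomogeneous i from hx) (gfun a j)
      (gfun_isHomogeneous a j)
    rw [one_mul] at h
    exact h⟩

theorem ψ_apply (p : MvPolynomial (Fin (n + 1 + 1)) k) : ψ a j p = ψ₀ a j p := rfl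

theorem ψ_surjective : Function.Surjective (ψ a j) := ψ₀_surjective a j

theorem lin_mem : lin a ∈ CohB1.polyGrading (n + 1) k 1 :=
  Submodule.sum_mem _ fun t _ => Submodule.smul_mem _ _ (isHomogeneous_X k t)

end Hyp

/-- every degree one form is `Σ a_i x_i` -/
theorem exists_coeffs {k : Type u} [Field k] {n : ℕ} {ℓ : MvPolynomial (Fin (n + 1 + 1)) k}
    (hℓ : ℓ ∈ CohB1.polyGrading (n + 1) k 1) : ∃ a : Fin (n + 1 + 1) → k, Hyp.lin a = ℓ := by
  have h : ℓ ∈ Submodule.span k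
      (Set.range (X : Fin (n + 1 + 1) → MvPolynomial (Fin (n + 1 + 1)) k)) := by
    rw [← MvPolynomial.homogeneousSubmodule_one_eq_span_X]
    exact hℓ
  exact (Submodule.mem_span_range_iff_exists_fun k).1 h

end Groth.Agent.Helper28.HyperplaneAlg
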