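import Mathlib
import Groth.Agent.Lib.Helper28.VeryAmpleCrit

/-!
# An immersion form of the criterion for relative very ampleness over an affine base (helper28)

Instead of asking the good loci `X_{σ_a}` to be affine with coordinate ring generated by the
ratios, we only ask for an immersion of `X_{σ_a}` into some affine scheme whose coordinate
functions are polynomials in the ratios `σ_j/σ_a` and the functions from the base.
-/

set_option autoImplicit false
universe u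
open CategoryTheory CategoryTheory.Limits AlgebraicGeometry Opposite TopologicalSpace
open Groth.Agent.Helper13 Groth.Agent.Helper28.ProjFrac
open Groth.Agent.Helper28.ProjChart Groth.Agent.Helper28.ProjFracSec
open Groth.Agent.Helper28.ProjSymUnique
open Groth.Agent.Helper28.PullSecBridge
open Groth.Agent.Helper28.VeryAmpleCrit
open Groth.Agent.Helper18.AffHom (res res_smul res_res app_res res_self)
open Groth.Agent.Helper13.Inv (IsGen)

noncomputable section

namespace Groth.Agent.Helper28.VeryAmpleImm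

/-- a pushout of commutative rings is generated by the images of the two factors. -/
lemma closure_eq_top_of_isPushout {A B C P : CommRingCat.{u}} {f : A ⟶ B} {g : A ⟶ C}
    {inl : B ⟶ P} {inr : C ⟶ P} (h : IsPushout f g inl inr) :
    Subring.closure (Set.range inl.hom ∪ Set.range inr.hom) = ⊤ := by
  set E : Subring P := Subring.closure (Set.range inl.hom ∪ Set.range inr.hom) with hE
  let ι : CommRingCat.of E ⟶ P := CommRingCat.ofHom E.subtype
  let a : B ⟶ CommRingCat.of E := CommRingCat.ofHom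
    (inl.hom.codRestrict E (fun b => Subring.subset_closure (Or.inl ⟨b, rfl⟩)))
  let b : C ⟶ CommRingCat.of E := CommRingCat.ofHom
    (inr.hom.codRestrict E (fun c => Subring.subset_closure (Or.inr ⟨c, rfl⟩)))
  have hab : f ≫ a = g ≫ b := by
    ext x
    exact congr($(h.w).hom x)
  let u := h.desc a b hab
  have h1 : inl ≫ u ≫ ι = inl := by
    rw [h.inl_desc_assoc]; ext; rfl
  have h2 : inr ≫ u ≫ ι = inr := by
    rw [h.inr_desc_assoc]; ext; rfl
  have h3 : u ≫ ι = 𝟙 P :=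
    h.hom_ext (by rw [h1, Category.comp_id]) (by rw [h2, Category.comp_id])
  rw [eq_top_iff]
  intro y _
  have h4 : ι.hom (u.hom y) = y := congr($(h3).hom y)
  rw [← h4]
  exact (u.hom y).2

/-- if `k : V ⟶ W` (W affine, ring map `φ`) and `h : V ⟶ Z` an immersion into an affine scheme
whose ring map has range inside the range of `φ`, then `k` is an immersion. -/
lemma isImmersion_of_range_le {V W Z : Scheme.{u}} {B G : CommRingCat.{u}}
    [IsAffine Z] (k : V ⟶ W) (h : V ⟶ Z) [IsImmersion h]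
    (tV : V ⟶ Spec G) (tW : W ⟶ Spec B) (φ₀ : B ⟶ G) (ψ₀ : Γ(Z, ⊤) ⟶ G)
    (hk : k ≫ tW = tV ≫ Spec.map φ₀) (hh : h ≫ Z.toSpecΓ = tV ≫ Spec.map ψ₀)
    (hrange : ∀ y : Γ(Z, ⊤), ψ₀.hom y ∈ φ₀.hom.range) : IsImmersion k := by
  let C : CommRingCat.{u} := Γ(Z, ⊤)
  let Dr : Subring (B × C) :=
    RingHom.eqLocus (φ₀.hom.comp (RingHom.fst B C)) (ψ₀.hom.comp (RingHom.snd B C))
  let D : CommRingCat.{u} := CommRingCat.of Dr
  let pB : D ⟶ B := CommRingCat.ofHom ((RingHom.fst B C).comp Dr.subtype)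
  let pC : D ⟶ C := CommRingCat.ofHom ((RingHom.snd B C).comp Dr.subtype)
  have hpp : pB ≫ φ₀ = pC ≫ ψ₀ := by
    ext d
    exact d.2
  have hsurj : Function.Surjective pC.hom := by
    intro c
    obtain ⟨b, hb⟩ := hrange c
    exact ⟨⟨(b, c), hb⟩, rfl⟩
  haveI : IsClosedImmersion (Spec.map pC) := IsClosedImmersion.spec_of_surjective pC hsurj
  haveI : IsIso Z.toSpecΓ := IsAffine.affine
  haveI : IsImmersion (h ≫ Z.toSpecΓ ≫ Spec.map pC) := inferInstance
  have heq : k ≫ (tW ≫ Spec.map pB) = h ≫ Z.toSpecΓ ≫ Spec.map pC := by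
    rw [← Category.assoc, hk, ← Category.assoc h, hh, Category.assoc, Category.assoc,
      ← Spec.map_comp, ← Spec.map_comp, hpp]
  haveI : IsImmersion (k ≫ (tW ≫ Spec.map pB)) := by rw [heq]; infer_instance
  exact IsImmersion.of_comp k (tW ≫ Spec.map pB)

set_option maxHeartbeats 1600000 in
set_option backward.isDefEq.respectTransparency.types false in
theorem isImmersion_coreI {X Y : Scheme.{u}} [IsAffine Y] (m : ℕ)
    (i : X ⟶ CohB1.ProjSpaceOver m Y) (M : X.Modules) (σ : Fin (m + 1) → Γ(M, ⊤))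
    (τ : (Scheme.Modules.pullback (i ≫ fstP m Y)).obj
      (Twist.twistProjSpace m (ULift.{u} ℤ) 1) ≅ M)
    (hτ : ∀ j, τ.hom.app ⊤ (ProjUP.pullSec (i ≫ fstP m Y)
      (Twist.twistProjSpace m (ULift.{u} ℤ) 1) (ProjUP.coord m (ULift.{u} ℤ) j)) = σ j)
    (good : Fin (m + 1) → Prop)
    (hcovX : ∀ x : X, ∃ a, good a ∧ IsGen M (σ a) x trivial)
    (hgood : ∀ a, good a → ∀ V : X.Opens, (∀ z, z ∈ V ↔ IsGen M (σ a) z trivial) →
      ∃ (Z : Scheme.{u}) (_ : IsAffine Z) (h : (V : Scheme.{u}) ⟶ Z), IsImmersion h ∧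
      ∀ c : Fin (m + 1) → Γ(X, V),
        (∀ j, res M (le_top : V ≤ ⊤) (σ j) = c j • res M (le_top : V ≤ ⊤) (σ a)) →
        ∀ y : Γ(Z, ⊤), V.topIso.hom.hom (h.appTop.hom y) ∈
          Subring.closure (Set.range ((i ≫ sndP m Y).appLE ⊤ V (fun _ _ => trivial)).hom ∪
            Set.range c)) :
    IsImmersion i := by
  classical
  let 𝒮 := CohB1.polyGrading m (ULift.{u} ℤ)
  let T : Fin (m + 1) → MvPolynomial (Fin (m + 1)) (ULift.{u} ℤ) := fun j => MvPolynomial.X j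
  have hT : ∀ j, T j ∈ 𝒮 1 := fun j => MvPolynomial.isHomogeneous_X _ j
  have hgenT : Algebra.adjoin (ULift.{u} ℤ) (Set.range T) = ⊤ := MvPolynomial.adjoin_range_X
  have hc𝒮 := hcov 𝒮 T hT hgenT
  let r : X ⟶ Proj 𝒮 := i ≫ fstP m Y
  let τ' : PB 𝒮 r ≅ M := τ
  have hτ' : ∀ j, τ'.hom.app ⊤ (psec 𝒮 r (T j) (hT j)) = σ j := hτ
  have hmem : ∀ (a : Fin (m + 1)) (z : X),
      z ∈ r ⁻¹ᵁ Proj.basicOpen 𝒮 (T a) ↔ IsGen M (σ a) z trivial := by
    intro a z
    have h1 := mem_iff 𝒮 hc𝒮 (hT a) r z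
    have h2 := isGen_iso_iff τ' (psec 𝒮 r (T a) (hT a)) z trivial
    rw [hτ' a] at h2
    exact h1.trans h2.symm
  haveI : MorphismProperty.RespectsRight @IsImmersion @IsOpenImmersion :=
    ⟨fun g hg f hf => by haveI := hg; haveI := hf; infer_instance⟩
  let Wc : {a // good a} → (CohB1.ProjSpaceOver m Y).Opens :=
    fun a => fstP m Y ⁻¹ᵁ Proj.basicOpen 𝒮 (T a.1)
  refine IsZariskiLocalAtTarget.of_range_subset_iSup (P := @IsImmersion) Wc ?_ ?_
  · rintro _ ⟨x, rfl⟩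
    obtain ⟨a, ha, hx⟩ := hcovX x
    exact Opens.mem_iSup.mpr ⟨⟨a, ha⟩, (hmem a x).mpr hx⟩
  · rintro ⟨a, ha⟩
    let D := Proj.basicOpen 𝒮 (T a)
    let W : (CohB1.ProjSpaceOver m Y).Opens := fstP m Y ⁻¹ᵁ D
    let V : X.Opens := i ⁻¹ᵁ W
    have hV : ∀ z, z ∈ V ↔ IsGen M (σ a) z trivial := fun z => hmem a z
    obtain ⟨Z, hZ, h, hh, hclos⟩ := hgood a ha V hV
    have hVr : V ≤ r ⁻¹ᵁ D := fun z hz => hz
    let c : Fin (m + 1) → Γ(X, V) := fun j =>
      (r.appLE D V hVr).hom (fracD 𝒮 (hT a) (T j) (hT j))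
    have hc : ∀ j, res M (le_top : V ≤ ⊤) (σ j) = c j • res M (le_top : V ≤ ⊤) (σ a) := by
      intro j
      have h1 := pullSec_res_eq' 𝒮 (hT a) r V hVr (T j) (hT j)
      calc res M (le_top : V ≤ ⊤) (σ j)
          = τ'.hom.app V (res (PB 𝒮 r) (le_top : V ≤ ⊤) (psec 𝒮 r (T j) (hT j))) := by
            rw [app_res, hτ' j]
        _ = τ'.hom.app V (c j • res (PB 𝒮 r) (le_top : V ≤ ⊤) (psec 𝒮 r (T a) (hT a))) :=
            congrArg (τ'.hom.app V) h1
        _ = c j • τ'.hom.app V (res (PB 𝒮 r) (le_top : V ≤ ⊤) (psec 𝒮 r (T a) (hT a))) :=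
            Scheme.Modules.Hom.app_smul τ'.hom (c j) _
        _ = c j • res M (le_top : V ≤ ⊤) (σ a) := by rw [app_res, hτ' a]
    have hrange : ∀ y : Γ(Z, ⊤), V.topIso.hom.hom (h.appTop.hom y) ∈ (i.app W).hom.range := by
      intro y
      have h1 := hclos c hc y
      have h2 : Subring.closure
          (Set.range ((i ≫ sndP m Y).appLE ⊤ V (fun _ _ => trivial)).hom ∪ Set.range c) ≤
          (i.app W).hom.range := by
        rw [Subring.closure_le]
        rintro _ (⟨y, rfl⟩ | ⟨j, rfl⟩)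
        · exact comp_appLE_mem_range i (sndP m Y) ⊤ W (fun _ _ => trivial) _ y
        · exact comp_appLE_mem_range i (fstP m Y) D W le_rfl hVr
            (fracD 𝒮 (hT a) (T j) (hT j))
      exact h2 h1
    haveI := hZ
    haveI := hh
    change IsImmersion (i ∣_ W)
    refine isImmersion_of_range_le (i ∣_ W) h V.toSpecΓ W.toSpecΓ (i.app W)
      (h.appTop ≫ V.topIso.hom) (Scheme.Opens.toSpecΓ_naturality i W).symm ?_ hrange
    rw [Scheme.toSpecΓ_naturality, Scheme.Opens.toSpecΓ, Category.assoc, ← Spec.map_comp,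
      Category.assoc, Iso.hom_inv_id, Category.comp_id]

theorem isImmersion_coreI' {X Y : Scheme.{u}} [IsAffine Y] (m : ℕ)
    (i : X ⟶ CohB1.ProjSpaceOver m Y) (q : X ⟶ Y) (hq : i ≫ sndP m Y = q)
    (M : X.Modules) (σ : Fin (m + 1) → Γ(M, ⊤))
    (τ : (Scheme.Modules.pullback (i ≫ fstP m Y)).obj
      (Twist.twistProjSpace m (ULift.{u} ℤ) 1) ≅ M)
    (hτ : ∀ j, τ.hom.app ⊤ (ProjUP.pullSec (i ≫ fstP m Y)
      (Twist.twistProjSpace m (ULift.{u} ℤ) 1) (ProjUP.coord m (ULift.{u} ℤ) j)) = σ j)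
    (good : Fin (m + 1) → Prop)
    (hcovX : ∀ x : X, ∃ a, good a ∧ IsGen M (σ a) x trivial)
    (hgood : ∀ a, good a → ∀ V : X.Opens, (∀ z, z ∈ V ↔ IsGen M (σ a) z trivial) →
      ∃ (Z : Scheme.{u}) (_ : IsAffine Z) (h : (V : Scheme.{u}) ⟶ Z), IsImmersion h ∧
      ∀ c : Fin (m + 1) → Γ(X, V),
        (∀ j, res M (le_top : V ≤ ⊤) (σ j) = c j • res M (le_top : V ≤ ⊤) (σ a)) →
        ∀ y : Γ(Z, ⊤), V.topIso.hom.hom (h.appTop.hom y) ∈
          Subring.closure (Set.range (q.appLE ⊤ V (fun _ _ => trivial)).hom ∪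
            Set.range c)) :
    IsImmersion i := by
  subst hq
  exact isImmersion_coreI m i M σ τ hτ good hcovX hgood

/-- **Criterion for very ampleness, immersion form**. -/
theorem isRelVeryAmplePn_of_sectionsI {X Y : Scheme.{u}} [IsAffine Y] (q : X ⟶ Y)
    (M : X.Modules) (hM : PicF.IsInvertible M) (m : ℕ) (σ : Fin (m + 1) → Γ(M, ⊤))
    (good : Fin (m + 1) → Prop)
    (hcovX : ∀ x : X, ∃ a, good a ∧ IsGen M (σ a) x trivial)
    (hgood : ∀ a, good a → ∀ V : X.Opens, (∀ z, z ∈ V ↔ IsGen M (σ a) z trivial) →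
      ∃ (Z : Scheme.{u}) (_ : IsAffine Z) (h : (V : Scheme.{u}) ⟶ Z), IsImmersion h ∧
      ∀ c : Fin (m + 1) → Γ(X, V),
        (∀ j, res M (le_top : V ≤ ⊤) (σ j) = c j • res M (le_top : V ≤ ⊤) (σ a)) →
        ∀ y : Γ(Z, ⊤), V.topIso.hom.hom (h.appTop.hom y) ∈
          Subring.closure (Set.range (q.appLE ⊤ V (fun _ _ => trivial)).hom ∪
            Set.range c)) :
    RelAmple.IsRelVeryAmplePn q M := by
  have hgenBy : ProjUP.GeneratedBy M σ := generatedBy_of_isGen M σ (fun x => by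
    obtain ⟨a, -, h⟩ := hcovX x; exact ⟨a, h⟩)
  obtain ⟨r₀, hr₀, τ, hτ⟩ := ProjSpaceExist.main (R := ULift.{u} ℤ) m
    (specULiftZIsTerminal.from X) M σ hM hgenBy
  let i : X ⟶ CohB1.ProjSpaceOver m Y :=
    pullback.lift r₀ q (specULiftZIsTerminal.hom_ext _ _)
  have hfst : i ≫ fstP m Y = r₀ := pullback.lift_fst _ _ _
  have hsnd : i ≫ sndP m Y = q := pullback.lift_snd _ _ _
  obtain ⟨τ₁, hτ₁⟩ : ∃ τ₁ : (Scheme.Modules.pullback (i ≫ fstP m Y)).obj
      (Twist.twistProjSpace m (ULift.{u} ℤ) 1) ≅ M,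
      ∀ j, τ₁.hom.app ⊤ (ProjUP.pullSec (i ≫ fstP m Y)
        (Twist.twistProjSpace m (ULift.{u} ℤ) 1) (ProjUP.coord m (ULift.{u} ℤ) j)) = σ j := by
    have : ∀ r' : X ⟶ CohB1.ProjSpace m (ULift.{u} ℤ), r' = r₀ →
        ∃ τ₁ : (Scheme.Modules.pullback r').obj (Twist.twistProjSpace m (ULift.{u} ℤ) 1) ≅ M,
        ∀ j, τ₁.hom.app ⊤ (ProjUP.pullSec r'
          (Twist.twistProjSpace m (ULift.{u} ℤ) 1) (ProjUP.coord m (ULift.{u} ℤ) j)) = σ j := by
      rintro _ rfl; exact ⟨τ, hτ⟩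
    exact this _ hfst
  refine ⟨m, i, isImmersion_coreI' m i q hsnd M σ τ₁ hτ₁ good hcovX hgood, hsnd, ⟨?_⟩⟩
  exact τ₁.symm ≪≫ ((Scheme.Modules.pullbackComp i (fstP m Y)).app _).symm

end Groth.Agent.Helper28.VeryAmpleImm
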