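import Mathlib
import Groth.Agent.Lib.Helper28.VeryAmpleImm
import Groth.Agent.Lib.Helper13.GenLocusTensor
import Groth.Agent.Lib.Helper13.InvTensor
import Groth.Agent.Lib.Helper13.TensorMap

/-!
# `L` very ample (in the `P^n` sense) and `L'` globally generated by finitely many sections:
`L ⊗ L'` is very ample, over an affine base (helper28)
-/

set_option autoImplicit false
universe u
open CategoryTheory CategoryTheory.Limits AlgebraicGeometry Opposite TopologicalSpace
open HomogeneousLocalization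
open Groth.Agent.Helper13 Groth.Agent.Helper13.Tensor Groth.Agent.Helper13.Inv
open Groth.Agent.Helper13.GenLoc
open Groth.Agent.Helper28.ProjFrac
open Groth.Agent.Helper28.ProjChart Groth.Agent.Helper28.ProjFracSec
open Groth.Agent.Helper28.ProjSymUnique
open Groth.Agent.Helper28.PullSecBridge
open Groth.Agent.Helper28.VeryAmpleCrit Groth.Agent.Helper28.VeryAmpleImm
open Groth.Agent.Helper18.AffHom (res res_smul res_res app_res res_self)

noncomputable section

namespace Groth.Agent.Helper28.VeryAmpleSegre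

lemma resLE_appTop_topIso {X Y : Scheme.{u}} (f : X ⟶ Y) (U : Y.Opens) (V : X.Opens)
    (e : V ≤ f ⁻¹ᵁ U) :
    (f.resLE U V e).appTop ≫ V.topIso.hom = U.topIso.hom ≫ f.appLE U V e := by
  change (f.resLE U V e).app ⊤ ≫ X.presheaf.map (eqToHom V.ι_image_top.symm).op =
    Y.presheaf.map (eqToHom U.ι_image_top.symm).op ≫ f.appLE U V e
  rw [Scheme.Hom.app_eq_appLE, Scheme.Hom.resLE_appLE]
  exact (Scheme.Hom.appLE_map f _ _).trans (Scheme.Hom.map_appLE f _ _).symm

lemma ι_comp_appTop_topIso {X Y : Scheme.{u}} (g : X ⟶ Y) (W : X.Opens) :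
    (W.ι ≫ g).appTop ≫ W.topIso.hom = g.appLE ⊤ W (fun _ _ => trivial) := by
  change (g.appTop ≫ X.presheaf.map (homOfLE (x := W.ι ''ᵁ ⊤) le_top).op) ≫
    X.presheaf.map (eqToHom W.ι_image_top.symm).op = g.app ⊤ ≫ X.presheaf.map (homOfLE _).op
  rw [Category.assoc, ← Functor.map_comp]
  rfl

lemma ulift_int_hom_mem (R : Type u) [CommRing R] (φ : ULift.{u} ℤ →+* R) (E : Subring R)
    (c : ULift.{u} ℤ) : φ c ∈ E := by
  have h : c = ((c.down : ℤ) : ULift.{u} ℤ) := by
    apply ULift.ext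
    simp
  rw [h, map_intCast]
  exact intCast_mem E _

/-- a section of an invertible module generated by a family of global sections is generated by one
of them at each point. -/
lemma exists_isGen_of_generatedBy {X : Scheme.{u}} (L : X.Modules) (hL : PicF.IsInvertible L)
    {ι : Type*} (v : ι → Γ(L, ⊤)) (hgen : ProjUP.GeneratedBy L v) (x : X) :
    ∃ j, IsGen L (v j) x trivial := by
  obtain ⟨U, hxU, e, he⟩ := (isInvertible_iff_exists_isGen L).1 hL x
  have hβ : Function.Bijective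
      (fun r : X.presheaf.stalk x => r • L.presheaf.germ U x hxU e) := he x hxU
  by_contra hno
  push Not at hno
  let β : X.presheaf.stalk x →ₗ[X.presheaf.stalk x] L.presheaf.stalk x :=
    LinearMap.toSpanSingleton _ _ (L.presheaf.germ U x hxU e)
  let P : Submodule (X.presheaf.stalk x) (L.presheaf.stalk x) :=
    Submodule.map β (IsLocalRing.maximalIdeal (X.presheaf.stalk x))
  have hP : ∀ m, L.presheaf.germ ⊤ x trivial (v m) ∈ P := by
    intro m
    obtain ⟨a, ha⟩ := hβ.2 (L.presheaf.germ ⊤ x trivial (v m))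
    refine ⟨a, ?_, ha⟩
    by_contra hna
    have hu : IsUnit a := by
      by_contra h
      exact hna ((IsLocalRing.mem_maximalIdeal a).2 h)
    apply hno m
    unfold IsGen
    have key : (fun r : X.presheaf.stalk x => r • L.presheaf.germ ⊤ x trivial (v m)) =
        (fun r : X.presheaf.stalk x => r • L.presheaf.germ U x hxU e) ∘
          (fun r : X.presheaf.stalk x => r * a) := by
      funext r
      have ha' : a • L.presheaf.germ U x hxU e = L.presheaf.germ ⊤ x trivial (v m) := ha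
      rw [Function.comp_apply, ← ha', mul_smul]
    rw [key]
    exact hβ.comp (IsUnit.isUnit_iff_mulRight_bijective.1 hu)
  have hspan := hgen x
  have hle : Submodule.span (X.presheaf.stalk x)
      (Set.range fun i => (L.presheaf.germ ⊤ x trivial).hom (v i)) ≤ P := by
    rw [Submodule.span_le]
    rintro _ ⟨m, rfl⟩
    exact hP m
  rw [hspan] at hle
  have hε : L.presheaf.germ U x hxU e ∈ P := hle trivial
  obtain ⟨r, hr, hre⟩ := hε
  have hre' : r • L.presheaf.germ U x hxU e =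
      (1 : X.presheaf.stalk x) • L.presheaf.germ U x hxU e := by
    rw [one_smul]; exact hre
  have h1 : r = 1 := hβ.1 hre'
  rw [h1] at hr
  exact (IsLocalRing.maximalIdeal (X.presheaf.stalk x)).ne_top_iff_one.1
    (IsLocalRing.maximalIdeal.isMaximal _).ne_top hr

/-- the coordinate ring of `D₊(f)`, `f` of degree one, over `ℤ` is generated by the fractions
`g_i/f`, for degree one algebra generators `g_i`. -/
theorem subring_fracD_eq_top {A S : Type u} [CommRing A] [CommRing S] [Algebra A S]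
    (hA : ∀ (R : Type u) [CommRing R] (φ : A →+* R) (E : Subring R) (c : A), φ c ∈ E)
    (𝒮 : ℕ → Submodule A S) [GradedAlgebra 𝒮] {I : Type*} (g : I → S)
    (hg : ∀ i, g i ∈ 𝒮 1) (hgen : Algebra.adjoin A (Set.range g) = ⊤)
    {f : S} (hf : f ∈ 𝒮 1)
    (E' : Subring Γ(Proj 𝒮, Proj.basicOpen 𝒮 f))
    (hE' : ∀ i, fracD 𝒮 hf (g i) (hg i) ∈ E') : E' = ⊤ := by
  let E : Subring (Away 𝒮 f) := E'.comap (Proj.awayToSection 𝒮 f).hom
  have hE : E = ⊤ := by
    apply subring_eq_top hf g hg hgen E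
    · intro c
      have e1 : mk1 hf 0 (algebraMap A S c) (SetLike.algebraMap_mem_graded 𝒮 c) =
          fromZeroRingHom 𝒮 _ (algebraMap A (𝒮 0) c) := by
        apply HomogeneousLocalization.val_injective
        rw [val_mk1]
        change _ = Localization.mk _ _
        rw [Localization.mk_eq_mk_iff, Localization.r_iff_exists]
        exact ⟨1, by simp⟩
      rw [e1]
      exact hA _ ((Proj.awayToSection 𝒮 f).hom.comp
        ((fromZeroRingHom 𝒮 _).comp (algebraMap A (𝒮 0)))) E' c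
    · intro i
      exact hE' i
  rw [eq_top_iff]
  intro y _
  obtain ⟨a, rfl⟩ : ∃ a, (Proj.awayToSection 𝒮 f).hom a = y := by
    have hbij : Function.Bijective (Proj.basicOpenIsoAway 𝒮 f hf one_pos).hom :=
      ConcreteCategory.bijective_of_isIso _
    exact hbij.2 y
  have ha : a ∈ E := hE ▸ trivial
  exact ha

/-- the coordinate ring of `D ×_ℤ S` (`D ⊆ P^n_ℤ` affine open, `S` affine) is generated by the
functions coming from `D` and from `S`. -/
theorem subring_pullback_eq_top (n : ℕ) (S : Scheme.{u}) [IsAffine S]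
    (D : (CohB1.ProjSpace n (ULift.{u} ℤ)).Opens) (hD : IsAffineOpen D)
    (E : Subring Γ(CohB1.ProjSpaceOver n S, fstP n S ⁻¹ᵁ D))
    (h1 : ∀ d, ((fstP n S).appLE D (fstP n S ⁻¹ᵁ D) le_rfl).hom d ∈ E)
    (h2 : ∀ b, ((sndP n S).appLE ⊤ (fstP n S ⁻¹ᵁ D) (fun _ _ => trivial)).hom b ∈ E) :
    E = ⊤ := by
  let W : (CohB1.ProjSpaceOver n S).Opens := fstP n S ⁻¹ᵁ D
  have hpb1 : IsPullback (fstP n S ∣_ D) W.ι D.ι (fstP n S) := isPullback_morphismRestrict _ _
  have hpb2 : IsPullback (fstP n S) (sndP n S) (CohB1.ProjSpace.toSpec n (ULift.{u} ℤ))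
      (specULiftZIsTerminal.from S) := IsPullback.of_hasPullback _ _
  have hpb := hpb1.paste_vert hpb2
  haveI : IsAffine (D : Scheme.{u}) := hD
  have hpo := isPushout_appTop_of_isPullback hpb
  have hcl := closure_eq_top_of_isPushout hpo
  let E₁ : Subring Γ((W : Scheme.{u}), ⊤) := E.comap W.topIso.hom.hom
  have hE₁ : E₁ = ⊤ := by
    rw [eq_top_iff, ← hcl, Subring.closure_le]
    rintro _ (⟨d, rfl⟩ | ⟨b, rfl⟩)
    · change W.topIso.hom.hom ((fstP n S ∣_ D).appTop.hom d) ∈ E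
      have e0 : fstP n S ∣_ D = (fstP n S).resLE D W le_rfl :=
        (Scheme.Hom.resLE_eq_morphismRestrict (fstP n S) (U := D)).symm
      have e1 := congr($(resLE_appTop_topIso (fstP n S) D W le_rfl).hom d)
      rw [e0]
      exact e1 ▸ h1 _
    · change W.topIso.hom.hom ((W.ι ≫ sndP n S).appTop.hom b) ∈ E
      have e1 := congr($(ι_comp_appTop_topIso (sndP n S) W).hom b)
      exact e1 ▸ h2 b
  rw [eq_top_iff]
  intro y _
  have hy : W.topIso.hom.hom (W.topIso.inv.hom y) = y := by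
    change (W.topIso.inv ≫ W.topIso.hom).hom y = y
    rw [Iso.inv_hom_id]
    rfl
  rw [← hy]
  exact (hE₁ ▸ trivial : W.topIso.inv.hom y ∈ E₁)

set_option maxHeartbeats 1600000 in
set_option backward.isDefEq.respectTransparency.types false in
/-- **`L` very ample and `L'` globally generated implies `L ⊗ L'` very ample** (affine base). -/
theorem tensor_veryAmple {X S : Scheme.{u}} [IsAffine S] (q : X ⟶ S)
    (L L' : X.Modules) (hL : PicF.IsInvertible L) (hva : RelAmple.IsRelVeryAmplePn q L)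
    (hL' : PicF.IsInvertible L') {m : ℕ} (s : Fin m → Γ(L', ⊤))
    (hs : ProjUP.GeneratedBy L' s) :
    RelAmple.IsRelVeryAmplePn q (CohB1.tensorMod L L') := by
  classical
  obtain ⟨n, i₀, hi₀, hq₀, ⟨α⟩⟩ := hva
  let 𝒮 := CohB1.polyGrading n (ULift.{u} ℤ)
  let T : Fin (n + 1) → MvPolynomial (Fin (n + 1)) (ULift.{u} ℤ) := fun j => MvPolynomial.X j
  have hT : ∀ j, T j ∈ 𝒮 1 := fun j => MvPolynomial.isHomogeneous_X _ j
  have hgenT : Algebra.adjoin (ULift.{u} ℤ) (Set.range T) = ⊤ := MvPolynomial.adjoin_range_X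
  have hc𝒮 := hcov 𝒮 T hT hgenT
  let r₀ : X ⟶ Proj 𝒮 := i₀ ≫ fstP n S
  let τ₀ : PB 𝒮 r₀ ≅ L :=
    ((Scheme.Modules.pullbackComp i₀ (fstP n S)).app _).symm ≪≫ α.symm
  let σ : Fin (n + 1) → Γ(L, ⊤) := fun k => τ₀.hom.app ⊤ (psec 𝒮 r₀ (T k) (hT k))
  have hmem : ∀ (k : Fin (n + 1)) (z : X),
      z ∈ r₀ ⁻¹ᵁ Proj.basicOpen 𝒮 (T k) ↔ IsGen L (σ k) z trivial := by
    intro k z
    have h1 := mem_iff 𝒮 hc𝒮 (hT k) r₀ z
    have h2 := isGen_iso_iff τ₀ (psec 𝒮 r₀ (T k) (hT k)) z trivial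
    exact h1.trans h2.symm
  have hratio : ∀ (k : Fin (n + 1)) (V : X.Opens) (hV : V ≤ r₀ ⁻¹ᵁ Proj.basicOpen 𝒮 (T k))
      (l : Fin (n + 1)), res L (le_top : V ≤ ⊤) (σ l) =
        (r₀.appLE (Proj.basicOpen 𝒮 (T k)) V hV).hom (fracD 𝒮 (hT k) (T l) (hT l)) •
          res L (le_top : V ≤ ⊤) (σ k) := by
    intro k V hV l
    have h1 := pullSec_res_eq' 𝒮 (hT k) r₀ V hV (T l) (hT l)
    calc res L (le_top : V ≤ ⊤) (σ l)
        = τ₀.hom.app V (res (PB 𝒮 r₀) (le_top : V ≤ ⊤) (psec 𝒮 r₀ (T l) (hT l))) := by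
          rw [app_res]
      _ = τ₀.hom.app V ((r₀.appLE (Proj.basicOpen 𝒮 (T k)) V hV).hom
            (fracD 𝒮 (hT k) (T l) (hT l)) •
            res (PB 𝒮 r₀) (le_top : V ≤ ⊤) (psec 𝒮 r₀ (T k) (hT k))) :=
          congrArg (τ₀.hom.app V) h1
      _ = (r₀.appLE (Proj.basicOpen 𝒮 (T k)) V hV).hom (fracD 𝒮 (hT k) (T l) (hT l)) •
            τ₀.hom.app V (res (PB 𝒮 r₀) (le_top : V ≤ ⊤) (psec 𝒮 r₀ (T k) (hT k))) :=
          Scheme.Modules.Hom.app_smul τ₀.hom _ _
      _ = _ := by rw [app_res]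
  -- the index set
  let J := Fin (n + 1) × Fin m
  let M := CohB1.tensorMod L L'
  have hM : PicF.IsInvertible M := isInvertible_tensorMod _ _ hL hL'
  let τs : J → Γ(M, ⊤) := fun a => tmul L L' (σ a.1) (s a.2)
  let N := Fintype.card J
  have hcard : Fintype.card (Option J) = N + 1 := Fintype.card_option
  let eqv : Option J ≃ Fin (N + 1) := Fintype.equivFinOfCardEq hcard
  let σ' : Fin (N + 1) → Γ(M, ⊤) := fun a => (eqv.symm a).elim 0 τs
  let good : Fin (N + 1) → Prop := fun a => ∃ j, eqv.symm a = some j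
  have hσ'some : ∀ j, σ' (eqv (some j)) = τs j := fun j => by
    change (eqv.symm (eqv (some j))).elim 0 τs = τs j
    rw [Equiv.symm_apply_apply]
    rfl
  have hgen_iff : ∀ (a : J) (z : X), IsGen M (τs a) z trivial ↔
      IsGen L (σ a.1) z trivial ∧ IsGen L' (s a.2) z trivial :=
    fun a z => isGen_tmul_iff L L' hL hL' (σ a.1) (s a.2) z trivial
  refine isRelVeryAmplePn_of_sectionsI q M hM N σ' good ?_ ?_
  · intro x
    obtain ⟨k, hk⟩ := exists_nmem 𝒮 T hT hgenT (r₀ x)
    have hk' : IsGen L (σ k) x trivial := (hmem k x).1 hk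
    obtain ⟨j, hj⟩ := exists_isGen_of_generatedBy L' hL' s hs x
    refine ⟨eqv (some (k, j)), ⟨(k, j), Equiv.symm_apply_apply _ _⟩, ?_⟩
    rw [hσ'some]
    exact (hgen_iff (k, j) x).2 ⟨hk', hj⟩
  · rintro a ⟨⟨k, j⟩, ha⟩ V hV
    have ha' : a = eqv (some (k, j)) := by rw [← ha, Equiv.apply_symm_apply]
    subst ha'
    have hσa : σ' (eqv (some (k, j))) = τs (k, j) := hσ'some _
    let D := Proj.basicOpen 𝒮 (T k)
    let W : (CohB1.ProjSpaceOver n S).Opens := fstP n S ⁻¹ᵁ D
    have hVD : V ≤ r₀ ⁻¹ᵁ D := fun z hz =>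
      (hmem k z).2 ((hgen_iff (k, j) z).1 (hσa ▸ (hV z).1 hz)).1
    have hVW : V ≤ i₀ ⁻¹ᵁ W := hVD
    have hDaff : IsAffineOpen D := Proj.isAffineOpen_basicOpen 𝒮 (T k) (hT k) one_pos
    have hWaff : IsAffineOpen W :=
      @IsAffineOpen.preimage _ _ _ hDaff (fstP n S) (isAffineHom_fstP n S)
    haveI := hi₀
    refine ⟨(W : Scheme.{u}), hWaff, i₀.resLE W V hVW, inferInstance, ?_⟩
    intro c hc y
    have e1 : V.topIso.hom.hom ((i₀.resLE W V hVW).appTop.hom y) =
        (i₀.appLE W V hVW).hom (W.topIso.hom.hom y) :=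
      congr($(resLE_appTop_topIso i₀ W V hVW).hom y)
    rw [e1]
    let Cl : Subring Γ(X, V) :=
      Subring.closure (Set.range (q.appLE ⊤ V (fun _ _ => trivial)).hom ∪ Set.range c)
    change (i₀.appLE W V hVW).hom (W.topIso.hom.hom y) ∈ Cl
    -- the generator on `V`
    let ε : Γ(M, V) := res M (le_top : V ≤ ⊤) (τs (k, j))
    have hε : ∀ (y : X) (hy : y ∈ V), IsGen M ε y hy := by
      intro y hy
      exact (isGen_res M (homOfLE (le_top : V ≤ ⊤)) (τs (k, j)) y hy).2 (hσa ▸ (hV y).1 hy)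
    have hcoef : ∀ l : Fin (n + 1),
        (r₀.appLE D V hVD).hom (fracD 𝒮 (hT k) (T l) (hT l)) = c (eqv (some (l, j))) := by
      intro l
      apply smul_cancel_of_isGen M ε hε
      have h1 := hc (eqv (some (l, j)))
      rw [hσ'some (l, j), hσa] at h1
      rw [← h1]
      have h2 : res M (le_top : V ≤ ⊤) (τs (l, j)) =
          tmul L L' (res L (le_top : V ≤ ⊤) (σ l)) (res L' (le_top : V ≤ ⊤) (s j)) :=
        tmul_res L L' (homOfLE (le_top : V ≤ ⊤)) (σ l) (s j)
      have h3 : ε = tmul L L' (res L (le_top : V ≤ ⊤) (σ k)) (res L' (le_top : V ≤ ⊤) (s j)) :=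
        tmul_res L L' (homOfLE (le_top : V ≤ ⊤)) (σ k) (s j)
      rw [h2, h3, hratio k V hVD l, tmul_smul_left]
    have hE : Cl.comap (i₀.appLE W V hVW).hom = ⊤ := by
      apply subring_pullback_eq_top n S D hDaff
      · intro d
        change (i₀.appLE W V hVW).hom (((fstP n S).appLE D W le_rfl).hom d) ∈ Cl
        have e2 : (i₀.appLE W V hVW).hom (((fstP n S).appLE D W le_rfl).hom d) =
            (r₀.appLE D V hVD).hom d :=
          congr($(Scheme.Hom.appLE_comp_appLE i₀ (fstP n S) D W V le_rfl hVW).hom d)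
        rw [e2]
        have hE2 : Cl.comap (r₀.appLE D V hVD).hom = ⊤ := by
          apply subring_fracD_eq_top ulift_int_hom_mem 𝒮 T hT hgenT (hT k)
          intro l
          change (r₀.appLE D V hVD).hom (fracD 𝒮 (hT k) (T l) (hT l)) ∈ Cl
          rw [hcoef l]
          exact Subring.subset_closure (Or.inr ⟨_, rfl⟩)
        exact (hE2 ▸ trivial : d ∈ Cl.comap (r₀.appLE D V hVD).hom)
      · intro b
        change (i₀.appLE W V hVW).hom
          (((sndP n S).appLE ⊤ W (fun _ _ => trivial)).hom b) ∈ Cl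
        have e3 : (i₀.appLE W V hVW).hom
            (((sndP n S).appLE ⊤ W (fun _ _ => trivial)).hom b) =
            ((i₀ ≫ sndP n S).appLE ⊤ V (fun _ _ => trivial)).hom b :=
          congr($(Scheme.Hom.appLE_comp_appLE i₀ (sndP n S) ⊤ W V (fun _ _ => trivial)
            hVW).hom b)
        rw [e3]
        have e4 : ∀ (q' : X ⟶ S) (hq' : q' = q) ,
            (q'.appLE ⊤ V (fun _ _ => trivial)).hom b ∈ Cl := by
          rintro _ rfl
          exact Subring.subset_closure (Or.inl ⟨b, rfl⟩)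
        exact e4 _ hq₀
    exact (hE ▸ trivial : W.topIso.hom.hom y ∈ Cl.comap (i₀.appLE W V hVW).hom)

end Groth.Agent.Helper28.VeryAmpleSegre
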