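import Mathlib
import Groth.Agent.Lib.Helper28.ProjFracSec
import Groth.Agent.Lib.Helper28.VeryAmpleSegre

/-!
# Fractions `c/g^n` of degree `n` on `D₊(g)`, `deg g = 1`, and the structure map of `Proj`
on `D₊(f)` (helper28)
-/

set_option autoImplicit false
universe u
open CategoryTheory CategoryTheory.Limits AlgebraicGeometry Opposite TopologicalSpace
open HomogeneousLocalization Groth.Agent.Helper13 Groth.Agent.Helper28.ProjFrac
open Groth.Agent.Helper28.ProjFracSec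

noncomputable section

namespace Groth.Agent.Helper28.ProjFracN

variable {R A : Type u} [CommRing R] [CommRing A] [Algebra R A] (𝒜 : ℕ → Submodule R A)
  [GradedAlgebra 𝒜]

open Twist

/-- `c/g^n` as a function on `D₊(g)`. -/
def fracN {g : A} (hg : g ∈ 𝒜 1) (n : ℕ) (c : A) (hc : c ∈ 𝒜 n) :
    Γ(Proj 𝒜, Proj.basicOpen 𝒜 g) :=
  (Proj.awayToSection 𝒜 g).hom (mk1 hg n c hc)

lemma fracN_val {g : A} (hg : g ∈ 𝒜 1) (n : ℕ) (c : A) (hc : c ∈ 𝒜 n)
    (x : Proj.basicOpen 𝒜 g) :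
    ((show O (𝒜 := 𝒜) (op (Proj.basicOpen 𝒜 g)) from fracN 𝒜 hg n c hc).1 x).val =
      Localization.mk c (⟨g ^ n, fun h => x.2 (x.1.isPrime.mem_of_pow_mem n h)⟩ :
        x.1.asHomogeneousIdeal.toIdeal.primeCompl) := by
  unfold fracN
  rw [awayToSection_val, val_mk1, Localization.mk_eq_mk', IsLocalization.map_mk',
    ← Localization.mk_eq_mk']
  rfl

lemma pow_mem_deg {g : A} (hg : g ∈ 𝒜 1) (n : ℕ) : g ^ n ∈ 𝒜 n := by
  simpa using SetLike.pow_mem_graded n hg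

/-- **the identity `c = (c/g^n) · g^n`** in `O(n)` over `D₊(g)`. -/
lemma globalOf_res_eqN {g : A} (hg : g ∈ 𝒜 1) (n : ℕ) (c : A) (hc : c ∈ 𝒜 n) :
    (Twist.twist 𝒜 (n : ℤ)).presheaf.map (homOfLE (le_top : Proj.basicOpen 𝒜 g ≤ ⊤)).op
        (Twist.globalOf 𝒜 ⟨c, hc⟩) =
      fracN 𝒜 hg n c hc •
        (Twist.twist 𝒜 (n : ℤ)).presheaf.map (homOfLE (le_top : Proj.basicOpen 𝒜 g ≤ ⊤)).op
          (Twist.globalOf 𝒜 ⟨g ^ n, pow_mem_deg 𝒜 hg n⟩) := by
  apply sec_ext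
  intro x
  rw [smul_val, res_val, res_val, fracN_val]
  change Localization.mk c ⟨1, _⟩ = Localization.mk c ⟨g ^ n, _⟩ * Localization.mk (g ^ n) ⟨1, _⟩
  rw [Localization.mk_mul, Localization.mk_eq_mk_iff, Localization.r_iff_exists]
  refine ⟨1, ?_⟩
  simp only [OneMemClass.coe_one, one_mul, Submonoid.coe_mul, mul_one]
  ring

/-- generators of `Away` for algebra generators of arbitrary degrees. -/
theorem subring_eq_top_deg {f : A} (hf : f ∈ 𝒜 1) {I : Type*} (g : I → A) (deg : I → ℕ)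
    (hg : ∀ i, g i ∈ 𝒜 (deg i))
    (hgen : Algebra.adjoin R (Set.range g) = ⊤) (E : Subring (Away 𝒜 f))
    (hA : ∀ c : R, mk1 hf 0 (algebraMap R A c) (SetLike.algebraMap_mem_graded 𝒜 c) ∈ E)
    (hE : ∀ i, mk1 hf (deg i) (g i) (hg i) ∈ E) : E = ⊤ := by
  classical
  have hQ : ∀ w ∈ Submonoid.closure (Set.range g),
      ∃ (n : ℕ) (hw : w ∈ 𝒜 n), mk1 hf n w hw ∈ E := by
    intro w hw
    induction hw using Submonoid.closure_induction with
    | mem x hx =>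
      obtain ⟨i, rfl⟩ := hx
      exact ⟨deg i, hg i, hE i⟩
    | one =>
      refine ⟨0, SetLike.GradedOne.one_mem, ?_⟩
      rw [mk1_one]
      exact E.one_mem
    | mul x y _ _ hx hy =>
      obtain ⟨n, hxn, hxE⟩ := hx
      obtain ⟨n', hyn, hyE⟩ := hy
      refine ⟨n + n', SetLike.mul_mem_graded hxn hyn, ?_⟩
      rw [mk1_mul hf hxn hyn]
      exact E.mul_mem hxE hyE
  have hR : ∀ a : A, ∀ k : ℕ, mk1 hf k (pr 𝒜 k a) (pr_mem k a) ∈ E := by
    intro a
    have ha : a ∈ Submodule.span R (Submonoid.closure (Set.range g) : Set A) := by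
      rw [← Algebra.adjoin_eq_span, hgen]
      trivial
    induction ha using Submodule.span_induction with
    | mem w hw =>
      intro k
      obtain ⟨n, hwn, hwE⟩ := hQ w hw
      by_cases h : n = k
      · subst h
        rw [mk1_congr hf (pr_of_mem hwn) (pr_mem n w) hwn]
        exact hwE
      · rw [mk1_congr hf (pr_of_mem_ne hwn h) (pr_mem k w) (zero_mem _), mk1_zero]
        exact E.zero_mem
    | zero =>
      intro k
      rw [mk1_congr hf (pr_zero k) (pr_mem k 0) (zero_mem _), mk1_zero]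
      exact E.zero_mem
    | add x y _ _ hx hy =>
      intro k
      rw [mk1_congr hf (pr_add k x y) (pr_mem k (x + y)) (add_mem (pr_mem k x) (pr_mem k y)),
        mk1_add hf (pr_mem k x) (pr_mem k y)]
      exact E.add_mem (hx k) (hy k)
    | smul c x _ hx =>
      intro k
      have h1 : pr 𝒜 k (c • x) = algebraMap R A c * pr 𝒜 k x := by
        rw [pr_smul, Algebra.smul_def]
      have h2 : algebraMap R A c * pr 𝒜 k x ∈ 𝒜 (0 + k) :=
        SetLike.mul_mem_graded (SetLike.algebraMap_mem_graded 𝒜 c) (pr_mem k x)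
      have h3 : mk1 hf k (pr 𝒜 k (c • x)) (pr_mem k (c • x)) =
          mk1 hf 0 (algebraMap R A c) (SetLike.algebraMap_mem_graded 𝒜 c) *
            mk1 hf k (pr 𝒜 k x) (pr_mem k x) := by
        rw [← mk1_mul hf (SetLike.algebraMap_mem_graded 𝒜 c) (pr_mem k x)]
        apply HomogeneousLocalization.val_injective
        rw [val_mk1, val_mk1]
        congr 1
        exact Subtype.ext (by rw [zero_add])
      rw [h3]
      exact E.mul_mem (hA c) (hx k)
  rw [eq_top_iff]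
  intro z _
  obtain ⟨n, a, ha, rfl⟩ := Away.mk_surjective 𝒜 hf z
  have ha' : a ∈ 𝒜 n := by rwa [smul_eq_mul, mul_one] at ha
  have h := hR a n
  rw [mk1_congr hf (pr_of_mem ha') (pr_mem n a) ha'] at h
  exact h

/-- the structure map `Proj ⟶ Spec 𝒜₀` on functions over `D₊(f)`. -/
lemma appLE_toSpecZero {f : A} {m : ℕ} (hf : f ∈ 𝒜 m) (hm : 0 < m) :
    (Proj.toSpecZero 𝒜).appLE ⊤ (Proj.basicOpen 𝒜 f) (fun _ _ => trivial) =
      (Scheme.ΓSpecIso (CommRingCat.of (𝒜 0))).hom ≫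
        CommRingCat.ofHom (fromZeroRingHom 𝒜 _) ≫ Proj.awayToSection 𝒜 f := by
  have h1 := Proj.awayι_toSpecZero 𝒜 f hf hm
  rw [Proj.awayι, Category.assoc, Iso.inv_comp_eq, Proj.basicOpenIsoSpec_hom] at h1
  have h2 := congrArg Scheme.Hom.appTop h1
  rw [Scheme.Hom.comp_appTop (Proj.basicOpenToSpec 𝒜 f)] at h2
  have h3 : (Proj.basicOpenToSpec 𝒜 f).appTop = (Scheme.ΓSpecIso _).hom ≫
      Proj.awayToSection 𝒜 f ≫ (Proj.basicOpen 𝒜 f).topIso.inv :=
    Proj.basicOpenToSpec_app_top 𝒜 f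
  rw [h3, Scheme.ΓSpecIso_naturality_assoc] at h2
  rw [← Groth.Agent.Helper28.VeryAmpleSegre.ι_comp_appTop_topIso, h2]
  simp only [Category.assoc, Iso.inv_hom_id, Category.comp_id]

/-- the structure map `Proj ⟶ Spec R` on functions over `D₊(f)`. -/
lemma appLE_toSpec_apply {f : A} {m : ℕ} (hf : f ∈ 𝒜 m) (hm : 0 < m) (r : R) :
    ((Proj.toSpecZero 𝒜 ≫ Spec.map (CommRingCat.ofHom (algebraMap R (𝒜 0)))).appLE ⊤
      (Proj.basicOpen 𝒜 f) (fun _ _ => trivial)).hom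
        ((Scheme.ΓSpecIso (CommRingCat.of R)).inv.hom r) =
      (Proj.awayToSection 𝒜 f).hom (fromZeroRingHom 𝒜 _ (algebraMap R (𝒜 0) r)) := by
  have h1 : (Proj.toSpecZero 𝒜 ≫ Spec.map (CommRingCat.ofHom (algebraMap R (𝒜 0)))).appLE ⊤
      (Proj.basicOpen 𝒜 f) (fun _ _ => trivial) =
      (Spec.map (CommRingCat.ofHom (algebraMap R (𝒜 0)))).appTop ≫
        (Proj.toSpecZero 𝒜).appLE ⊤ (Proj.basicOpen 𝒜 f) (fun _ _ => trivial) := by
    rw [Scheme.Hom.comp_appLE]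
    rfl
  rw [h1, appLE_toSpecZero 𝒜 hf hm]
  have h2 := congr($(Scheme.ΓSpecIso_inv_naturality
    (CommRingCat.ofHom (algebraMap R (𝒜 0)))).hom r)
  change (Proj.awayToSection 𝒜 f).hom (fromZeroRingHom 𝒜 _
    ((Scheme.ΓSpecIso (CommRingCat.of (𝒜 0))).hom.hom
      ((Spec.map (CommRingCat.ofHom (algebraMap R (𝒜 0)))).appTop.hom
        ((Scheme.ΓSpecIso (CommRingCat.of R)).inv.hom r)))) = _
  have h3 : (Spec.map (CommRingCat.ofHom (algebraMap R (𝒜 0)))).appTop.hom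
      ((Scheme.ΓSpecIso (CommRingCat.of R)).inv.hom r) =
      (Scheme.ΓSpecIso (CommRingCat.of (𝒜 0))).inv.hom (algebraMap R (𝒜 0) r) := h2.symm
  rw [h3]
  have h4 : (Scheme.ΓSpecIso (CommRingCat.of (𝒜 0))).hom.hom
      ((Scheme.ΓSpecIso (CommRingCat.of (𝒜 0))).inv.hom (algebraMap R (𝒜 0) r)) =
      algebraMap R (𝒜 0) r := by
    change ((Scheme.ΓSpecIso (CommRingCat.of (𝒜 0))).inv ≫
      (Scheme.ΓSpecIso (CommRingCat.of (𝒜 0))).hom).hom _ = _
    rw [Iso.inv_hom_id]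
    rfl
  rw [h4]

end Groth.Agent.Helper28.ProjFracN
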