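import Mathlib
import Groth.Agent.Lib.Helper28.ProjFracN
import Groth.Agent.Lib.Helper28.VeryAmpleCrit
import Groth.Agent.Lib.Helper28.TwistGen
import Groth.Agent.Lib.Helper15.ProjSpaceProper

/-!
# `O(n)` is very ample on `Proj B` for `n ≥ d` when `B` is generated in degrees `1..d`, of finite
type, and `Proj B` is covered by the `D₊(g)`, `deg g = 1` (helper28)
-/

set_option autoImplicit false
universe u
open CategoryTheory CategoryTheory.Limits AlgebraicGeometry Opposite TopologicalSpace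
open HomogeneousLocalization
open Groth.Agent.Helper13 Groth.Agent.Helper13.Inv Groth.Agent.Helper13.GenLoc
open Groth.Agent.Helper28.ProjFrac Groth.Agent.Helper28.ProjFracSec
open Groth.Agent.Helper28.ProjFracN
open Groth.Agent.Helper28.PullSecBridge
open Groth.Agent.Helper28.VeryAmpleCrit
open Groth.Agent.Helper18.AffHom (res res_smul res_res app_res res_self)

noncomputable section

namespace Groth.Agent.Helper28.ProjVeryAmple

variable {R A : Type u} [CommRing R] [CommRing A] [Algebra R A] (𝒜 : ℕ → Submodule R A)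
  [GradedAlgebra 𝒜]

lemma exists_finset_subset_adjoin (G : Set A) (x : A) (hx : x ∈ Algebra.adjoin R G) :
    ∃ F : Finset A, (F : Set A) ⊆ G ∧ x ∈ Algebra.adjoin R (F : Set A) := by
  classical
  induction hx using Algebra.adjoin_induction with
  | mem x hx =>
    refine ⟨{x}, ?_, Algebra.subset_adjoin (by simp)⟩
    intro y hy
    rw [Finset.coe_singleton, Set.mem_singleton_iff] at hy
    rw [hy]; exact hx
  | algebraMap r => exact ⟨∅, by simp, Subalgebra.algebraMap_mem _ r⟩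
  | add x y _ _ hx hy =>
    obtain ⟨F₁, h₁, hx₁⟩ := hx
    obtain ⟨F₂, h₂, hy₂⟩ := hy
    refine ⟨F₁ ∪ F₂, by rw [Finset.coe_union]; exact Set.union_subset h₁ h₂, ?_⟩
    exact add_mem
      (Algebra.adjoin_mono (by rw [Finset.coe_union]; exact Set.subset_union_left) hx₁)
      (Algebra.adjoin_mono (by rw [Finset.coe_union]; exact Set.subset_union_right) hy₂)
  | mul x y _ _ hx hy =>
    obtain ⟨F₁, h₁, hx₁⟩ := hx
    obtain ⟨F₂, h₂, hy₂⟩ := hy
    refine ⟨F₁ ∪ F₂, by rw [Finset.coe_union]; exact Set.union_subset h₁ h₂, ?_⟩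
    exact mul_mem
      (Algebra.adjoin_mono (by rw [Finset.coe_union]; exact Set.subset_union_left) hx₁)
      (Algebra.adjoin_mono (by rw [Finset.coe_union]; exact Set.subset_union_right) hy₂)

lemma exists_finset_adjoin_eq_top [Algebra.FiniteType R A] (G : Set A)
    (hG : Algebra.adjoin R G = ⊤) :
    ∃ F : Finset A, (F : Set A) ⊆ G ∧ Algebra.adjoin R (F : Set A) = ⊤ := by
  classical
  obtain ⟨T, hT⟩ := (Algebra.FiniteType.out (R := R) (A := A))
  have h : ∀ t : A, ∃ F : Finset A, (F : Set A) ⊆ G ∧ t ∈ Algebra.adjoin R (F : Set A) :=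
    fun t => exists_finset_subset_adjoin G t (by rw [hG]; trivial)
  choose F hF1 hF2 using h
  refine ⟨T.biUnion F, ?_, ?_⟩
  · intro x hx
    rw [Finset.mem_coe, Finset.mem_biUnion] at hx
    obtain ⟨t, _, hxt⟩ := hx
    exact hF1 t hxt
  · rw [eq_top_iff, ← hT, Algebra.adjoin_le_iff]
    intro t ht
    exact Algebra.adjoin_mono (fun x hx => by
      rw [Finset.mem_coe, Finset.mem_biUnion]; exact ⟨t, ht, hx⟩) (hF2 t)

lemma algebraMap_zero_surjective (G : Set A) (hG : Algebra.adjoin R G = ⊤)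
    (hpos : ∀ x ∈ G, ∃ i, 0 < i ∧ x ∈ 𝒜 i) : Function.Surjective (algebraMap R (𝒜 0)) := by
  have hpr : ∀ a : A, pr 𝒜 0 a = GradedRing.projZeroRingHom 𝒜 a := fun a => rfl
  have key : ∀ a : A, ∃ r : R, pr 𝒜 0 a = algebraMap R A r := by
    intro a
    have ha : a ∈ Algebra.adjoin R G := by rw [hG]; trivial
    induction ha using Algebra.adjoin_induction with
    | mem x hx =>
      obtain ⟨i, hi, hxi⟩ := hpos x hx
      exact ⟨0, by rw [pr_of_mem_ne hxi (by omega), map_zero]⟩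
    | algebraMap r => exact ⟨r, pr_of_mem (SetLike.algebraMap_mem_graded 𝒜 r)⟩
    | add x y _ _ hx hy =>
      obtain ⟨r, hr⟩ := hx
      obtain ⟨r', hr'⟩ := hy
      exact ⟨r + r', by rw [pr_add, hr, hr', map_add]⟩
    | mul x y _ _ hx hy =>
      obtain ⟨r, hr⟩ := hx
      obtain ⟨r', hr'⟩ := hy
      refine ⟨r * r', ?_⟩
      rw [hpr, map_mul, ← hpr, ← hpr, hr, hr', map_mul]
  intro a
  obtain ⟨r, hr⟩ := key a.1
  refine ⟨r, Subtype.ext ?_⟩
  rw [pr_of_mem a.2] at hr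
  exact hr.symm

lemma isGen_globalOf_iff (hc : ∀ x : Proj 𝒜, ∃ g ∈ 𝒜 1, g ∉ x.asHomogeneousIdeal) {n : ℕ}
    {c : A} (hcn : c ∈ 𝒜 n) (x : Proj 𝒜) :
    IsGen (Twist.twist 𝒜 (n : ℤ)) (Twist.globalOf 𝒜 ⟨c, hcn⟩) x trivial ↔
      c ∉ x.asHomogeneousIdeal := by
  have hcovn : ∀ x : Proj 𝒜, ∃ k ∈ 𝒜 n, k ∉ x.asHomogeneousIdeal := fun x => by
    obtain ⟨g, hg, hgx⟩ := hc x
    exact ⟨g ^ n, pow_mem_deg 𝒜 hg n, fun h => hgx (x.isPrime.mem_of_pow_mem _ h)⟩
  have h : (n : ℤ) = 0 + (n : ℤ) := (zero_add _).symm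
  have hinv : PicF.IsInvertible (Twist.twist 𝒜 (n : ℤ)) :=
    (TwistMul.twist_all_of_degree_one 𝒜 hc).1 n
  have e1 := TwistMul.genLocus_secHom_eq' 𝒜 hcovn hcn h
  have e2 := GenLoc.mem_genLocus_iff_isGen (Twist.twist 𝒜 (n : ℤ)) (TwistMul.secHom 𝒜 hcn h)
    hinv x
  have e3 : GenLoc.sec _ (TwistMul.secHom 𝒜 hcn h) = Twist.globalOf 𝒜 ⟨c, hcn⟩ :=
    TwistMul.secHom_app_top_one 𝒜 hcn h
  rw [e3] at e2
  refine e2.symm.trans ?_
  rw [e1]
  rfl

set_option maxHeartbeats 1600000 in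
/-- **`O(n)` is very ample for `n ≥ d`**, with a closed immersion into `P^N_R`. -/
theorem closedImmersion_twist (d : ℕ)
    (hgen : Algebra.adjoin R (⋃ i ∈ Finset.Icc 1 d, (𝒜 i : Set A)) = ⊤)
    (hcov : (⨆ g : 𝒜 1, Proj.basicOpen 𝒜 (g : A)) = ⊤) [Algebra.FiniteType R A] (n : ℕ)
    (hn : d ≤ n) (hn1 : 0 < n) :
    ∃ (N : ℕ) (i : Proj 𝒜 ⟶ CohB1.ProjSpaceOver N (Spec (CommRingCat.of R))),
      IsClosedImmersion i ∧
      i ≫ pullback.snd (CohB1.ProjSpace.toSpec N (ULift.{u} ℤ))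
          (specULiftZIsTerminal.from (Spec (CommRingCat.of R))) =
        Proj.toSpecZero 𝒜 ≫ Spec.map (CommRingCat.ofHom (algebraMap R (𝒜 0))) ∧
      Nonempty (Twist.twist 𝒜 (n : ℤ) ≅
        (Scheme.Modules.pullback i).obj (Twist.twistOver N (Spec (CommRingCat.of R)) 1)) := by
  classical
  let G : Set A := ⋃ i ∈ Finset.Icc 1 d, (𝒜 i : Set A)
  have hGdeg : ∀ x ∈ G, ∃ i, (1 ≤ i ∧ i ≤ d) ∧ x ∈ 𝒜 i := by
    intro x hx
    obtain ⟨i, hi, hxi⟩ := Set.mem_iUnion₂.1 hx
    exact ⟨i, Finset.mem_Icc.1 hi, hxi⟩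
  have hsurj0 : Function.Surjective (algebraMap R (𝒜 0)) :=
    algebraMap_zero_surjective 𝒜 G hgen (fun x hx => by
      obtain ⟨i, hi, h⟩ := hGdeg x hx
      exact ⟨i, hi.1, h⟩)
  haveI : IsScalarTower R (𝒜 0) A := ⟨fun r a x => by
    rw [Algebra.smul_def (r • a) x, Algebra.smul_def a x]
    change (r • (a : A)) * x = r • ((a : A) * x)
    exact smul_mul_assoc r (a : A) x⟩
  haveI : Algebra.FiniteType (𝒜 0) A :=
    Algebra.FiniteType.of_restrictScalars_finiteType R (𝒜 0) A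
  let q : Proj 𝒜 ⟶ Spec (CommRingCat.of R) :=
    Proj.toSpecZero 𝒜 ≫ Spec.map (CommRingCat.ofHom (algebraMap R (𝒜 0)))
  haveI : IsClosedImmersion (Spec.map (CommRingCat.ofHom (algebraMap R (𝒜 0)))) :=
    IsClosedImmersion.spec_of_surjective _ hsurj0
  haveI hqprop : IsProper q := inferInstance
  haveI : CompactSpace (Proj 𝒜) := QuasiCompact.compactSpace_of_compactSpace q
  have hc : ∀ x : Proj 𝒜, ∃ g ∈ 𝒜 1, g ∉ x.asHomogeneousIdeal := by
    intro x
    have hx : x ∈ (⨆ g : 𝒜 1, Proj.basicOpen 𝒜 (g : A)) := by rw [hcov]; trivial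
    obtain ⟨g, hg⟩ := TopologicalSpace.Opens.mem_iSup.mp hx
    exact ⟨g.1, g.2, hg⟩
  obtain ⟨t, ht⟩ : ∃ t : Finset (𝒜 1), ∀ x : Proj 𝒜, ∃ g ∈ t,
      (g : A) ∉ x.asHomogeneousIdeal := by
    obtain ⟨t, ht⟩ := isCompact_univ.elim_finite_subcover
      (fun g : 𝒜 1 => ((Proj.basicOpen 𝒜 (g : A) : (Proj 𝒜).Opens) : Set (Proj 𝒜)))
      (fun g => (Proj.basicOpen 𝒜 (g : A)).isOpen) (by
        intro x _
        obtain ⟨g, hg, hgx⟩ := hc x
        exact Set.mem_iUnion.2 ⟨⟨g, hg⟩, hgx⟩)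
    refine ⟨t, fun x => ?_⟩
    obtain ⟨g, hg, hx⟩ := Set.mem_iUnion₂.1 (ht (Set.mem_univ x))
    exact ⟨g, hg, hx⟩
  obtain ⟨F, hFG, hF⟩ := exists_finset_adjoin_eq_top G hgen
  have hFdeg : ∀ b : {b // b ∈ F}, ∃ e, (1 ≤ e ∧ e ≤ d) ∧ b.1 ∈ 𝒜 e :=
    fun b => hGdeg b.1 (hFG b.2)
  choose e he1 he2 using hFdeg
  let M := Twist.twist 𝒜 (n : ℤ)
  have hM : PicF.IsInvertible M := (TwistMul.twist_all_of_degree_one 𝒜 hc).1 (n : ℤ)
  let J := {g // g ∈ t} × Option {b // b ∈ F}
  let elt : J → A := fun a =>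
    a.2.elim ((a.1.1 : A) ^ n) (fun b => b.1 * (a.1.1 : A) ^ (n - e b))
  have helt : ∀ a, elt a ∈ 𝒜 n := by
    rintro ⟨g, (_ | b)⟩
    · exact pow_mem_deg 𝒜 g.1.2 n
    · have h1 : (b.1 * (g.1 : A) ^ (n - e b)) ∈ 𝒜 (e b + (n - e b)) :=
        SetLike.mul_mem_graded (he2 b) (pow_mem_deg 𝒜 g.1.2 _)
      have h2 : e b + (n - e b) = n := by have := (he1 b).2; omega
      exact h2 ▸ h1
  let τs : J → Γ(M, ⊤) := fun a => Twist.globalOf 𝒜 ⟨elt a, helt a⟩
  let N := Fintype.card J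
  have hcard : Fintype.card (Option J) = N + 1 := Fintype.card_option
  let eqv : Option J ≃ Fin (N + 1) := Fintype.equivFinOfCardEq hcard
  let σ' : Fin (N + 1) → Γ(M, ⊤) := fun a => (eqv.symm a).elim 0 τs
  let good : Fin (N + 1) → Prop := fun a => ∃ g, eqv.symm a = some (g, none)
  have hσ'some : ∀ j, σ' (eqv (some j)) = τs j := fun j => by
    change (eqv.symm (eqv (some j))).elim 0 τs = τs j
    rw [Equiv.symm_apply_apply]
    rfl
  have hva : RelAmple.IsRelVeryAmplePn q M := by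
    refine isRelVeryAmplePn_of_sections q M hM N σ' good ?_ ?_
    · intro x
      obtain ⟨g, hg, hgx⟩ := ht x
      refine ⟨eqv (some (⟨g, hg⟩, none)), ⟨⟨g, hg⟩, Equiv.symm_apply_apply _ _⟩, ?_⟩
      rw [hσ'some]
      exact (isGen_globalOf_iff 𝒜 hc (helt (⟨g, hg⟩, none)) x).2
        (fun h => hgx (x.isPrime.mem_of_pow_mem _ h))
    · rintro a ⟨g, ha⟩ V hV
      have ha' : a = eqv (some (g, none)) := by rw [← ha, Equiv.apply_symm_apply]
      subst ha'
      have hgdeg : (g.1 : A) ∈ 𝒜 1 := g.1.2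
      have hVeq : V = Proj.basicOpen 𝒜 (g.1 : A) := by
        apply TopologicalSpace.Opens.ext
        ext z
        change z ∈ V ↔ (g.1 : A) ∉ z.asHomogeneousIdeal
        rw [hV z, hσ'some]
        refine (isGen_globalOf_iff 𝒜 hc (helt (g, none)) z).trans ?_
        change (g.1 : A) ^ n ∉ z.asHomogeneousIdeal ↔ (g.1 : A) ∉ z.asHomogeneousIdeal
        constructor
        · intro h h'
          exact h (Ideal.pow_mem_of_mem _ h' n hn1)
        · intro h h'
          exact h (z.isPrime.mem_of_pow_mem _ h')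
      subst hVeq
      refine ⟨Proj.isAffineOpen_basicOpen 𝒜 _ hgdeg one_pos, fun c hc' => ?_⟩
      let D := Proj.basicOpen 𝒜 (g.1 : A)
      let Cl : Subring Γ(Proj 𝒜, D) :=
        Subring.closure (Set.range (q.appLE ⊤ D (fun _ _ => trivial)).hom ∪ Set.range c)
      change Cl = ⊤
      let ε : Γ(M, D) := res M (le_top : D ≤ ⊤) (τs (g, none))
      have hε : ∀ (y : Proj 𝒜) (hy : y ∈ D), IsGen M ε y hy := fun y hy =>
        (isGen_res M (homOfLE (le_top : D ≤ ⊤)) _ y hy).2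
          ((isGen_globalOf_iff 𝒜 hc (helt (g, none)) y).2
            (fun h => hy (y.isPrime.mem_of_pow_mem _ h)))
      have hcoef : ∀ j : J, fracN 𝒜 hgdeg n (elt j) (helt j) = c (eqv (some j)) := by
        intro j
        apply smul_cancel_of_isGen M ε hε
        have h1 := hc' (eqv (some j))
        rw [hσ'some j, hσ'some (g, none)] at h1
        rw [← h1]
        exact (globalOf_res_eqN 𝒜 hgdeg n (elt j) (helt j)).symm
      have hE : Cl.comap (Proj.awayToSection 𝒜 (g.1 : A)).hom = ⊤ := by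
        have hrange : Set.range (fun b : {b // b ∈ F} => b.1) = (F : Set A) := by
          ext x; simp
        apply subring_eq_top_deg 𝒜 hgdeg (fun b : {b // b ∈ F} => b.1) e he2
          (by rw [hrange]; exact hF)
        · intro r
          change (Proj.awayToSection 𝒜 (g.1 : A)).hom
            (mk1 hgdeg 0 (algebraMap R A r) (SetLike.algebraMap_mem_graded 𝒜 r)) ∈ Cl
          have e1 : mk1 hgdeg 0 (algebraMap R A r) (SetLike.algebraMap_mem_graded 𝒜 r) =
              fromZeroRingHom 𝒜 _ (algebraMap R (𝒜 0) r) := by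
            apply HomogeneousLocalization.val_injective
            rw [val_mk1]
            change _ = Localization.mk _ _
            rw [Localization.mk_eq_mk_iff, Localization.r_iff_exists]
            exact ⟨1, by simp⟩
          rw [e1, ← appLE_toSpec_apply 𝒜 hgdeg one_pos r]
          exact Subring.subset_closure (Or.inl ⟨_, rfl⟩)
        · intro b
          change (Proj.awayToSection 𝒜 (g.1 : A)).hom (mk1 hgdeg (e b) b.1 (he2 b)) ∈ Cl
          have e2 : mk1 hgdeg (e b) b.1 (he2 b) =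
              mk1 hgdeg n (elt (g, some b)) (helt (g, some b)) := by
            apply HomogeneousLocalization.val_injective
            rw [val_mk1, val_mk1, Localization.mk_eq_mk_iff, Localization.r_iff_exists]
            refine ⟨1, ?_⟩
            have h2 : e b + (n - e b) = n := by have := (he1 b).2; omega
            have h3 : (g.1 : A) ^ n = (g.1 : A) ^ (e b) * (g.1 : A) ^ (n - e b) := by
              rw [← pow_add, h2]
            change ((1 : Submonoid.powers (g.1 : A)) : A) * ((g.1 : A) ^ n * b.1) =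
              ((1 : Submonoid.powers (g.1 : A)) : A) *
                ((g.1 : A) ^ (e b) * (b.1 * (g.1 : A) ^ (n - e b)))
            rw [h3]
            ring
          rw [e2]
          change fracN 𝒜 hgdeg n (elt (g, some b)) (helt (g, some b)) ∈ Cl
          rw [hcoef (g, some b)]
          exact Subring.subset_closure (Or.inr ⟨_, rfl⟩)
      rw [eq_top_iff]
      intro y _
      obtain ⟨a, rfl⟩ : ∃ a, (Proj.awayToSection 𝒜 (g.1 : A)).hom a = y := by
        have hbij : Function.Bijective (Proj.basicOpenIsoAway 𝒜 (g.1 : A) hgdeg one_pos).hom :=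
          ConcreteCategory.bijective_of_isIso _
        exact hbij.2 y
      exact (hE ▸ trivial : a ∈ Cl.comap (Proj.awayToSection 𝒜 (g.1 : A)).hom)
  obtain ⟨N', i, himm, hcomp, ⟨iso⟩⟩ := hva
  haveI := himm
  haveI : IsProper (sndP N' (Spec (CommRingCat.of R))) :=
    Groth.Agent.Helper15.isProper_projSpaceOver_toBase N' _
  haveI : IsProper (i ≫ sndP N' (Spec (CommRingCat.of R))) := by rw [hcomp]; exact hqprop
  haveI : IsProper i := IsProper.of_comp i (sndP N' (Spec (CommRingCat.of R)))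
  exact ⟨N', i, IsClosedImmersion.of_isPreimmersion i i.isClosedMap.isClosed_range, hcomp, ⟨iso⟩⟩

end Groth.Agent.Helper28.ProjVeryAmple
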