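import Mathlib
import Groth.Agent.Lib.Helper28.HyperplaneAlg
import Groth.Agent.Lib.Helper28.ProjFracSec
import Groth.Agent.Lib.Helper28.ProjVeryAmple
import Groth.Agent.Lib.Helper26.PnH0
import Groth.Agent.Lib.Helper23.ZeroSch5
import Groth.Agent.Lib.Helper12.RelProjIntegral
import Groth.Agent.Lib.Helper6.ProjClosed
import Groth.Agent.Lib.Helper6.SurjTwA
import Groth.Agent.Lib.Helper17.SG2

/-!
# A hyperplane in projective space over a field is a projective space (helper28)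
-/

set_option autoImplicit false
universe u
open CategoryTheory CategoryTheory.Limits AlgebraicGeometry Opposite TopologicalSpace
open HomogeneousLocalization MvPolynomial
open Groth.Agent.Helper28.ProjFrac Groth.Agent.Helper28.ProjFracSec
open Groth.Agent.Helper28.HyperplaneAlg
open Groth.Agent.Helper13.Inv

noncomputable section

namespace Groth.Agent.Helper28.Hyperplane

section general

variable {R A B : Type u} [CommRing R] [CommRing A] [CommRing B] [Algebra R A] [Algebra R B]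
  {𝒜 : ℕ → Submodule R A} {ℬ : ℕ → Submodule R B} [GradedAlgebra 𝒜] [GradedAlgebra ℬ]
  (ψ : 𝒜 →+*ᵍ ℬ) (hψ : HomogeneousIdeal.irrelevant ℬ ≤ (HomogeneousIdeal.irrelevant 𝒜).map ψ)
  {ℓ : A} (hℓ : ℓ ∈ 𝒜 1) (hker : ∀ a, ψ a = 0 → a ∈ Ideal.span {ℓ})
  (hℓ0 : ψ ℓ = 0) {f : A} (hf : f ∈ 𝒜 1)

include hf in
theorem app_awayToSection (a : Away 𝒜 f) :
    ((Proj.map ψ hψ).app (Proj.basicOpen 𝒜 f)).hom ((Proj.awayToSection 𝒜 f).hom a) =
      (Proj.awayToSection ℬ (ψ f)).hom (Away.map ψ f a) := by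
  have h := Proj.awayToSection_comp_appLE ψ hψ hf
  have h2 := congrArg (fun F => F.hom a) h
  simp only [CommRingCat.hom_comp, RingHom.coe_comp, Function.comp_apply,
    CommRingCat.hom_ofHom] at h2
  rw [Scheme.Hom.app_eq_appLE]
  exact h2

include hker hℓ0 in
theorem ker_app_basicOpen :
    RingHom.ker ((Proj.map ψ hψ).app (Proj.basicOpen 𝒜 f)).hom =
      Ideal.span {fracD 𝒜 hf ℓ hℓ} := by
  have hα : Function.Bijective (Proj.basicOpenIsoAway 𝒜 f hf one_pos).hom :=
    ConcreteCategory.bijective_of_isIso _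
  have hβ : Function.Bijective (Proj.basicOpenIsoAway ℬ (ψ f) (ψ.map_mem hf) one_pos).hom :=
    ConcreteCategory.bijective_of_isIso _
  have hβinj : Function.Injective (Proj.awayToSection ℬ (ψ f)).hom := hβ.1
  apply le_antisymm
  · intro t ht
    obtain ⟨a, rfl⟩ : ∃ a, (Proj.awayToSection 𝒜 f).hom a = t := hα.2 t
    have h1 : (Proj.awayToSection ℬ (ψ f)).hom (Away.map ψ f a) = 0 := by
      rw [← app_awayToSection ψ hψ hf a]
      exact (RingHom.mem_ker).1 ht
    have h2 : Away.map ψ f a = 0 := hβinj (h1.trans (map_zero _).symm)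
    have h3 := mem_span_of_awayMap_eq_zero ψ hℓ hker hf a h2
    obtain ⟨b, rfl⟩ := Ideal.mem_span_singleton'.1 h3
    rw [map_mul]
    exact Ideal.mul_mem_left _ _ (Ideal.subset_span rfl)
  · rw [Ideal.span_le, Set.singleton_subset_iff]
    apply (RingHom.mem_ker).2
    unfold fracD
    rw [app_awayToSection ψ hψ hf, awayMap_mk1_eq_zero ψ hℓ hℓ0 hf, map_zero]
    rfl

end general

section poly

variable (k : Type u) [Field k] (m : ℕ)

theorem exists_X_nmem (x : Proj (CohB1.polyGrading m k)) :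
    ∃ i : Fin (m + 1), (X i : MvPolynomial (Fin (m + 1)) k) ∉ x.asHomogeneousIdeal := by
  by_contra hcon
  push Not at hcon
  apply x.not_irrelevant_le
  intro p hp
  have h1 := Groth.Agent.Helper17.SG.irrelevant_le_span m k hp
  have h2 : Ideal.span (Set.range fun i : Fin (m + 1) => (X i : MvPolynomial (Fin (m + 1)) k)) ≤
      x.asHomogeneousIdeal.toIdeal := by
    rw [Ideal.span_le]
    rintro _ ⟨i, rfl⟩
    exact hcon i
  exact h2 h1

theorem hcov (x : Proj (CohB1.polyGrading m k)) :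
    ∃ g ∈ CohB1.polyGrading m k 1, g ∉ x.asHomogeneousIdeal := by
  obtain ⟨i, hi⟩ := exists_X_nmem k m x
  exact ⟨X i, Groth.Agent.Helper17.SG.X_mem m k i, hi⟩

theorem isIntegral_projSpace : IsIntegral (Proj (CohB1.polyGrading m k)) := by
  apply Groth.Agent.Helper12.RelProjIntegral.isIntegral_proj
  intro h
  have hmem : (X 0 : MvPolynomial (Fin (m + 1)) k) ∈
      (HomogeneousIdeal.irrelevant (CohB1.polyGrading m k)).toIdeal :=
    HomogeneousIdeal.mem_irrelevant_of_mem _ one_pos (Groth.Agent.Helper17.SG.X_mem m k 0)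
  rw [h] at hmem
  exact MvPolynomial.X_ne_zero (0 : Fin (m + 1)) ((Submodule.mem_bot _).1 hmem)

end poly

section main

variable (k : Type u) [Field k] (n : ℕ)

local notation "PP" => CohB1.polyGrading (n + 1) k
local notation "QQ" => CohB1.polyGrading n k

open Groth.Agent.Helper23.ZeroSch Groth.Agent.Helper23.RegMero in
theorem ker_eq_zeroScheme
    (s : Coh.structureModule (Proj PP) ⟶ Twist.twist PP 1) (hs : s ≠ 0)
    (ℓ : MvPolynomial (Fin (n + 1 + 1)) k) (hℓ : ℓ ∈ PP 1) (hℓne : ℓ ≠ 0)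
    (hσ : PicF2.secVal (Twist.twist PP 1) s ⊤ = Twist.globalOf PP ⟨ℓ, hℓ⟩)
    (ψ : PP →+*ᵍ QQ) (hψ : HomogeneousIdeal.irrelevant QQ ≤ (HomogeneousIdeal.irrelevant PP).map ψ)
    (hker : ∀ a, ψ a = 0 → a ∈ Ideal.span {ℓ}) (hℓ0 : ψ ℓ = 0)
    [QuasiCompact (Proj.map ψ hψ)] :
    (Proj.map ψ hψ).ker = PicF2.zeroScheme (Twist.twist PP 1) s := by
  haveI : IsIntegral (Proj PP) := isIntegral_projSpace k (n + 1)
  have hL : PicF.IsInvertible (Twist.twist PP 1) := isInvertible_twist_one PP (hcov k (n + 1))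
  have hσne : PicF2.secVal (Twist.twist PP 1) s ⊤ ≠ 0 :=
    Groth.Agent.Helper13.IntInv.sec_ne_zero _ s hs
  obtain ⟨D, e, h1⟩ := exists_data hL (PicF2.secVal (Twist.twist PP 1) s ⊤) hσne
  refine Scheme.IdealSheafData.ext_of_iSup_eq_top (ι := Fin (n + 1 + 1))
    (fun i => ⟨Proj.basicOpen PP (X i : MvPolynomial (Fin (n + 1 + 1)) k),
      Proj.isAffineOpen_basicOpen PP (X i) (Groth.Agent.Helper17.SG.X_mem (n + 1) k i) one_pos⟩)
    ?_ ?_
  · exact Proj.iSup_basicOpen_eq_top PP (fun i : Fin (n + 1 + 1) => (X i : MvPolynomial _ k))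
      (Groth.Agent.Helper17.SG.irrelevant_le_span (n + 1) k)
  · intro i
    have hXi := Groth.Agent.Helper17.SG.X_mem (n + 1) k i
    have hc0 : fracD PP hXi ℓ hℓ ≠ 0 := by
      intro h0
      have hα : Function.Bijective (Proj.basicOpenIsoAway PP (X i) hXi one_pos).hom :=
        ConcreteCategory.bijective_of_isIso _
      have hαinj : Function.Injective (Proj.awayToSection PP (X i)).hom := hα.1
      have h2 : mk1 hXi 1 ℓ hℓ = 0 := hαinj (h0.trans (map_zero _).symm)
      obtain ⟨K, hK⟩ := (Groth.Agent.Helper6.away_mk_eq_zero_iff PP hXi 1 ℓ _).1 h2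
      rcases mul_eq_zero.1 hK with h3 | h3
      · exact MvPolynomial.X_ne_zero i (pow_eq_zero_iff (by
          intro hK0; rw [hK0, pow_zero] at h3; exact one_ne_zero h3) |>.1 h3)
      · exact hℓne h3
    let F : Chart (PicF2.secVal (Twist.twist PP 1) s ⊤) (Proj.basicOpen PP (X i)) :=
      { e := (Twist.twist PP 1).presheaf.map
          (homOfLE (le_top : Proj.basicOpen PP (X i) ≤ ⊤)).op (Twist.globalOf PP ⟨X i, hXi⟩)
        he := fun y hy => (isGen_res (Twist.twist PP 1) (homOfLE le_top) _ y hy).2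
          ((Groth.Agent.Helper28.ProjVeryAmple.isGen_globalOf_iff PP (hcov k (n + 1)) hXi y).2 hy)
        c := fracD PP hXi ℓ hℓ
        hc := mem_regSub_of_ne_zero _ hc0
        eq := by rw [hσ]; exact globalOf_res_eq PP hXi ℓ hℓ }
    rw [Scheme.Hom.ker_apply, F.ideal_eq e s h1 _]
    exact ker_app_basicOpen ψ hψ hℓ hker hℓ0 hXi

open Groth.Agent.Helper26.PnCoh in
theorem polySec_eq_globalOf (b : MvPolynomial.homogeneousSubmodule (Fin (n + 1 + 1)) k 1) :
    polySec (n + 1) k 1 b = Twist.globalOf PP ⟨b.1, b.2⟩ :=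
  Subtype.ext (funext fun y => Subtype.ext rfl)

open Groth.Agent.Helper26.PnCoh Groth.Agent.Helper6 Groth.Agent.Helper6.ProjClosedAlg in
theorem main (s : Coh.structureModule (Proj PP) ⟶ Twist.twist PP 1) (hs : s ≠ 0) :
    ∃ φ : Proj QQ ≅ (PicF2.zeroScheme (Twist.twist PP 1) s).subscheme,
      Nonempty ((Scheme.Modules.pullback
        (φ.hom ≫ (PicF2.zeroScheme (Twist.twist PP 1) s).subschemeι)).obj
          (Twist.twist PP 1) ≅ Twist.twist QQ 1) := by
  obtain ⟨σ', hσ'⟩ : ∃ σ' : Twist.sectN (𝒜 := PP) ((1 : ℕ) : ℤ) (op ⊤),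
      σ' = PicF2.secVal (Twist.twist PP 1) s ⊤ := ⟨_, rfl⟩
  obtain ⟨b, hb⟩ := polySec_surjective (n + 1) k 1 σ'
  have hσ : PicF2.secVal (Twist.twist PP 1) s ⊤ = Twist.globalOf PP ⟨b.1, b.2⟩ := by
    rw [← polySec_eq_globalOf, hb, hσ']
  have hσne : PicF2.secVal (Twist.twist PP 1) s ⊤ ≠ 0 :=
    Groth.Agent.Helper13.IntInv.sec_ne_zero _ s hs
  have hbne : b.1 ≠ 0 := by
    intro h0
    apply hσne
    rw [hσ]
    apply Groth.Agent.Helper28.ProjFracSec.sec_ext
    intro x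
    change Localization.mk b.1 _ = (0 : Localization _)
    rw [h0]
    exact Localization.mk_zero _
  obtain ⟨a, ha⟩ := exists_coeffs b.2
  obtain ⟨j, haj⟩ : ∃ j, a j ≠ 0 := by
    by_contra hcon
    push Not at hcon
    apply hbne
    rw [← ha]
    unfold Hyp.lin
    simp [hcon]
  have hsurj : Function.Surjective (Hyp.ψ a j) := Hyp.ψ_surjective a j
  have hψ := irrelevant_le_map_of_surjective (Hyp.ψ a j) hsurj
  have hker : ∀ p, Hyp.ψ a j p = 0 → p ∈ Ideal.span {b.1} := by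
    rw [← ha]
    exact Hyp.mem_span_of_ψ₀_eq_zero a j haj
  have hℓ0 : Hyp.ψ a j b.1 = 0 := by
    rw [← ha]
    exact Hyp.ψ₀_lin a j haj
  haveI : IsClosedImmersion (Proj.map (Hyp.ψ a j) hψ) :=
    proj_map_isClosedImmersion_of_surjective (Hyp.ψ a j) hψ hsurj
  have hkerZ := ker_eq_zeroScheme k n s hs b.1 b.2 hbne hσ (Hyp.ψ a j) hψ hker hℓ0
  have hkerEq : (PicF2.zeroScheme (Twist.twist PP 1) s).subschemeι.ker =
      (Proj.map (Hyp.ψ a j) hψ).ker := by
    rw [Scheme.IdealSheafData.ker_subschemeι, hkerZ]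
  haveI := IsClosedImmersion.isIso_lift (PicF2.zeroScheme (Twist.twist PP 1) s).subschemeι
    (Proj.map (Hyp.ψ a j) hψ) hkerEq
  refine ⟨asIso (IsClosedImmersion.lift (PicF2.zeroScheme (Twist.twist PP 1) s).subschemeι
    (Proj.map (Hyp.ψ a j) hψ) hkerEq.le), ?_⟩
  rw [asIso_hom, IsClosedImmersion.lift_fac]
  exact Groth.Agent.Helper6.SurjTw.nonempty_iso_twist_surj PP QQ (Hyp.ψ a j) hsurj hψ 1
    (fun x => by
      obtain ⟨t, ht⟩ := exists_X_nmem k n x
      exact ⟨X (j.succAbove t), Groth.Agent.Helper17.SG.X_mem (n + 1) k _, by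
        rw [Hyp.ψ_apply, Hyp.ψ₀_X, Hyp.gfun_succAbove]; exact ht⟩)

end main

end Groth.Agent.Helper28.Hyperplane
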