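import Groth.Agent.Lib.Helper28.IdealExt
import Groth.Agent.Lib.Helper28.AmbProd
set_option autoImplicit false
universe u
open CategoryTheory CategoryTheory.Limits AlgebraicGeometry TopologicalSpace
namespace Groth.Agent.Helper28.IdealExt
variable {X : Scheme.{u}}

lemma not_mem_support_of_ideal_eq_top (I : X.IdealSheafData) (A : X.affineOpens)
    (h : I.ideal A = ⊤) (x : X) (hx : x ∈ A.1) : x ∉ I.support := by
  intro hxs
  have h5 := (Scheme.IdealSheafData.mem_support_iff_of_mem (I := I) (U := A) hx).mp hxs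
  rw [h, Scheme.mem_zeroLocus_iff] at h5
  apply h5 1 (by simp)
  rw [Scheme.basicOpen_of_isUnit _ isUnit_one]
  exact hx

/-- every section of a quasi-coherent ideal on a qcqs scheme lies in a finite type sub-ideal
(Stacks 01PG) -/
theorem exists_ft_le_mem [CompactSpace X] [QuasiSeparatedSpace X] (K : X.IdealSheafData)
    (A : X.affineOpens) (r : Γ(X, A.1)) (hr : r ∈ K.ideal A) :
    ∃ J : X.IdealSheafData, BlowUp.IsFiniteTypeIdeal J ∧ J ≤ K ∧ r ∈ J.ideal A := by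
  haveI : IsAffine A.1.toScheme := A.2
  let T : A.1.toScheme.affineOpens := ⟨⊤, isAffineOpen_top _⟩
  let e := A.1.ι.appLE A.1 ⊤ A.1.ι_preimage_self.ge
  have hcomap : ∀ P : X.IdealSheafData, (P.comap A.1.ι).ideal T = (P.ideal A).map e.hom := fun P =>
    Groth.Agent.Helper28.IdealComapOld.ideal_comap A.1.ι P A T A.1.ι_preimage_self.ge
  let 𝔟 : Ideal Γ(A.1.toScheme, ⊤) := Ideal.span {e.hom r}
  have h𝔟T : (Scheme.IdealSheafData.ofIdealTop 𝔟).ideal T = 𝔟 :=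
    (Scheme.IdealSheafData.equivOfIsAffine (X := A.1.toScheme)).apply_symm_apply 𝔟
  have hft : BlowUp.IsFiniteTypeIdeal (Scheme.IdealSheafData.ofIdealTop 𝔟) := by
    intro B
    rw [Scheme.IdealSheafData.ofIdealTop_ideal]
    exact (show 𝔟.FG from ⟨{e.hom r}, by simp [𝔟]⟩).map _
  have hF : Scheme.IdealSheafData.ofIdealTop 𝔟 ≤ K.comap A.1.ι := by
    apply Scheme.IdealSheafData.le_of_isAffine
    show (Scheme.IdealSheafData.ofIdealTop 𝔟).ideal T ≤ (K.comap A.1.ι).ideal T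
    rw [h𝔟T, hcomap, Ideal.span_singleton_le_iff_mem]
    exact Ideal.mem_map_of_mem _ hr
  obtain ⟨J, h1, h2, h3⟩ := exists_ft_comap_eq A.1 A.2.isCompact _ hft K hF
  refine ⟨J, h1, h2, ?_⟩
  have h4 : e.hom r ∈ (J.ideal A).map e.hom := by
    rw [← hcomap, h3, h𝔟T]
    exact Ideal.mem_span_singleton_self _
  have hbij : Function.Bijective e.hom := ConcreteCategory.bijective_of_isIso e
  have h5 : r ∈ ((J.ideal A).map e.hom).comap e.hom := h4
  rwa [Ideal.comap_map_of_bijective _ hbij] at h5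

lemma isFiniteTypeIdeal_bot : BlowUp.IsFiniteTypeIdeal (⊥ : X.IdealSheafData) := by
  intro U
  rw [Scheme.IdealSheafData.ideal_bot]
  exact Submodule.fg_bot

open Groth.Agent.Helper28.AmbProd in
lemma isFiniteTypeIdeal_finset_sup {ι : Type*} (t : Finset ι) (J : ι → X.IdealSheafData)
    (h : ∀ i ∈ t, BlowUp.IsFiniteTypeIdeal (J i)) : BlowUp.IsFiniteTypeIdeal (t.sup J) := by
  classical
  induction t using Finset.induction_on with
  | empty => simpa using isFiniteTypeIdeal_bot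
  | insert a s ha ih =>
    rw [Finset.sup_insert]
    exact isFiniteTypeIdeal_sup _ _ (h a (Finset.mem_insert_self a s))
      (ih fun i hi => h i (Finset.mem_insert_of_mem hi))

/-- comaximal quasi-coherent ideals on a qcqs scheme contain comaximal finite type ideals -/
theorem exists_ft_sup_eq_top [CompactSpace X] [QuasiSeparatedSpace X] (R₁ R₂ : X.IdealSheafData)
    (h : R₁ ⊔ R₂ = ⊤) :
    ∃ I₁ I₂ : X.IdealSheafData, BlowUp.IsFiniteTypeIdeal I₁ ∧ BlowUp.IsFiniteTypeIdeal I₂ ∧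
      I₁ ≤ R₁ ∧ I₂ ≤ R₂ ∧ I₁ ⊔ I₂ = ⊤ := by
  classical
  have key : ∀ y : X, ∃ J₁ J₂ : X.IdealSheafData, BlowUp.IsFiniteTypeIdeal J₁ ∧
      BlowUp.IsFiniteTypeIdeal J₂ ∧ J₁ ≤ R₁ ∧ J₂ ≤ R₂ ∧ y ∉ (J₁ ⊔ J₂).support := by
    intro y
    obtain ⟨_, ⟨A, hA, rfl⟩, hyA, -⟩ :=
      X.isBasis_affineOpens.exists_subset_of_mem_open (Set.mem_univ y) isOpen_univ
    have h1 : (1 : Γ(X, A)) ∈ R₁.ideal ⟨A, hA⟩ ⊔ R₂.ideal ⟨A, hA⟩ := by
      have : (R₁ ⊔ R₂).ideal ⟨A, hA⟩ = ⊤ := by rw [h]; rfl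
      rw [Scheme.IdealSheafData.ideal_sup] at this
      change R₁.ideal ⟨A, hA⟩ ⊔ R₂.ideal ⟨A, hA⟩ = ⊤ at this
      rw [this]; trivial
    obtain ⟨r₁, hr₁, r₂, hr₂, h12⟩ := Submodule.mem_sup.mp h1
    obtain ⟨J₁, hJ₁, hJ₁R, hJ₁r⟩ := exists_ft_le_mem R₁ ⟨A, hA⟩ r₁ hr₁
    obtain ⟨J₂, hJ₂, hJ₂R, hJ₂r⟩ := exists_ft_le_mem R₂ ⟨A, hA⟩ r₂ hr₂
    refine ⟨J₁, J₂, hJ₁, hJ₂, hJ₁R, hJ₂R, ?_⟩
    apply not_mem_support_of_ideal_eq_top _ ⟨A, hA⟩ _ y hyA
    rw [Ideal.eq_top_iff_one, ← h12, Scheme.IdealSheafData.ideal_sup]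
    exact Submodule.add_mem_sup hJ₁r hJ₂r
  choose J₁ J₂ hJ₁ hJ₂ hJ₁R hJ₂R hy using key
  obtain ⟨t, ht⟩ := isCompact_univ.elim_finite_subcover
    (fun y => ((J₁ y ⊔ J₂ y).support : Set X)ᶜ)
    (fun y => (J₁ y ⊔ J₂ y).support.isClosed.isOpen_compl)
    (fun y _ => Set.mem_iUnion.mpr ⟨y, hy y⟩)
  refine ⟨t.sup J₁, t.sup J₂, isFiniteTypeIdeal_finset_sup t J₁ fun i _ => hJ₁ i,
    isFiniteTypeIdeal_finset_sup t J₂ fun i _ => hJ₂ i, Finset.sup_le fun i _ => hJ₁R i,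
    Finset.sup_le fun i _ => hJ₂R i, ?_⟩
  rw [← Scheme.IdealSheafData.support_eq_bot_iff]
  ext x
  simp only [TopologicalSpace.Closeds.coe_bot, Set.mem_empty_iff_false, iff_false]
  intro hx
  obtain ⟨y, hyt, hxy⟩ := Set.mem_iUnion₂.mp (ht (Set.mem_univ x))
  apply hxy
  have hle : J₁ y ⊔ J₂ y ≤ t.sup J₁ ⊔ t.sup J₂ :=
    sup_le_sup (Finset.le_sup hyt) (Finset.le_sup hyt)
  exact Scheme.IdealSheafData.support_antitone hle hx

/-- a closed subset with quasi-compact complement of a qcqs scheme is the support of a finite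
type quasi-coherent ideal -/
theorem exists_ft_support_eq [CompactSpace X] [QuasiSeparatedSpace X] (Z : Closeds X)
    (hZ : IsCompact ((Z : Set X)ᶜ)) :
    ∃ J : X.IdealSheafData, BlowUp.IsFiniteTypeIdeal J ∧ (J.support : Set X) = Z := by
  classical
  set K := Scheme.IdealSheafData.vanishingIdeal Z with hK
  have hKs : (K.support : Set X) = Z := by
    rw [hK, Scheme.IdealSheafData.coe_support_vanishingIdeal]
  have key : ∀ y : X, ∃ J : X.IdealSheafData, BlowUp.IsFiniteTypeIdeal J ∧ J ≤ K ∧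
      (y ∉ Z → y ∉ J.support) := by
    intro y
    by_cases hyZ : y ∈ Z
    · exact ⟨⊥, isFiniteTypeIdeal_bot, bot_le, fun h => absurd hyZ h⟩
    · obtain ⟨_, ⟨A, hA, rfl⟩, hyA, hAZ⟩ :=
        X.isBasis_affineOpens.exists_subset_of_mem_open (show y ∈ (Z : Set X)ᶜ from hyZ)
          Z.isClosed.isOpen_compl
      have h1 : K.ideal ⟨A, hA⟩ = ⊤ := by
        apply ideal_eq_top_of_disjoint
        rw [hKs, Set.disjoint_left]
        intro x hxZ hxA
        exact hAZ hxA hxZ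
      obtain ⟨J, hJ, hJK, hJ1⟩ := exists_ft_le_mem K ⟨A, hA⟩ 1 (by rw [h1]; trivial)
      exact ⟨J, hJ, hJK, fun _ => not_mem_support_of_ideal_eq_top J ⟨A, hA⟩
        ((Ideal.eq_top_iff_one _).mpr hJ1) y hyA⟩
  choose J hJ hJK hJy using key
  obtain ⟨t, ht⟩ := hZ.elim_finite_subcover (fun y => ((J y).support : Set X)ᶜ)
    (fun y => (J y).support.isClosed.isOpen_compl)
    (fun y hy => Set.mem_iUnion.mpr ⟨y, hJy y hy⟩)
  refine ⟨t.sup J, isFiniteTypeIdeal_finset_sup t J fun i _ => hJ i, ?_⟩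
  apply Set.Subset.antisymm
  · intro x hx
    by_contra hxZ
    obtain ⟨y, hyt, hxy⟩ := Set.mem_iUnion₂.mp (ht hxZ)
    exact hxy (Scheme.IdealSheafData.support_antitone (Finset.le_sup hyt) hx)
  · rw [← hKs]
    exact Scheme.IdealSheafData.support_antitone (Finset.sup_le fun i _ => hJK i)

/-- local structure of a sum of two ideals which is effective Cartier: on an affine open `W` where
`P ⊔ Q` is generated by the nonzerodivisor `t` there are `c₁ + c₂ = 1` with `c₁ t ∈ P`, `c₂ t ∈ Q`. -/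
lemma exists_partition_of_sup_eq_span {Y : Scheme.{u}} (P Q : Y.IdealSheafData) (W : Y.affineOpens)
    (t : Γ(Y, W.1)) (ht : t ∈ nonZeroDivisors Γ(Y, W.1)) (h : (P ⊔ Q).ideal W = Ideal.span {t}) :
    ∃ c₁ c₂ : Γ(Y, W.1), c₁ + c₂ = 1 ∧ c₁ * t ∈ P.ideal W ∧ c₂ * t ∈ Q.ideal W := by
  have h1 : t ∈ P.ideal W ⊔ Q.ideal W := by
    have : t ∈ (P ⊔ Q).ideal W := h ▸ Ideal.mem_span_singleton_self t
    rwa [Scheme.IdealSheafData.ideal_sup] at this
  obtain ⟨a₁, ha₁, a₂, ha₂, h12⟩ := Submodule.mem_sup.mp h1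
  have hP : P.ideal W ≤ Ideal.span {t} := by
    rw [← h, Scheme.IdealSheafData.ideal_sup]; exact le_sup_left
  have hQ : Q.ideal W ≤ Ideal.span {t} := by
    rw [← h, Scheme.IdealSheafData.ideal_sup]; exact le_sup_right
  obtain ⟨c₁, hc₁⟩ := Ideal.mem_span_singleton'.mp (hP ha₁)
  obtain ⟨c₂, hc₂⟩ := Ideal.mem_span_singleton'.mp (hQ ha₂)
  refine ⟨c₁, c₂, ?_, hc₁ ▸ ha₁, hc₂ ▸ ha₂⟩
  have h3 : (c₁ + c₂ - 1) * t = 0 := by
    rw [sub_mul, add_mul, hc₁, hc₂, h12, one_mul, sub_self]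
  have h4 := (mem_nonZeroDivisors_iff_right.mp ht) _ h3
  exact sub_eq_zero.mp h4

/-- separation of closures after blowing up the sum of two ideals -/
theorem disjoint_closure_of_isEffCartier_sup {X X' : Scheme.{u}} (J₁ J₂ : X.IdealSheafData)
    (b : X' ⟶ X) (hb : BlowUp.IsEffCartierIdeal ((J₁ ⊔ J₂).comap b)) (S₁ S₂ : Set X)
    (hS₁ : S₁ ⊆ J₁.support) (hS₂ : S₂ ⊆ J₂.support)
    (h₁ : Disjoint ((J₁ ⊔ J₂).support : Set X) S₁) (h₂ : Disjoint ((J₁ ⊔ J₂).support : Set X) S₂) :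
    Disjoint (closure (b.base ⁻¹' S₁)) (closure (b.base ⁻¹' S₂)) := by
  rw [Set.disjoint_left]
  intro x' hx1 hx2
  obtain ⟨W, hxW, t, ht, hIt⟩ := hb x'
  rw [Scheme.IdealSheafData.comap_sup] at hIt
  obtain ⟨c₁, c₂, hc, hc₁, hc₂⟩ := exists_partition_of_sup_eq_span _ _ W t ht hIt
  -- a general claim
  have claim : ∀ (J : X.IdealSheafData) (S : Set X) (c : Γ(X', W.1)), S ⊆ J.support →
      Disjoint ((J₁ ⊔ J₂).support : Set X) S → c * t ∈ (J.comap b).ideal W →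
      x' ∈ X'.basicOpen c → x' ∉ closure (b.base ⁻¹' S) := by
    intro J S c hSJ hdisj hct hxc hxcl
    obtain ⟨z, hzc, hzS⟩ := mem_closure_iff.mp hxcl (X'.basicOpen c) (X'.basicOpen c).2 hxc
    have hzW : z ∈ W.1 := X'.basicOpen_le c hzc
    -- z is not in the support of the sum
    have hz1 : z ∉ ((J₁.comap b ⊔ J₂.comap b).support : Set X') := by
      rw [← Scheme.IdealSheafData.comap_sup, Scheme.IdealSheafData.support_comap]
      intro hz
      exact Set.disjoint_left.mp hdisj hz hzS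
    have hzt : z ∈ X'.basicOpen t := by
      by_contra hzt
      apply hz1
      rw [SetLike.mem_coe, Scheme.IdealSheafData.mem_support_iff_of_mem (U := W) hzW, hIt,
        Scheme.mem_zeroLocus_iff]
      intro f hf
      obtain ⟨g, rfl⟩ := Ideal.mem_span_singleton'.mp hf
      rw [Scheme.basicOpen_mul]
      exact fun h => hzt h.2
    have hz2 : z ∈ ((J.comap b).support : Set X') := by
      rw [Scheme.IdealSheafData.support_comap]
      exact hSJ hzS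
    rw [SetLike.mem_coe, Scheme.IdealSheafData.mem_support_iff_of_mem (U := W) hzW,
      Scheme.mem_zeroLocus_iff] at hz2
    apply hz2 _ hct
    rw [Scheme.basicOpen_mul]
    exact ⟨hzc, hzt⟩
  -- one of c₁, c₂ is a unit at x'
  have hunit : x' ∈ X'.basicOpen c₁ ∨ x' ∈ X'.basicOpen c₂ := by
    rw [Scheme.mem_basicOpen _ _ _ hxW, Scheme.mem_basicOpen _ _ _ hxW]
    apply IsLocalRing.isUnit_or_isUnit_of_add_one
    rw [← map_add, hc, map_one]
  rcases hunit with h | h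
  · exact claim J₁ S₁ c₁ hS₁ h₁ hc₁ h hx1
  · exact claim J₂ S₂ c₂ hS₂ h₂ hc₂ h hx2

end Groth.Agent.Helper28.IdealExt
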