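import Groth.Agent.Lib.Helper28.IdealExt2

/-!
# More on stalks of quasi-coherent ideal sheaves: products, supports, powers, spreading out
-/

set_option autoImplicit false
universe u
open CategoryTheory CategoryTheory.Limits AlgebraicGeometry TopologicalSpace

namespace Groth.Agent.Helper28.IdealExt

variable {X : Scheme.{u}}

lemma stalkIdeal_mul (I J : X.IdealSheafData) (x : X) :
    stalkIdeal (I * J) x = stalkIdeal I x * stalkIdeal J x := by
  obtain ⟨_, ⟨A, hA, rfl⟩, hxA, -⟩ :=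
    X.isBasis_affineOpens.exists_subset_of_mem_open (Set.mem_univ x) isOpen_univ
  rw [stalkIdeal_eq _ ⟨A, hA⟩ x hxA, stalkIdeal_eq _ ⟨A, hA⟩ x hxA, stalkIdeal_eq _ ⟨A, hA⟩ x hxA,
    Scheme.IdealSheafData.ideal_mul]
  exact Ideal.map_mul _ _ _

lemma stalkIdeal_one (x : X) : stalkIdeal (1 : X.IdealSheafData) x = ⊤ := stalkIdeal_top x

lemma stalkIdeal_pow (I : X.IdealSheafData) (n : ℕ) (x : X) :
    stalkIdeal (I ^ n) x = stalkIdeal I x ^ n := by
  induction n with
  | zero => rw [pow_zero, pow_zero, stalkIdeal_one, Ideal.one_eq_top]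
  | succ n ih => rw [pow_succ, pow_succ, stalkIdeal_mul, ih]

lemma stalkIdeal_sup (I J : X.IdealSheafData) (x : X) :
    stalkIdeal (I ⊔ J) x = stalkIdeal I x ⊔ stalkIdeal J x := by
  obtain ⟨_, ⟨A, hA, rfl⟩, hxA, -⟩ :=
    X.isBasis_affineOpens.exists_subset_of_mem_open (Set.mem_univ x) isOpen_univ
  rw [stalkIdeal_eq _ ⟨A, hA⟩ x hxA, stalkIdeal_eq _ ⟨A, hA⟩ x hxA, stalkIdeal_eq _ ⟨A, hA⟩ x hxA,
    Scheme.IdealSheafData.ideal_sup]
  exact Ideal.map_sup _ _ _

/-- a point lies in the support iff the stalk of the ideal is contained in the maximal ideal -/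
lemma mem_support_iff_stalkIdeal_le (I : X.IdealSheafData) (x : X) :
    x ∈ I.support ↔ stalkIdeal I x ≤ IsLocalRing.maximalIdeal (X.presheaf.stalk x) := by
  obtain ⟨_, ⟨A, hA, rfl⟩, hxA, -⟩ :=
    X.isBasis_affineOpens.exists_subset_of_mem_open (Set.mem_univ x) isOpen_univ
  rw [Scheme.IdealSheafData.mem_support_iff_of_mem (U := ⟨A, hA⟩) hxA, Scheme.mem_zeroLocus_iff,
    stalkIdeal_eq I ⟨A, hA⟩ x hxA, Ideal.map_le_iff_le_comap]
  constructor
  · intro h f hf
    rw [Ideal.mem_comap, IsLocalRing.mem_maximalIdeal, mem_nonunits_iff,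
      ← Scheme.mem_basicOpen _ _ _ hxA]
    exact h f hf
  · intro h f hf
    have := h hf
    rw [Ideal.mem_comap, IsLocalRing.mem_maximalIdeal, mem_nonunits_iff,
      ← Scheme.mem_basicOpen _ _ _ hxA] at this
    exact this

lemma stalkIdeal_eq_top_iff (I : X.IdealSheafData) (x : X) :
    stalkIdeal I x = ⊤ ↔ x ∉ I.support := by
  rw [mem_support_iff_stalkIdeal_le]
  constructor
  · intro h hle
    rw [h] at hle
    exact (IsLocalRing.maximalIdeal.isMaximal _).ne_top (top_le_iff.mp hle)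
  · intro h
    by_contra hne
    exact h (IsLocalRing.le_maximalIdeal hne)

lemma stalkIdeal_fg (I : X.IdealSheafData) (hI : BlowUp.IsFiniteTypeIdeal I) (x : X) :
    (stalkIdeal I x).FG := by
  obtain ⟨_, ⟨A, hA, rfl⟩, hxA, -⟩ :=
    X.isBasis_affineOpens.exists_subset_of_mem_open (Set.mem_univ x) isOpen_univ
  rw [stalkIdeal_eq I ⟨A, hA⟩ x hxA]
  exact (hI ⟨A, hA⟩).map _

/-- a finite type ideal with vanishing stalk at `z` has vanishing stalks near `z` -/
lemma exists_nhds_stalkIdeal_eq_bot (I : X.IdealSheafData) (hI : BlowUp.IsFiniteTypeIdeal I) (z : X)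
    (hz : stalkIdeal I z = ⊥) : ∃ O : X.Opens, z ∈ O ∧ ∀ u ∈ O, stalkIdeal I u = ⊥ := by
  classical
  obtain ⟨_, ⟨A, hA, rfl⟩, hzA, -⟩ :=
    X.isBasis_affineOpens.exists_subset_of_mem_open (Set.mem_univ z) isOpen_univ
  obtain ⟨s, hs⟩ := hI ⟨A, hA⟩
  have key : ∀ t : Finset Γ(X, A), (∀ g ∈ t, X.presheaf.germ A z hzA g = 0) →
      ∃ O : X.Opens, z ∈ O ∧ O ≤ A ∧ ∀ u (hu : u ∈ O) (huA : u ∈ A), ∀ g ∈ t,
        X.presheaf.germ A u huA g = 0 := by
    intro t
    induction t using Finset.induction_on with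
    | empty => exact fun _ => ⟨A, hzA, le_rfl, fun _ _ _ g hg => absurd hg (Finset.notMem_empty g)⟩
    | insert a t ha ih =>
      intro h
      obtain ⟨O, hzO, hOA, hO⟩ := ih fun g hg => h g (Finset.mem_insert_of_mem hg)
      have h0 : X.presheaf.germ A z hzA a = X.presheaf.germ A z hzA 0 := by
        rw [h a (Finset.mem_insert_self a t), map_zero]
      obtain ⟨W, hzW, iU, iV, hW⟩ := X.presheaf.germ_eq z hzA hzA a 0 h0
      refine ⟨O ⊓ W, ⟨hzO, hzW⟩, inf_le_left.trans hOA, ?_⟩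
      intro u hu huA g hg
      rcases Finset.mem_insert.mp hg with rfl | hg
      · rw [← X.presheaf.germ_res_apply iU u hu.2, hW, map_zero, map_zero]
      · exact hO u hu.1 huA g hg
  have hs0 : ∀ g ∈ s, X.presheaf.germ A z hzA g = 0 := by
    intro g hg
    have h1 : X.presheaf.germ A z hzA g ∈ stalkIdeal I z := by
      rw [stalkIdeal_eq I ⟨A, hA⟩ z hzA]
      apply Ideal.mem_map_of_mem
      rw [← hs]
      exact Ideal.subset_span hg
    rw [hz] at h1
    exact h1
  obtain ⟨O, hzO, hOA, hO⟩ := key s hs0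
  refine ⟨O, hzO, fun u hu => ?_⟩
  rw [stalkIdeal_eq I ⟨A, hA⟩ u (hOA hu), ← hs, Ideal.map_span, Ideal.span_eq_bot]
  rintro _ ⟨g, hg, rfl⟩
  exact hO u hu (hOA hu) g hg

/-- on a quasi-compact open, a finite type ideal whose zero locus contains that of `Q` has a power
contained in `Q` (stalkwise) -/
theorem exists_pow_stalk_le (P Q : X.IdealSheafData) (hP : BlowUp.IsFiniteTypeIdeal P) (W : X.Opens)
    (hW : IsCompact (W : Set X)) (h : (Q.support : Set X) ∩ W ⊆ P.support) :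
    ∃ N : ℕ, ∀ x ∈ W, stalkIdeal P x ^ N ≤ stalkIdeal Q x := by
  classical
  obtain ⟨s, hs, hWs⟩ := isCompact_iff_finite_and_eq_biUnion_affineOpens.mp hW
  have key : ∀ A : X.affineOpens, ∃ n : ℕ, A ∈ s → P.ideal A ^ n ≤ Q.ideal A := by
    intro A
    by_cases hA : A ∈ s
    · have hAW : A.1 ≤ W := by rw [hWs]; exact le_iSup₂ (f := fun (i : X.affineOpens) (_ : i ∈ s) => (i : X.Opens)) A hA
      have h1 : PrimeSpectrum.zeroLocus (Q.ideal A : Set Γ(X, A.1)) ⊆
          PrimeSpectrum.zeroLocus (P.ideal A : Set Γ(X, A.1)) := by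
        intro p hp
        have h2 : A.2.fromSpec p ∈ X.zeroLocus (U := A.1) (Q.ideal A) ∩ A.1 := by
          rw [← A.2.fromSpec_image_zeroLocus]
          exact Set.mem_image_of_mem _ hp
        rw [← Q.coe_support_inter A] at h2
        have h3 : A.2.fromSpec p ∈ (P.support : Set X) ∩ A.1 := ⟨h ⟨h2.1, hAW h2.2⟩, h2.2⟩
        rw [P.coe_support_inter A, ← A.2.fromSpec_image_zeroLocus] at h3
        obtain ⟨p', hp', hpp'⟩ := h3
        haveI : IsOpenImmersion A.2.fromSpec := A.2.isOpenImmersion_fromSpec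
        rwa [← A.2.fromSpec.isOpenEmbedding.injective hpp']
      rw [PrimeSpectrum.zeroLocus_subset_zeroLocus_iff] at h1
      obtain ⟨n, hn⟩ := Ideal.exists_pow_le_of_le_radical_of_fg h1 (hP A)
      exact ⟨n, fun _ => hn⟩
    · exact ⟨0, fun h => absurd h hA⟩
  choose n hn using key
  refine ⟨hs.toFinset.sup n, fun x hx => ?_⟩
  have hx' : x ∈ (⨆ i ∈ s, (i : X.Opens) : X.Opens) := hWs ▸ hx
  simp only [TopologicalSpace.Opens.mem_iSup] at hx'
  obtain ⟨A, hA, hxA⟩ := hx'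
  rw [stalkIdeal_eq P A x hxA, stalkIdeal_eq Q A x hxA, ← Ideal.map_pow]
  apply Ideal.map_mono
  exact (Ideal.pow_le_pow_right (Finset.le_sup (hs.mem_toFinset.mpr hA))).trans (hn A hA)

/-- if `x'` lies in the closure of the preimage of `S ⊆ V(J₁)` (with `S` disjoint from `V(J₁ + J₂)`)
under a morphism making `J₁ + J₂` effective Cartier, then `J₁ ≤ J₂` at `x'` -/
theorem stalk_comap_le_of_mem_closure {X' : Scheme.{u}} (J₁ J₂ : X.IdealSheafData)
    (b : X' ⟶ X) (hb : BlowUp.IsEffCartierIdeal ((J₁ ⊔ J₂).comap b)) (S : Set X)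
    (hS : S ⊆ J₁.support) (hd : Disjoint ((J₁ ⊔ J₂).support : Set X) S)
    (x' : X') (hx' : x' ∈ closure (b.base ⁻¹' S)) :
    stalkIdeal (J₁.comap b) x' ≤ stalkIdeal (J₂.comap b) x' := by
  obtain ⟨W, hxW, t, ht, hIt⟩ := hb x'
  have hIt0 := hIt
  rw [Scheme.IdealSheafData.comap_sup] at hIt
  obtain ⟨c₁, c₂, hc, hc₁, hc₂⟩ := exists_partition_of_sup_eq_span _ _ W t ht hIt
  have hnot : x' ∉ X'.basicOpen c₁ := by
    intro hxc
    obtain ⟨z, hzc, hzS⟩ := mem_closure_iff.mp hx' (X'.basicOpen c₁) (X'.basicOpen c₁).2 hxc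
    have hzW : z ∈ W.1 := X'.basicOpen_le c₁ hzc
    have hz1 : z ∉ ((J₁.comap b ⊔ J₂.comap b).support : Set X') := by
      rw [← Scheme.IdealSheafData.comap_sup, Scheme.IdealSheafData.support_comap]
      intro hz
      exact Set.disjoint_left.mp hd hz hzS
    have hzt : z ∈ X'.basicOpen t := by
      by_contra hzt
      apply hz1
      rw [SetLike.mem_coe, Scheme.IdealSheafData.mem_support_iff_of_mem (U := W) hzW, hIt,
        Scheme.mem_zeroLocus_iff]
      intro f hf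
      obtain ⟨g, rfl⟩ := Ideal.mem_span_singleton'.mp hf
      rw [Scheme.basicOpen_mul]
      exact fun h => hzt h.2
    have hz2 : z ∈ ((J₁.comap b).support : Set X') := by
      rw [Scheme.IdealSheafData.support_comap]
      exact hS hzS
    rw [SetLike.mem_coe, Scheme.IdealSheafData.mem_support_iff_of_mem (U := W) hzW,
      Scheme.mem_zeroLocus_iff] at hz2
    apply hz2 _ hc₁
    rw [Scheme.basicOpen_mul]
    exact ⟨hzc, hzt⟩
  have hunit : IsUnit (X'.presheaf.germ W.1 x' hxW c₂) := by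
    have h := IsLocalRing.isUnit_or_isUnit_of_add_one
      (a := X'.presheaf.germ W.1 x' hxW c₁) (b := X'.presheaf.germ W.1 x' hxW c₂)
      (by rw [← map_add, hc, map_one])
    rcases h with h | h
    · exact absurd ((Scheme.mem_basicOpen _ _ _ hxW).mpr h) hnot
    · exact h
  have h1 : stalkIdeal (J₁.comap b) x' ≤ stalkIdeal ((J₁ ⊔ J₂).comap b) x' :=
    stalkIdeal_mono (Scheme.IdealSheafData.comap_mono b le_sup_left) x'
  refine h1.trans ?_
  rw [stalkIdeal_eq _ W x' hxW, hIt0, Ideal.map_span, Set.image_singleton,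
    Ideal.span_singleton_le_iff_mem, stalkIdeal_eq _ W x' hxW]
  have h2 : X'.presheaf.germ W.1 x' hxW (c₂ * t) ∈
      ((J₂.comap b).ideal W).map (X'.presheaf.germ W.1 x' hxW).hom := Ideal.mem_map_of_mem _ hc₂
  rw [map_mul] at h2
  exact (Ideal.unit_mul_mem_iff_mem _ hunit).mp h2


open Groth.Agent.Helper28.FiniteTypeIdeal in
lemma isFiniteTypeIdeal_pow (I : X.IdealSheafData) (hI : BlowUp.IsFiniteTypeIdeal I) (n : ℕ) :
    BlowUp.IsFiniteTypeIdeal (I ^ n) := by
  induction n with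
  | zero => rw [pow_zero]; exact isFiniteTypeIdeal_one X
  | succ n ih => rw [pow_succ]; exact isFiniteTypeIdeal_mul _ _ ih hI

end Groth.Agent.Helper28.IdealExt
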