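import Groth.Agent.Lib.Helper28.IdealExt3

/-!
# Finite families: separating closures after an admissible blow-up
-/

set_option autoImplicit false
universe u
open CategoryTheory CategoryTheory.Limits AlgebraicGeometry TopologicalSpace

namespace Groth.Agent.Helper28.IdealExt

variable {X : Scheme.{u}}

lemma isFiniteTypeIdeal_iSup {ι : Type*} [Fintype ι] (J : ι → X.IdealSheafData)
    (h : ∀ i, BlowUp.IsFiniteTypeIdeal (J i)) : BlowUp.IsFiniteTypeIdeal (⨆ i, J i) := by
  classical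
  rw [← Finset.sup_univ_eq_iSup]
  exact isFiniteTypeIdeal_finset_sup _ J fun i _ => h i

/-- a finite family of quasi-coherent ideals whose sum has support disjoint from a quasi-compact open
`U` contains a family of finite type ideals with the same property -/
theorem exists_ft_family [CompactSpace X] [QuasiSeparatedSpace X] {ι : Type*} [Fintype ι]
    (U : X.Opens) (hU : IsCompact (U : Set X)) (K : ι → X.IdealSheafData)
    (hK : Disjoint ((⨆ i, K i).support : Set X) (U : Set X)) :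
    ∃ J : ι → X.IdealSheafData, (∀ i, BlowUp.IsFiniteTypeIdeal (J i)) ∧ (∀ i, J i ≤ K i) ∧
      Disjoint ((⨆ i, J i).support : Set X) (U : Set X) := by
  classical
  have key : ∀ y : X, ∃ J : ι → X.IdealSheafData, (∀ i, BlowUp.IsFiniteTypeIdeal (J i)) ∧
      (∀ i, J i ≤ K i) ∧ (y ∈ U → y ∉ (⨆ i, J i).support) := by
    intro y
    by_cases hy : y ∈ U
    · obtain ⟨_, ⟨A, hA, rfl⟩, hyA, hAU⟩ :=
        X.isBasis_affineOpens.exists_subset_of_mem_open hy U.2
      have h1 : (⨆ i, K i).ideal ⟨A, hA⟩ = ⊤ :=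
        ideal_eq_top_of_disjoint _ ⟨A, hA⟩ (hK.mono_right hAU)
      have h2 : (1 : Γ(X, A)) ∈ ⨆ i ∈ (Finset.univ : Finset ι), (K i).ideal ⟨A, hA⟩ := by
        have h3 : (⨆ i, K i).ideal ⟨A, hA⟩ = ⨆ i, (K i).ideal ⟨A, hA⟩ := by
          rw [Scheme.IdealSheafData.ideal_iSup]; simp
        rw [h3] at h1
        simp only [Finset.mem_univ, iSup_pos]
        rw [h1]; trivial
      obtain ⟨μ, hμ⟩ := (Submodule.mem_iSup_finset_iff_exists_sum _ _).mp h2
      have h4 : ∀ i, ∃ J : X.IdealSheafData, BlowUp.IsFiniteTypeIdeal J ∧ J ≤ K i ∧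
          (μ i : Γ(X, A)) ∈ J.ideal ⟨A, hA⟩ := fun i =>
        exists_ft_le_mem (K i) ⟨A, hA⟩ (μ i) (μ i).2
      choose J hJ hJK hJμ using h4
      refine ⟨J, hJ, hJK, fun _ => ?_⟩
      apply not_mem_support_of_ideal_eq_top _ ⟨A, hA⟩ _ y hyA
      rw [Ideal.eq_top_iff_one, ← hμ]
      have h3 : (⨆ i, J i).ideal ⟨A, hA⟩ = ⨆ i, (J i).ideal ⟨A, hA⟩ := by
        rw [Scheme.IdealSheafData.ideal_iSup]; simp
      rw [h3]
      exact Ideal.sum_mem _ fun i _ => Ideal.mem_iSup_of_mem i (hJμ i)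
    · exact ⟨fun _ => ⊥, fun _ => isFiniteTypeIdeal_bot, fun _ => bot_le, fun h => absurd h hy⟩
  choose J hJ hJK hJy using key
  obtain ⟨t, ht⟩ := hU.elim_finite_subcover (fun y => ((⨆ i, J y i).support : Set X)ᶜ)
    (fun y => (⨆ i, J y i).support.isClosed.isOpen_compl)
    (fun y hy => Set.mem_iUnion.mpr ⟨y, hJy y hy⟩)
  refine ⟨fun i => t.sup fun y => J y i, fun i => isFiniteTypeIdeal_finset_sup t _ fun y _ => hJ y i,
    fun i => Finset.sup_le fun y _ => hJK y i, ?_⟩
  rw [Set.disjoint_left]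
  intro x hx hxU
  obtain ⟨y, hyt, hxy⟩ := Set.mem_iUnion₂.mp (ht hxU)
  apply hxy
  have hle : (⨆ i, J y i) ≤ ⨆ i, t.sup fun y => J y i :=
    iSup_mono fun i => Finset.le_sup (f := fun y => J y i) hyt
  exact Scheme.IdealSheafData.support_antitone hle hx

/-- local structure of a finite sum of ideals which is effective Cartier -/
lemma exists_partition_of_iSup_eq_span {Y : Scheme.{u}} {ι : Type*} [Fintype ι]
    (P : ι → Y.IdealSheafData) (W : Y.affineOpens)
    (t : Γ(Y, W.1)) (ht : t ∈ nonZeroDivisors Γ(Y, W.1)) (h : (⨆ i, P i).ideal W = Ideal.span {t}) :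
    ∃ c : ι → Γ(Y, W.1), ∑ i, c i = 1 ∧ ∀ i, c i * t ∈ (P i).ideal W := by
  classical
  have h3 : (⨆ i, P i).ideal W = ⨆ i, (P i).ideal W := by
    rw [Scheme.IdealSheafData.ideal_iSup]; simp
  have h1 : t ∈ ⨆ i ∈ (Finset.univ : Finset ι), (P i).ideal W := by
    simp only [Finset.mem_univ, iSup_pos]
    rw [← h3, h]
    exact Ideal.mem_span_singleton_self t
  obtain ⟨μ, hμ⟩ := (Submodule.mem_iSup_finset_iff_exists_sum _ _).mp h1
  have hle : ∀ i, (P i).ideal W ≤ Ideal.span {t} := fun i => by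
    rw [← h, h3]; exact le_iSup (fun i => (P i).ideal W) i
  have h4 : ∀ i, ∃ c : Γ(Y, W.1), c * t = (μ i : Γ(Y, W.1)) := fun i =>
    Ideal.mem_span_singleton'.mp (hle i (μ i).2)
  choose c hc using h4
  refine ⟨c, ?_, fun i => (hc i) ▸ (μ i).2⟩
  have h5 : (∑ i, c i - 1) * t = 0 := by
    rw [sub_mul, Finset.sum_mul, one_mul]
    simp only [hc]
    rw [hμ, sub_self]
  exact sub_eq_zero.mp ((mem_nonZeroDivisors_iff_right.mp ht) _ h5)

/-- separation of closures of a finite family after making the sum of ideals effective Cartier -/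
theorem exists_notMem_closure_of_isEffCartier_iSup {X' : Scheme.{u}} {ι : Type*} [Fintype ι]
    (J : ι → X.IdealSheafData) (b : X' ⟶ X) (hb : BlowUp.IsEffCartierIdeal ((⨆ i, J i).comap b))
    (S : ι → Set X) (hS : ∀ i, S i ⊆ (J i).support)
    (hd : ∀ i, Disjoint ((⨆ i, J i).support : Set X) (S i)) (x' : X') :
    ∃ i, x' ∉ closure (b.base ⁻¹' S i) := by
  classical
  obtain ⟨W, hxW, t, ht, hIt⟩ := hb x'
  have hcs : (⨆ i, J i).comap b = ⨆ i, (J i).comap b :=
    (Scheme.IdealSheafData.map_gc b).l_iSup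
  have hIt' := hIt
  rw [hcs] at hIt'
  obtain ⟨c, hc, hct⟩ := exists_partition_of_iSup_eq_span _ W t ht hIt'
  -- some c i is a unit at x'
  have hunit : ∃ i, x' ∈ X'.basicOpen (c i) := by
    by_contra hcon
    push Not at hcon
    have h1 : ∀ i, X'.presheaf.germ W.1 x' hxW (c i) ∈
        IsLocalRing.maximalIdeal (X'.presheaf.stalk x') := by
      intro i
      rw [IsLocalRing.mem_maximalIdeal, mem_nonunits_iff, ← Scheme.mem_basicOpen _ _ _ hxW]
      exact hcon i
    have h2 : X'.presheaf.germ W.1 x' hxW (∑ i, c i) ∈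
        IsLocalRing.maximalIdeal (X'.presheaf.stalk x') := by
      rw [map_sum]
      exact Ideal.sum_mem _ fun i _ => h1 i
    rw [hc, map_one] at h2
    exact (IsLocalRing.maximalIdeal.isMaximal _).ne_top ((Ideal.eq_top_iff_one _).mpr h2)
  obtain ⟨i, hxc⟩ := hunit
  refine ⟨i, fun hxcl => ?_⟩
  obtain ⟨z, hzc, hzS⟩ := mem_closure_iff.mp hxcl (X'.basicOpen (c i)) (X'.basicOpen (c i)).2 hxc
  have hzW : z ∈ W.1 := X'.basicOpen_le (c i) hzc
  have hz1 : z ∉ (((⨆ i, J i).comap b).support : Set X') := by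
    rw [Scheme.IdealSheafData.support_comap]
    intro hz
    exact Set.disjoint_left.mp (hd i) hz hzS
  have hzt : z ∈ X'.basicOpen t := by
    by_contra hzt
    apply hz1
    rw [SetLike.mem_coe, Scheme.IdealSheafData.mem_support_iff_of_mem (U := W) hzW, hIt,
      Scheme.mem_zeroLocus_iff]
    intro f hf
    obtain ⟨g, rfl⟩ := Ideal.mem_span_singleton'.mp hf
    rw [Scheme.basicOpen_mul]
    exact fun h => hzt h.2
  have hz2 : z ∈ (((J i).comap b).support : Set X') := by
    rw [Scheme.IdealSheafData.support_comap]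
    exact hS i hzS
  rw [SetLike.mem_coe, Scheme.IdealSheafData.mem_support_iff_of_mem (U := W) hzW,
    Scheme.mem_zeroLocus_iff] at hz2
  apply hz2 _ (hct i)
  rw [Scheme.basicOpen_mul]
  exact ⟨hzc, hzt⟩

end Groth.Agent.Helper28.IdealExt
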