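import Mathlib
import Groth.Agent.Lib.Helper17.LCR1
import Groth.Agent.Lib.Lead.RLR1

/-!
# Additivity of local intersection numbers on a regular local ring of dimension two (helper28)
-/
set_option autoImplicit false
universe u

namespace Groth.Agent.Helper28.IntNumAdd

open IsLocalRing

/-- depth of `A/g` is positive: `(g : m) = (g)`. -/
theorem colon_max (A : Type u) [CommRing A] [IsRegularLocalRing A] (hA : ringKrullDim A = 2)
    (g b : A) (hg : g ≠ 0) (hb : ∀ r ∈ maximalIdeal A, g ∣ r * b) : g ∣ b := by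
  haveI := Groth.Agent.Lead.RLR.isDomain A
  obtain ⟨x, hxm, hxreg, hloc, hregQ, hdimQ⟩ :=
    Groth.Agent.Helper17.LCR.exists_param A 1 (by rw [hA]; norm_num)
  haveI := hloc
  haveI := hregQ
  haveI hdomQ : IsDomain (A ⧸ Ideal.span {x}) := Groth.Agent.Lead.RLR.isDomain _
  have hx0 : x ≠ 0 := by
    rintro rfl
    have := hxreg (a₁ := (1 : A)) (a₂ := 0) (by simp)
    exact one_ne_zero this
  obtain ⟨y, hym, hyx⟩ : ∃ y ∈ maximalIdeal A, y ∉ Ideal.span {x} := by
    by_contra hcon
    push Not at hcon
    have hmax : maximalIdeal (A ⧸ Ideal.span {x}) = ⊥ := by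
      rw [← map_maximalIdeal_of_surjective (Ideal.Quotient.mk (Ideal.span {x}))
        Ideal.Quotient.mk_surjective, Ideal.map_eq_bot_iff_le_ker, Ideal.mk_ker]
      exact hcon
    have hfield : IsField (A ⧸ Ideal.span {x}) := isField_iff_maximalIdeal_eq.mpr hmax
    have h0 := ringKrullDim_eq_zero_of_isField hfield
    rw [hdimQ] at h0
    norm_num at h0
  obtain ⟨c₁, hc₁⟩ := hb x hxm
  obtain ⟨c₂, hc₂⟩ := hb y hym
  have h1 : y * c₁ = x * c₂ := by
    apply mul_left_cancel₀ hg
    calc g * (y * c₁) = y * (g * c₁) := by ring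
      _ = y * (x * b) := by rw [hc₁]
      _ = x * (y * b) := by ring
      _ = x * (g * c₂) := by rw [hc₂]
      _ = g * (x * c₂) := by ring
  have h2 : c₁ ∈ Ideal.span {x} := by
    have h3 : (Ideal.Quotient.mk (Ideal.span {x})) y * (Ideal.Quotient.mk (Ideal.span {x})) c₁
        = 0 := by
      rw [← map_mul, h1, Ideal.Quotient.eq_zero_iff_mem]
      exact Ideal.mul_mem_right _ _ (Ideal.subset_span rfl)
    rcases mul_eq_zero.mp h3 with h | h
    · exact (hyx (Ideal.Quotient.eq_zero_iff_mem.mp h)).elim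
    · exact Ideal.Quotient.eq_zero_iff_mem.mp h
  obtain ⟨c', hc'⟩ := Ideal.mem_span_singleton.mp h2
  refine ⟨c', ?_⟩
  apply mul_left_cancel₀ hx0
  rw [hc₁, hc']; ring

theorem colon_pow (A : Type u) [CommRing A] [IsRegularLocalRing A] (hA : ringKrullDim A = 2)
    (g : A) (hg : g ≠ 0) : ∀ (n : ℕ) (a : A), (∀ r ∈ maximalIdeal A ^ n, g ∣ r * a) → g ∣ a := by
  intro n
  induction n with
  | zero =>
    intro a ha
    have := ha 1 (by simp)
    simpa using this
  | succ n ih =>
    intro a ha
    apply ih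
    intro s hs
    apply colon_max A hA g (s * a) hg
    intro r hr
    have : r * s ∈ maximalIdeal A ^ (n + 1) := by
      rw [pow_succ']
      exact Ideal.mul_mem_mul hr hs
    have h1 := ha (r * s) this
    rwa [mul_assoc] at h1

theorem main (A : Type u) [CommRing A] [IsRegularLocalRing A]
    (hA : ringKrullDim A = 2) (f g h : A) (hfg : IsRelPrime f g) (hhg : IsRelPrime h g) :
    Module.length A (A ⧸ Ideal.span ({f * h, g} : Set A)) =
      Module.length A (A ⧸ Ideal.span ({f, g} : Set A)) +
        Module.length A (A ⧸ Ideal.span ({h, g} : Set A)) := by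
  haveI := Groth.Agent.Lead.RLR.isDomain A
  by_cases hg0 : g = 0
  · subst hg0
    have hf : IsUnit f := hfg (dvd_refl f) (dvd_zero f)
    have hh : IsUnit h := hhg (dvd_refl h) (dvd_zero h)
    have e1 : Ideal.span ({f * h, 0} : Set A) = ⊤ :=
      Ideal.eq_top_of_isUnit_mem _ (Ideal.subset_span (Set.mem_insert _ _)) (hf.mul hh)
    have e2 : Ideal.span ({f, 0} : Set A) = ⊤ :=
      Ideal.eq_top_of_isUnit_mem _ (Ideal.subset_span (Set.mem_insert _ _)) hf
    have e3 : Ideal.span ({h, 0} : Set A) = ⊤ :=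
      Ideal.eq_top_of_isUnit_mem _ (Ideal.subset_span (Set.mem_insert _ _)) hh
    rw [e1, e2, e3]
    haveI : Subsingleton (A ⧸ (⊤ : Ideal A)) := Ideal.Quotient.subsingleton_iff.mpr rfl
    rw [Module.length_eq_zero]
    simp
  have hI₂₃ : Ideal.span ({f * h, g} : Set A) ≤ Ideal.span ({f, g} : Set A) := by
    rw [Ideal.span_le]
    intro z hz
    rcases hz with rfl | hz
    · exact Ideal.mul_mem_right _ _ (Ideal.subset_span (Set.mem_insert _ _))
    · rw [Set.mem_singleton_iff] at hz; subst hz
      exact Ideal.subset_span (Set.mem_insert_of_mem _ rfl)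
  by_cases hreg : ∀ a, g ∣ f * a → g ∣ a
  · -- the exact sequence
    have hmem : ∀ a, f * a ∈ Ideal.span ({f * h, g} : Set A) →
        a ∈ Ideal.span ({h, g} : Set A) := by
      intro a ha
      obtain ⟨c, d, hcd⟩ := Ideal.mem_span_pair.mp ha
      have h1 : g ∣ f * (a - c * h) := ⟨d, by linear_combination -hcd⟩
      obtain ⟨e, he⟩ := hreg _ h1
      rw [Ideal.mem_span_pair]
      exact ⟨c, e, by linear_combination -he⟩
    have hmem' : ∀ a, a ∈ Ideal.span ({h, g} : Set A) →
        f * a ∈ Ideal.span ({f * h, g} : Set A) := by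
      intro a ha
      obtain ⟨c, d, hcd⟩ := Ideal.mem_span_pair.mp ha
      rw [Ideal.mem_span_pair]
      exact ⟨c, f * d, by linear_combination f * hcd⟩
    let φ : (A ⧸ Ideal.span ({h, g} : Set A)) →ₗ[A] (A ⧸ Ideal.span ({f * h, g} : Set A)) :=
      Submodule.mapQ _ _ (LinearMap.lsmul A A f) (fun a ha => hmem' a ha)
    let ψ : (A ⧸ Ideal.span ({f * h, g} : Set A)) →ₗ[A] (A ⧸ Ideal.span ({f, g} : Set A)) :=
      Submodule.mapQ _ _ LinearMap.id (fun a ha => hI₂₃ ha)
    have hφ : ∀ a : A, φ (Submodule.Quotient.mk a) = Submodule.Quotient.mk (f * a) :=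
      fun a => rfl
    have hψ : ∀ a : A, ψ (Submodule.Quotient.mk a) = Submodule.Quotient.mk a := fun a => rfl
    have hinj : Function.Injective φ := by
      rw [injective_iff_map_eq_zero]
      intro z hz
      obtain ⟨a, rfl⟩ := Submodule.Quotient.mk_surjective _ z
      rw [hφ, Submodule.Quotient.mk_eq_zero] at hz
      rw [Submodule.Quotient.mk_eq_zero]
      exact hmem a hz
    have hsurj : Function.Surjective ψ := by
      intro z
      obtain ⟨a, rfl⟩ := Submodule.Quotient.mk_surjective _ z
      exact ⟨Submodule.Quotient.mk a, hψ a⟩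
    have hex : Function.Exact φ ψ := by
      intro z
      obtain ⟨a, rfl⟩ := Submodule.Quotient.mk_surjective _ z
      rw [hψ, Submodule.Quotient.mk_eq_zero]
      constructor
      · intro ha
        obtain ⟨c, d, hcd⟩ := Ideal.mem_span_pair.mp ha
        refine ⟨Submodule.Quotient.mk c, ?_⟩
        rw [hφ]
        rw [Submodule.Quotient.eq]
        rw [Ideal.mem_span_pair]
        exact ⟨0, -d, by linear_combination -hcd⟩
      · rintro ⟨w, hw⟩
        obtain ⟨c, rfl⟩ := Submodule.Quotient.mk_surjective _ w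
        rw [hφ, Submodule.Quotient.eq] at hw
        have h2 : f * c ∈ Ideal.span ({f, g} : Set A) :=
          Ideal.mul_mem_right _ _ (Ideal.subset_span (Set.mem_insert _ _))
        have h3 := hI₂₃ hw
        have : a = f * c - (f * c - a) := by ring
        rw [this]
        exact Ideal.sub_mem _ h2 h3
    rw [Module.length_eq_add_of_exact φ ψ hinj hsurj hex, add_comm]
  · -- both sides are infinite
    push Not at hreg
    obtain ⟨a, hfa, hga⟩ := hreg
    have htop : Module.length A (A ⧸ Ideal.span ({f, g} : Set A)) = ⊤ := by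
      by_contra hne
      rw [← ne_eq, Module.length_ne_top_iff, isFiniteLength_iff_isNoetherian_isArtinian] at hne
      haveI : IsArtinianRing (A ⧸ Ideal.span ({f, g} : Set A)) :=
        isArtinian_of_tower A hne.2
      obtain ⟨n, hn⟩ :=
        exists_maximalIdeal_pow_le_of_isArtinianRing_quotient (Ideal.span ({f, g} : Set A))
      apply hga
      apply colon_pow A hA g hg0 n a
      intro r hr
      obtain ⟨c, d, hcd⟩ := Ideal.mem_span_pair.mp (hn hr)
      obtain ⟨e, he⟩ := hfa
      exact ⟨c * e + d * a, by linear_combination (-a) * hcd + c * he⟩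
    have hle : Module.length A (A ⧸ Ideal.span ({f, g} : Set A)) ≤
        Module.length A (A ⧸ Ideal.span ({f * h, g} : Set A)) := by
      let ψ : (A ⧸ Ideal.span ({f * h, g} : Set A)) →ₗ[A] (A ⧸ Ideal.span ({f, g} : Set A)) :=
        Submodule.mapQ _ _ LinearMap.id (fun a ha => hI₂₃ ha)
      have hψ : ∀ a : A, ψ (Submodule.Quotient.mk a) = Submodule.Quotient.mk a := fun a => rfl
      have hsurj : Function.Surjective ψ := by
        intro z
        obtain ⟨a, rfl⟩ := Submodule.Quotient.mk_surjective _ z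
        exact ⟨Submodule.Quotient.mk a, hψ a⟩
      exact Module.length_le_of_surjective ψ hsurj
    rw [htop] at hle ⊢
    rw [top_le_iff.mp hle, top_add]

end Groth.Agent.Helper28.IntNumAdd
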