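import Mathlib
import Groth.Agent.Lib.Helper13.GenLocus
import Groth.Agent.Lib.Helper13.PbInv
import Groth.Agent.Lib.Helper13.FinAffine
import Groth.Agent.Lib.Helper13.PushFinLocFree

set_option autoImplicit false
universe u
open CategoryTheory CategoryTheory.Limits AlgebraicGeometry Opposite TopologicalSpace
open Groth.Agent.Helper13.QCoh Groth.Agent.Helper13.FinType

namespace Groth.Agent.Helper28.IsoLocus

variable {X : Scheme.{u}}

/-- On a locally Noetherian scheme, the locus where a section `s : O_X ⟶ F` of a coherent module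
is bijective on stalks is open. -/
theorem isOpen_bijective_locus [IsLocallyNoetherian X] (F : X.Modules) [F.IsQuasicoherent]
    [SheafOfModules.IsFiniteType (R := X.ringCatSheaf) F] (s : Coh.structureModule X ⟶ F) :
    IsOpen {y : X | Function.Bijective (stalkMap s y)} := by
  classical
  rw [isOpen_iff_forall_mem_open]
  intro x hx
  change Function.Bijective (stalkMap s x) at hx
  -- surjective part
  haveI hepiπ : Epi (cokernel.π s) := coequalizer.π_epi
  haveI hft : SheafOfModules.IsFiniteType (R := X.ringCatSheaf) (cokernel s : X.Modules) :=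
    @isFiniteType_of_epi _ _ _ (cokernel.π s) hepiπ _
  have hsx : x ∉ CohB1.support (cokernel s) :=
    (Groth.Agent.Helper13.PbInv.stalkMap_surjective_iff_notMem_support s x).1 hx.2
  obtain ⟨W1, hxW1, hW1⟩ :=
    Groth.Agent.Helper13.PbInv.exists_open_disjoint_support (cokernel s) x hsx
  -- affine neighbourhood
  obtain ⟨_, ⟨W, hW, rfl⟩, hxW, -⟩ :=
    X.isBasis_affineOpens.exists_subset_of_mem_open (Set.mem_univ x) isOpen_univ
  haveI : IsNoetherianRing Γ(X, W) := IsLocallyNoetherian.component_noetherian ⟨W, hW⟩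
  set t := Groth.Agent.Helper13.GenLoc.sec F s with ht
  set tW : Γ(F, W) := F.presheaf.map (homOfLE (le_top : W ≤ ⊤)).op t with htW
  have hgermt : ∀ (y : X) (hy : y ∈ W),
      F.presheaf.germ W y hy tW = F.presheaf.germ ⊤ y trivial t :=
    fun y hy => TopCat.Presheaf.germ_res_apply F.presheaf (homOfLE (le_top : W ≤ ⊤)) y hy t
  have hinj_iff : ∀ y : X, Function.Injective (stalkMap s y) ↔
      ∀ r : X.presheaf.stalk y, r • F.presheaf.germ ⊤ y trivial t = 0 → r = 0 := by
    intro y
    constructor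
    · intro h r hr
      have h1 := Groth.Agent.Helper13.GenLoc.stalkMap_hom F s y
        ((Groth.Agent.Helper13.WeakAss.unitStalkEquiv y).symm r)
      rw [LinearEquiv.apply_symm_apply, hr] at h1
      have h2 : (Groth.Agent.Helper13.WeakAss.unitStalkEquiv y).symm r = 0 :=
        h (by rw [h1, map_zero])
      have h3 := congrArg (Groth.Agent.Helper13.WeakAss.unitStalkEquiv y) h2
      rwa [LinearEquiv.apply_symm_apply, map_zero] at h3
    · intro h a b hab
      have h1 := Groth.Agent.Helper13.GenLoc.stalkMap_hom F s y a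
      have h2 := Groth.Agent.Helper13.GenLoc.stalkMap_hom F s y b
      have h3 : (Groth.Agent.Helper13.WeakAss.unitStalkEquiv y a -
          Groth.Agent.Helper13.WeakAss.unitStalkEquiv y b) •
          F.presheaf.germ ⊤ y trivial t = 0 := by
        rw [sub_smul, ← h1, ← h2, hab, sub_self]
      have h4 := h _ h3
      exact (Groth.Agent.Helper13.WeakAss.unitStalkEquiv y).injective (sub_eq_zero.1 h4)
  -- the annihilator ideal of `tW`
  let I : Ideal Γ(X, W) := LinearMap.ker (LinearMap.toSpanSingleton Γ(X, W) Γ(F, W) tW)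
  have hI : ∀ a : Γ(X, W), a ∈ I ↔ a • tW = 0 := fun a => by
    simp only [I, LinearMap.mem_ker, LinearMap.toSpanSingleton_apply]
  obtain ⟨S, hS⟩ := (IsNoetherian.noetherian I : I.FG)
  have hSx : ∀ a ∈ S, ∃ g : Γ(X, W), x ∈ X.basicOpen g ∧ g * a = 0 := by
    intro a ha
    have haI : a ∈ I := hS ▸ Submodule.subset_span ha
    have h1 : X.presheaf.germ W x hxW a • F.presheaf.germ ⊤ x trivial t = 0 := by
      rw [← hgermt x hxW, ← germ_smul, (hI a).1 haI, map_zero]
    have h2 : X.presheaf.germ W x hxW a = 0 := (hinj_iff x).1 hx.1 _ h1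
    letI := TopCat.Presheaf.algebra_section_stalk X.presheaf ⟨x, hxW⟩
    have hloc := hW.isLocalization_stalk ⟨x, hxW⟩
    obtain ⟨m, hm⟩ := (IsLocalization.map_eq_zero_iff
      (hW.primeIdealOf ⟨x, hxW⟩).asIdeal.primeCompl (X.presheaf.stalk x) a).1 h2
    exact ⟨m.1, (mem_basicOpen_iff_notMem_primeIdealOf hW x hxW m.1).2 m.2, hm⟩
  have hG : ∃ G : Γ(X, W), x ∈ X.basicOpen G ∧ ∀ a ∈ S, G * a = 0 := by
    clear hS
    induction S using Finset.induction_on with
    | empty =>
      refine ⟨1, ?_, fun a ha => absurd ha (Finset.notMem_empty a)⟩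
      rw [X.mem_basicOpen _ x hxW, map_one]
      exact isUnit_one
    | insert b S' hb ih =>
      obtain ⟨G, hxG, hGS⟩ := ih (fun a ha => hSx a (Finset.mem_insert_of_mem ha))
      obtain ⟨g, hxg, hgb⟩ := hSx b (Finset.mem_insert_self b S')
      refine ⟨G * g, ?_, ?_⟩
      · rw [Scheme.basicOpen_mul]
        exact ⟨hxG, hxg⟩
      · intro a ha
        rcases Finset.mem_insert.1 ha with rfl | ha
        · rw [mul_assoc, hgb, mul_zero]
        · rw [mul_right_comm, hGS a ha, zero_mul]
  obtain ⟨G, hxG, hGS⟩ := hG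
  have hGI : ∀ a ∈ I, G * a = 0 := by
    intro a ha
    rw [← hS] at ha
    induction ha using Submodule.span_induction with
    | mem a ha => exact hGS a ha
    | zero => exact mul_zero G
    | add a b _ _ ha hb => rw [mul_add, ha, hb, add_zero]
    | smul c a _ ha => rw [smul_eq_mul, mul_left_comm, ha, mul_zero]
  refine ⟨(W1 ⊓ X.basicOpen G : X.Opens), ?_, (W1 ⊓ X.basicOpen G : X.Opens).2, ⟨hxW1, hxG⟩⟩
  rintro y ⟨hyW1, hyG⟩
  change Function.Bijective (stalkMap s y)
  have hyW : y ∈ W := X.basicOpen_le G hyG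
  refine ⟨(hinj_iff y).2 ?_, ?_⟩
  · intro r hr
    obtain ⟨h, c, hyh, hhc⟩ := exists_germ_mul_eq hW y hyW r
    have h1 : X.presheaf.germ W y hyW c • F.presheaf.germ ⊤ y trivial t = 0 := by
      rw [← hhc, mul_smul, hr, smul_zero]
    have h2 : F.presheaf.germ W y hyW (c • tW) = 0 := by
      rw [germ_smul, hgermt, h1]
    obtain ⟨h', hyh', hh'⟩ := exists_smul_eq_zero_of_germ_eq_zero F hW y hyW (c • tW) h2
    have h3 : h' * c ∈ I := (hI _).2 (by rw [mul_smul]; exact hh')
    have h4 : G * (h' * c) = 0 := hGI _ h3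
    have h5 : X.presheaf.germ W y hyW G * (X.presheaf.germ W y hyW h' *
        X.presheaf.germ W y hyW c) = 0 := by
      rw [← map_mul, ← map_mul, h4, map_zero]
    have uG : IsUnit (X.presheaf.germ W y hyW G) := (X.mem_basicOpen G y hyW).1 hyG
    have uh' : IsUnit (X.presheaf.germ W y hyW h') := (X.mem_basicOpen h' y hyW).1 hyh'
    have uh : IsUnit (X.presheaf.germ W y hyW h) := (X.mem_basicOpen h y hyW).1 hyh
    have h6 : X.presheaf.germ W y hyW c = 0 :=
      uh'.mul_right_eq_zero.1 (uG.mul_right_eq_zero.1 h5)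
    rw [h6] at hhc
    exact uh.mul_right_eq_zero.1 hhc
  · rw [Groth.Agent.Helper13.PbInv.stalkMap_surjective_iff_notMem_support]
    exact fun hy => Set.disjoint_left.1 hW1 hyW1 hy

end Groth.Agent.Helper28.IsoLocus
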