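import Mathlib
set_option autoImplicit false
universe u

/-!
Truncated polynomial rings `k[X]/(X^l)` : elementary facts used for jets.
-/

namespace Groth.Agent.Helper28.JetReg

open Polynomial

variable (k : Type u) [Field k]

/-- the truncated polynomial ring -/
abbrev TP (l : ℕ) := k[X] ⧸ Ideal.span {(X : k[X]) ^ l}

/-- class of `X` -/
noncomputable def t (l : ℕ) : TP k l := Ideal.Quotient.mk _ X

lemma t_pow_self (l : ℕ) : t k l ^ l = 0 := by
  rw [t, ← map_pow, Ideal.Quotient.eq_zero_iff_mem]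
  exact Ideal.subset_span rfl

lemma t_pow_eq_zero (l d : ℕ) (h : l ≤ d) : t k l ^ d = 0 := by
  obtain ⟨e, rfl⟩ := Nat.exists_eq_add_of_le h
  rw [pow_add, t_pow_self, zero_mul]

lemma algebraMap_eq_mk (l : ℕ) (c : k) :
    algebraMap k (TP k l) c = Ideal.Quotient.mk _ (C c) := by
  rw [Polynomial.C_eq_algebraMap, Ideal.Quotient.mk_algebraMap]

/-- augmentation `k[X]/(X^l) → k` for `l ≥ 1` -/
noncomputable def aug (l : ℕ) (hl : 1 ≤ l) : TP k l →ₐ[k] k :=
  Ideal.Quotient.liftₐ _ (Polynomial.aeval (0 : k)) (by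
    intro a ha
    obtain ⟨b, rfl⟩ := Ideal.mem_span_singleton.mp ha
    rw [map_mul, map_pow, Polynomial.aeval_X, zero_pow (by omega), zero_mul])

lemma aug_mk (l : ℕ) (hl : 1 ≤ l) (f : k[X]) :
    aug k l hl (Ideal.Quotient.mk _ f) = f.eval 0 := by
  rw [aug, Ideal.Quotient.liftₐ_apply, Ideal.Quotient.lift_mk]
  simp [Polynomial.coe_aeval_eq_eval]

lemma aug_t (l : ℕ) (hl : 1 ≤ l) : aug k l hl (t k l) = 0 := by
  rw [t, aug_mk, Polynomial.eval_X]

lemma mem_ker_aug_iff (l : ℕ) (hl : 1 ≤ l) (b : TP k l) :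
    aug k l hl b = 0 ↔ ∃ b', b = t k l * b' := by
  constructor
  · intro h
    obtain ⟨f, rfl⟩ := Ideal.Quotient.mk_surjective b
    rw [aug_mk, ← Polynomial.coeff_zero_eq_eval_zero] at h
    refine ⟨Ideal.Quotient.mk _ f.divX, ?_⟩
    rw [t, ← map_mul]
    congr 1
    have h1 := Polynomial.X_mul_divX_add f
    rw [h, map_zero, add_zero] at h1
    exact h1.symm
  · rintro ⟨b', rfl⟩
    rw [map_mul, aug_t, zero_mul]

lemma isNilpotent_of_aug_eq_zero (l : ℕ) (hl : 1 ≤ l) (b : TP k l) (h : aug k l hl b = 0) :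
    IsNilpotent b := by
  obtain ⟨b', rfl⟩ := (mem_ker_aug_iff k l hl b).mp h
  exact ⟨l, by rw [mul_pow, t_pow_self, zero_mul]⟩

lemma aug_eq_zero_of_isNilpotent (l : ℕ) (hl : 1 ≤ l) (b : TP k l) (h : IsNilpotent b) :
    aug k l hl b = 0 := by
  have h1 : IsNilpotent (aug k l hl b) := h.map _
  exact h1.eq_zero

/-- every element is its augmentation plus a multiple of `t` -/
lemma exists_eq_aug_add (l : ℕ) (hl : 1 ≤ l) (b : TP k l) :
    ∃ b', b = algebraMap k (TP k l) (aug k l hl b) + t k l * b' := by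
  have h0 : aug k l hl (b - algebraMap k (TP k l) (aug k l hl b)) = 0 := by
    rw [map_sub, AlgHom.commutes, Algebra.algebraMap_self, RingHom.id_apply, sub_self]
  obtain ⟨b', hb'⟩ := (mem_ker_aug_iff k l hl _).mp h0
  exact ⟨b', by rw [← hb']; ring⟩

/-- multiplying by the top power of `t` only sees the augmentation -/
lemma mul_t_pow (s : ℕ) (b : TP k (s + 1)) :
    b * t k (s + 1) ^ s = aug k (s + 1) (by omega) b • t k (s + 1) ^ s := by
  obtain ⟨b', hb'⟩ := exists_eq_aug_add k (s + 1) (by omega) b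
  conv_lhs => rw [hb']
  rw [add_mul, mul_assoc, mul_comm b', ← mul_assoc, ← pow_succ', t_pow_self, zero_mul, add_zero]
  exact (Algebra.smul_def _ _).symm

lemma smul_t_pow_eq_zero (l d : ℕ) (hd : d < l) (c : k) (h : c • t k l ^ d = 0) : c = 0 := by
  have e : c • t k l ^ d = Ideal.Quotient.mk (Ideal.span {(X : k[X]) ^ l}) (C c * X ^ d) := by
    have e1 : c • t k l ^ d = algebraMap k (TP k l) c * t k l ^ d :=
      Algebra.smul_def (R := k) (A := TP k l) c (t k l ^ d)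
    rw [map_mul, map_pow, e1, algebraMap_eq_mk]
    rfl
  rw [e, Ideal.Quotient.eq_zero_iff_mem, Ideal.mem_span_singleton, Polynomial.X_pow_dvd_iff] at h
  have := h d hd
  rwa [Polynomial.coeff_C_mul_X_pow, if_pos rfl] at this

/-- the transition map `k[X]/(X^(l+1)) → k[X]/(X^l)` of the statement -/
noncomputable abbrev fac (l : ℕ) : TP k (l + 1) →ₐ[k] TP k l :=
  Ideal.Quotient.factorₐ k
    (Ideal.span_singleton_le_span_singleton.mpr (pow_dvd_pow (X : k[X]) (Nat.le_succ l)))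

/-- the transition map to `k[X]/(X^2)` -/
noncomputable abbrev fac2 (l : ℕ) (hl : 2 ≤ l) : TP k l →ₐ[k] TP k 2 :=
  Ideal.Quotient.factorₐ k
    (Ideal.span_singleton_le_span_singleton.mpr (pow_dvd_pow (X : k[X]) hl))

lemma fac_surjective (l : ℕ) : Function.Surjective (fac k l) := by
  intro y
  obtain ⟨f, rfl⟩ := Ideal.Quotient.mk_surjective y
  exact ⟨Ideal.Quotient.mk _ f, rfl⟩

lemma fac2_comp_fac (l : ℕ) (hl : 2 ≤ l) :
    (fac2 k l hl).comp (fac k l) = fac2 k (l + 1) (by omega) := by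
  apply AlgHom.ext
  intro y
  obtain ⟨f, rfl⟩ := Ideal.Quotient.mk_surjective y
  rfl

lemma fac2_two : fac2 k 2 le_rfl = AlgHom.id k (TP k 2) := by
  apply AlgHom.ext
  intro y
  obtain ⟨f, rfl⟩ := Ideal.Quotient.mk_surjective y
  rfl

lemma isNilpotent_ker_fac (l : ℕ) (hl : 1 ≤ l) :
    IsNilpotent (RingHom.ker ((fac k l : TP k (l + 1) →ₐ[k] TP k l) : TP k (l + 1) →+* TP k l)) := by
  refine ⟨2, ?_⟩
  rw [Ideal.zero_eq_bot, eq_bot_iff]
  have hsq : RingHom.ker ((fac k l : TP k (l + 1) →ₐ[k] TP k l) : TP k (l + 1) →+* TP k l) ^ 2 =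
      RingHom.ker ((fac k l : TP k (l + 1) →ₐ[k] TP k l) : TP k (l + 1) →+* TP k l) *
      RingHom.ker ((fac k l : TP k (l + 1) →ₐ[k] TP k l) : TP k (l + 1) →+* TP k l) := pow_two _
  rw [hsq, Ideal.mul_le]
  intro a ha b hb
  obtain ⟨f, rfl⟩ := Ideal.Quotient.mk_surjective a
  obtain ⟨g, rfl⟩ := Ideal.Quotient.mk_surjective b
  have ha' : f ∈ Ideal.span {(X : k[X]) ^ l} := Ideal.Quotient.eq_zero_iff_mem.mp ha
  have hb' : g ∈ Ideal.span {(X : k[X]) ^ l} := Ideal.Quotient.eq_zero_iff_mem.mp hb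
  obtain ⟨f', rfl⟩ := Ideal.mem_span_singleton.mp ha'
  obtain ⟨g', rfl⟩ := Ideal.mem_span_singleton.mp hb'
  rw [Ideal.mem_bot, ← map_mul, Ideal.Quotient.eq_zero_iff_mem, Ideal.mem_span_singleton]
  refine ⟨X ^ (l - 1) * f' * g', ?_⟩
  have e : l + l = (l + 1) + (l - 1) := by omega
  calc X ^ l * f' * (X ^ l * g') = X ^ (l + l) * f' * g' := by rw [pow_add]; ring
    _ = X ^ (l + 1) * (X ^ (l - 1) * f' * g') := by rw [e, pow_add]; ring

/-- an element of `k[X]/(X^l)` whose image in `k[X]/(X^2)` is `v • t` has the form `t (v + t δ)` -/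
lemma exists_of_fac2_eq (l : ℕ) (hl : 2 ≤ l) (b : TP k l) (v : k)
    (h : fac2 k l hl b = v • t k 2) :
    ∃ δ, b = t k l * (algebraMap k (TP k l) v + t k l * δ) := by
  obtain ⟨f, rfl⟩ := Ideal.Quotient.mk_surjective b
  have e : v • t k 2 = Ideal.Quotient.mk (Ideal.span {(X : k[X]) ^ 2}) (C v * X) := by
    have e1 : v • t k 2 = algebraMap k (TP k 2) v * t k 2 :=
      Algebra.smul_def (R := k) (A := TP k 2) v (t k 2)
    rw [map_mul, e1, algebraMap_eq_mk]
    rfl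
  have h1 : Ideal.Quotient.mk (Ideal.span {(X : k[X]) ^ 2}) f =
      Ideal.Quotient.mk (Ideal.span {(X : k[X]) ^ 2}) (C v * X) := by
    rw [← e, ← h]; rfl
  rw [Ideal.Quotient.eq, Ideal.mem_span_singleton] at h1
  obtain ⟨g, hg⟩ := h1
  refine ⟨Ideal.Quotient.mk _ g, ?_⟩
  rw [algebraMap_eq_mk, t, ← map_mul, ← map_add, ← map_mul]
  congr 1
  have : f = C v * X + X ^ 2 * g := by rw [← hg]; ring
  rw [this]; ring

end Groth.Agent.Helper28.JetReg
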