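import Mathlib
import Groth.Agent.Lib.Helper28.JetReg1
import Groth.Agent.Lib.Helper14.RegSmooth
set_option autoImplicit false
universe u

/-!
Jets on a finitely generated algebra over an algebraically closed field: residue maps,
units, lifting through the localisation, and the smooth direction.
-/

namespace Groth.Agent.Helper28.JetReg

open Polynomial IsLocalRing

section general

variable (k : Type u) [Field k]

lemma aug_comp_fac (l : ℕ) (hl : 1 ≤ l) :
    (aug k l hl).comp (fac k l) = aug k (l + 1) (by omega) := by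
  apply AlgHom.ext
  intro y
  obtain ⟨f, rfl⟩ := Ideal.Quotient.mk_surjective y
  rw [AlgHom.comp_apply, aug_mk]
  have h : fac k l (Ideal.Quotient.mk _ f) = Ideal.Quotient.mk _ f := rfl
  rw [h, aug_mk]

lemma isUnit_of_aug_ne_zero (l : ℕ) (hl : 1 ≤ l) (b : TP k l) (h : aug k l hl b ≠ 0) :
    IsUnit b := by
  obtain ⟨b', hb'⟩ := exists_eq_aug_add k l hl b
  rw [hb']
  have hn : IsNilpotent (t k l * b') := ⟨l, by rw [mul_pow, t_pow_self, zero_mul]⟩
  have hu : IsUnit (algebraMap k (TP k l) (aug k l hl b)) := (isUnit_iff_ne_zero.mpr h).map _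
  exact hn.isUnit_add_left_of_commute hu (Commute.all _ _)

end general

section loc

variable (k : Type u) [Field k] {R : Type u} [CommRing R] [IsLocalRing R] [Algebra k R]

lemma algHom_surjective (χ : R →ₐ[k] k) : Function.Surjective χ := fun c =>
  ⟨algebraMap k R c, by rw [AlgHom.commutes, Algebra.algebraMap_self, RingHom.id_apply]⟩

lemma mem_maximalIdeal_iff_algHom (χ : R →ₐ[k] k) (a : R) :
    a ∈ maximalIdeal R ↔ χ a = 0 := by
  have h := IsLocalRing.ker_eq_maximalIdeal (χ : R →+* k) (algHom_surjective k χ)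
  rw [← h]
  exact RingHom.mem_ker

lemma sub_algebraMap_mem (χ : R →ₐ[k] k) (a : R) :
    a - algebraMap k R (χ a) ∈ maximalIdeal R := by
  rw [mem_maximalIdeal_iff_algHom k χ, map_sub, AlgHom.commutes, Algebra.algebraMap_self,
    RingHom.id_apply, sub_self]

lemma isNilpotent_of_mem_maximalIdeal (l : ℕ) (hl : 1 ≤ l) (φ : R →ₐ[k] TP k l) (a : R)
    (ha : a ∈ maximalIdeal R) : IsNilpotent (φ a) := by
  apply isNilpotent_of_aug_eq_zero k l hl
  exact (mem_maximalIdeal_iff_algHom k ((aug k l hl).comp φ) a).mp ha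

end loc

section fg

variable (k : Type u) [Field k] [IsAlgClosed k] (A : Type u) [CommRing A] [Algebra k A]
  [Algebra.FiniteType k A] (m : Ideal A) [m.IsMaximal]

lemma bijective_algebraMap_quotient : Function.Bijective (algebraMap k (A ⧸ m)) := by
  letI : Field (A ⧸ m) := Ideal.Quotient.field m
  haveI : Module.Finite k (A ⧸ m) := finite_of_finite_type_of_isJacobsonRing k (A ⧸ m)
  haveI : Algebra.IsIntegral k (A ⧸ m) := Algebra.IsIntegral.of_finite k (A ⧸ m)
  exact IsAlgClosed.algebraMap_bijective_of_isIntegral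

/-- `k ≃ A/m` -/
noncomputable def quotEquiv : k ≃ₐ[k] A ⧸ m :=
  AlgEquiv.ofBijective (Algebra.ofId k (A ⧸ m)) (bijective_algebraMap_quotient k A m)

/-- the residue map `A → k` at the maximal ideal `m` -/
noncomputable def resA : A →ₐ[k] k :=
  ((quotEquiv k A m).symm : (A ⧸ m) →ₐ[k] k).comp (Ideal.Quotient.mkₐ k m)

lemma resA_apply (a : A) : resA k A m a = (quotEquiv k A m).symm (Ideal.Quotient.mk m a) := rfl

lemma resA_eq_zero_iff (a : A) : resA k A m a = 0 ↔ a ∈ m := by
  rw [resA_apply, EmbeddingLike.map_eq_zero_iff, Ideal.Quotient.eq_zero_iff_mem]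

lemma isUnit_jet (l : ℕ) (hl : 1 ≤ l) (φ : A →ₐ[k] TP k l)
    (hφ : ∀ a ∈ m, IsNilpotent (φ a)) (s : A) (hs : s ∉ m) : IsUnit (φ s) := by
  apply isUnit_of_aug_ne_zero k l hl
  intro h
  have hn : s - algebraMap k A (resA k A m s) ∈ m := by
    rw [← resA_eq_zero_iff k A m, map_sub, AlgHom.commutes, Algebra.algebraMap_self,
      RingHom.id_apply, sub_self]
  have h1 := aug_eq_zero_of_isNilpotent k l hl _ (hφ _ hn)
  rw [map_sub, map_sub, AlgHom.commutes, AlgHom.commutes, Algebra.algebraMap_self,
    RingHom.id_apply, h, zero_sub, neg_eq_zero] at h1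
  exact hs ((resA_eq_zero_iff k A m s).mp h1)

/-- the residue map on the localisation -/
noncomputable def resR : Localization.AtPrime m →ₐ[k] k :=
  IsLocalization.liftAlgHom (M := m.primeCompl) (f := resA k A m)
    (fun y => isUnit_iff_ne_zero.mpr (fun h => y.2 ((resA_eq_zero_iff k A m y).mp h)))

lemma isGeometricallyReduced_self : Algebra.IsGeometricallyReduced k k := by
  rw [Algebra.isGeometricallyReduced_field_iff]
  exact isReduced_of_injective
    (Algebra.TensorProduct.rid k (AlgebraicClosure k) (AlgebraicClosure k))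
    (AlgEquiv.injective _)

lemma isGeometricallyReduced_residueField :
    Algebra.IsGeometricallyReduced k m.ResidueField := by
  haveI := isGeometricallyReduced_self k
  have hb : Function.Bijective (algebraMap k m.ResidueField) := by
    rw [IsScalarTower.algebraMap_eq k (A ⧸ m) m.ResidueField, RingHom.coe_comp]
    exact (Ideal.bijective_algebraMap_quotient_residueField m).comp
      (bijective_algebraMap_quotient k A m)
  exact Algebra.IsGeometricallyReduced.of_injective
    ((AlgEquiv.ofBijective (Algebra.ofId k m.ResidueField) hb).symm : m.ResidueField →ₐ[k] k)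
    (AlgEquiv.injective _)

/-- regular ⟹ jets lift -/
theorem lift_of_regular [IsRegularLocalRing (Localization.AtPrime m)] (l : ℕ) (hl : 1 ≤ l)
    (φ : A →ₐ[k] TP k l) (hφ : ∀ a ∈ m, IsNilpotent (φ a)) :
    ∃ ψ : A →ₐ[k] TP k (l + 1), (fac k l).comp ψ = φ := by
  haveI : Algebra.IsGeometricallyReduced k m.ResidueField :=
    isGeometricallyReduced_residueField k A m
  haveI : Algebra.FormallySmooth k (Localization.AtPrime m) :=
    Groth.Agent.Helper14.RegSmooth.isSmoothAt_of_regular k A m
  let φR : Localization.AtPrime m →ₐ[k] TP k l :=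
    IsLocalization.liftAlgHom (M := m.primeCompl) (f := φ)
      (fun y => isUnit_jet k A m l hl φ hφ y y.2)
  let ψR := Algebra.FormallySmooth.liftOfSurjective φR (fac k l) (fac_surjective k l)
    (isNilpotent_ker_fac k l hl)
  refine ⟨ψR.comp (IsScalarTower.toAlgHom k A (Localization.AtPrime m)), ?_⟩
  rw [← AlgHom.comp_assoc, Algebra.FormallySmooth.comp_liftOfSurjective]
  apply AlgHom.ext
  intro a
  exact IsLocalization.lift_eq _ a

/-- jets on `A` lift ⟹ jets on the localisation lift -/
theorem lift_loc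
    (H : ∀ (l : ℕ), 1 ≤ l → ∀ (φ : A →ₐ[k] TP k l), (∀ a ∈ m, IsNilpotent (φ a)) →
      ∃ ψ : A →ₐ[k] TP k (l + 1), (fac k l).comp ψ = φ)
    (l : ℕ) (hl : 1 ≤ l) (φ : Localization.AtPrime m →ₐ[k] TP k l) :
    ∃ ψ : Localization.AtPrime m →ₐ[k] TP k (l + 1), (fac k l).comp ψ = φ := by
  have hnil : ∀ a ∈ m, IsNilpotent
      ((φ.comp (IsScalarTower.toAlgHom k A (Localization.AtPrime m))) a) := by
    intro a ha
    apply isNilpotent_of_mem_maximalIdeal k l hl φ
    exact (IsLocalization.AtPrime.to_map_mem_maximal_iff (Localization.AtPrime m) m a).mpr ha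
  obtain ⟨ψA, hψA⟩ := H l hl _ hnil
  have hfac : ∀ a, fac k l (ψA a) = φ (algebraMap A (Localization.AtPrime m) a) := by
    intro a
    have := AlgHom.congr_fun hψA a
    exact this
  have hnil' : ∀ a ∈ m, IsNilpotent (ψA a) := by
    intro a ha
    apply isNilpotent_of_aug_eq_zero k (l + 1) (by omega)
    rw [← aug_comp_fac k l hl, AlgHom.comp_apply, hfac]
    exact aug_eq_zero_of_isNilpotent k l hl _ (hnil a ha)
  let ψ : Localization.AtPrime m →ₐ[k] TP k (l + 1) :=
    IsLocalization.liftAlgHom (M := m.primeCompl) (f := ψA)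
      (fun y => isUnit_jet k A m (l + 1) (by omega) ψA hnil' y y.2)
  refine ⟨ψ, ?_⟩
  apply AlgHom.coe_ringHom_injective
  apply IsLocalization.ringHom_ext m.primeCompl
  refine RingHom.ext fun a => ?_
  show fac k l (ψ (algebraMap A (Localization.AtPrime m) a)) =
    φ (algebraMap A (Localization.AtPrime m) a)
  have h1 : ψ (algebraMap A (Localization.AtPrime m) a) = ψA a := IsLocalization.lift_eq _ a
  rw [h1, hfac]

end fg

end Groth.Agent.Helper28.JetReg
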