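import Mathlib
import Groth.Agent.Lib.Helper28.JetReg2
import Groth.Agent.Lib.Helper5.GrReg3
set_option autoImplicit false
universe u

/-!
A Noetherian local `k`-algebra with residue field `k` all of whose jets lift is regular.
-/

namespace Groth.Agent.Helper28.JetReg

open Polynomial IsLocalRing Module Groth.Agent.Helper5.GrReg

variable (k : Type u) [Field k] {R : Type u} [CommRing R] [IsLocalRing R] [Algebra k R]
  (ρ : R →ₐ[k] k)

/-- projection to the maximal ideal along `ρ` -/
noncomputable def pm (a : R) : maximalIdeal R :=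
  ⟨a - algebraMap k R (ρ a), sub_algebraMap_mem k ρ a⟩

lemma pm_add (a b : R) : pm k ρ (a + b) = pm k ρ a + pm k ρ b := by
  apply Subtype.ext
  show (a + b) - algebraMap k R (ρ (a + b)) =
    (a - algebraMap k R (ρ a)) + (b - algebraMap k R (ρ b))
  rw [map_add, map_add]; ring

lemma pm_mul (a b : R) :
    pm k ρ (a * b) = a • pm k ρ b + algebraMap k R (ρ b) • pm k ρ a := by
  apply Subtype.ext
  show a * b - algebraMap k R (ρ (a * b)) =
    a * (b - algebraMap k R (ρ b)) + algebraMap k R (ρ b) * (a - algebraMap k R (ρ a))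
  rw [map_mul, map_mul]; ring

lemma pm_algebraMap (c : k) : pm k ρ (algebraMap k R c) = 0 := by
  apply Subtype.ext
  show algebraMap k R c - algebraMap k R (ρ (algebraMap k R c)) = 0
  rw [AlgHom.commutes, Algebra.algebraMap_self, RingHom.id_apply, sub_self]

lemma pm_of_mem (a : R) (ha : a ∈ maximalIdeal R) : pm k ρ a = ⟨a, ha⟩ := by
  apply Subtype.ext
  show a - algebraMap k R (ρ a) = a
  rw [(mem_maximalIdeal_iff_algHom k ρ a).mp ha, map_zero, sub_zero]

section tangent

variable {r : ℕ} (x : Fin r → R) (hx : Ideal.span (Set.range x) = maximalIdeal R)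

/-- the generators as elements of the maximal ideal -/
def xm (i : Fin r) : maximalIdeal R :=
  ⟨x i, by rw [← hx]; exact Ideal.subset_span (Set.mem_range_self i)⟩

lemma span_xm : Submodule.span R (Set.range (xm x hx)) = ⊤ := by
  apply Submodule.map_injective_of_injective (maximalIdeal R).injective_subtype
  rw [Submodule.map_span, Submodule.map_top, Submodule.range_subtype, ← Set.range_comp]
  exact hx

variable [IsNoetherianRing R]

lemma exists_delta (hr : (maximalIdeal R).spanFinrank = r) (v : Fin r → k) :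
    ∃ δ : maximalIdeal R → k, (∀ n n', δ (n + n') = δ n + δ n') ∧
      (∀ (a : R) (n : maximalIdeal R), δ (a • n) = ρ a * δ n) ∧
      ∀ i, δ (xm x hx i) = v i := by
  have hspan : ⊤ ≤ Submodule.span (ResidueField R)
      (Set.range fun i => (maximalIdeal R).toCotangent (xm x hx i)) := by
    rw [top_le_iff]
    have e : (Set.range fun i => (maximalIdeal R).toCotangent (xm x hx i)) =
        (maximalIdeal R).toCotangent '' Set.range (xm x hx) := by
      rw [← Set.range_comp]; rfl
    rw [e, CotangentSpace.span_image_eq_top_iff]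
    exact span_xm x hx
  have hcard : Fintype.card (Fin r) = Module.finrank (ResidueField R) (CotangentSpace R) := by
    rw [Fintype.card_fin, ← spanFinrank_maximalIdeal_eq_finrank_cotangentSpace R, hr]
  obtain ⟨b, hb⟩ : ∃ b : Basis (Fin r) (ResidueField R) (CotangentSpace R),
      ∀ i, b i = (maximalIdeal R).toCotangent (xm x hx i) :=
    ⟨basisOfTopLeSpanOfCardEqFinrank _ hspan hcard, fun i => by
      rw [coe_basisOfTopLeSpanOfCardEqFinrank]⟩
  obtain ⟨ρ', hρ'⟩ : ∃ ρ' : ResidueField R →+* k, ∀ a, ρ' (residue R a) = ρ a :=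
    ⟨Ideal.Quotient.lift (maximalIdeal R) (ρ : R →+* k)
      (fun a ha => (mem_maximalIdeal_iff_algHom k ρ a).mp ha), fun a => rfl⟩
  obtain ⟨lam, hlam⟩ : ∃ lam : CotangentSpace R →ₗ[ResidueField R] ResidueField R,
      ∀ i, lam (b i) = residue R (algebraMap k R (v i)) :=
    ⟨b.constr ℕ (fun i => residue R (algebraMap k R (v i))), fun i => Basis.constr_basis _ _ _ _⟩
  refine ⟨fun n => ρ' (lam ((maximalIdeal R).toCotangent n)), ?_, ?_, ?_⟩
  · intro n n'
    show ρ' (lam ((maximalIdeal R).toCotangent (n + n'))) =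
      ρ' (lam ((maximalIdeal R).toCotangent n)) + ρ' (lam ((maximalIdeal R).toCotangent n'))
    rw [map_add, map_add, map_add]
  · intro a n
    show ρ' (lam ((maximalIdeal R).toCotangent (a • n))) =
      ρ a * ρ' (lam ((maximalIdeal R).toCotangent n))
    have e1 : (maximalIdeal R).toCotangent (a • n) =
        residue R a • (maximalIdeal R).toCotangent n := by
      rw [map_smul]
      exact (algebraMap_smul (ResidueField R) a ((maximalIdeal R).toCotangent n)).symm
    rw [e1, map_smul, smul_eq_mul, map_mul, hρ']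
  · intro i
    show ρ' (lam ((maximalIdeal R).toCotangent (xm x hx i))) = v i
    rw [← hb i, hlam, hρ', AlgHom.commutes, Algebra.algebraMap_self, RingHom.id_apply]

include ρ hx in
lemma exists_tangent (hr : (maximalIdeal R).spanFinrank = r) (v : Fin r → k) :
    ∃ φ : R →ₐ[k] TP k 2, ∀ i, φ (x i) = v i • t k 2 := by
  obtain ⟨δ, hadd, hsmul, hxi⟩ := exists_delta k ρ x hx hr v
  have hδ0 : δ 0 = 0 := by
    have h := hadd 0 0
    rw [add_zero] at h
    linear_combination -h
  obtain ⟨Dv, hDv⟩ : ∃ Dv : R → k, ∀ a, Dv a = δ (pm k ρ a) := ⟨_, fun _ => rfl⟩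
  have hDadd : ∀ a b, Dv (a + b) = Dv a + Dv b := by
    intro a b
    rw [hDv, hDv a, hDv b, pm_add, hadd]
  have hDmul : ∀ a b, Dv (a * b) = ρ a * Dv b + ρ b * Dv a := by
    intro a b
    rw [hDv, hDv a, hDv b, pm_mul, hadd, hsmul, hsmul, AlgHom.commutes,
      Algebra.algebraMap_self, RingHom.id_apply]
  have hDalg : ∀ c, Dv (algebraMap k R c) = 0 := by
    intro c
    rw [hDv, pm_algebraMap, hδ0]
  have ht2 : t k 2 * t k 2 = 0 := by
    rw [← pow_two]; exact t_pow_self k 2
  have hD1 : Dv 1 = 0 := by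
    rw [← map_one (algebraMap k R)]; exact hDalg 1
  have hD0 : Dv 0 = 0 := by
    rw [← map_zero (algebraMap k R)]; exact hDalg 0
  let φ : R →ₐ[k] TP k 2 :=
    { toFun := fun a => algebraMap k (TP k 2) (ρ a) + algebraMap k (TP k 2) (Dv a) * t k 2
      map_one' := by
        show algebraMap k (TP k 2) (ρ 1) + algebraMap k (TP k 2) (Dv 1) * t k 2 = 1
        rw [hD1, map_one, map_one, map_zero, zero_mul, add_zero]
      map_mul' := by
        intro a b
        show algebraMap k (TP k 2) (ρ (a * b)) + algebraMap k (TP k 2) (Dv (a * b)) * t k 2 =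
          (algebraMap k (TP k 2) (ρ a) + algebraMap k (TP k 2) (Dv a) * t k 2) *
          (algebraMap k (TP k 2) (ρ b) + algebraMap k (TP k 2) (Dv b) * t k 2)
        rw [map_mul ρ, hDmul, map_mul, map_add, map_mul, map_mul]
        linear_combination
          (-(algebraMap k (TP k 2) (Dv a) * algebraMap k (TP k 2) (Dv b))) * ht2
      map_zero' := by
        show algebraMap k (TP k 2) (ρ 0) + algebraMap k (TP k 2) (Dv 0) * t k 2 = 0
        rw [hD0, map_zero, map_zero, zero_mul, add_zero]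
      map_add' := by
        intro a b
        show algebraMap k (TP k 2) (ρ (a + b)) + algebraMap k (TP k 2) (Dv (a + b)) * t k 2 =
          (algebraMap k (TP k 2) (ρ a) + algebraMap k (TP k 2) (Dv a) * t k 2) +
          (algebraMap k (TP k 2) (ρ b) + algebraMap k (TP k 2) (Dv b) * t k 2)
        rw [map_add ρ, hDadd, map_add, map_add]; ring
      commutes' := by
        intro c
        show algebraMap k (TP k 2) (ρ (algebraMap k R c)) +
          algebraMap k (TP k 2) (Dv (algebraMap k R c)) * t k 2 = algebraMap k (TP k 2) c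
        rw [AlgHom.commutes, Algebra.algebraMap_self, RingHom.id_apply, hDalg, map_zero,
          zero_mul, add_zero] }
  refine ⟨φ, fun i => ?_⟩
  show algebraMap k (TP k 2) (ρ (x i)) + algebraMap k (TP k 2) (Dv (x i)) * t k 2 = v i • t k 2
  have hxm : x i ∈ maximalIdeal R := (xm x hx i).2
  have h1 : ρ (x i) = 0 := (mem_maximalIdeal_iff_algHom k ρ _).mp hxm
  have h2 : Dv (x i) = v i := by
    rw [hDv, pm_of_mem k ρ _ hxm]; exact hxi i
  rw [h1, h2, map_zero, zero_add]
  exact (Algebra.smul_def (R := k) (A := TP k 2) (v i) (t k 2)).symm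

end tangent

section main

variable [IsNoetherianRing R]
  (H : ∀ (l : ℕ), 1 ≤ l → ∀ (φ : R →ₐ[k] TP k l),
      ∃ ψ : R →ₐ[k] TP k (l + 1), (fac k l).comp ψ = φ)

include H in
lemma exists_jet (φ₂ : R →ₐ[k] TP k 2) (l : ℕ) (hl : 2 ≤ l) :
    ∃ ψ : R →ₐ[k] TP k l, (fac2 k l hl).comp ψ = φ₂ := by
  induction l, hl using Nat.le_induction with
  | base => exact ⟨φ₂, by rw [fac2_two]; exact AlgHom.id_comp _⟩
  | succ l hl ih =>
    obtain ⟨ψ, hψ⟩ := ih
    obtain ⟨ψ', hψ'⟩ := H l (by omega) ψ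
    refine ⟨ψ', ?_⟩
    show (fac2 k (l + 1) (by omega)).comp ψ' = φ₂
    rw [← fac2_comp_fac k l hl, AlgHom.comp_assoc, hψ', hψ]

include H ρ in
theorem no_relation [Infinite k] {r : ℕ} (x : Fin r → R)
    (hx : Ideal.span (Set.range x) = maximalIdeal R)
    (hr : (maximalIdeal R).spanFinrank = r) (s : ℕ) (c : (Fin r →₀ ℕ) → R)
    (hu : ∃ u ∈ D r s, IsUnit (c u))
    (hrel : ∑ u ∈ D r s, c u * xx x u ∈ maximalIdeal R ^ (s + 1)) : False := by
  classical
  obtain ⟨u₀, hu₀, hunit⟩ := hu
  obtain ⟨F, hF⟩ : ∃ F : MvPolynomial (Fin r) k,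
      F = ∑ u ∈ D r s, MvPolynomial.monomial u (ρ (c u)) := ⟨_, rfl⟩
  have hF0 : F ≠ 0 := by
    intro h0
    have h1 : MvPolynomial.coeff u₀ F = ρ (c u₀) := by
      rw [hF, MvPolynomial.coeff_sum]
      simp only [MvPolynomial.coeff_monomial]
      rw [Finset.sum_ite_eq' (D r s) u₀, if_pos hu₀]
    rw [h0, MvPolynomial.coeff_zero] at h1
    have hmem : c u₀ ∈ maximalIdeal R := (mem_maximalIdeal_iff_algHom k ρ _).mpr h1.symm
    exact ((mem_maximalIdeal _).mp hmem) hunit
  obtain ⟨v, hv⟩ : ∃ v : Fin r → k, MvPolynomial.eval v F ≠ 0 := by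
    by_contra hcon
    push Not at hcon
    exact hF0 (MvPolynomial.funext (fun v => by rw [hcon v, map_zero]))
  obtain ⟨φ₂, hφ₂⟩ := exists_tangent k ρ x hx hr v
  obtain ⟨ψ, hψ⟩ := exists_jet k H φ₂ (s + 1 + 1) (by omega)
  have hxi : ∀ i, ∃ δ, ψ (x i) =
      t k (s + 1 + 1) * (algebraMap k (TP k (s + 1 + 1)) (v i) + t k (s + 1 + 1) * δ) := by
    intro i
    apply exists_of_fac2_eq k (s + 1 + 1) (by omega)
    have h := AlgHom.congr_fun hψ (x i)
    rw [← hφ₂ i]
    exact h
  choose δ hδ using hxi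
  obtain ⟨w, hw⟩ : ∃ w : Fin r → TP k (s + 1 + 1),
      ∀ i, w i = algebraMap k (TP k (s + 1 + 1)) (v i) + t k (s + 1 + 1) * δ i :=
    ⟨_, fun _ => rfl⟩
  have hδ' : ∀ i, ψ (x i) = t k (s + 1 + 1) * w i := by
    intro i; rw [hw, hδ]
  have haugw : ∀ i, aug k (s + 1 + 1) (by omega) (w i) = v i := by
    intro i
    rw [hw, map_add, map_mul, aug_t, zero_mul, add_zero, AlgHom.commutes,
      Algebra.algebraMap_self, RingHom.id_apply]
  -- `ψ` maps the maximal ideal into `(t)`
  have hm : Ideal.map ψ (maximalIdeal R) ≤ Ideal.span {t k (s + 1 + 1)} := by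
    rw [← hx, Ideal.map_span, Ideal.span_le]
    rintro _ ⟨_, ⟨i, rfl⟩, rfl⟩
    rw [hδ' i]
    exact Ideal.mul_mem_right _ _ (Ideal.subset_span rfl)
  have htt : t k (s + 1 + 1) * t k (s + 1 + 1) ^ (s + 1) = 0 := by
    rw [← pow_succ']; exact t_pow_self k (s + 1 + 1)
  have hkill : ∀ y ∈ maximalIdeal R ^ (s + 1), t k (s + 1 + 1) * ψ y = 0 := by
    intro y hy
    have h1 : ψ y ∈ Ideal.span {t k (s + 1 + 1) ^ (s + 1)} := by
      have h2 : ψ y ∈ Ideal.map ψ (maximalIdeal R ^ (s + 1)) := Ideal.mem_map_of_mem ψ hy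
      rw [Ideal.map_pow] at h2
      have h3 := Ideal.pow_right_mono hm (s + 1) h2
      rwa [Ideal.span_singleton_pow] at h3
    obtain ⟨b, hb⟩ := Ideal.mem_span_singleton'.mp h1
    rw [← hb, mul_left_comm, htt, mul_zero]
  have haug : ∀ a : R, aug k (s + 1 + 1) (by omega) (ψ a) = ρ a := by
    intro a
    have h := (mem_maximalIdeal_iff_algHom k ((aug k (s + 1 + 1) (by omega)).comp ψ)
      (a - algebraMap k R (ρ a))).mp (sub_algebraMap_mem k ρ a)
    rw [AlgHom.comp_apply, map_sub, map_sub, AlgHom.commutes, AlgHom.commutes,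
      Algebra.algebraMap_self, RingHom.id_apply, sub_eq_zero] at h
    exact h
  have hmono : ∀ u ∈ D r s, t k (s + 1 + 1) * ψ (c u * xx x u) =
      (ρ (c u) * u.prod fun i e => v i ^ e) • t k (s + 1 + 1) ^ (s + 1) := by
    intro u hu
    have hsum : ∑ i, u i = s := mem_D.mp hu
    have h1 : ψ (xx x u) = t k (s + 1 + 1) ^ s * ∏ i, w i ^ u i := by
      rw [xx, Finsupp.prod_fintype _ _ (fun i => pow_zero _), map_prod]
      simp_rw [map_pow, hδ', mul_pow]
      rw [Finset.prod_mul_distrib, Finset.prod_pow_eq_pow_sum, hsum]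
    rw [map_mul, h1]
    have h2 : t k (s + 1 + 1) * (ψ (c u) * (t k (s + 1 + 1) ^ s * ∏ i, w i ^ u i)) =
        (ψ (c u) * ∏ i, w i ^ u i) * t k (s + 1 + 1) ^ (s + 1) := by
      rw [pow_succ (t k (s + 1 + 1)) s]; ring
    rw [h2, mul_t_pow k (s + 1)]
    congr 1
    rw [map_mul, haug, map_prod, Finsupp.prod_fintype _ _ (fun i => pow_zero _)]
    congr 1
    refine Finset.prod_congr rfl fun i _ => ?_
    rw [map_pow, haugw]
  have hsum : t k (s + 1 + 1) * ψ (∑ u ∈ D r s, c u * xx x u) =
      (MvPolynomial.eval v F) • t k (s + 1 + 1) ^ (s + 1) := by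
    rw [map_sum, Finset.mul_sum, Finset.sum_congr rfl hmono, ← Finset.sum_smul, hF, map_sum]
    congr 1
    refine Finset.sum_congr rfl fun u _ => ?_
    rw [MvPolynomial.eval_monomial]
  have h0 := hkill _ hrel
  rw [hsum] at h0
  exact hv (smul_t_pow_eq_zero k (s + 1 + 1) (s + 1) (by omega) _ h0)

include H ρ in
theorem isRegularLocalRing_of_lift [Infinite k] : IsRegularLocalRing R := by
  obtain ⟨x, hx⟩ := Groth.Agent.Lead.Hom.exists_generators_maximalIdeal (R := R)
  have hG : ∀ j, Module.length R (G (maximalIdeal R) j) =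
      ((D (maximalIdeal R).spanFinrank j).card : ℕ∞) := by
    intro j
    by_contra hne
    have hlt := lt_of_le_of_ne (length_G_le_card x hx j) hne
    obtain ⟨c, hu, hrel⟩ := exists_relation x hx j hlt
    exact no_relation k ρ H x hx rfl j c hu hrel
  rw [isRegularLocalRing_iff_length]
  intro s
  rw [← spanFinrank_maximalIdeal_eq_finrank_cotangentSpace R, length_quot_pow_eq_sum]
  simp_rw [hG]
  rw [← Nat.cast_sum, sum_range_card_D, Nat.multichoose_eq]
  congr 2
  omega

end main

end Groth.Agent.Helper28.JetReg
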