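import Mathlib

/-!
# A triangulated category with a bounded t-structure is idempotent complete
(Le–Chen).  Direct proof avoiding the idempotent completion.
-/

open CategoryTheory Category Limits Pretriangulated Triangulated

namespace Groth.Agent.Helper28.Karoubi

universe u v

variable {C : Type u} [Category.{v} C] [Preadditive C]
    [HasZeroObject C] [HasShift C ℤ] [∀ n : ℤ, (shiftFunctor C n).Additive] [Pretriangulated C]

/-- The idempotent `e` splits. -/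
def Splits {X : C} (e : X ⟶ X) : Prop :=
  ∃ (A : C) (i : A ⟶ X) (p : X ⟶ A), i ≫ p = 𝟙 A ∧ p ≫ i = e

/-- An endomorphism of the middle term of a distinguished triangle which kills both
ends has square zero provided `Hom(X'[1], X'') = 0`. -/
lemma sq_zero_of_comp_zero (T : Triangle C) (hT : T ∈ distTriang C)
    (h0 : ∀ k : T.obj₁⟦(1 : ℤ)⟧ ⟶ T.obj₃, k = 0)
    (d : T.obj₂ ⟶ T.obj₂) (h1 : T.mor₁ ≫ d = 0) (h2 : d ≫ T.mor₂ = 0) :
    d ≫ d = 0 := by
  obtain ⟨g, hg⟩ := Triangle.yoneda_exact₂ T hT d h1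
  have h3 : T.mor₂ ≫ (g ≫ T.mor₂) = 0 := by
    rw [← Category.assoc, ← hg, h2]
  obtain ⟨k, hk⟩ := Triangle.yoneda_exact₃ T hT (g ≫ T.mor₂) h3
  rw [h0 k, comp_zero] at hk
  obtain ⟨h, hh⟩ := Triangle.coyoneda_exact₂ T hT g hk
  rw [hg, hh]
  simp only [Category.assoc]
  rw [comp_distTriang_mor_zero₁₂_assoc _ hT]
  simp

lemma isIso_of_sub_sq_zero {A : C} (x : A ⟶ A) (h : (x - 𝟙 A) ≫ (x - 𝟙 A) = 0) :
    ∃ y : A ⟶ A, x ≫ y = 𝟙 A ∧ y ≫ x = 𝟙 A ∧ y = 𝟙 A + 𝟙 A - x := by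
  have h' : x ≫ x = x + x - 𝟙 A := by
    simp only [Preadditive.sub_comp, Preadditive.comp_sub, Category.id_comp,
      Category.comp_id] at h
    have : x ≫ x - x - (x - 𝟙 A) = 0 := h
    rw [sub_eq_zero] at this
    rw [sub_eq_iff_eq_add] at this
    rw [this]; abel
  refine ⟨𝟙 A + 𝟙 A - x, ?_, ?_, rfl⟩
  · simp only [Preadditive.comp_sub, Preadditive.comp_add, Category.comp_id, h']
    abel
  · simp only [Preadditive.sub_comp, Preadditive.add_comp, Category.id_comp, h']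
    abel

/-- Splitting of idempotents is closed under "orthogonal" extensions. -/
lemma splits_of_triangle (T : Triangle C) (hT : T ∈ distTriang C)
    (h0 : ∀ k : T.obj₁⟦(1 : ℤ)⟧ ⟶ T.obj₃, k = 0)
    (φ : T ⟶ T) (he : φ.hom₂ ≫ φ.hom₂ = φ.hom₂)
    (h₁ : Splits φ.hom₁) (h₃ : Splits φ.hom₃) : Splits φ.hom₂ := by
  obtain ⟨A', i', p', hip', hpi'⟩ := h₁
  obtain ⟨A'', i'', p'', hip'', hpi''⟩ := h₃
  set e := φ.hom₂ with he_def
  set u := T.mor₁ with hu
  set v := T.mor₂ with hv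
  set w := T.mor₃ with hw
  have c1 : u ≫ e = φ.hom₁ ≫ u := φ.comm₁
  have c2 : v ≫ φ.hom₃ = e ≫ v := φ.comm₂
  have c3 : w ≫ φ.hom₁⟦(1 : ℤ)⟧' = φ.hom₃ ≫ w := φ.comm₃
  -- the triangle on `A`
  obtain ⟨A, a, b, hTA⟩ := distinguished_cocone_triangle₂ (i'' ≫ w ≫ p'⟦(1 : ℤ)⟧')
  have h0A : ∀ k : A'⟦(1 : ℤ)⟧ ⟶ A'', k = 0 := by
    intro k
    have : k = i'⟦(1 : ℤ)⟧' ≫ (p'⟦(1 : ℤ)⟧' ≫ k ≫ i'') ≫ p'' := by
      rw [Category.assoc, Category.assoc, hip'', Category.comp_id, ← Functor.map_comp_assoc, hip',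
        CategoryTheory.Functor.map_id, Category.id_comp]
    rw [this, h0 (p'⟦(1 : ℤ)⟧' ≫ k ≫ i''), zero_comp, comp_zero]
  -- α : A ⟶ X
  obtain ⟨α, hα1, hα2⟩ : ∃ α : A ⟶ T.obj₂, a ≫ α = i' ≫ u ∧ b ≫ i'' = α ≫ v :=
    complete_distinguished_triangle_morphism₂ _ T hTA hT i' i'' (by
    change (i'' ≫ w ≫ p'⟦(1 : ℤ)⟧') ≫ i'⟦(1 : ℤ)⟧' = i'' ≫ w
    simp only [Category.assoc]
    rw [← Functor.map_comp, hpi', c3, ← Category.assoc, ← hpi'', Category.assoc, Category.assoc,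
      reassoc_of% hip''])
  -- β : X ⟶ A
  obtain ⟨β, hβ1, hβ2⟩ : ∃ β : T.obj₂ ⟶ A, u ≫ β = p' ≫ a ∧ v ≫ p'' = β ≫ b :=
    complete_distinguished_triangle_morphism₂ T _ hT hTA p' p'' (by
    change w ≫ p'⟦(1 : ℤ)⟧' = p'' ≫ (i'' ≫ w ≫ p'⟦(1 : ℤ)⟧')
    rw [reassoc_of% hpi'', ← reassoc_of% c3, ← Functor.map_comp, ← hpi', Category.assoc, hip',
      Category.comp_id])
  have hx1 : a ≫ (α ≫ e ≫ β) = a := by
    rw [reassoc_of% hα1, reassoc_of% c1, hβ1, ← hpi', Category.assoc, reassoc_of% hip',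
      reassoc_of% hip']
  have hx2 : (α ≫ e ≫ β) ≫ b = b := by
    simp only [Category.assoc]
    rw [← hβ2, ← reassoc_of% c2, ← reassoc_of% hα2, ← hpi'', Category.assoc, hip'',
      Category.comp_id, hip'', Category.comp_id]
  obtain ⟨γ, hγ1, hγ2, hγ3⟩ := isIso_of_sub_sq_zero (α ≫ e ≫ β)
    (sq_zero_of_comp_zero _ hTA h0A _ (by
      change a ≫ (α ≫ e ≫ β - 𝟙 A) = 0
      rw [Preadditive.comp_sub, hx1, Category.comp_id, sub_self]) (by
      change (α ≫ e ≫ β - 𝟙 A) ≫ b = 0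
      rw [Preadditive.sub_comp, hx2, Category.id_comp, sub_self]))
  have hγa : a ≫ γ = a := by
    rw [hγ3, Preadditive.comp_sub, Preadditive.comp_add, Category.comp_id, hx1]; abel
  have hγb : γ ≫ b = b := by
    rw [hγ3, Preadditive.sub_comp, Preadditive.add_comp, Category.id_comp, hx2]; abel
  -- the candidate splitting
  have hιπ : (γ ≫ α ≫ e) ≫ (e ≫ β) = 𝟙 A := by
    simp only [Category.assoc]
    rw [reassoc_of% he]
    exact hγ2
  refine ⟨A, γ ≫ α ≫ e, e ≫ β, hιπ, ?_⟩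
  set f := (e ≫ β) ≫ (γ ≫ α ≫ e) with hf
  have hff : f ≫ f = f := by
    rw [hf]
    simp only [Category.assoc]
    simp only [Category.assoc] at hιπ
    rw [reassoc_of% hιπ]
  have hef : e ≫ f = f := by
    rw [hf]; simp only [Category.assoc]; rw [reassoc_of% he]
  have hfe : f ≫ e = f := by
    rw [hf]; simp only [Category.assoc]; rw [he]
  have hidem' : φ.hom₁ ≫ φ.hom₁ = φ.hom₁ := by
    rw [← hpi', Category.assoc, reassoc_of% hip']
  have hidem'' : φ.hom₃ ≫ φ.hom₃ = φ.hom₃ := by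
    rw [← hpi'', Category.assoc, reassoc_of% hip'']
  have huf : u ≫ f = u ≫ e := by
    rw [hf]
    simp only [Category.assoc]
    rw [reassoc_of% c1, reassoc_of% hβ1, reassoc_of% hγa, reassoc_of% hα1, reassoc_of% hpi', c1,
      reassoc_of% hidem', reassoc_of% hidem']
  have hfv : f ≫ v = e ≫ v := by
    rw [hf]
    simp only [Category.assoc]
    rw [← c2, ← reassoc_of% hα2, reassoc_of% hγb, ← reassoc_of% hβ2, reassoc_of% hpi'',
      hidem'', ← reassoc_of% c2, hidem'']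
  have hd : (e - f) ≫ (e - f) = 0 :=
    sq_zero_of_comp_zero T hT h0 (e - f)
      (by change u ≫ (e - f) = 0; rw [Preadditive.comp_sub, huf, sub_self])
      (by change (e - f) ≫ v = 0; rw [Preadditive.sub_comp, hfv, sub_self])
  have hd' : (e - f) ≫ (e - f) = e - f := by
    simp only [Preadditive.sub_comp, Preadditive.comp_sub, he, hef, hfe, hff]
    abel
  rw [hd'] at hd
  exact (sub_eq_zero.mp hd).symm

variable [IsTriangulated C] (t : TStructure C)

/-- In a "shifted heart" the complement of an idempotent splits. -/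
lemma splits_one_sub_of_heart (a : ℤ) (X : C) [t.IsLE X a] [t.IsGE X a]
    (e : X ⟶ X) (he : e ≫ e = e) : Splits (𝟙 X - e) := by
  obtain ⟨Cn, c, δ, hT⟩ := distinguished_cocone_triangle e
  have h1 : e ≫ (𝟙 X - e) = 0 := by
    rw [Preadditive.comp_sub, Category.comp_id, he, sub_self]
  obtain ⟨g, hg⟩ : ∃ g : Cn ⟶ X, 𝟙 X - e = c ≫ g := Triangle.yoneda_exact₂ _ hT (𝟙 X - e) h1
  have hec : e ≫ c = 0 := comp_distTriang_mor_zero₁₂ _ hT
  obtain ⟨π, hπ⟩ : ∃ π : Cn ⟶ (t.truncGE a).obj Cn, π = (t.truncGEπ a).app Cn := ⟨_, rfl⟩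
  have hπg : π ≫ t.descTruncGE g a = g := by rw [hπ]; exact t.π_descTruncGE g a
  refine ⟨(t.truncGE a).obj Cn, t.descTruncGE g a, c ≫ π, ?_, ?_⟩
  · apply t.from_truncGE_obj_ext
    rw [Category.comp_id, ← hπ, reassoc_of% hπg]
    -- `g ≫ c ≫ π = π`
    have h2 : c ≫ (g ≫ c ≫ π - π) = 0 := by
      rw [Preadditive.comp_sub, ← Category.assoc, ← hg, Preadditive.sub_comp, Category.id_comp,
        reassoc_of% hec]
      simp
    obtain ⟨ψ, hψ⟩ : ∃ ψ : X⟦(1 : ℤ)⟧ ⟶ (t.truncGE a).obj Cn, g ≫ c ≫ π - π = δ ≫ ψ :=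
      Triangle.yoneda_exact₃ _ hT _ h2
    have hψ0 : ψ = 0 := by
      have : t.IsLE (X⟦(1 : ℤ)⟧) (a - 1) := t.isLE_shift X a 1 (a - 1) (by lia)
      exact t.zero_of_isLE_of_isGE ψ (a - 1) a (by lia) this inferInstance
    rw [hψ0, comp_zero, sub_eq_zero] at hψ
    exact hψ
  · rw [Category.assoc, hπg, hg]

lemma splits_of_heart (a : ℤ) (X : C) [t.IsLE X a] [t.IsGE X a]
    (e : X ⟶ X) (he : e ≫ e = e) : Splits e := by
  have h : (𝟙 X - e) ≫ (𝟙 X - e) = 𝟙 X - e := by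
    simp only [Preadditive.sub_comp, Preadditive.comp_sub, Category.id_comp, Category.comp_id, he]
    abel
  have := splits_one_sub_of_heart t a X (𝟙 X - e) h
  rwa [sub_sub_cancel] at this

lemma splits_of_bounds (n : ℕ) : ∀ (a b : ℤ) (_ : b ≤ a + n) (X : C) (_ : t.IsGE X a)
    (_ : t.IsLE X b) (e : X ⟶ X) (_ : e ≫ e = e), Splits e := by
  induction n with
  | zero =>
    intro a b hab X hXa hXb e he
    have : t.IsLE X a := t.isLE_of_le X b a (by simpa using hab)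
    exact splits_of_heart t a X e he
  | succ n ih =>
    intro a b hab X hXa hXb e he
    have hT := t.triangleLTGE_distinguished (a + 1) X
    have hA1 : t.IsGE ((t.truncLT (a + 1)).obj X) a := inferInstance
    have hA2 : t.IsLE ((t.truncLT (a + 1)).obj X) a := inferInstance
    have hB1 : t.IsGE ((t.truncGE (a + 1)).obj X) (a + 1) := inferInstance
    have hB2 : t.IsLE ((t.truncGE (a + 1)).obj X) b := inferInstance
    have h0 : ∀ k : ((t.truncLT (a + 1)).obj X)⟦(1 : ℤ)⟧ ⟶ (t.truncGE (a + 1)).obj X, k = 0 := by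
      intro k
      have h1 : t.IsLE (((t.truncLT (a + 1)).obj X)⟦(1 : ℤ)⟧) (a - 1) :=
        t.isLE_shift _ a 1 (a - 1) (by lia)
      exact t.zero_of_isLE_of_isGE k (a - 1) (a + 1) (by lia) h1 hB1
    have s1 : Splits ((t.truncLT (a + 1)).map e) :=
      ih a a (by lia) _ hA1 hA2 _ (by rw [← Functor.map_comp, he])
    have s3 : Splits ((t.truncGE (a + 1)).map e) :=
      ih (a + 1) b (by push_cast at hab; lia) _ hB1 hB2 _ (by rw [← Functor.map_comp, he])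
    exact splits_of_triangle _ hT h0 ((t.triangleLTGE (a + 1)).map e) he s1 s3

theorem isIdempotentComplete_of_bounded (hb : ∀ X : C, t.bounded X) :
    IsIdempotentComplete C := by
  refine ⟨fun X e he => ?_⟩
  obtain ⟨⟨a, ha⟩, ⟨b, hb'⟩⟩ := hb X
  have hn : b ≤ a + ((b - a).toNat : ℤ) := by
    have := Int.self_le_toNat (b - a)
    lia
  exact splits_of_bounds t _ a b hn X ha hb' e he

end Groth.Agent.Helper28.Karoubi
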