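import Mathlib
import Groth.Prelude.Def_W4c4cptpiccptjacBI
set_option autoImplicit false
universe u
open LabGraph

namespace Groth.Agent.Helper28.LabGraphLib

variable {V E : Type u} [Fintype V] [Fintype E] [DecidableEq V] [DecidableEq E]
variable (ends : E → V × V) (w : V → ℕ)

lemma sum_endCount : ∑ v, (endCount ends Finset.univ v : ℤ) = 2 * (Fintype.card E : ℤ) := by
  unfold endCount
  push_cast
  rw [Finset.sum_comm]
  simp only [Finset.sum_add_distrib, Finset.sum_ite_eq, Finset.mem_univ, if_true]
  simp
  ring

lemma canDeg_univ : canDeg ends w Finset.univ = 2 * genus ends w - 2 := by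
  unfold canDeg genus
  rw [Finset.sum_add_distrib, Finset.sum_sub_distrib, sum_endCount, ← Finset.mul_sum]
  simp
  ring

lemma endCount_of_exc {v : V} (h : IsExceptional ends w v) : endCount ends Finset.univ v = 2 := by
  obtain ⟨_, hloop, hcut⟩ := h
  rw [← hcut]
  unfold endCount cut
  rw [Finset.card_filter]
  apply Finset.sum_congr rfl
  intro e _
  by_cases h1 : (ends e).1 = v
  · by_cases h2 : (ends e).2 = v
    · exact absurd (Prod.ext h1 h2) (hloop e)
    · simp [h1, h2]
  · by_cases h2 : (ends e).2 = v
    · simp [h1, h2]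
    · simp [h1, h2]

lemma canTerm_of_exc {v : V} (h : IsExceptional ends w v) :
    2 * (w v : ℤ) - 2 + (endCount ends Finset.univ v : ℤ) = 0 := by
  rw [endCount_of_exc ends w h, h.1]
  simp


/-- the cut predicate -/
def cutP (Z : Finset V) (e : E) : Prop :=
  ((ends e).1 ∈ Z ∧ (ends e).2 ∉ Z) ∨ ((ends e).1 ∉ Z ∧ (ends e).2 ∈ Z)

instance (Z : Finset V) : DecidablePred (cutP ends Z) := fun e => by unfold cutP; infer_instance

lemma cut_eq (Z : Finset V) : cut ends Z = (Finset.univ.filter (cutP ends Z)).card := by
  unfold cut cutP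
  congr

variable (S : Finset V)

/-- the `S`-end of an edge -/
def sEnd (e : E) : Option V :=
  if (ends e).1 ∈ S then some (ends e).1 else if (ends e).2 ∈ S then some (ends e).2 else none

/-- the completed set -/
def hat (W : Finset V) : Finset V :=
  Finset.univ.filter (fun v : V => v ∈ W ∨ (v ∈ S ∧ ∀ e : E,
    ((ends e).1 = v → (ends e).2 ∈ W) ∧ ((ends e).2 = v → (ends e).1 ∈ W)))

variable {ends w S}

lemma noSS (hq : IsQuasistableGraph ends w) (hS : ∀ v ∈ S, IsExceptional ends w v) (e : E) :
    ¬ ((ends e).1 ∈ S ∧ (ends e).2 ∈ S) := by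
  rintro ⟨h1, h2⟩
  by_cases heq : (ends e).1 = (ends e).2
  · exact (hS _ h1).2.1 e (Prod.ext rfl heq.symm)
  · exact hq.2 e heq ⟨hS _ h1, hS _ h2⟩

lemma sEnd_none {e : E} (h : sEnd ends S e = none) : (ends e).1 ∉ S ∧ (ends e).2 ∉ S := by
  unfold sEnd at h
  by_cases h1 : (ends e).1 ∈ S
  · simp [h1] at h
  · by_cases h2 : (ends e).2 ∈ S
    · simp [h1, h2] at h
    · exact ⟨h1, h2⟩

lemma sEnd_some (hq : IsQuasistableGraph ends w) (hS : ∀ v ∈ S, IsExceptional ends w v)
    {e : E} {v : V} (h : sEnd ends S e = some v) :
    v ∈ S ∧ (((ends e).1 = v ∧ (ends e).2 ∉ S) ∨ ((ends e).2 = v ∧ (ends e).1 ∉ S)) := by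
  unfold sEnd at h
  by_cases h1 : (ends e).1 ∈ S
  · simp only [h1, if_true, Option.some.injEq] at h
    subst h
    exact ⟨h1, Or.inl ⟨rfl, fun h2 => noSS hq hS e ⟨h1, h2⟩⟩⟩
  · by_cases h2 : (ends e).2 ∈ S
    · simp only [h1, h2, if_true, if_false, Option.some.injEq] at h
      subst h
      exact ⟨h2, Or.inr ⟨rfl, h1⟩⟩
    · simp [h1, h2] at h

lemma sEnd_of_end (hq : IsQuasistableGraph ends w) (hS : ∀ v ∈ S, IsExceptional ends w v)
    {e : E} {v : V} (hv : v ∈ S) (h : (ends e).1 = v ∨ (ends e).2 = v) :
    sEnd ends S e = some v := by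
  unfold sEnd
  rcases h with h | h
  · rw [if_pos (by rw [h]; exact hv), h]
  · have : (ends e).1 ∉ S := fun h1 => noSS hq hS e ⟨h1, by rw [h]; exact hv⟩
    rw [if_neg this, if_pos (by rw [h]; exact hv), h]

lemma mem_hat_of_notMem {W : Finset V} (hW : Disjoint W S) {u : V} (hu : u ∉ S) :
    u ∈ hat ends S W ↔ u ∈ W := by
  unfold hat
  simp only [Finset.mem_filter, Finset.mem_univ, true_and]
  constructor
  · rintro (h | ⟨h, -⟩)
    · exact h
    · exact absurd h hu
  · exact fun h => Or.inl h

lemma card_fiber (hq : IsQuasistableGraph ends w) (hS : ∀ v ∈ S, IsExceptional ends w v)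
    {v : V} (hv : v ∈ S) : (Finset.univ.filter (fun e => sEnd ends S e = some v)).card = 2 := by
  have h := (hS v hv).2.2
  rw [← h, cut]
  congr 1
  ext e
  simp only [Finset.mem_filter, Finset.mem_univ, true_and, Finset.mem_singleton]
  constructor
  · intro he
    obtain ⟨-, h1 | h1⟩ := sEnd_some hq hS he
    · left
      refine ⟨h1.1, fun h2 => h1.2 (by rw [h2]; exact hv)⟩
    · right
      refine ⟨fun h2 => h1.2 (by rw [h2]; exact hv), h1.1⟩
  · rintro (⟨h1, -⟩ | ⟨-, h2⟩)
    · exact sEnd_of_end hq hS hv (Or.inl h1)
    · exact sEnd_of_end hq hS hv (Or.inr h2)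


/-- the end of `e` other than `v` -/
def oe (ends : E → V × V) (v : V) (e : E) : V := if (ends e).1 = v then (ends e).2 else (ends e).1

lemma fiber_props (hq : IsQuasistableGraph ends w) (hS : ∀ v ∈ S, IsExceptional ends w v)
    {e : E} {v : V} (h : sEnd ends S e = some v) :
    oe ends v e ∉ S ∧ ∀ Z : Finset V, cutP ends Z e ↔
      ((v ∈ Z ∧ oe ends v e ∉ Z) ∨ (v ∉ Z ∧ oe ends v e ∈ Z)) := by
  obtain ⟨hv, h1 | h1⟩ := sEnd_some hq hS h
  · have : oe ends v e = (ends e).2 := by unfold oe; rw [if_pos h1.1]
    rw [this]
    refine ⟨h1.2, fun Z => ?_⟩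
    unfold cutP
    rw [h1.1]
  · have hne : (ends e).1 ≠ v := fun h2 => h1.2 (by rw [h2]; exact hv)
    have : oe ends v e = (ends e).1 := by unfold oe; rw [if_neg hne]
    rw [this]
    refine ⟨h1.2, fun Z => ?_⟩
    unfold cutP
    rw [h1.1]
    tauto

theorem cut_hat_le (hq : IsQuasistableGraph ends w) (hS : ∀ v ∈ S, IsExceptional ends w v)
    (Y : Finset V) :
    cut ends (hat ends S (Y.filter (· ∉ S))) ≤ cut ends Y := by
  set W := Y.filter (· ∉ S) with hWdef
  have hWS : Disjoint W S := by
    rw [Finset.disjoint_left]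
    intro u hu
    exact (Finset.mem_filter.mp hu).2
  have hWY : ∀ u, u ∉ S → (u ∈ W ↔ u ∈ Y) := by
    intro u hu
    simp [W, hu]
  have hWsub : ∀ u, u ∈ W → u ∉ S := fun u hu => (Finset.mem_filter.mp hu).2
  rw [cut_eq, cut_eq]
  rw [Finset.card_eq_sum_card_fiberwise (s := Finset.univ.filter (cutP ends (hat ends S W)))
      (f := sEnd ends S) (t := Finset.univ) (fun _ _ => Finset.mem_univ _),
    Finset.card_eq_sum_card_fiberwise (s := Finset.univ.filter (cutP ends Y))
      (f := sEnd ends S) (t := Finset.univ) (fun _ _ => Finset.mem_univ _)]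
  apply Finset.sum_le_sum
  intro o _
  cases o with
  | none =>
    apply Finset.card_le_card
    intro e he
    simp only [Finset.mem_filter, Finset.mem_univ, true_and] at he ⊢
    obtain ⟨hc, hn⟩ := he
    refine ⟨?_, hn⟩
    obtain ⟨h1, h2⟩ := sEnd_none hn
    unfold cutP at hc ⊢
    rw [mem_hat_of_notMem hWS h1, mem_hat_of_notMem hWS h2, hWY _ h1, hWY _ h2] at hc
    exact hc
  | some v =>
    by_cases hv : v ∈ S
    swap
    · have hemp : (Finset.univ.filter (cutP ends (hat ends S W))).filter
          (fun e => sEnd ends S e = some v) = ∅ := by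
        rw [Finset.filter_eq_empty_iff]
        intro e _ he
        exact hv (sEnd_some hq hS he).1
      rw [hemp]
      exact Nat.zero_le _
    · by_cases hvh : v ∈ hat ends S W
      · -- every edge at v has other end in W; nothing is cut
        have hcond : ∀ e : E, ((ends e).1 = v → (ends e).2 ∈ W) ∧ ((ends e).2 = v → (ends e).1 ∈ W) := by
          unfold hat at hvh
          simp only [Finset.mem_filter, Finset.mem_univ, true_and] at hvh
          rcases hvh with h | h
          · exact absurd hv (hWsub v h)
          · exact h.2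
        have hemp : (Finset.univ.filter (cutP ends (hat ends S W))).filter
            (fun e => sEnd ends S e = some v) = ∅ := by
          rw [Finset.filter_eq_empty_iff]
          intro e he hse
          simp only [Finset.mem_filter, Finset.mem_univ, true_and] at he
          obtain ⟨hoS, hiff⟩ := fiber_props hq hS hse
          have hoW : oe ends v e ∈ W := by
            obtain ⟨-, h1 | h1⟩ := sEnd_some hq hS hse
            · unfold oe; rw [if_pos h1.1]; exact (hcond e).1 h1.1
            · have hne : (ends e).1 ≠ v := fun h2 => h1.2 (by rw [h2]; exact hv)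
              unfold oe; rw [if_neg hne]; exact (hcond e).2 h1.1
          have := (hiff (hat ends S W)).mp he
          rw [mem_hat_of_notMem hWS hoS] at this
          rcases this with ⟨-, h⟩ | ⟨h, -⟩
          · exact h hoW
          · exact h hvh
        rw [hemp]
        exact Nat.zero_le _
      · -- v ∉ hat W
        have hex : ∃ e₀ : E, sEnd ends S e₀ = some v ∧ oe ends v e₀ ∉ W := by
          have hvh' : ¬ ∀ e : E, ((ends e).1 = v → (ends e).2 ∈ W) ∧
              ((ends e).2 = v → (ends e).1 ∈ W) := by
            intro hall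
            apply hvh
            unfold hat
            simp only [Finset.mem_filter, Finset.mem_univ, true_and]
            exact Or.inr ⟨hv, hall⟩
          obtain ⟨e, he⟩ := not_forall.mp hvh'
          by_cases h1 : (ends e).1 = v
          · by_cases h2 : (ends e).2 ∈ W
            · have h3 : (ends e).2 = v := by
                by_contra h3
                exact he ⟨fun _ => h2, fun h4 => absurd h4 h3⟩
              exact absurd ⟨by rw [h1]; exact hv, by rw [h3]; exact hv⟩ (noSS hq hS e)
            · refine ⟨e, sEnd_of_end hq hS hv (Or.inl h1), ?_⟩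
              unfold oe; rw [if_pos h1]; exact h2
          · have h3 : (ends e).2 = v ∧ (ends e).1 ∉ W := by
              by_contra h3
              apply he
              refine ⟨fun h4 => absurd h4 h1, fun h4 => ?_⟩
              by_contra h5
              exact h3 ⟨h4, h5⟩
            refine ⟨e, sEnd_of_end hq hS hv (Or.inr h3.1), ?_⟩
            unfold oe; rw [if_neg h1]; exact h3.2
        by_cases hvY : v ∈ Y
        · -- complementary subsets of a 2-element set, the second nonempty
          obtain ⟨e₀, he₀, he₀W⟩ := hex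
          set B := Finset.univ.filter (fun e => sEnd ends S e = some v) with hB
          have hBcard : B.card = 2 := card_fiber hq hS hv
          have h1 : (Finset.univ.filter (cutP ends (hat ends S W))).filter
              (fun e => sEnd ends S e = some v) = B.filter (fun e => oe ends v e ∈ W) := by
            ext e
            simp only [Finset.mem_filter, Finset.mem_univ, true_and, B]
            constructor
            · rintro ⟨hc, hse⟩
              refine ⟨hse, ?_⟩
              obtain ⟨hoS, hiff⟩ := fiber_props hq hS hse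
              have := (hiff (hat ends S W)).mp hc
              rw [mem_hat_of_notMem hWS hoS] at this
              rcases this with ⟨h, -⟩ | ⟨-, h⟩
              · exact absurd h hvh
              · exact h
            · rintro ⟨hse, ho⟩
              refine ⟨?_, hse⟩
              obtain ⟨hoS, hiff⟩ := fiber_props hq hS hse
              rw [hiff, mem_hat_of_notMem hWS hoS]
              exact Or.inr ⟨hvh, ho⟩
          have h2 : (Finset.univ.filter (cutP ends Y)).filter
              (fun e => sEnd ends S e = some v) = B.filter (fun e => ¬ oe ends v e ∈ W) := by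
            ext e
            simp only [Finset.mem_filter, Finset.mem_univ, true_and, B]
            constructor
            · rintro ⟨hc, hse⟩
              refine ⟨hse, ?_⟩
              obtain ⟨hoS, hiff⟩ := fiber_props hq hS hse
              have := (hiff Y).mp hc
              rw [hWY _ hoS]
              rcases this with ⟨-, h⟩ | ⟨h, -⟩
              · exact h
              · exact absurd hvY h
            · rintro ⟨hse, ho⟩
              refine ⟨?_, hse⟩
              obtain ⟨hoS, hiff⟩ := fiber_props hq hS hse
              rw [hiff]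
              rw [hWY _ hoS] at ho
              exact Or.inl ⟨hvY, ho⟩
          rw [h1, h2]
          have hsum := Finset.card_filter_add_card_filter_not (s := B) (fun e => oe ends v e ∈ W)
          have hpos : 0 < (B.filter (fun e => ¬ oe ends v e ∈ W)).card := by
            rw [Finset.card_pos]
            exact ⟨e₀, by simp only [Finset.mem_filter, Finset.mem_univ, true_and, B]; exact ⟨he₀, he₀W⟩⟩
          omega
        · -- v ∉ Y: the two cut sets agree
          apply Finset.card_le_card
          intro e he
          simp only [Finset.mem_filter, Finset.mem_univ, true_and] at he ⊢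
          obtain ⟨hc, hse⟩ := he
          refine ⟨?_, hse⟩
          obtain ⟨hoS, hiff⟩ := fiber_props hq hS hse
          have := (hiff (hat ends S W)).mp hc
          rw [mem_hat_of_notMem hWS hoS] at this
          rw [hiff]
          rcases this with ⟨h, -⟩ | ⟨-, h⟩
          · exact absurd h hvh
          · exact Or.inr ⟨hvY, (hWY _ hoS).mp h⟩


lemma canDeg_filter (hS : ∀ v ∈ S, IsExceptional ends w v) (Z : Finset V) :
    canDeg ends w Z = canDeg ends w (Z.filter (· ∉ S)) := by
  unfold canDeg
  rw [Finset.sum_filter]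
  apply Finset.sum_congr rfl
  intro v _
  by_cases hv : v ∈ S
  · rw [if_neg (not_not.mpr hv), canTerm_of_exc ends w (hS v hv)]
  · rw [if_pos hv]

lemma hat_filter {W : Finset V} (hW : Disjoint W S) : (hat ends S W).filter (· ∉ S) = W := by
  ext u
  simp only [Finset.mem_filter]
  constructor
  · rintro ⟨h1, h2⟩
    exact (mem_hat_of_notMem hW h2).mp h1
  · intro h
    have hu : u ∉ S := Finset.disjoint_left.mp hW h
    exact ⟨(mem_hat_of_notMem hW hu).mpr h, hu⟩

theorem main (hZ : IsQuasistableGraph ends w)
    (hg : 2 ≤ genus ends w) (hS : ∀ v ∈ S, IsExceptional ends w v)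
    (dt : V → ℤ) (hzero : ∀ v ∈ S, dt v = 0)
    (hBI : ∀ W : Finset V, Disjoint W S →
      2 * |canDeg ends w Finset.univ * (∑ v ∈ W, dt v) - (∑ v, dt v) * canDeg ends w (hat ends S W)|
        ≤ (cut ends (hat ends S W) : ℤ) * canDeg ends w Finset.univ) :
    SatisfiesBI ends w dt := by
  intro Y
  have hWS : Disjoint (Y.filter (· ∉ S)) S := by
    rw [Finset.disjoint_left]
    intro u hu
    exact (Finset.mem_filter.mp hu).2
  have h1 := hBI (Y.filter (· ∉ S)) hWS
  have hsum : ∑ v ∈ Y, dt v = ∑ v ∈ Y.filter (· ∉ S), dt v := by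
    rw [Finset.sum_filter]
    apply Finset.sum_congr rfl
    intro v _
    by_cases hv : v ∈ S
    · rw [if_neg (not_not.mpr hv), hzero v hv]
    · rw [if_pos hv]
  have hcan : canDeg ends w Y = canDeg ends w (hat ends S (Y.filter (· ∉ S))) := by
    rw [canDeg_filter hS Y, canDeg_filter hS (hat ends S (Y.filter (· ∉ S))), hat_filter hWS]
  have hK : 0 ≤ canDeg ends w Finset.univ := by rw [canDeg_univ]; linarith
  have hcut := cut_hat_le hZ hS Y
  rw [hsum, hcan]
  refine h1.trans (mul_le_mul_of_nonneg_right ?_ hK)
  exact_mod_cast hcut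

end Groth.Agent.Helper28.LabGraphLib
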