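import Mathlib
import Groth.Agent.Lib.Helper28.EffCartierOld
import Groth.Agent.Lib.Helper28.IdealComapOld
import Groth.Agent.Lib.Helper28.EqLocus
set_option autoImplicit false
universe u
open CategoryTheory CategoryTheory.Limits AlgebraicGeometry TopologicalSpace

/-!
Effective Cartier ideals and cofiltered limits of schemes with affine transition maps.
-/

namespace Groth.Agent.Helper28.LimCartier

/-- a generator of an effective Cartier ideal on an affine open is a nonzerodivisor -/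
lemma nzd_of_span_eq {X : Scheme.{u}} (I : X.IdealSheafData) (hI : BlowUp.IsEffCartierIdeal I)
    (W : X.affineOpens) (r : Γ(X, W.1)) (h : I.ideal W = Ideal.span {r}) :
    r ∈ nonZeroDivisors Γ(X, W.1) := by
  rw [mem_nonZeroDivisors_iff_right]
  intro z hz
  have key : ∀ x : W.1, ∃ N : X.Opens, ∃ hN : N ≤ W.1, x.1 ∈ N ∧
      X.presheaf.map (homOfLE hN).op z = 0 := by
    intro ⟨x, hx⟩
    obtain ⟨U, hxU, hUW, t, ht, hIt⟩ :=
      Groth.Agent.Helper28.EffCartierOld.exists_chart_le hI x W.1 hx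
    refine ⟨U.1, hUW, hxU, ?_⟩
    have e : U ≤ W := hUW
    have h1 : I.ideal U = Ideal.span {(X.presheaf.map (homOfLE hUW).op).hom r} := by
      rw [← I.map_ideal e, h, Ideal.map_span, Set.image_singleton]
      rfl
    have h2 : (X.presheaf.map (homOfLE hUW).op).hom r ∈ nonZeroDivisors Γ(X, U.1) :=
      Groth.Agent.Helper28.EqLocus.mem_nonZeroDivisors_of_span_eq ht (h1.symm.trans hIt)
    have h3 : (X.presheaf.map (homOfLE hUW).op).hom z *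
        (X.presheaf.map (homOfLE hUW).op).hom r = 0 := by
      rw [← map_mul, hz, map_zero]
    exact (mem_nonZeroDivisors_iff_right.mp h2) _ h3
  choose N hN hxN hres using key
  apply X.sheaf.eq_of_locally_eq' N W.1 (fun x => homOfLE (hN x))
  · intro x hx
    exact TopologicalSpace.Opens.mem_iSup.mpr ⟨⟨x, hx⟩, hxN ⟨x, hx⟩⟩
  · intro x
    change X.presheaf.map _ _ = X.presheaf.map _ _
    rw [hres x, map_zero]

lemma res_injective_of_eq {X : Scheme.{u}} {U V : X.Opens} (h : U = V) (e : U ≤ V) :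
    Function.Injective (X.presheaf.map (homOfLE e).op).hom := by
  subst h
  have : homOfLE e = 𝟙 U := Subsingleton.elim _ _
  rw [this, op_id, X.presheaf.map_id]
  exact fun _ _ h => h

lemma appLE_eq_of_eq {X Y : Scheme.{u}} {f g : X ⟶ Y} (h : f = g) (U : Y.Opens) (V : X.Opens)
    (e : V ≤ f ⁻¹ᵁ U) (e' : V ≤ g ⁻¹ᵁ U) : f.appLE U V e = g.appLE U V e' := by
  subst h; rfl

variable {I : Type u} [Category.{u} I] [IsCofiltered I] (D : I ⥤ Scheme.{u})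
  (c : Cone D) (hc : IsLimit c) [∀ {i j} (f : i ⟶ j), IsAffineHom (D.map f)]

include hc in
/-- sections of the limit over the preimage of an affine open come from some stage -/
lemma exists_lift_appLE (i : I) (V : (D.obj i).Opens) (hV : IsAffineOpen V)
    (b : Γ(c.pt, c.π.app i ⁻¹ᵁ V)) :
    ∃ (j : I) (f : j ⟶ i) (s : Γ(D.obj j, D.map f ⁻¹ᵁ V)),
      ((c.π.app j).appLE (D.map f ⁻¹ᵁ V) (c.π.app i ⁻¹ᵁ V)
        (by rw [← Scheme.Hom.comp_preimage, c.w])).hom s = b := by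
  have hA (j : Over i) : IsAffine ((opensDiagram D i V).obj j) := hV.preimage (D.map j.hom)
  obtain ⟨k, t', h⟩ := exists_appTop_π_eq_of_isAffine_of_isLimit (opensDiagram D i V)
    (opensCone D c i V) (isLimitOpensCone D c hc i V) ((c.π.app i ⁻¹ᵁ V).topIso.inv.hom b)
  have ek : c.π.app i ⁻¹ᵁ V ≤ c.π.app k.left ⁻¹ᵁ (D.map k.hom ⁻¹ᵁ V) := by
    rw [← Scheme.Hom.comp_preimage, c.w]
  have h2 : ((c.π.app k.left).resLE (D.map k.hom ⁻¹ᵁ V) (c.π.app i ⁻¹ᵁ V) ek).app ⊤ =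
      (D.map k.hom ⁻¹ᵁ V).topIso.hom ≫
        (c.π.app k.left).appLE (D.map k.hom ⁻¹ᵁ V) (c.π.app i ⁻¹ᵁ V) ek ≫
          (c.π.app i ⁻¹ᵁ V).topIso.inv :=
    Scheme.Hom.resLE_app_top _ _
  have h3 : ((D.map k.hom ⁻¹ᵁ V).topIso.hom ≫
        (c.π.app k.left).appLE (D.map k.hom ⁻¹ᵁ V) (c.π.app i ⁻¹ᵁ V) ek ≫
          (c.π.app i ⁻¹ᵁ V).topIso.inv) t' = (c.π.app i ⁻¹ᵁ V).topIso.inv.hom b := by
    rw [← h2]; exact h
  refine ⟨k.left, k.hom, (D.map k.hom ⁻¹ᵁ V).topIso.hom.hom t', ?_⟩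
  exact (ConcreteCategory.bijective_of_isIso (c.π.app i ⁻¹ᵁ V).topIso.inv).1 h3

include hc in
/-- if the pullbacks of a section to all stages are nonzerodivisors, so is its pullback to the
limit -/
lemma app_mem_nonZeroDivisors (i : I) (V : (D.obj i).Opens) (hV : IsAffineOpen V)
    (a : Γ(D.obj i, V))
    (hnz : ∀ (j : I) (f : j ⟶ i),
      ((D.map f).app V).hom a ∈ nonZeroDivisors Γ(D.obj j, D.map f ⁻¹ᵁ V)) :
    ((c.π.app i).app V).hom a ∈ nonZeroDivisors Γ(c.pt, c.π.app i ⁻¹ᵁ V) := by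
  let φ : Γ(D.obj i, V) →+* Γ(c.pt, c.π.app i ⁻¹ᵁ V) := ((c.π.app i).app V).hom
  suffices hsuff : ∀ b : Γ(c.pt, c.π.app i ⁻¹ᵁ V), b * φ a = 0 → b = 0 from
    mem_nonZeroDivisors_iff_right.mpr hsuff
  intro b hb
  obtain ⟨j, f, s, hs⟩ := exists_lift_appLE D c hc i V hV b
  have e : c.π.app i ⁻¹ᵁ V ≤ c.π.app j ⁻¹ᵁ (D.map f ⁻¹ᵁ V) := by
    rw [← Scheme.Hom.comp_preimage, c.w]
  have h1 : ((c.π.app j).appLE (D.map f ⁻¹ᵁ V) (c.π.app i ⁻¹ᵁ V) e).hom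
      (((D.map f).app V).hom a) = ((c.π.app i).app V).hom a := by
    have : (D.map f).app V ≫ (c.π.app j).appLE (D.map f ⁻¹ᵁ V) (c.π.app i ⁻¹ᵁ V) e =
        (c.π.app i).app V := by
      rw [Scheme.Hom.app_eq_appLE, Scheme.Hom.appLE_comp_appLE, Scheme.Hom.app_eq_appLE]
      exact appLE_eq_of_eq (c.w f) _ _ _ _
    exact congrArg (fun φ => φ.hom a) this
  have h2 : ((c.π.app j).appLE (D.map f ⁻¹ᵁ V) (c.π.app i ⁻¹ᵁ V) e).hom
      (s * ((D.map f).app V).hom a) = 0 := by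
    rw [map_mul, h1, hs]; exact hb
  have h3 : ((c.π.app j).app (D.map f ⁻¹ᵁ V)).hom (s * ((D.map f).app V).hom a) = 0 := by
    have hPeq : c.π.app j ⁻¹ᵁ (D.map f ⁻¹ᵁ V) = c.π.app i ⁻¹ᵁ V := by
      rw [← Scheme.Hom.comp_preimage, c.w]
    apply res_injective_of_eq hPeq.symm e
    rw [map_zero]
    exact h2
  obtain ⟨l, g, hg⟩ := exists_app_map_eq_zero_of_isLimit D c hc
    (hV.preimage (D.map f)).isCompact _ h3
  have h5 : ((D.map g).app (D.map f ⁻¹ᵁ V)).hom (((D.map f).app V).hom a) ∈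
      nonZeroDivisors Γ(D.obj l, D.map g ⁻¹ᵁ (D.map f ⁻¹ᵁ V)) := by
    have := hnz l (g ≫ f)
    rw [D.map_comp] at this
    exact this
  have h6 : ((D.map g).app (D.map f ⁻¹ᵁ V)).hom s = 0 := by
    apply (mem_nonZeroDivisors_iff_right.mp h5)
    rw [← map_mul]; exact hg
  have e' : c.π.app i ⁻¹ᵁ V ≤ c.π.app l ⁻¹ᵁ (D.map g ⁻¹ᵁ (D.map f ⁻¹ᵁ V)) := by
    rw [← Scheme.Hom.comp_preimage, ← Scheme.Hom.comp_preimage, c.w, c.w]
  have h7 : (D.map g).app (D.map f ⁻¹ᵁ V) ≫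
      (c.π.app l).appLE (D.map g ⁻¹ᵁ (D.map f ⁻¹ᵁ V)) (c.π.app i ⁻¹ᵁ V) e' =
        (c.π.app j).appLE (D.map f ⁻¹ᵁ V) (c.π.app i ⁻¹ᵁ V) e := by
    rw [Scheme.Hom.app_eq_appLE, Scheme.Hom.appLE_comp_appLE]
    exact appLE_eq_of_eq (c.w g) _ _ _ _
  have h8 : ((c.π.app j).appLE (D.map f ⁻¹ᵁ V) (c.π.app i ⁻¹ᵁ V) e).hom s =
      ((c.π.app l).appLE (D.map g ⁻¹ᵁ (D.map f ⁻¹ᵁ V)) (c.π.app i ⁻¹ᵁ V) e').hom
        (((D.map g).app (D.map f ⁻¹ᵁ V)).hom s) :=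
    (congrArg (fun φ => φ.hom s) h7).symm
  rw [← hs, h8, h6, map_zero]

end Groth.Agent.Helper28.LimCartier
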