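import Mathlib
set_option autoImplicit false
universe u
open CategoryTheory CategoryTheory.Limits AlgebraicGeometry TopologicalSpace

/-!
Cofiltered limits of schemes with affine transition maps: if the limit is locally of finite type
over a base, the projection to a far enough member of the system is a closed immersion.
-/

namespace Groth.Agent.Helper28.LimClosed

lemma surjective_of_finiteType {R A B : Type*} [CommRing R] [CommRing A] [CommRing B]
    (φ : R →+* B) (ρ : R →+* A) (ψ : A →+* B) (hcomp : ψ.comp ρ = φ)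
    (S : Finset B) (hS : @Algebra.adjoin R B _ _ φ.toAlgebra (S : Set B) = ⊤)
    (hmem : ∀ b ∈ S, b ∈ ψ.range) : Function.Surjective ψ := by
  letI := φ.toAlgebra
  let T : Subalgebra R B := { ψ.range.toSubsemiring with
    algebraMap_mem' := fun r => ⟨ρ r, by
      show ψ (ρ r) = φ r
      rw [← hcomp]; rfl⟩ }
  have h1 : Algebra.adjoin R (S : Set B) ≤ T := Algebra.adjoin_le (fun b hb => hmem b hb)
  intro b
  have h2 : b ∈ T := h1 (hS ▸ Algebra.mem_top)
  exact RingHom.mem_range.mp h2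

variable {I : Type u} [Category.{u} I] [IsCofiltered I] {Y : Scheme.{u}} (D : I ⥤ Scheme.{u})
  (c : Cone D) (hc : IsLimit c) (t : D ⟶ (Functor.const I).obj Y)
  [∀ {i j} (f : i ⟶ j), IsAffineHom (D.map f)]

include hc in
lemma exists_lift_section (i₀ : I) (V : (D.obj i₀).Opens) (hV : IsAffineOpen V)
    (b : Γ((opensCone D c i₀ V).pt, ⊤)) :
    ∃ j : Over i₀, ∀ (k : Over i₀) (_ : k ⟶ j),
      b ∈ ((opensCone D c i₀ V).π.app k).appTop.hom.range := by
  have hA (j : Over i₀) : IsAffine ((opensDiagram D i₀ V).obj j) := hV.preimage (D.map j.hom)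
  obtain ⟨j, a, ha⟩ := exists_appTop_π_eq_of_isAffine_of_isLimit (opensDiagram D i₀ V)
    (opensCone D c i₀ V) (isLimitOpensCone D c hc i₀ V) b
  refine ⟨j, fun k g => RingHom.mem_range.mpr ⟨((opensDiagram D i₀ V).map g).appTop.hom a, ?_⟩⟩
  have h1 : ((opensCone D c i₀ V).π.app k ≫ (opensDiagram D i₀ V).map g).appTop a = b := by
    rw [(opensCone D c i₀ V).w g]; exact ha
  rw [Scheme.Hom.comp_appTop] at h1
  exact h1

include hc in
lemma exists_surjective (i₀ : I) (V : (D.obj i₀).Opens) (hV : IsAffineOpen V)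
    (W : Y.Opens) (hW : IsAffineOpen W) (hVW : V ≤ t.app i₀ ⁻¹ᵁ W)
    (f : c.pt ⟶ Y) [LocallyOfFiniteType f] (hf : ∀ i, c.π.app i ≫ t.app i = f) :
    ∃ j : Over i₀, ∀ (k : Over i₀) (_ : k ⟶ j),
      Function.Surjective ((opensCone D c i₀ V).π.app k).appTop.hom := by
  classical
  haveI := isAffineHom_π_app D c hc i₀
  have hP : IsAffineOpen (c.π.app i₀ ⁻¹ᵁ V) := hV.preimage (c.π.app i₀)
  have e : c.π.app i₀ ⁻¹ᵁ V ≤ f ⁻¹ᵁ W := by
    rw [← hf i₀, Scheme.Hom.comp_preimage]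
    exact (c.π.app i₀).preimage_mono hVW
  let q : (c.π.app i₀ ⁻¹ᵁ V).toScheme ⟶ W.toScheme := f.resLE W (c.π.app i₀ ⁻¹ᵁ V) e
  haveI : IsAffine (c.π.app i₀ ⁻¹ᵁ V).toScheme := hP
  haveI : IsAffine W.toScheme := hW
  have hq : LocallyOfFiniteType q := by
    unfold q Scheme.Hom.resLE; infer_instance
  have hft : RingHom.FiniteType q.appTop.hom :=
    HasRingHomProperty.appTop (P := @LocallyOfFiniteType) q hq
  obtain ⟨S, hS⟩ := (show @Algebra.FiniteType _ _ _ _ q.appTop.hom.toAlgebra from hft).out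
  choose jb hjb using fun b => exists_lift_section D c hc i₀ V hV b
  obtain ⟨j, hj⟩ := IsCofiltered.inf_objs_exists (S.image jb)
  refine ⟨j, fun k g => ?_⟩
  have ek : D.map k.hom ⁻¹ᵁ V ≤ t.app k.left ⁻¹ᵁ W := by
    have hn : D.map k.hom ≫ t.app i₀ = t.app k.left :=
      (t.naturality k.hom).trans (Category.comp_id _)
    rw [← hn, Scheme.Hom.comp_preimage]
    exact (D.map k.hom).preimage_mono hVW
  let r : (D.map k.hom ⁻¹ᵁ V).toScheme ⟶ W.toScheme :=
    (t.app k.left).resLE W (D.map k.hom ⁻¹ᵁ V) ek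
  have hcomp' : (opensCone D c i₀ V).π.app k ≫ r = q := by
    show (c.π.app k.left).resLE (D.map k.hom ⁻¹ᵁ V) (c.π.app i₀ ⁻¹ᵁ V) _ ≫
      (t.app k.left).resLE W (D.map k.hom ⁻¹ᵁ V) ek = f.resLE W (c.π.app i₀ ⁻¹ᵁ V) e
    rw [Scheme.Hom.resLE_comp_resLE, ← cancel_mono W.ι, Scheme.Hom.resLE_comp_ι,
      Scheme.Hom.resLE_comp_ι, hf]
  refine surjective_of_finiteType q.appTop.hom r.appTop.hom _ ?_ S hS ?_
  · rw [← hcomp', Scheme.Hom.comp_appTop]
    rfl
  · intro b hb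
    obtain ⟨g'⟩ := hj (Finset.mem_image_of_mem jb hb)
    exact hjb b k (g ≫ g')

include hc in
/-- If the limit `X` of a cofiltered system of quasi-compact schemes `X_i` over `Y` with affine
transition maps is locally of finite type over `Y`, then `X ⟶ X_j` is a closed immersion for some
`j`. -/
theorem exists_isClosedImmersion [∀ i, CompactSpace (D.obj i)] (f : c.pt ⟶ Y)
    [LocallyOfFiniteType f] (hf : ∀ i, c.π.app i ≫ t.app i = f) :
    ∃ j : I, IsClosedImmersion (c.π.app j) := by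
  classical
  obtain ⟨i₀⟩ := IsCofiltered.nonempty (C := I)
  have hch : ∀ x : D.obj i₀, ∃ (V : (D.obj i₀).Opens) (W : Y.Opens), IsAffineOpen V ∧
      IsAffineOpen W ∧ x ∈ V ∧ V ≤ t.app i₀ ⁻¹ᵁ W := by
    intro x
    obtain ⟨_, ⟨W, hW, rfl⟩, hxW, -⟩ := Y.isBasis_affineOpens.exists_subset_of_mem_open
      (Set.mem_univ ((t.app i₀).base x)) isOpen_univ
    obtain ⟨_, ⟨V, hV, rfl⟩, hxV, hVW⟩ :=
      (D.obj i₀).isBasis_affineOpens.exists_subset_of_mem_open
        (show x ∈ ((t.app i₀ ⁻¹ᵁ W : (D.obj i₀).Opens) : Set _) from hxW) (t.app i₀ ⁻¹ᵁ W).2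
    exact ⟨V, W, hV, hW, hxV, hVW⟩
  choose V W hV hW hxV hVW using hch
  obtain ⟨F, hF⟩ := isCompact_univ.elim_finite_subcover
    (fun x => ((V x : (D.obj i₀).Opens) : Set (D.obj i₀))) (fun x => (V x).2)
    (fun x _ => Set.mem_iUnion.2 ⟨x, hxV x⟩)
  choose jx hjx using fun x =>
    exists_surjective D c hc t i₀ (V x) (hV x) (W x) (hW x) (hVW x) f hf
  obtain ⟨k, hk⟩ := IsCofiltered.inf_objs_exists (F.image jx)
  refine ⟨k.left, ?_⟩
  apply IsZariskiLocalAtTarget.of_forall_exists_morphismRestrict (P := @IsClosedImmersion)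
  intro y
  have hy : (D.map k.hom).base y ∈ ⋃ x ∈ F, ((V x : (D.obj i₀).Opens) : Set (D.obj i₀)) :=
    hF (Set.mem_univ _)
  simp only [Set.mem_iUnion] at hy
  obtain ⟨x, hxF, hyx⟩ := hy
  obtain ⟨g⟩ := hk (Finset.mem_image_of_mem jx hxF)
  refine ⟨D.map k.hom ⁻¹ᵁ V x, hyx, ?_⟩
  have hsurj := hjx x k g
  haveI := isAffineHom_π_app D c hc i₀
  have hA1 : IsAffine ((opensCone D c i₀ (V x)).pt) := (hV x).preimage (c.π.app i₀)
  have hA2 : IsAffine ((opensDiagram D i₀ (V x)).obj k) := (hV x).preimage (D.map k.hom)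
  have hcl : IsClosedImmersion ((opensCone D c i₀ (V x)).π.app k) :=
    @IsClosedImmersion.of_surjective_of_isAffine _ _ hA1 hA2 _ hsurj
  have heq : c.π.app i₀ ⁻¹ᵁ V x = c.π.app k.left ⁻¹ᵁ (D.map k.hom ⁻¹ᵁ V x) := by
    rw [← Scheme.Hom.comp_preimage, c.w]
  have hfac : (opensCone D c i₀ (V x)).π.app k =
      (c.pt.isoOfEq heq).hom ≫ (c.π.app k.left ∣_ (D.map k.hom ⁻¹ᵁ V x)) := rfl
  rw [hfac] at hcl
  exact (MorphismProperty.cancel_left_of_respectsIso @IsClosedImmersion _ _).mp hcl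

include hc in
/-- If moreover all the projections are scheme-theoretically dominant, some projection is an
isomorphism. -/
theorem exists_isIso [∀ i, CompactSpace (D.obj i)] (f : c.pt ⟶ Y)
    [LocallyOfFiniteType f] (hf : ∀ i, c.π.app i ≫ t.app i = f)
    (hker : ∀ i, (c.π.app i).ker = ⊥) : ∃ j : I, IsIso (c.π.app j) := by
  obtain ⟨j, hj⟩ := exists_isClosedImmersion D c hc t f hf
  exact ⟨j, IsClosedImmersion.isIso_iff_ker_eq_bot.mpr (hker j)⟩

end Groth.Agent.Helper28.LimClosed
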