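import Mathlib
import Groth.Agent.Lib.Helper28.LimCartier
set_option autoImplicit false
universe u
open CategoryTheory CategoryTheory.Limits AlgebraicGeometry TopologicalSpace

/-!
Descending the modulus condition along a cofiltered limit of modulus pairs.
-/

namespace Groth.Agent.Helper28.LimModulus

open Groth.Agent.Helper28.LimCartier

variable {I : Type u} [Category.{u} I] [IsCofiltered I] (D : I ⥤ Scheme.{u})
  (c : Cone D) (hc : IsLimit c) [∀ {i j} (f : i ⟶ j), IsAffineHom (D.map f)]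

/-- pullback of sections to the limit, with the expected type -/
noncomputable def πapp (i : I) (V : (D.obj i).Opens) :
    Γ(D.obj i, V) →+* Γ(c.pt, c.π.app i ⁻¹ᵁ V) := ((c.π.app i).app V).hom

omit [IsCofiltered I] [∀ {i j} (f : i ⟶ j), IsAffineHom (D.map f)] in
lemma appLE_app_eq (i j : I) (f : j ⟶ i) (V : (D.obj i).Opens)
    (e : c.π.app i ⁻¹ᵁ V ≤ c.π.app j ⁻¹ᵁ (D.map f ⁻¹ᵁ V)) (x : Γ(D.obj i, V)) :
    ((c.π.app j).appLE (D.map f ⁻¹ᵁ V) (c.π.app i ⁻¹ᵁ V) e).hom (((D.map f).app V).hom x) =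
      ((c.π.app i).app V).hom x := by
  have : (D.map f).app V ≫ (c.π.app j).appLE (D.map f ⁻¹ᵁ V) (c.π.app i ⁻¹ᵁ V) e =
      (c.π.app i).app V := by
    rw [Scheme.Hom.app_eq_appLE, Scheme.Hom.appLE_comp_appLE, Scheme.Hom.app_eq_appLE]
    exact appLE_eq_of_eq (c.w f) _ _ _ _
  exact congrArg (fun φ => φ.hom x) this

/-- at stage `f : j ⟶ i`, the pulled-back section `a` is a multiple of the pulled-back `b` -/
def Dvd {i : I} (V : (D.obj i).Opens) (a b : Γ(D.obj i, V)) (j : I) (f : j ⟶ i) : Prop :=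
  ((D.map f).app V).hom a ∈ Ideal.span {((D.map f).app V).hom b}

omit [IsCofiltered I] [∀ {i j} (f : i ⟶ j), IsAffineHom (D.map f)] in
lemma Dvd.comp {i : I} {V : (D.obj i).Opens} {a b : Γ(D.obj i, V)} {j : I} {f : j ⟶ i}
    (h : Dvd D V a b j f) {l : I} (g : l ⟶ j) : Dvd D V a b l (g ≫ f) := by
  unfold Dvd at h ⊢
  obtain ⟨w, hw⟩ := Ideal.mem_span_singleton'.mp h
  rw [D.map_comp]
  show ((D.map g).app (D.map f ⁻¹ᵁ V)).hom (((D.map f).app V).hom a) ∈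
    Ideal.span {((D.map g).app (D.map f ⁻¹ᵁ V)).hom (((D.map f).app V).hom b)}
  rw [Ideal.mem_span_singleton']
  exact ⟨((D.map g).app (D.map f ⁻¹ᵁ V)).hom w, by rw [← map_mul, hw]⟩

omit [IsCofiltered I] [∀ {i j} (f : i ⟶ j), IsAffineHom (D.map f)] in
lemma Dvd.of_eq {i : I} {V : (D.obj i).Opens} {a b : Γ(D.obj i, V)} {j : I} {f f' : j ⟶ i}
    (h : Dvd D V a b j f) (e : f = f') : Dvd D V a b j f' := e ▸ h

include hc in
lemma exists_dvd (i : I) (V : (D.obj i).Opens) (hV : IsAffineOpen V) (a b : Γ(D.obj i, V))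
    (h : πapp D c i V a ∈ Ideal.span {πapp D c i V b}) :
    ∃ (j : I) (f : j ⟶ i), Dvd D V a b j f := by
  obtain ⟨u, hu⟩ := Ideal.mem_span_singleton'.mp h
  obtain ⟨j, f, s, hs⟩ := exists_lift_appLE D c hc i V hV u
  have e : c.π.app i ⁻¹ᵁ V ≤ c.π.app j ⁻¹ᵁ (D.map f ⁻¹ᵁ V) := by
    rw [← Scheme.Hom.comp_preimage, c.w]
  have ha1 := appLE_app_eq D c i j f V e a
  have hb1 := appLE_app_eq D c i j f V e b
  have h2 : ((c.π.app j).appLE (D.map f ⁻¹ᵁ V) (c.π.app i ⁻¹ᵁ V) e).hom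
      (((D.map f).app V).hom a - s * ((D.map f).app V).hom b) = 0 := by
    rw [map_sub, map_mul, ha1, hb1, hs]
    exact sub_eq_zero.mpr hu.symm
  have h3 : ((c.π.app j).app (D.map f ⁻¹ᵁ V)).hom
      (((D.map f).app V).hom a - s * ((D.map f).app V).hom b) = 0 := by
    have hPeq : c.π.app j ⁻¹ᵁ (D.map f ⁻¹ᵁ V) = c.π.app i ⁻¹ᵁ V := by
      rw [← Scheme.Hom.comp_preimage, c.w]
    apply res_injective_of_eq hPeq.symm e
    rw [map_zero]
    exact h2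
  obtain ⟨l, g, hg⟩ := exists_app_map_eq_zero_of_isLimit D c hc
    (hV.preimage (D.map f)).isCompact _ h3
  refine ⟨l, g ≫ f, ?_⟩
  unfold Dvd
  rw [D.map_comp]
  show ((D.map g).app (D.map f ⁻¹ᵁ V)).hom (((D.map f).app V).hom a) ∈
    Ideal.span {((D.map g).app (D.map f ⁻¹ᵁ V)).hom (((D.map f).app V).hom b)}
  rw [Ideal.mem_span_singleton']
  refine ⟨((D.map g).app (D.map f ⁻¹ᵁ V)).hom s, ?_⟩
  have hg' : ((D.map g).app (D.map f ⁻¹ᵁ V)).hom
      (((D.map f).app V).hom a - s * ((D.map f).app V).hom b) = 0 := hg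
  rw [map_sub, map_mul, sub_eq_zero] at hg'
  exact hg'.symm

include hc in
/-- the modulus condition descends from the limit to some stage -/
theorem exists_ambient [∀ i, CompactSpace (D.obj i)]
    (J : ∀ i, (D.obj i).IdealSheafData) (hJ : ∀ i, BlowUp.IsEffCartierIdeal (J i))
    (hmin : ∀ (i j : I) (t : i ⟶ j), J i = (J j).comap (D.map t))
    {Y : Scheme.{u}} (IY : Y.IdealSheafData) (hY : BlowUp.IsEffCartierIdeal IY)
    (i : I) (ψ : D.obj i ⟶ Y)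
    (h : (J i).comap (c.π.app i) ≤ IY.comap (c.π.app i ≫ ψ)) :
    ∃ (j : I) (f : j ⟶ i), J j ≤ IY.comap (D.map f ≫ ψ) := by
  classical
  haveI := isAffineHom_π_app D c hc i
  have hch : ∀ x : D.obj i, ∃ (V : (D.obj i).affineOpens) (W : Y.affineOpens)
      (_ : V.1 ≤ ψ ⁻¹ᵁ W.1) (a : Γ(D.obj i, V.1)) (t : Γ(Y, W.1)), x ∈ V.1 ∧
        (J i).ideal V = Ideal.span {a} ∧ IY.ideal W = Ideal.span {t} := by
    intro x
    obtain ⟨W, hxW, t, -, hIt⟩ := hY (ψ.base x)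
    obtain ⟨V, hxV, hVW, a, -, hIa⟩ :=
      Groth.Agent.Helper28.EffCartierOld.exists_chart_le (hJ i) x (ψ ⁻¹ᵁ W.1) hxW
    exact ⟨V, W, hVW, a, t, hxV, hIa, hIt⟩
  choose V W hVW a t hxV hIa hIt using hch
  have hloc : ∀ x, ∃ (j : I) (f : j ⟶ i),
      Dvd D (V x).1 (a x) ((ψ.appLE (W x).1 (V x).1 (hVW x)).hom (t x)) j f := by
    intro x
    apply exists_dvd D c hc i (V x).1 (V x).2
    have hP : IsAffineOpen (c.π.app i ⁻¹ᵁ (V x).1) := (V x).2.preimage (c.π.app i)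
    have h1 := h ⟨c.π.app i ⁻¹ᵁ (V x).1, hP⟩
    have eW : c.π.app i ⁻¹ᵁ (V x).1 ≤ (c.π.app i ≫ ψ) ⁻¹ᵁ (W x).1 := by
      rw [Scheme.Hom.comp_preimage]; exact (c.π.app i).preimage_mono (hVW x)
    rw [Groth.Agent.Helper28.IdealComapOld.ideal_comap (c.π.app i) (J i) (V x) ⟨_, hP⟩ le_rfl, hIa x,
      Ideal.map_span, Set.image_singleton,
      Groth.Agent.Helper28.IdealComapOld.ideal_comap (c.π.app i ≫ ψ) IY (W x) ⟨_, hP⟩ eW, hIt x,
      Ideal.map_span, Set.image_singleton, Ideal.span_singleton_le_iff_mem] at h1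
    have h2 : (c.π.app i ≫ ψ).appLE (W x).1 (c.π.app i ⁻¹ᵁ (V x).1) eW =
        ψ.appLE (W x).1 (V x).1 (hVW x) ≫ (c.π.app i).app (V x).1 := by
      rw [Scheme.Hom.app_eq_appLE, Scheme.Hom.appLE_comp_appLE]
    rw [h2, ← Scheme.Hom.app_eq_appLE] at h1
    exact h1
  choose jx fx hjx using hloc
  obtain ⟨F, hF⟩ := isCompact_univ.elim_finite_subcover
    (fun x => (((V x).1 : (D.obj i).Opens) : Set (D.obj i))) (fun x => (V x).1.2)
    (fun x _ => Set.mem_iUnion.2 ⟨x, hxV x⟩)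
  obtain ⟨k, hk⟩ := IsCofiltered.inf_objs_exists (F.image (fun x => Over.mk (fx x)))
  refine ⟨k.left, k.hom, ?_⟩
  have hVk : ∀ x, IsAffineOpen (D.map k.hom ⁻¹ᵁ (V x).1) :=
    fun x => (V x).2.preimage (D.map k.hom)
  apply Scheme.IdealSheafData.le_of_iSup_eq_top
    (fun x : F => (⟨D.map k.hom ⁻¹ᵁ (V x.1).1, hVk x.1⟩ : (D.obj k.left).affineOpens))
  · rw [eq_top_iff]
    intro y _
    have hy : (D.map k.hom).base y ∈
        ⋃ x ∈ F, (((V x).1 : (D.obj i).Opens) : Set (D.obj i)) := hF (Set.mem_univ _)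
    simp only [Set.mem_iUnion] at hy
    obtain ⟨x, hxF, hyx⟩ := hy
    exact Opens.mem_iSup.mpr ⟨⟨x, hxF⟩, hyx⟩
  · rintro ⟨x, hxF⟩
    obtain ⟨m⟩ := hk (Finset.mem_image_of_mem _ hxF)
    have hw : m.left ≫ fx x = k.hom := Over.w m
    have hd : Dvd D (V x).1 (a x) ((ψ.appLE (W x).1 (V x).1 (hVW x)).hom (t x)) k.left k.hom :=
      Dvd.of_eq D (Dvd.comp D (hjx x) m.left) hw
    have eW : D.map k.hom ⁻¹ᵁ (V x).1 ≤ (D.map k.hom ≫ ψ) ⁻¹ᵁ (W x).1 := by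
      rw [Scheme.Hom.comp_preimage]; exact (D.map k.hom).preimage_mono (hVW x)
    show (J k.left).ideal ⟨_, hVk x⟩ ≤ (IY.comap (D.map k.hom ≫ ψ)).ideal ⟨_, hVk x⟩
    rw [hmin k.left i k.hom,
      Groth.Agent.Helper28.IdealComapOld.ideal_comap (D.map k.hom) (J i) (V x) ⟨_, hVk x⟩ le_rfl,
      hIa x, Ideal.map_span, Set.image_singleton,
      Groth.Agent.Helper28.IdealComapOld.ideal_comap (D.map k.hom ≫ ψ) IY (W x) ⟨_, hVk x⟩ eW,
      hIt x, Ideal.map_span, Set.image_singleton, Ideal.span_singleton_le_iff_mem]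
    have h2 : (D.map k.hom ≫ ψ).appLE (W x).1 (D.map k.hom ⁻¹ᵁ (V x).1) eW =
        ψ.appLE (W x).1 (V x).1 (hVW x) ≫ (D.map k.hom).app (V x).1 := by
      rw [Scheme.Hom.app_eq_appLE, Scheme.Hom.appLE_comp_appLE]
    rw [h2, ← Scheme.Hom.app_eq_appLE]
    exact hd

end Groth.Agent.Helper28.LimModulus
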