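import Mathlib
import Groth.Prelude.Def_Magnet
import Groth.Agent.Lib.Helper28.AlgGrpShear
set_option autoImplicit false
universe u
open CategoryTheory MonoidalCategory CartesianMonoidalCategory MonObj AlgebraicGeometry Opposite
open Groth.Agent.Helper28.AlgGrpShear

namespace Groth.Agent.Helper28.MagnetClosed

/-- Over a field: a morphism `F : M ⊗ Y ⟶ X` whose restriction to `G ⊗ Y`, for a quasi-compact
scheme-theoretically dominant open immersion `i : G ⟶ M`, factors through a closed immersion
`j : Z ⟶ X`, itself factors through `j`. -/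
lemma exists_factor_closed (k : Type u) [Field k]
    (M G Y X Z : Over (Spec (CommRingCat.of k)))
    (i : G ⟶ M) [IsOpenImmersion i.left] [QuasiCompact i.left]
    [IsSchemeTheoreticallyDominant i.left]
    (j : Z ⟶ X) [IsClosedImmersion j.left]
    (F : M ⊗ Y ⟶ X) (b : G ⊗ Y ⟶ Z) (hGF : (i ▷ Y) ≫ F = b ≫ j) :
    ∃ c : M ⊗ Y ⟶ Z, c ≫ j = F := by
  have sq : IsPullback (fst G Y).left (i ▷ Y).left i.left (fst M Y).left :=
    (isPullback_fst i Y).map (Over.forget (Spec (CommRingCat.of k)))
  haveI : Flat Y.hom := inferInstance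
  haveI : Flat (fst M Y).left := by
    have : (fst M Y).left = Limits.pullback.fst M.hom Y.hom := rfl
    rw [this]; infer_instance
  haveI : IsSchemeTheoreticallyDominant (i ▷ Y).left :=
    IsSchemeTheoreticallyDominant.of_isPullback sq
  let p₁ := Limits.pullback.fst F.left j.left
  let p₂ := Limits.pullback.snd F.left j.left
  have hcomm : (i ▷ Y).left ≫ F.left = b.left ≫ j.left := by
    rw [← Over.comp_left, ← Over.comp_left, hGF]
  let ℓ := Limits.pullback.lift (i ▷ Y).left b.left hcomm
  have hℓ : ℓ ≫ p₁ = (i ▷ Y).left := Limits.pullback.lift_fst _ _ _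
  haveI : IsClosedImmersion p₁ := inferInstance
  have hker : p₁.ker = ⊥ := by
    have := Scheme.Hom.le_ker_comp ℓ p₁
    rw [hℓ, IsSchemeTheoreticallyDominant.ker_eq_bot (i ▷ Y).left] at this
    exact le_bot_iff.mp this
  haveI : IsIso p₁ := IsClosedImmersion.isIso_iff_ker_eq_bot.mpr hker
  let c₀' : (M ⊗ Y).left ⟶ Z.left := inv p₁ ≫ p₂
  have hc₀' : c₀' ≫ j.left = F.left := by
    simp only [c₀', Category.assoc]
    rw [IsIso.inv_comp_eq]
    exact Limits.pullback.condition.symm
  have hw : c₀' ≫ Z.hom = (M ⊗ Y).hom := by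
    rw [← Over.w j, reassoc_of% hc₀', Over.w F]
  refine ⟨Over.homMk c₀' hw, ?_⟩
  apply Over.OverMorphism.ext
  exact hc₀'

end Groth.Agent.Helper28.MagnetClosed
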