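import Mathlib
import Groth.Prelude.Def_Magnet
import Groth.Prelude.Def_Magnet2
import Groth.Agent.Lib.Helper28.AlgGrpShear
set_option autoImplicit false
universe u
open CategoryTheory MonoidalCategory CartesianMonoidalCategory MonObj AlgebraicGeometry Opposite
open Groth.Agent.Helper28.AlgGrpShear Magnet

namespace Groth.Agent.Helper28.MagnetOpen

lemma exists_point_of_isPullback {S : Scheme.{u}} {P A B C : Over S} {f₁ : P ⟶ A} {f₂ : P ⟶ B}
    {g₁ : A ⟶ C} {g₂ : B ⟶ C} (h : IsPullback f₁ f₂ g₁ g₂) (a : A.left) (b : B.left)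
    (hab : g₁.left a = g₂.left b) : ∃ p : P.left, f₁.left p = a ∧ f₂.left p = b := by
  have sq : IsPullback f₁.left f₂.left g₁.left g₂.left := h.map (Over.forget S)
  obtain ⟨z, hz1, hz2⟩ := Scheme.Pullback.exists_preimage_pullback (f := g₁.left) (g := g₂.left) a b hab
  refine ⟨sq.isoPullback.inv z, ?_, ?_⟩
  · rw [← hz1, ← Scheme.Hom.comp_apply, sq.isoPullback_inv_fst]
  · rw [← hz2, ← Scheme.Hom.comp_apply, sq.isoPullback_inv_snd]

lemma exists_factor_open (k : Type u) [Field k]
    (M G X U : Over (Spec (CommRingCat.of k))) [MonObj M] [GrpObj G] (i : G ⟶ M) [IsMonHom i]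
    (o : 𝟙_ (Over (Spec (CommRingCat.of k))) ⟶ M)
    (hM : ∀ (T : Over (Spec (CommRingCat.of k))) (K : Type u) [Field K] (eT : T.left ≅ Spec (CommRingCat.of K))
      (W : (M ⊗ T).left.Opens),
      (CartesianMonoidalCategory.snd G (M ⊗ T)).left ⁻¹ᵁ W ≤
          ((((Magnet.MonAct.regular M).restrict i).prod (Magnet.MonAct.trivial G T)).act).left ⁻¹ᵁ W →
      (CartesianMonoidalCategory.lift (toUnit T ≫ o) (𝟙 T)).left ⁻¹ᵁ W = ⊤ → W = ⊤)
    (aX : AlgGrp.Action G X) (aU : AlgGrp.Action G U) (j : U ⟶ X) [IsOpenImmersion j.left]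
    (hj : Magnet.MonAct.IsEquivariant (Magnet.MonAct.ofAction aU) (Magnet.MonAct.ofAction aX) j)
    (Y : Over (Spec (CommRingCat.of k))) (φ : M ⊗ Y ⟶ X)
    (hφ : Magnet.MonAct.IsEquivariant
      (((Magnet.MonAct.regular M).restrict i).prod (Magnet.MonAct.trivial G Y))
      (Magnet.MonAct.ofAction aX) φ)
    (u : Y ⟶ U) (hu : lift (toUnit Y ≫ o) (𝟙 Y) ≫ φ = u ≫ j) :
    ∃ c : M ⊗ Y ⟶ U, c ≫ j = φ := by
  have hjeq : aU.act ≫ j = (G ◁ j) ≫ aX.act := hj
  have key : ∀ p : (M ⊗ Y).left, φ.left p ∈ Set.range j.left := by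
    intro p
    let y : Y.left := (snd M Y).left p
    let T : Over (Spec (CommRingCat.of k)) := Over.mk (Y.left.fromSpecResidueField y ≫ Y.hom)
    let t : T ⟶ Y := Over.homMk (Y.left.fromSpecResidueField y) rfl
    let eT : T.left ≅ Spec (CommRingCat.of (Y.left.residueField y)) := Iso.refl _
    let φT : M ⊗ T ⟶ X := (M ◁ t) ≫ φ
    have hφT : (((Magnet.MonAct.regular M).restrict i).prod (Magnet.MonAct.trivial G T)).act ≫ φT =
        (G ◁ φT) ≫ aX.act := by
      have h := hφ
      unfold Magnet.MonAct.IsEquivariant at h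
      simp only [φT]
      rw [Magnet.MonAct.prod_trivial_act_whiskerLeft_assoc, h, MonoidalCategory.whiskerLeft_comp,
        Category.assoc, Magnet.MonAct.ofAction_act]
    let WT : (M ⊗ T).left.Opens := φT.left ⁻¹ᵁ j.left.opensRange
    have hWT : WT = ⊤ := by
      apply hM T (Y.left.residueField y) eT WT
      · intro q hq
        -- hq : φT (snd q) ∈ range j
        have hq' : φT.left ((snd G (M ⊗ T)).left q) ∈ Set.range j.left := hq
        obtain ⟨x', hx'⟩ := hq'
        let q' : (G ⊗ X).left := (G ◁ φT).left q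
        have hq'1 : (snd G X).left q' = j.left x' := by
          rw [hx']
          show ((G ◁ φT).left ≫ (snd G X).left) q = ((snd G (M ⊗ T)).left ≫ φT.left) q
          rw [← Over.comp_left, ← Over.comp_left, whiskerLeft_snd]
        obtain ⟨q'', -, hq''⟩ := exists_point_of_isPullback (isPullback_snd G j) x' q' hq'1.symm
        show φT.left ((((Magnet.MonAct.regular M).restrict i).prod
          (Magnet.MonAct.trivial G T)).act.left q) ∈ Set.range j.left
        refine ⟨aU.act.left q'', ?_⟩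
        rw [← Scheme.Hom.comp_apply, ← Scheme.Hom.comp_apply, ← Over.comp_left, ← Over.comp_left,
          hjeq, hφT, Over.comp_left, Over.comp_left, Scheme.Hom.comp_apply, Scheme.Hom.comp_apply, hq'']
      · rw [eq_top_iff]
        intro s _
        show φT.left ((lift (toUnit T ≫ o) (𝟙 T)).left s) ∈ Set.range j.left
        have h1 : lift (toUnit T ≫ o) (𝟙 T) ≫ φT = (t ≫ u) ≫ j := by
          simp only [φT]
          rw [lift_whiskerLeft_assoc, Category.id_comp, Category.assoc, ← hu, ← Category.assoc t,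
            comp_lift, Category.comp_id, ← Category.assoc t, toUnit_unique (t ≫ toUnit _) (toUnit T)]
        refine ⟨(t ≫ u).left s, ?_⟩
        rw [← Scheme.Hom.comp_apply, ← Scheme.Hom.comp_apply, ← Over.comp_left, ← Over.comp_left, h1]
    -- a point of M ⊗ T above p
    let s₀ : T.left := (IsLocalRing.closedPoint (Y.left.residueField y) : PrimeSpectrum _)
    have hs₀ : t.left s₀ = (snd M Y).left p := Scheme.fromSpecResidueField_apply y s₀
    obtain ⟨q, -, hq⟩ := exists_point_of_isPullback (isPullback_snd M t) s₀ p hs₀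
    have hqW : q ∈ WT := by rw [hWT]; trivial
    have hqW' : φT.left q ∈ Set.range j.left := hqW
    rw [← hq]
    simpa [φT, Scheme.Hom.comp_apply] using hqW'
  have hrange : Set.range φ.left ⊆ Set.range j.left := by
    rintro _ ⟨p, rfl⟩
    exact key p
  let c' : (M ⊗ Y).left ⟶ U.left := IsOpenImmersion.lift j.left φ.left hrange
  have hc' : c' ≫ j.left = φ.left := IsOpenImmersion.lift_fac _ _ _
  have hw : c' ≫ U.hom = (M ⊗ Y).hom := by
    rw [← Over.w j, reassoc_of% hc', Over.w φ]
  refine ⟨Over.homMk c' hw, ?_⟩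
  apply Over.OverMorphism.ext
  exact hc'

end Groth.Agent.Helper28.MagnetOpen
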