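import Mathlib
import Groth.Prelude.Def_W4c6modpairsegaMP
import Groth.Agent.Lib.Helper28.EffCartierDense2
import Groth.Agent.Lib.Helper28.FiniteModif

/-!
# Scheme-theoretic closures of closed subschemes of the interior of a modulus pair (helper28)
-/
set_option autoImplicit false
universe u
open CategoryTheory CategoryTheory.Limits AlgebraicGeometry TopologicalSpace

namespace Groth.Agent.Helper28.ModClosure

/-- the canonical map to the scheme-theoretic image is scheme-theoretically dominant -/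
lemma ker_toImage {X Y : Scheme.{u}} (f : X ⟶ Y) : f.toImage.ker = ⊥ := by
  have hc : f.toImage.toImage ≫ (f.toImage.imageι ≫ f.imageι) = f := by
    rw [Scheme.Hom.toImage_imageι_assoc, Scheme.Hom.toImage_imageι]
  have hker : (f.toImage.imageι ≫ f.imageι).ker ≤ f.imageι.ker := by
    rw [Scheme.IdealSheafData.ker_subschemeι]
    have h1 : f.ker = (f.toImage.toImage ≫ (f.toImage.imageι ≫ f.imageι)).ker :=
      congrArg (fun g : X ⟶ Y => g.ker) hc.symm
    rw [h1]
    exact Scheme.Hom.le_ker_comp _ _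
  have hl : IsClosedImmersion.lift (f.toImage.imageι ≫ f.imageι) f.imageι hker ≫
      (f.toImage.imageι ≫ f.imageι) = f.imageι := IsClosedImmersion.lift_fac _ _ _
  have h1 : IsClosedImmersion.lift (f.toImage.imageι ≫ f.imageι) f.imageι hker ≫
      f.toImage.imageι = 𝟙 _ := by
    rw [← cancel_mono f.imageι, Category.assoc, Category.id_comp]
    exact hl
  haveI : IsSplitEpi f.toImage.imageι := ⟨⟨⟨_, h1⟩⟩⟩
  haveI : IsIso f.toImage.imageι := isIso_of_mono_of_isSplitEpi _
  have h2 := Scheme.Hom.ker_eq_bot_of_isIso f.toImage.imageι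
  rwa [Scheme.IdealSheafData.ker_subschemeι] at h2

lemma isPullback_of_mono {A B D : Scheme.{u}} (k : A ⟶ B) (j : B ⟶ D) [Mono j] :
    IsPullback (𝟙 A) k (k ≫ j) j := by
  refine ⟨⟨by simp⟩, ⟨PullbackCone.IsLimit.mk _ (fun s => s.fst) (fun s => by simp) (fun s => ?_)
    (fun s m h1 _ => by simpa using h1)⟩⟩
  rw [← cancel_mono j, Category.assoc]
  exact s.condition

section

variable {S : Scheme.{u}} (I : S.IdealSheafData) (hI : BlowUp.IsEffCartierIdeal I)

include hI in
theorem core {V : Scheme.{u}} (h : V ⟶ S) (U : S.Opens) (g : V ⟶ U.toScheme)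
    [IsClosedImmersion g] (hh : g ≫ U.ι = h) (hU : U = I.support.compl) :
    BlowUp.IsEffCartierIdeal (I.comap h.imageι) ∧ IsOpenImmersion h.toImage ∧
      Set.range h.toImage.base = h.imageι.base ⁻¹' (U : Set S) := by
  haveI hqcU : QuasiCompact U.ι := by
    subst hU
    exact Groth.Agent.Helper28.EffCartierDense.quasiCompact_ι_preimage_compl_support I hI (𝟙 S)
  haveI : QuasiCompact h := by rw [← hh]; infer_instance
  obtain ⟨W, hW⟩ : ∃ W : h.image.Opens, W = h.imageι ⁻¹ᵁ U := ⟨_, rfl⟩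
  haveI hqcW : QuasiCompact W.ι := by
    subst hW hU
    exact Groth.Agent.Helper28.EffCartierDense.quasiCompact_ι_preimage_compl_support I hI h.imageι
  haveI hdom : IsSchemeTheoreticallyDominant h.toImage := ⟨ker_toImage h⟩
  have hmemW : ∀ v : V, h.toImage v ∈ W := by
    intro v
    have e1 : h.imageι (h.toImage v) = U.ι (g v) := by
      have e2 : (h.toImage ≫ h.imageι) v = (g ≫ U.ι) v := by
        rw [Scheme.Hom.toImage_imageι, hh]
      exact e2
    rw [hW]
    show h.imageι (h.toImage v) ∈ U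
    rw [e1]
    exact (g v).2
  have hrange : Set.range h.toImage ⊆ Set.range W.ι := by
    rw [Scheme.Opens.range_ι]
    rintro _ ⟨v, rfl⟩
    exact hmemW v
  have hk : IsOpenImmersion.lift W.ι h.toImage hrange ≫ W.ι = h.toImage :=
    IsOpenImmersion.lift_fac _ _ _
  obtain ⟨k, hk⟩ : ∃ k : V ⟶ W.toScheme, k ≫ W.ι = h.toImage := ⟨_, hk⟩
  -- the closed immersion `W ⟶ U`
  obtain ⟨r, hr, hrι⟩ : ∃ r : W.toScheme ⟶ U.toScheme, IsClosedImmersion r ∧
      r ≫ U.ι = W.ι ≫ h.imageι := by
    subst hW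
    exact ⟨h.imageι ∣_ U, IsZariskiLocalAtTarget.restrict (P := @IsClosedImmersion)
      (inferInstance : IsClosedImmersion h.imageι) U, morphismRestrict_ι _ _⟩
  have hkr : k ≫ r = g := by
    rw [← cancel_mono U.ι, Category.assoc, hrι, ← Category.assoc, hk, Scheme.Hom.toImage_imageι,
      hh]
  haveI : IsClosedImmersion (k ≫ r) := by rw [hkr]; infer_instance
  haveI hkc : IsClosedImmersion k := IsClosedImmersion.of_comp_isClosedImmersion k r
  haveI hkd : IsSchemeTheoreticallyDominant k := by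
    have hpb : IsPullback (𝟙 V) k h.toImage W.ι := by
      have h0 := isPullback_of_mono k W.ι
      rwa [hk] at h0
    exact IsSchemeTheoreticallyDominant.of_isPullback hpb
  haveI hkiso : IsIso k := IsClosedImmersion.isIso_iff_ker_eq_bot.mpr k.ker_eq_bot
  refine ⟨?_, ?_, ?_⟩
  · haveI hWd : IsSchemeTheoreticallyDominant W.ι := by
      constructor
      have h1 := Scheme.Hom.le_ker_comp k W.ι
      rw [hk, ker_toImage] at h1
      exact le_bot_iff.mp h1
    subst hW hU
    exact (Groth.Agent.Helper28.EffCartierDense.comap_dominant I hI h.imageι).2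
  · rw [← hk]; infer_instance
  · ext z
    constructor
    · rintro ⟨v, rfl⟩
      have := hmemW v
      rw [hW] at this
      exact this
    · intro hz
      have hzW : z ∈ W := by rw [hW]; exact hz
      obtain ⟨v, hv⟩ := (ConcreteCategory.bijective_of_isIso k.base).2 ⟨z, hzW⟩
      refine ⟨v, ?_⟩
      have e2 : (k ≫ W.ι) v = h.toImage v := by rw [hk]
      refine e2.symm.trans ?_
      show W.ι (k.base v) = z
      rw [hv]
      rfl

include hI in
theorem closure_facts (U : S.Opens) (hU : U = I.support.compl) {V : Scheme.{u}}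
    (g : V ⟶ U.toScheme) [IsClosedImmersion g] :
    BlowUp.IsEffCartierIdeal (I.comap (g ≫ U.ι).imageι) ∧
      IsOpenImmersion (g ≫ U.ι).toImage ∧
      Set.range (g ≫ U.ι).toImage.base = (g ≫ U.ι).imageι.base ⁻¹' (U : Set S) :=
  core I hI (g ≫ U.ι) U g rfl hU

include hI in
theorem exists_generization (s : S) :
    ∃ η : S, η ∈ (I.support.compl : S.Opens) ∧ η ⤳ s := by
  obtain ⟨W₀, hsW, t, ht, hIt⟩ := hI s
  have hW := W₀.2
  obtain ⟨p₀, hp₀, hle⟩ := Ideal.exists_minimalPrimes_le (I := ⊥)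
    (J := (hW.primeIdealOf ⟨s, hsW⟩).asIdeal) bot_le
  haveI : p₀.IsPrime := hp₀.1.1
  have htq : t ∉ p₀ := fun hmem =>
    Set.disjoint_left.mp (Ideal.disjoint_nonZeroDivisors_of_mem_minimalPrimes hp₀) hmem ht
  refine ⟨hW.fromSpec (⟨p₀, inferInstance⟩ : PrimeSpectrum Γ(S, W₀.1)), ?_, ?_⟩
  · apply Groth.Agent.Helper28.FiniteModif.basicOpen_le_compl I W₀ t hIt
    have h1 : (⟨p₀, inferInstance⟩ : PrimeSpectrum Γ(S, W₀.1)) ∈
        hW.fromSpec ⁻¹ᵁ S.basicOpen t := by
      rw [hW.fromSpec_preimage_basicOpen]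
      exact htq
    exact h1
  · have h1 : (⟨p₀, inferInstance⟩ : PrimeSpectrum Γ(S, W₀.1)) ⤳ hW.primeIdealOf ⟨s, hsW⟩ :=
      (PrimeSpectrum.le_iff_specializes _ _).mp hle
    have h2 := h1.map hW.fromSpec.continuous
    rwa [hW.fromSpec_primeIdealOf] at h2

include hI in
theorem jointly_surjective (U : S.Opens) (hU : U = I.support.compl) {ι : Type u}
    (V : ι → Scheme.{u}) (g : ∀ i, V i ⟶ U.toScheme)
    (hsurj : ∀ u : U.toScheme, ∃ (i : ι) (v : V i), (g i).base v = u)
    (s : S) :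
    ∃ (i : ι) (v : (g i ≫ U.ι).image), (g i ≫ U.ι).imageι.base v = s := by
  obtain ⟨η, hηU, hηs⟩ := exists_generization I hI s
  obtain ⟨i, v, hv⟩ := hsurj ⟨η, by rw [hU]; exact hηU⟩
  refine ⟨i, ?_⟩
  have hcl : IsClosed (Set.range (g i ≫ U.ι).imageι) :=
    (g i ≫ U.ι).imageι.isClosedEmbedding.isClosed_range
  have hη : η ∈ Set.range (g i ≫ U.ι).imageι := by
    refine ⟨(g i ≫ U.ι).toImage v, ?_⟩
    have e2 : ((g i ≫ U.ι).toImage ≫ (g i ≫ U.ι).imageι) v = (g i ≫ U.ι) v := by
      rw [Scheme.Hom.toImage_imageι]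
    refine e2.trans ?_
    show U.ι ((g i).base v) = η
    rw [hv]
    rfl
  obtain ⟨z, hz⟩ := hηs.mem_closed hcl hη
  exact ⟨z, hz⟩

end

end Groth.Agent.Helper28.ModClosure
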