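import Mathlib

/-!
# The unit group of a monoid object as a fibre product
-/

universe v u

open CategoryTheory MonoidalCategory CartesianMonoidalCategory MonObj

namespace Groth.Agent.Helper28.MonUnits

variable {C : Type u} [Category.{v} C] [CartesianMonoidalCategory C] [Limits.HasPullbacks C]
  (M : C) [MonObj M]

/-- `(m, m') ↦ (m m', m' m)`. -/
def uφ : M ⊗ M ⟶ M ⊗ M := lift μ[M] (lift (snd M M) (fst M M) ≫ μ[M])

/-- the point `(1, 1)`. -/
def uψ : 𝟙_ C ⟶ M ⊗ M := lift η[M] η[M]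

lemma hpt {T : C} (p : T ⟶ M ⊗ M) :
    p ≫ uφ M = toUnit T ≫ uψ M ↔
      ((p ≫ fst M M) * (p ≫ snd M M) = 1 ∧ (p ≫ snd M M) * (p ≫ fst M M) = 1) := by
  constructor
  · intro h
    have h1 := congrArg (fun q => q ≫ fst M M) h
    have h2 := congrArg (fun q => q ≫ snd M M) h
    simp only [uφ, uψ, Category.assoc, lift_fst, lift_snd] at h1 h2
    constructor
    · rw [Hom.mul_def, Hom.one_def]
      rw [← h1]
      congr 1
      apply CartesianMonoidalCategory.hom_ext <;> simp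
    · rw [Hom.mul_def, Hom.one_def]
      rw [← h2, ← Category.assoc]
      congr 1
      apply CartesianMonoidalCategory.hom_ext <;> simp
  · rintro ⟨h1, h2⟩
    rw [Hom.mul_def, Hom.one_def] at h1 h2
    apply CartesianMonoidalCategory.hom_ext
    · simp only [uφ, uψ, Category.assoc, lift_fst]
      rw [← h1]
      congr 1
      apply CartesianMonoidalCategory.hom_ext <;> simp
    · simp only [uφ, uψ, Category.assoc, lift_snd]
      rw [← h2, ← Category.assoc]
      congr 1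
      apply CartesianMonoidalCategory.hom_ext <;> simp

lemma hcond {T : C} (g : T ⟶ Limits.pullback (uφ M) (uψ M)) :
    (g ≫ Limits.pullback.fst (uφ M) (uψ M)) ≫ uφ M = toUnit T ≫ uψ M := by
  rw [Category.assoc, Limits.pullback.condition, ← Category.assoc]
  congr 1
  exact toUnit_unique _ _

/-- the inclusion of the unit group. -/
noncomputable def ui : Limits.pullback (uφ M) (uψ M) ⟶ M :=
  Limits.pullback.fst (uφ M) (uψ M) ≫ fst M M

instance mono_ui : Mono (ui M) := by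
  constructor
  intro T g h hgh
  obtain ⟨g1, g2⟩ := (hpt M _).1 (hcond M g)
  obtain ⟨h1, h2⟩ := (hpt M _).1 (hcond M h)
  have hfst : (g ≫ Limits.pullback.fst (uφ M) (uψ M)) ≫ fst M M =
      (h ≫ Limits.pullback.fst (uφ M) (uψ M)) ≫ fst M M := by
    simpa [ui, Category.assoc] using hgh
  have hsnd : (g ≫ Limits.pullback.fst (uφ M) (uψ M)) ≫ snd M M =
      (h ≫ Limits.pullback.fst (uφ M) (uψ M)) ≫ snd M M := by
    calc (g ≫ Limits.pullback.fst (uφ M) (uψ M)) ≫ snd M M
        = ((g ≫ Limits.pullback.fst (uφ M) (uψ M)) ≫ snd M M) *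
            (((h ≫ Limits.pullback.fst (uφ M) (uψ M)) ≫ fst M M) *
              ((h ≫ Limits.pullback.fst (uφ M) (uψ M)) ≫ snd M M)) := by
          rw [h1, _root_.mul_one]
      _ = (((g ≫ Limits.pullback.fst (uφ M) (uψ M)) ≫ snd M M) *
            ((g ≫ Limits.pullback.fst (uφ M) (uψ M)) ≫ fst M M)) *
            ((h ≫ Limits.pullback.fst (uφ M) (uψ M)) ≫ snd M M) := by
          rw [← hfst, _root_.mul_assoc]
      _ = (h ≫ Limits.pullback.fst (uφ M) (uψ M)) ≫ snd M M := by rw [g2, _root_.one_mul]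
  apply Limits.pullback.hom_ext
  · apply CartesianMonoidalCategory.hom_ext
    · exact hfst
    · exact hsnd
  · exact toUnit_unique _ _

theorem factors_iff {T : C} (m : T ⟶ M) : (∃ g : T ⟶ Limits.pullback (uφ M) (uψ M), g ≫ ui M = m) ↔ IsUnit m := by
  constructor
  · rintro ⟨g, rfl⟩
    obtain ⟨g1, g2⟩ := (hpt M _).1 (hcond M g)
    refine ⟨⟨(g ≫ Limits.pullback.fst (uφ M) (uψ M)) ≫ fst M M,
      (g ≫ Limits.pullback.fst (uφ M) (uψ M)) ≫ snd M M, g1, g2⟩, ?_⟩
    simp [ui, Category.assoc]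
  · rintro ⟨u, rfl⟩
    refine ⟨Limits.pullback.lift (lift (u : T ⟶ M) ((↑u⁻¹ : (T ⟶ M)ˣ) : T ⟶ M)) (toUnit T)
      ((hpt M _).2 ⟨by simp, by simp⟩), ?_⟩
    show Limits.pullback.lift _ _ _ ≫ Limits.pullback.fst (uφ M) (uψ M) ≫ fst M M = _
    rw [← Category.assoc, Limits.pullback.lift_fst, lift_fst]

/-- any other representing object is isomorphic to the fibre product, compatibly with the maps to `M`. -/
theorem exists_iso (G : C) (i : G ⟶ M) [Mono i]
    (hi : ∀ (T : C) (m : T ⟶ M), (∃ g : T ⟶ G, g ≫ i = m) ↔ IsUnit m) :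
    ∃ e : G ≅ Limits.pullback (uφ M) (uψ M), e.hom ≫ ui M = i := by
  obtain ⟨a, ha⟩ := (factors_iff M i).2 ((hi G i).1 ⟨𝟙 G, Category.id_comp _⟩)
  obtain ⟨b, hb⟩ := (hi _ (ui M)).2 ((factors_iff M (ui M)).1 ⟨𝟙 _, Category.id_comp _⟩)
  refine ⟨⟨a, b, ?_, ?_⟩, ha⟩
  · rw [← cancel_mono i, Category.assoc, hb, ha, Category.id_comp]
  · rw [← cancel_mono (ui M), Category.assoc, ha, hb, Category.id_comp]

end Groth.Agent.Helper28.MonUnits
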