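import Mathlib
import Groth.Prelude
import Groth.Agent.S1705
import Groth.Agent.Lib.Helper13.LocFree2
import Groth.Agent.Lib.Helper13.QCohStalk
import Groth.Agent.Lib.Helper13.EpiGen

/-!
# Vanishing of `H^0` along a tower of coherent modules (helper28)

Abstract form of: on a proper scheme over a field, `Γ(X, F ⊗ L^{-n}) = 0` for `n ≫ 0` when `F`
has no closed associated point.
-/

set_option autoImplicit false
set_option linter.style.haveILetI false
set_option linter.unusedSectionVars false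
universe u
open CategoryTheory CategoryTheory.Limits AlgebraicGeometry Opposite TopologicalSpace
open Groth.Agent.Helper13.QCoh Groth.Agent.Helper13.FinType

namespace Groth.Agent.Helper28.NegTwist

theorem map_mem_pow_succ {R N' N : Type*} [CommRing R] [AddCommGroup N'] [AddCommGroup N]
    [Module R N'] [Module R N]
    (I : Ideal R) (f : N' →ₗ[R] N) (hf : ∀ z, f z ∈ I • (⊤ : Submodule R N)) (i : ℕ) (z : N')
    (hz : z ∈ I ^ i • (⊤ : Submodule R N')) : f z ∈ I ^ (i + 1) • (⊤ : Submodule R N) := by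
  have h1 : Submodule.map f (I ^ i • (⊤ : Submodule R N')) ≤ I ^ (i + 1) • (⊤ : Submodule R N) := by
    rw [Submodule.map_smul'']
    calc I ^ i • Submodule.map f ⊤ ≤ I ^ i • (I • (⊤ : Submodule R N)) := by
          apply Submodule.smul_mono (le_refl _)
          rintro _ ⟨w, -, rfl⟩
          exact hf w
      _ = I ^ (i + 1) • (⊤ : Submodule R N) := by
          rw [← Submodule.mul_smul, pow_succ]
  exact h1 (Submodule.mem_map_of_mem hz)

/-- a closed subset of a proper `k`-scheme contained in an affine open consists of closed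
points. -/
theorem isClosed_singleton_of_subset_affine (k : Type u) [Field k] (X : Scheme.{u})
    [X.Over (Spec (CommRingCat.of k))] [IsProper (X ↘ Spec (CommRingCat.of k))]
    (U : X.Opens) (hU : IsAffineOpen U) (T : Set X) (hT : IsClosed T)
    (hTU : T ⊆ U) (x : X) (hx : x ∈ T) : IsClosed ({x} : Set X) := by
  let Zc : TopologicalSpace.Closeds X := ⟨closure {x}, isClosed_closure⟩
  let I := Scheme.IdealSheafData.vanishingIdeal Zc
  have hsupp : (I.support : Set X) = closure {x} :=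
    Scheme.IdealSheafData.coe_support_vanishingIdeal Zc
  let ι := I.subschemeι
  have hrange : Set.range ι = closure {x} := by
    rw [Scheme.IdealSheafData.range_subschemeι, hsupp]
  have hZU : closure ({x} : Set X) ⊆ U :=
    (hT.closure_subset_iff.2 (Set.singleton_subset_iff.2 hx)).trans hTU
  have hle : Set.range ι ⊆ Set.range U.ι := by
    rw [hrange, Scheme.Opens.range_ι]; exact hZU
  let g := IsOpenImmersion.lift U.ι ι hle
  have hg : g ≫ U.ι = ι := IsOpenImmersion.lift_fac _ _ _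
  haveI : IsClosedImmersion (g ≫ U.ι) := by rw [hg]; infer_instance
  haveI : IsClosedImmersion g := IsClosedImmersion.of_comp g U.ι
  haveI : IsAffine (U : Scheme.{u}) := hU
  haveI : IsAffine I.subscheme := isAffine_of_isAffineHom g
  let q := ι ≫ (X ↘ Spec (CommRingCat.of k))
  haveI : IsProper q := inferInstance
  haveI : IsAffineHom q := isAffineHom_of_isAffine q
  haveI : IsFinite q := IsFinite.iff_isProper_and_isAffineHom.mpr ⟨inferInstance, inferInstance⟩
  haveI : IsLocallyArtinian (Spec (CommRingCat.of k)) :=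
    Scheme.isLocallyArtinianScheme_Spec.mpr (inferInstanceAs (IsArtinianRing k))
  haveI : IsLocallyArtinian I.subscheme := IsLocallyArtinian.of_locallyQuasiFinite q
  haveI : DiscreteTopology I.subscheme := inferInstance
  obtain ⟨x', hx'⟩ : x ∈ Set.range ι := by rw [hrange]; exact subset_closure rfl
  have hEq : ({x} : Set X) = ι '' {x'} := by rw [Set.image_singleton, hx']
  rw [hEq]
  exact ι.isClosedEmbedding.isClosedMap _ (isClosed_discrete _)

theorem res_eq_zero_of_germ {X : Scheme.{u}} (F : X.Modules) (U : X.Opens) (τ : Γ(F, ⊤))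
    (h : ∀ (x : X) (_ : x ∈ U), F.presheaf.germ ⊤ x trivial τ = 0) :
    F.presheaf.map (homOfLE (le_top : U ≤ ⊤)).op τ = 0 := by
  apply TopCat.Presheaf.section_ext ⟨F.presheaf, F.isSheaf⟩ U
  intro x hx
  rw [TopCat.Presheaf.germ_res_apply, h x hx, map_zero]

set_option maxHeartbeats 1600000 in
/-- the tower lemma, abstract form. -/
theorem tower_vanish_aux (k : Type u) [Field k] (X : Scheme.{u}) [X.Over (Spec (CommRingCat.of k))]
    [IsProper (X ↘ Spec (CommRingCat.of k))]
    (G : ℕ → X.Modules) (hG : ∀ j, Coh.IsCoh (G j)) (μ : ∀ j, G (j + 1) ⟶ G j)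
    (U : X.Opens) (hU : IsAffineOpen U)
    (hass : ∀ j x, Curv2.IsAssPoint (G j) x → x ∈ U ∧ ¬ IsClosed ({x} : Set X))
    (hinj : ∀ j (x : X), x ∈ U → Function.Injective (stalkMap (μ j) x))
    (hvan : ∀ j (x : X), x ∉ U → ∀ z, stalkMap (μ j) x z ∈
      IsLocalRing.maximalIdeal (X.presheaf.stalk x) •
        (⊤ : Submodule (X.presheaf.stalk x) ((G j).presheaf.stalk x)))
    (hfin : ∀ j, Module.Finite k (Coh.HH X (G j) 0))
    (φ : ∀ j, Coh.HH X (G (j + 1)) 0 →ₗ[k] Coh.HH X (G j) 0)
    (hnat : ∀ j (y : Coh.HH X (G (j + 1)) 0),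
      Sheaf.H.equiv₀ (Coh.toAb (G j)) (isTerminalTop : IsTerminal (⊤ : Opens X)) (φ j y) =
        (μ j).app ⊤ (Sheaf.H.equiv₀ (Coh.toAb (G (j + 1)))
          (isTerminalTop : IsTerminal (⊤ : Opens X)) y)) :
    ∃ j₀ : ℕ, ∀ j, j₀ ≤ j → Subsingleton (Coh.HH X (G j) 0) := by
  haveI : IsLocallyNoetherian X :=
    LocallyOfFiniteType.isLocallyNoetherian (X ↘ Spec (CommRingCat.of k))
  let eq₀ : ∀ j, Coh.HH X (G j) 0 ≃+ Γ(G j, ⊤) := fun j =>
    Sheaf.H.equiv₀ (Coh.toAb (G j)) (isTerminalTop : IsTerminal (⊤ : Opens X))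
  haveI hfin' : ∀ j, Module.Finite k (Coh.HH X (G j) 0) := hfin
  have hnat : ∀ j (y : Coh.HH X (G (j + 1)) 0), eq₀ j (φ j y) = (μ j).app ⊤ (eq₀ (j + 1) y) :=
    hnat
  have hφinj : ∀ j, Function.Injective (φ j) := by
    intro j
    refine (injective_iff_map_eq_zero (φ j)).2 (fun y hy => ?_)
    have h1 : (μ j).app ⊤ (eq₀ (j + 1) y) = 0 := by rw [← hnat, hy, map_zero]
    have h2 : ∀ (x : X) (_ : x ∈ U), (G (j + 1)).presheaf.germ ⊤ x trivial (eq₀ (j + 1) y) = 0 := by
      intro x hx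
      apply hinj j x hx
      rw [stalkMap_germ, h1, map_zero, map_zero]
    have h3 := res_eq_zero_of_germ (G (j + 1)) U _ h2
    have h4 := Groth.Agent.S1705.result X (G (j + 1)) (hG (j + 1)).1 U
      (fun x hx => (hass (j + 1) x hx).1)
    have h5 : eq₀ (j + 1) y = 0 := h4 (h3.trans (map_zero _).symm)
    exact (eq₀ (j + 1)).injective (h5.trans (map_zero _).symm)
  let d : ℕ → ℕ := fun j => Module.finrank k (Coh.HH X (G j) 0)
  have hd : ∀ j, d (j + 1) ≤ d j := fun j =>
    LinearMap.finrank_le_finrank_of_injective (hφinj j)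
  have hanti : Antitone d := antitone_nat_of_succ_le hd
  obtain ⟨j₀, hj₀⟩ : ∃ j₀, ∀ j, j₀ ≤ j → d j = d j₀ := by
    obtain ⟨j₀, hmin⟩ : ∃ j₀, ∀ j, d j₀ ≤ d j := by
      have hne : (Set.range d).Nonempty := ⟨d 0, 0, rfl⟩
      obtain ⟨j₀, hj₀⟩ := Nat.sInf_mem hne
      exact ⟨j₀, fun j => hj₀ ▸ Nat.sInf_le ⟨j, rfl⟩⟩
    exact ⟨j₀, fun j hj => le_antisymm (hanti hj) (hmin j)⟩
  have hφsurj : ∀ j, j₀ ≤ j → Function.Surjective (φ j) := by
    intro j hj
    have hdim : Module.finrank k (Coh.HH X (G (j + 1)) 0) =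
        Module.finrank k (Coh.HH X (G j) 0) := by
      change d (j + 1) = d j
      rw [hj₀ j hj, hj₀ (j + 1) (by omega)]
    exact (LinearMap.injective_iff_surjective_of_finrank_eq_finrank hdim).1 (hφinj j)
  have hQ : ∀ (i : ℕ) (j : ℕ), j₀ ≤ j → ∀ (y : Coh.HH X (G j) 0) (x : X), x ∉ U →
      (G j).presheaf.germ ⊤ x trivial (eq₀ j y) ∈
        IsLocalRing.maximalIdeal (X.presheaf.stalk x) ^ i •
          (⊤ : Submodule (X.presheaf.stalk x) ((G j).presheaf.stalk x)) := by
    intro i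
    induction i with
    | zero =>
      intro j _ y x _
      rw [pow_zero, Ideal.one_eq_top, Submodule.top_smul]
      trivial
    | succ i ih =>
      intro j hj y x hx
      obtain ⟨y', rfl⟩ := hφsurj j hj y
      rw [hnat, ← stalkMap_germ (μ j) x ⊤ trivial]
      exact map_mem_pow_succ _ (stalkLinearMap (μ j) x) (hvan j x hx) i _
        (ih (j + 1) (by omega) y' x hx)
  have hzero : ∀ j, j₀ ≤ j → ∀ (y : Coh.HH X (G j) 0) (x : X), x ∉ U →
      (G j).presheaf.germ ⊤ x trivial (eq₀ j y) = 0 := by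
    intro j hj y x hx
    haveI : (G j).IsQuasicoherent := (hG j).1
    haveI : SheafOfModules.IsFiniteType (R := X.ringCatSheaf) (G j) := (hG j).2
    haveI : Module.Finite (X.presheaf.stalk x) ((G j).presheaf.stalk x) :=
      Groth.Agent.Helper13.LocFree.finite_stalk_of_isFiniteType (G j) x
    have hK := Ideal.iInf_pow_smul_eq_bot_of_isLocalRing (M := (G j).presheaf.stalk x)
      (IsLocalRing.maximalIdeal (X.presheaf.stalk x))
      (IsLocalRing.maximalIdeal.isMaximal _).ne_top
    have hmem : (G j).presheaf.germ ⊤ x trivial (eq₀ j y) ∈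
        (⨅ i : ℕ, IsLocalRing.maximalIdeal (X.presheaf.stalk x) ^ i •
          (⊤ : Submodule (X.presheaf.stalk x) ((G j).presheaf.stalk x))) := by
      rw [Submodule.mem_iInf]
      intro i
      exact hQ i j hj y x hx
    rw [hK] at hmem
    exact (Submodule.mem_bot _).1 hmem
  refine ⟨j₀, fun j hj => ⟨fun y y' => ?_⟩⟩
  suffices h : ∀ y : Coh.HH X (G j) 0, y = 0 by rw [h y, h y']
  intro y
  let T : Set X := {x | (G j).presheaf.germ ⊤ x trivial (eq₀ j y) ≠ 0}
  have hTU : T ⊆ U := fun x hx => by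
    by_contra h
    exact hx (hzero j hj y x h)
  have hTcl : IsClosed T := by
    rw [← isOpen_compl_iff, isOpen_iff_forall_mem_open]
    intro x hx
    have hx0 : (G j).presheaf.germ ⊤ x trivial (eq₀ j y) = 0 := not_not.1 hx
    obtain ⟨W, hxW, i₁, i₂, hW⟩ := TopCat.Presheaf.germ_eq (G j).presheaf (U := ⊤) (V := ⊤) x trivial trivial
      (eq₀ j y) 0 (hx0.trans (map_zero _).symm)
    refine ⟨W, fun z hz => ?_, W.2, hxW⟩
    show ¬ ((G j).presheaf.germ ⊤ z trivial (eq₀ j y) ≠ 0)
    rw [not_not, ← TopCat.Presheaf.germ_res_apply (G j).presheaf i₁ z hz (eq₀ j y), hW, map_zero,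
      map_zero]
  have hclosedpt : ∀ x ∈ T, IsClosed ({x} : Set X) := fun x hx =>
    isClosed_singleton_of_subset_affine k X U hU T hTcl hTU x hx
  let W : X.Opens := ⟨Tᶜ, hTcl.isOpen_compl⟩
  have hassW : ∀ x, Curv2.IsAssPoint (G j) x → x ∈ W := by
    intro x hx
    show x ∈ Tᶜ
    intro hxT
    exact (hass j x hx).2 (hclosedpt x hxT)
  have h3 : (G j).presheaf.map (homOfLE (le_top : W ≤ ⊤)).op (eq₀ j y) = 0 :=
    res_eq_zero_of_germ (G j) W (eq₀ j y) (fun x hx => by
      by_contra h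
      exact hx h)
  have h4 := Groth.Agent.S1705.result X (G j) (hG j).1 W hassW
  have h5 : eq₀ j y = 0 := h4 (h3.trans (map_zero _).symm)
  exact (eq₀ j).injective (h5.trans (map_zero _).symm)

end Groth.Agent.Helper28.NegTwist
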