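import Mathlib
import Groth.Prelude
import Groth.Agent.S0002
import Groth.Agent.S1705
import Groth.Agent.Lib.Helper13.PnFin1
import Groth.Agent.Lib.Helper13.LocFree2
import Groth.Agent.Lib.Helper13.QCohStalk
import Groth.Agent.Lib.Helper13.EpiGen
import Groth.Agent.Lib.Helper28.NegTwistA0

/-!
# Vanishing of `H^0` along a tower of coherent modules (helper28)
-/

set_option autoImplicit false
set_option linter.style.haveILetI false
set_option linter.unusedSectionVars false
universe u
open CategoryTheory CategoryTheory.Limits AlgebraicGeometry Opposite TopologicalSpace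
open Groth.Agent.Helper13.QCoh Groth.Agent.Helper13.FinType

namespace Groth.Agent.Helper28.NegTwist

set_option maxHeartbeats 1600000 in
/-- the tower lemma. -/
theorem tower_vanish (k : Type u) [Field k] (X : Scheme.{u}) [X.Over (Spec (CommRingCat.of k))]
    [IsProper (X ↘ Spec (CommRingCat.of k))]
    (G : ℕ → X.Modules) (hG : ∀ j, Coh.IsCoh (G j)) (μ : ∀ j, G (j + 1) ⟶ G j)
    (U : X.Opens) (hU : IsAffineOpen U)
    (hass : ∀ j x, Curv2.IsAssPoint (G j) x → x ∈ U ∧ ¬ IsClosed ({x} : Set X))
    (hinj : ∀ j (x : X), x ∈ U → Function.Injective (stalkMap (μ j) x))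
    (hvan : ∀ j (x : X), x ∉ U → ∀ z, stalkMap (μ j) x z ∈
      IsLocalRing.maximalIdeal (X.presheaf.stalk x) •
        (⊤ : Submodule (X.presheaf.stalk x) ((G j).presheaf.stalk x))) :
    ∃ j₀ : ℕ, ∀ j, j₀ ≤ j → Subsingleton (Coh.HH X (G j) 0) := by
  haveI : IsLocallyNoetherian X :=
    LocallyOfFiniteType.isLocallyNoetherian (X ↘ Spec (CommRingCat.of k))
  refine tower_vanish_aux k X G hG μ U hU hass hinj hvan
    (fun j => Groth.Agent.S0002.result k X (G j) (hG j) 0)
    (fun j => Groth.Agent.Helper13.PnFin.hstar k (μ j) 0) ?_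
  intro j y
  exact (Sheaf.H.equiv₀_naturality ((SheafOfModules.toSheaf X.ringCatSheaf).map (μ j))
    (hT := (isTerminalTop : IsTerminal (⊤ : Opens X))) y).symm

end Groth.Agent.Helper28.NegTwist
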