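import Mathlib
import Groth.Prelude
import Groth.Agent.Lib.Helper13.TensorPow
import Groth.Agent.Lib.Helper13.GenLocus
import Groth.Agent.Lib.Helper13.InvTensor
import Groth.Agent.Lib.Helper13.GlobGen
import Groth.Agent.Lib.Helper13.TensorQCoh
import Groth.Agent.Lib.Helper13.InvQCoh
import Groth.Agent.Lib.Helper13.LocFree2
import Groth.Agent.Lib.Helper13.QCohStalk
import Groth.Agent.Lib.Helper13.EpiGen

/-!
# Multiplication by a section of `L^m` on `H ⊗ L^{-m}` (helper28)
-/

set_option autoImplicit false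
set_option linter.style.haveILetI false
set_option linter.unusedSectionVars false
universe u
open CategoryTheory CategoryTheory.Limits AlgebraicGeometry Opposite TopologicalSpace TensorProduct
open Groth.Agent.Helper13 Groth.Agent.Helper13.QCoh Groth.Agent.Helper13.FinType
open Groth.Agent.Helper13.Tensor Groth.Agent.Helper13.Inv Groth.Agent.Helper13.GenLoc

namespace Groth.Agent.Helper28.NegTwist

variable {X : Scheme.{u}}

lemma stalkMap_comp'' {M N P : X.Modules} (a : M ⟶ N) (b : N ⟶ P) (y : X)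
    (m : M.presheaf.stalk y) :
    stalkMap (a ≫ b) y m = stalkMap b y (stalkMap a y m) := by
  obtain ⟨U, hyU, t, rfl⟩ := TopCat.Presheaf.exists_germ_eq M.presheaf m
  rw [stalkMap_germ, stalkMap_germ, stalkMap_germ]
  rfl

lemma stalkMap_comp_bijective {M N P : X.Modules} (a : M ⟶ N) (b : N ⟶ P) (y : X)
    (ha : Function.Bijective (stalkMap a y)) (hb : Function.Bijective (stalkMap b y)) :
    Function.Bijective (stalkMap (a ≫ b) y) := by
  have h : (stalkMap (a ≫ b) y : _ → _) = (stalkMap b y) ∘ (stalkMap a y) := by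
    funext m
    exact stalkMap_comp'' a b y m
  rw [h]
  exact hb.comp ha

lemma stalkMap_map_bijective {M M' N N' : X.Modules} (f : M ⟶ M') (g : N ⟶ N') (x : X)
    (hf : Function.Bijective (stalkMap f x)) (hg : Function.Bijective (stalkMap g x)) :
    Function.Bijective (stalkMap (map f g) x) := by
  have hb : Function.Bijective (TensorProduct.map (stalkLinearMap f x) (stalkLinearMap g x)) :=
    bijective_tensorMap _ _ hf hg
  have key : (stalkMap (map f g) x : _ → _) =
      (stalkTensorEquiv M' N' x) ∘ (TensorProduct.map (stalkLinearMap f x) (stalkLinearMap g x)) ∘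
        (stalkTensorEquiv M N x).symm := by
    funext z
    obtain ⟨w, rfl⟩ := (stalkTensorEquiv M N x).surjective z
    rw [stalkMap_map]
    simp
  rw [key]
  exact (stalkTensorEquiv M' N' x).bijective.comp
    (hb.comp (stalkTensorEquiv M N x).symm.bijective)

section Sigma

variable (Lm N : X.Modules) (e : CohB1.tensorMod Lm N ≅ Coh.structureModule X)
  (s : Coh.structureModule X ⟶ Lm)

/-- the unit section of `O` over `W`. -/
noncomputable abbrev oneO (W : X.Opens) : Γ(Coh.structureModule X, W) :=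
  (1 : X.ringCatSheaf.obj.obj (op W))

lemma lid_inv_app (W : X.Opens) (ν : Γ(N, W)) :
    (lid N).inv.app W ν = tmul (Coh.structureModule X) N (oneO W) ν := by
  have h1 : (lid N).hom.app W (tmul (Coh.structureModule X) N (oneO W) ν) = ν := by
    change (lidHom N).app W _ = ν
    rw [lidHom_app_tmul]
    change (1 : Γ(X, W)) • ν = ν
    exact one_smul _ ν
  have h2 : (lid N).inv.app W ((lid N).hom.app W (tmul (Coh.structureModule X) N (oneO W) ν)) =
      tmul (Coh.structureModule X) N (oneO W) ν := by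
    rw [← ConcreteCategory.comp_apply, ← Scheme.Modules.Hom.comp_app, Iso.hom_inv_id]
    rfl
  rw [h1] at h2
  exact h2

/-- multiplication by `s`, as a map `N ⟶ O`. -/
noncomputable def sigma : N ⟶ Coh.structureModule X := (lid N).inv ≫ map s (𝟙 N) ≫ e.hom

lemma sigma_app (W : X.Opens) (ν : Γ(N, W)) :
    (sigma Lm N e s).app W ν = e.hom.app W (tmul Lm N (PicF2.secVal Lm s W) ν) := by
  unfold sigma
  rw [Scheme.Modules.Hom.comp_app, ConcreteCategory.comp_apply, Scheme.Modules.Hom.comp_app,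
    ConcreteCategory.comp_apply, lid_inv_app, map_app_tmul]
  rfl

theorem sigma_not_mem_basicOpen (hLm : PicF.IsInvertible Lm) (x : X)
    (hx : x ∉ CohB1.genLocus Lm s) (W : X.Opens) (hxW : x ∈ W) (ν : Γ(N, W)) :
    x ∉ X.basicOpen (LocFree.ofO W ((sigma Lm N e s).app W ν)) := by
  intro hb
  have hu : IsUnit (X.presheaf.germ W x hxW (LocFree.ofO W ((sigma Lm N e s).app W ν))) :=
    (Scheme.mem_basicOpen _ _ x hxW).1 hb
  have hε : εStalk Lm N e x (Lm.presheaf.germ W x hxW (PicF2.secVal Lm s W) ⊗ₜ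
        N.presheaf.germ W x hxW ν) =
      X.presheaf.germ W x hxW (LocFree.ofO W ((sigma Lm N e s).app W ν)) := by
    rw [εStalk_germ, sigma_app]
  obtain ⟨u, hu'⟩ := hu
  have h1 : εStalk Lm N e x (Lm.presheaf.germ W x hxW (PicF2.secVal Lm s W) ⊗ₜ
      ((↑u⁻¹ : X.presheaf.stalk x) • N.presheaf.germ W x hxW ν)) = 1 := by
    rw [TensorProduct.tmul_smul, map_smul, hε, ← hu', smul_eq_mul, Units.inv_mul]
  have hgen : IsGen Lm (PicF2.secVal Lm s W) x hxW :=
    bijective_smul_of_tensor_equiv (εStalk Lm N e x) _ _ h1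
  have hres : PicF2.secVal Lm s W = Lm.presheaf.map (homOfLE (le_top : W ≤ ⊤)).op (sec Lm s) :=
    (SecTwist.map_val s (homOfLE (le_top : W ≤ ⊤))).symm
  rw [hres, isGen_res] at hgen
  exact hx ((mem_genLocus_iff_isGen Lm s hLm x).2 hgen)

theorem sigma_stalk_bijective (x : X) (hx : x ∈ CohB1.genLocus Lm s) :
    Function.Bijective (stalkMap (sigma Lm N e s) x) := by
  unfold sigma
  refine stalkMap_comp_bijective _ _ x (stalkMap_bijective_of_isIso (lid N).inv x) ?_
  refine stalkMap_comp_bijective _ _ x ?_ (stalkMap_bijective_of_isIso e.hom x)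
  exact stalkMap_map_bijective s (𝟙 N) x (stalkMap_bijective_of_mem_genLocus Lm s hx)
    (stalkMap_bijective_of_isIso (𝟙 N) x)

variable (H : X.Modules)

/-- `H ⊗ N ⟶ H`, multiplication by `s`. -/
noncomputable def muH : CohB1.tensorMod H N ⟶ H :=
  map (𝟙 H) (sigma Lm N e s) ≫ (rid H).hom

lemma muH_app_tmul (W : X.Opens) (h : Γ(H, W)) (ν : Γ(N, W)) :
    (muH Lm N e s H).app W (tmul H N h ν) =
      LocFree.ofO W ((sigma Lm N e s).app W ν) • h := by
  unfold muH
  rw [Scheme.Modules.Hom.comp_app, ConcreteCategory.comp_apply, map_app_tmul, rid_hom_app_tmul]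
  rfl

theorem muH_stalk_bijective (x : X) (hx : x ∈ CohB1.genLocus Lm s) :
    Function.Bijective (stalkMap (muH Lm N e s H) x) := by
  unfold muH
  refine stalkMap_comp_bijective _ _ x ?_ (stalkMap_bijective_of_isIso (rid H).hom x)
  exact stalkMap_map_bijective (𝟙 H) (sigma Lm N e s) x (stalkMap_bijective_of_isIso (𝟙 H) x)
    (sigma_stalk_bijective Lm N e s x hx)

theorem muH_mem_maximalIdeal_smul (hLm : PicF.IsInvertible Lm) (x : X)
    (hx : x ∉ CohB1.genLocus Lm s) (z : (CohB1.tensorMod H N).presheaf.stalk x) :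
    stalkMap (muH Lm N e s H) x z ∈ IsLocalRing.maximalIdeal (X.presheaf.stalk x) •
      (⊤ : Submodule (X.presheaf.stalk x) (H.presheaf.stalk x)) := by
  refine stalk_tensorMod_induction H N x
    (p := fun z => stalkMap (muH Lm N e s H) x z ∈ IsLocalRing.maximalIdeal (X.presheaf.stalk x) •
      (⊤ : Submodule (X.presheaf.stalk x) (H.presheaf.stalk x))) ?_ ?_ ?_ z
  · show stalkMap (muH Lm N e s H) x 0 ∈ _
    rw [map_zero]
    exact Submodule.zero_mem _
  · intro W hW h ν
    show stalkMap (muH Lm N e s H) x _ ∈ _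
    rw [stalkMap_germ, muH_app_tmul, Tensor.germ_smul]
    refine Submodule.smul_mem_smul ?_ trivial
    rw [IsLocalRing.mem_maximalIdeal, mem_nonunits_iff]
    intro hu
    exact sigma_not_mem_basicOpen Lm N e s hLm x hx W hW ν
      ((Scheme.mem_basicOpen _ _ x hW).2 hu)
  · intro a b ha hb
    show stalkMap (muH Lm N e s H) x (a + b) ∈ _
    rw [map_add]
    exact Submodule.add_mem _ ha hb

end Sigma

section Ass

theorem isAssPoint_tensor_iff (H N : X.Modules) (hN : PicF.IsInvertible N) (x : X) :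
    Curv2.IsAssPoint (CohB1.tensorMod H N) x ↔ Curv2.IsAssPoint H x := by
  obtain ⟨U, hxU, t, ht⟩ := (isInvertible_iff_exists_isGen N).1 hN x
  let eN : X.presheaf.stalk x ≃ₗ[X.presheaf.stalk x] N.presheaf.stalk x :=
    LinearEquiv.ofBijective
      (LinearMap.toSpanSingleton (X.presheaf.stalk x) (N.presheaf.stalk x)
        (N.presheaf.germ U x hxU t)) (ht x hxU)
  let l : (CohB1.tensorMod H N).presheaf.stalk x ≃ₗ[X.presheaf.stalk x] H.presheaf.stalk x :=
    (stalkTensorEquiv H N x).symm ≪≫ₗ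
      TensorProduct.congr (LinearEquiv.refl _ _) eN.symm ≪≫ₗ TensorProduct.rid _ _
  unfold Curv2.IsAssPoint
  change IsLocalRing.maximalIdeal (X.presheaf.stalk x) ∈
      associatedPrimes (X.presheaf.stalk x) ((CohB1.tensorMod H N).presheaf.stalk x) ↔
    IsLocalRing.maximalIdeal (X.presheaf.stalk x) ∈
      associatedPrimes (X.presheaf.stalk x) (H.presheaf.stalk x)
  rw [LinearEquiv.AssociatedPrimes.eq l]

end Ass

section Iter

/-- `((G ⊗ N) ⊗ N) ⊗ ⋯`. -/
noncomputable def iter (G N : X.Modules) : ℕ → X.Modules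
  | 0 => G
  | j + 1 => CohB1.tensorMod (iter G N j) N

/-- `iter G N j ≅ G ⊗ N^j`. -/
noncomputable def iterIso (G N : X.Modules) :
    ∀ j : ℕ, iter G N j ≅ CohB1.tensorMod G (CohB1.tensorPow N j)
  | 0 => (rid G).symm
  | j + 1 => mapIso (iterIso G N j) (Iso.refl N) ≪≫ assoc G (CohB1.tensorPow N j) N

theorem isCoh_tensor_inv (M N : X.Modules) (hM : Coh.IsCoh M) (hN : PicF.IsInvertible N) :
    Coh.IsCoh (CohB1.tensorMod M N) := by
  haveI : M.IsQuasicoherent := hM.1
  haveI : SheafOfModules.IsFiniteType (R := X.ringCatSheaf) M := hM.2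
  haveI : N.IsQuasicoherent := Inv.isQuasicoherent_of_isInvertible _ hN
  haveI : SheafOfModules.IsFiniteType (R := X.ringCatSheaf) N :=
    GlobGen.isFiniteType_of_isInvertible _ hN
  exact ⟨Tensor.isQuasicoherent_tensorMod _ _, Tensor.isFiniteType_tensorMod _ _⟩

theorem isCoh_iter (G N : X.Modules) (hG : Coh.IsCoh G) (hN : PicF.IsInvertible N) :
    ∀ j, Coh.IsCoh (iter G N j)
  | 0 => hG
  | j + 1 => isCoh_tensor_inv _ N (isCoh_iter G N hG hN j) hN

theorem isAssPoint_iter_iff (G N : X.Modules) (hN : PicF.IsInvertible N) (x : X) :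
    ∀ j, Curv2.IsAssPoint (iter G N j) x ↔ Curv2.IsAssPoint G x
  | 0 => Iff.rfl
  | j + 1 => (isAssPoint_tensor_iff (iter G N j) N hN x).trans (isAssPoint_iter_iff G N hN x j)

end Iter

end Groth.Agent.Helper28.NegTwist
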