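import Mathlib
import Groth.Prelude
import Groth.Agent.Lib.Helper28.NegTwistA
import Groth.Agent.Lib.Helper28.NegTwistB0
import Groth.Agent.S1576
import Groth.Agent.S2324

/-!
# `Γ(X, F ⊗ L^{-n}) = 0` for `n ≫ 0` (helper28)
-/

set_option autoImplicit false
set_option linter.style.haveILetI false
set_option linter.unusedSectionVars false
universe u
open CategoryTheory CategoryTheory.Limits AlgebraicGeometry Opposite TopologicalSpace TensorProduct
open Groth.Agent.Helper13 Groth.Agent.Helper13.QCoh Groth.Agent.Helper13.FinType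
open Groth.Agent.Helper13.Tensor Groth.Agent.Helper13.Inv Groth.Agent.Helper13.GenLoc

namespace Groth.Agent.Helper28.NegTwist

variable {X : Scheme.{u}}

theorem subsingleton_HH_of_iso (k : Type u) [Field k] [X.Over (Spec (CommRingCat.of k))]
    {M M' : X.Modules} (e : M ≅ M') (n : ℕ) (h : Subsingleton (Coh.HH X M' n)) :
    Subsingleton (Coh.HH X M n) := by
  refine ⟨fun a b => ?_⟩
  have key : ∀ z : Coh.HH X M n, z = PnFin.hstar k e.inv n (PnFin.hstar k e.hom n z) := by
    intro z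
    have h1 := PnFin.hstar_comp k e.hom e.inv n
    rw [e.hom_inv_id, PnFin.hstar_id] at h1
    exact LinearMap.congr_fun h1 z
  rw [key a, key b, Subsingleton.elim (PnFin.hstar k e.hom n a) (PnFin.hstar k e.hom n b)]

set_option maxHeartbeats 1600000 in
theorem main (k : Type u) [Field k] (X : Scheme.{u}) [X.Over (Spec (CommRingCat.of k))]
    [IsProper (X ↘ Spec (CommRingCat.of k))]
    (L : X.Modules) (hL : CohB1.IsAmple L) (M : X.Modules) (hM : ClSub.IsInverseOf L M)
    (F : X.Modules) (hF : Coh.IsCoh F)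
    (hass : ∀ x : X, IsClosed ({x} : Set X) → ¬ Curv2.IsAssPoint F x) :
    ∃ n₀ : ℕ, ∀ n : ℕ, n₀ ≤ n →
      Subsingleton (Coh.HH X (CohB1.tensorMod F (CohB1.tensorPow M n)) 0) := by
  haveI : IsLocallyNoetherian X :=
    LocallyOfFiniteType.isLocallyNoetherian (X ↘ Spec (CommRingCat.of k))
  haveI : CompactSpace X := hL.2.1
  haveI : X.IsSeparated := by
    constructor
    rw [← terminal.comp_from (X ↘ Spec (CommRingCat.of k))]
    infer_instance
  have hfinAss : {x : X | Curv2.IsAssPoint F x}.Finite := by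
    have h := Groth.Agent.S1576.result X F hF ⊤ (by rw [Opens.coe_top]; exact isCompact_univ)
    exact h.subset (fun x hx => ⟨trivial, hx⟩)
  obtain ⟨n', s, hZs, -, hsaff⟩ := Groth.Agent.S2324.result X L hL {x : X | Curv2.IsAssPoint F x}
    hfinAss ⊤ (fun _ _ => trivial)
  obtain ⟨e0⟩ := hM
  have hMinv : PicF.IsInvertible M := Inv.isInvertible_of_tensor_iso M L (braid M L ≪≫ e0)
  have hLm : PicF.IsInvertible (CohB1.tensorPow L (n' + 1)) := isInvertible_tensorPow L hL.1 (n' + 1)
  have hN : PicF.IsInvertible (CohB1.tensorPow M (n' + 1)) := isInvertible_tensorPow M hMinv (n' + 1)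
  let e : CohB1.tensorMod (CohB1.tensorPow L (n' + 1)) (CohB1.tensorPow M (n' + 1)) ≅
      Coh.structureModule X :=
    (powTensor L M (n' + 1)).symm ≪≫ powIso e0 (n' + 1) ≪≫ powUnit (n' + 1)
  have key : ∀ r : ℕ, ∃ j₀ : ℕ, ∀ j, j₀ ≤ j → Subsingleton (Coh.HH X
      (iter (CohB1.tensorMod F (CohB1.tensorPow M r)) (CohB1.tensorPow M (n' + 1)) j) 0) := by
    intro r
    have hG0 : Coh.IsCoh (CohB1.tensorMod F (CohB1.tensorPow M r)) :=
      isCoh_tensor_inv F _ hF (isInvertible_tensorPow M hMinv r)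
    have hassG0 : ∀ x, Curv2.IsAssPoint (CohB1.tensorMod F (CohB1.tensorPow M r)) x ↔
        Curv2.IsAssPoint F x := fun x =>
      isAssPoint_tensor_iff F _ (isInvertible_tensorPow M hMinv r) x
    refine tower_vanish k X
      (iter (CohB1.tensorMod F (CohB1.tensorPow M r)) (CohB1.tensorPow M (n' + 1)))
      (isCoh_iter _ _ hG0 hN)
      (fun j => muH (CohB1.tensorPow L (n' + 1)) (CohB1.tensorPow M (n' + 1)) e s
        (iter (CohB1.tensorMod F (CohB1.tensorPow M r)) (CohB1.tensorPow M (n' + 1)) j))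
      (CohB1.genLocus _ s) hsaff ?_ ?_ ?_
    · intro j x hx
      have hFx : Curv2.IsAssPoint F x :=
        (hassG0 x).1 ((isAssPoint_iter_iff _ _ hN x j).1 hx)
      exact ⟨hZs hFx, fun hcl => hass x hcl hFx⟩
    · intro j x hx
      exact (muH_stalk_bijective _ _ e s _ x hx).1
    · intro j x hx z
      exact muH_mem_maximalIdeal_smul _ _ e s _ hLm x hx z
  choose J hJ using key
  refine ⟨(n' + 1) * ((Finset.range (n' + 1)).sup J) + (n' + 1), fun n hn => ?_⟩
  obtain ⟨r, j, hr, rfl⟩ : ∃ r j, r < n' + 1 ∧ n = r + (n' + 1) * j :=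
    ⟨n % (n' + 1), n / (n' + 1), Nat.mod_lt _ (Nat.succ_pos _), (Nat.mod_add_div n (n' + 1)).symm⟩
  have hj : J r ≤ j := by
    have h1 : J r ≤ (Finset.range (n' + 1)).sup J := Finset.le_sup (f := J) (Finset.mem_range.2 hr)
    by_contra hlt
    have h2 : j + 1 ≤ (Finset.range (n' + 1)).sup J := by omega
    have h3 := Nat.mul_le_mul_left (n' + 1) h2
    rw [Nat.mul_succ] at h3
    omega
  have hsub := hJ r j hj
  let iso : CohB1.tensorMod F (CohB1.tensorPow M (r + (n' + 1) * j)) ≅
      iter (CohB1.tensorMod F (CohB1.tensorPow M r)) (CohB1.tensorPow M (n' + 1)) j :=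
    mapIso (Iso.refl F) (powAdd M r ((n' + 1) * j) ≪≫
      mapIso (Iso.refl _) (powMul M (n' + 1) j).symm) ≪≫
    (assoc F _ _).symm ≪≫ (iterIso _ _ j).symm
  exact subsingleton_HH_of_iso k iso 0 hsub

end Groth.Agent.Helper28.NegTwist
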