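import Mathlib
import Groth.Prelude.Def_Fitting
import Groth.Prelude.Def_Frob

/-!
# A norm for `X_red ⟶ X` in characteristic `p` (Noetherian case), through an iterated Frobenius
-/

set_option autoImplicit false
universe u
open CategoryTheory CategoryTheory.Limits AlgebraicGeometry Opposite TopologicalSpace
open FrobSch

namespace Groth.Agent.Helper28.NormRed

variable (X : Scheme.{u}) (p : ℕ) [Fact p.Prime] [IsCharP X p]

/-- the iterated absolute Frobenius. -/
noncomputable def frobIter : ℕ → (X ⟶ X)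
  | 0 => 𝟙 X
  | e + 1 => frobIter e ≫ frob X p

lemma frobIter_apply (e : ℕ) (x : X) : frobIter X p e x = x := by
  induction e with
  | zero => rfl
  | succ k ih =>
    show (frobIter X p k ≫ frob X p) x = x
    rw [Scheme.Hom.comp_apply, frob_apply, ih]

lemma frobIter_preimage (e : ℕ) (U : X.Opens) : frobIter X p e ⁻¹ᵁ U = U :=
  Opens.ext (Set.ext fun x => by
    show frobIter X p e x ∈ U ↔ x ∈ U
    rw [frobIter_apply])

lemma frob_appLE (U : X.Opens) (s : Γ(X, U)) :
    (frob X p).appLE U U le_rfl s = s ^ p := by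
  have h : (frob X p).appLE U U le_rfl = (frob X p).app U :=
    (Scheme.Hom.app_eq_appLE (f := frob X p) (U := U)).symm
  rw [h]
  rfl

lemma frobIter_appLE (e : ℕ) (U : X.Opens) (s : Γ(X, U)) :
    (frobIter X p e).appLE U U (frobIter_preimage X p e U).ge s = s ^ (p ^ e) := by
  induction e generalizing s with
  | zero =>
    have h : (frobIter X p 0).appLE U U (frobIter_preimage X p 0 U).ge = (𝟙 X : X ⟶ X).app U :=
      (Scheme.Hom.app_eq_appLE (f := (𝟙 X : X ⟶ X)) (U := U)).symm
    rw [h, pow_zero, pow_one]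
    rfl
  | succ k ih =>
    have h : (frobIter X p (k + 1)).appLE U U (frobIter_preimage X p (k + 1) U).ge =
        (frob X p).appLE U U le_rfl ≫
          (frobIter X p k).appLE U U (frobIter_preimage X p k U).ge := by
      rw [Scheme.Hom.appLE_comp_appLE]
      rfl
    rw [h, CommRingCat.comp_apply, frob_appLE, ih, pow_succ' p k, pow_mul]

instance quasiCompact_frobIter (e : ℕ) : QuasiCompact (frobIter X p e) := by
  rw [quasiCompact_iff]
  intro U hU hUc
  have : (frobIter X p e) ⁻¹' U = U := Set.ext fun x => by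
    show frobIter X p e x ∈ U ↔ x ∈ U
    rw [frobIter_apply]
  rw [this]
  exact hUc

lemma mem_ker_frobIter (e : ℕ) (U : X.affineOpens) (s : Γ(X, U.1)) (hs : s ^ (p ^ e) = 0) :
    s ∈ (frobIter X p e).ker.ideal U := by
  rw [Scheme.Hom.ker_apply, RingHom.mem_ker]
  have h1 : (frobIter X p e).app U.1 ≫
      X.presheaf.map (homOfLE (frobIter_preimage X p e U.1).ge).op =
      (frobIter X p e).appLE U.1 U.1 (frobIter_preimage X p e U.1).ge := rfl
  have h2 := frobIter_appLE X p e U.1 s
  rw [← h1, CommRingCat.comp_apply, hs] at h2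
  -- the restriction along an equality of opens is injective
  have hinj : Function.Injective
      (X.presheaf.map (homOfLE (frobIter_preimage X p e U.1).ge).op).hom := by
    have : IsIso (homOfLE (frobIter_preimage X p e U.1).ge) :=
      ⟨homOfLE (frobIter_preimage X p e U.1).le, Subsingleton.elim _ _, Subsingleton.elim _ _⟩
    have : IsIso (X.presheaf.map (homOfLE (frobIter_preimage X p e U.1).ge).op) := inferInstance
    exact (ConcreteCategory.bijective_of_isIso _).injective
  apply hinj
  rw [map_zero]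
  exact h2

variable {X p}

theorem hasNorm_of_le (e : ℕ) (hle : X.nilradical ≤ (frobIter X p e).ker) :
    Nrm.HasNorm X.nilradical.subschemeι (p ^ e) := by
  have hle' : (X.nilradical.subschemeι).ker ≤ (frobIter X p e).ker := by
    rw [Scheme.IdealSheafData.ker_subschemeι]
    exact hle
  have hφ : IsClosedImmersion.lift X.nilradical.subschemeι (frobIter X p e) hle' ≫
      X.nilradical.subschemeι = frobIter X p e := IsClosedImmersion.lift_fac _ _ _
  generalize IsClosedImmersion.lift X.nilradical.subschemeι (frobIter X p e) hle' = φ at hφ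
  have hpre : ∀ U : X.Opens, U ≤ φ ⁻¹ᵁ (X.nilradical.subschemeι ⁻¹ᵁ U) := fun U x hx => by
    show X.nilradical.subschemeι (φ x) ∈ U
    rw [← Scheme.Hom.comp_apply, hφ, frobIter_apply]
    exact hx
  have hφi : ∀ x : X.nilradical.subscheme, φ (X.nilradical.subschemeι x) = x := fun x => by
    apply X.nilradical.subschemeι.isEmbedding.injective
    rw [← Scheme.Hom.comp_apply, hφ, frobIter_apply]
  refine ⟨{ one_le := Nat.one_le_pow _ _ (Fact.out : p.Prime).pos
            norm := fun U => (φ.appLE (X.nilradical.subschemeι ⁻¹ᵁ U) U (hpre U)).hom.toMonoidHom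
            norm_res := ?_, norm_app := ?_, norm_mem := ?_ }⟩
  · intro U V j s
    have h1 := Scheme.Hom.appLE_map φ (hpre U) j.op
    have h2 := Scheme.Hom.map_appLE φ (hpre V) ((Opens.map X.nilradical.subschemeι.base).map j).op
    exact (congr($h1 s)).trans (congr($h2 s)).symm
  · intro U g
    have h1 : X.nilradical.subschemeι.app U ≫
        φ.appLE (X.nilradical.subschemeι ⁻¹ᵁ U) U (hpre U) =
        (φ ≫ X.nilradical.subschemeι).appLE U U (hpre U) := by
      rw [Scheme.Hom.app_eq_appLE, Scheme.Hom.appLE_comp_appLE]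
    have h2 : ∀ (ψ : X ⟶ X) (hψ : ψ = frobIter X p e) (h : U ≤ ψ ⁻¹ᵁ U),
        ψ.appLE U U h g = g ^ (p ^ e) := by
      intro ψ hψ h
      subst hψ
      exact frobIter_appLE X p e U g
    exact (congr($h1 g)).trans (h2 _ hφ _)
  · intro U s x hx hs
    by_contra hns
    have hu : IsUnit (X.presheaf.germ U (X.nilradical.subschemeι.base x) hx
        (φ.appLE (X.nilradical.subschemeι ⁻¹ᵁ U) U (hpre U) s)) :=
      IsLocalRing.notMem_maximalIdeal.1 hns
    have hy : X.nilradical.subschemeι.base x ∈
        X.basicOpen (φ.appLE (X.nilradical.subschemeι ⁻¹ᵁ U) U (hpre U) s) :=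
      (X.mem_basicOpen _ _ hx).2 hu
    rw [Scheme.basicOpen_appLE] at hy
    have hy2 : φ (X.nilradical.subschemeι x) ∈ X.nilradical.subscheme.basicOpen s := hy.2
    rw [hφi] at hy2
    have hu2 := (X.nilradical.subscheme.mem_basicOpen s x hx).1 hy2
    exact ((IsLocalRing.mem_maximalIdeal _).1 hs) hu2

variable (X p)

lemma exists_le_ker [IsNoetherian X] : ∃ e : ℕ, 0 < e ∧ X.nilradical ≤ (frobIter X p e).ker := by
  classical
  -- a finite affine cover
  obtain ⟨t, ht⟩ := isCompact_univ.elim_finite_subcover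
    (fun U : X.affineOpens => (U.1 : Set X)) (fun U => U.1.2)
    (fun x _ => by
      obtain ⟨_, ⟨V, hV, rfl⟩, hxV, -⟩ := X.isBasis_affineOpens.exists_subset_of_mem_open
        (Set.mem_univ x) isOpen_univ
      exact Set.mem_iUnion.2 ⟨⟨V, hV⟩, hxV⟩)
  have hnil : ∀ U : X.affineOpens, ∃ n : ℕ, ∀ s ∈ nilradical Γ(X, U.1), s ^ n = 0 := by
    intro U
    haveI : IsNoetherianRing Γ(X, U.1) := IsLocallyNoetherian.component_noetherian U
    obtain ⟨n, hn⟩ := IsNoetherianRing.isNilpotent_nilradical Γ(X, U.1)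
    refine ⟨n, fun s hs => ?_⟩
    have := Ideal.pow_mem_pow hs n
    rw [hn] at this
    exact this
  choose n hn using hnil
  let N := t.sup n
  refine ⟨N + 1, Nat.succ_pos _, ?_⟩
  apply Scheme.IdealSheafData.le_of_iSup_eq_top (fun U : t => U.1)
  · rw [eq_top_iff]
    intro x _
    have hx := ht (Set.mem_univ x)
    simp only [Set.mem_iUnion] at hx
    obtain ⟨U, hUt, hxU⟩ := hx
    exact Opens.mem_iSup.2 ⟨⟨U, hUt⟩, hxU⟩
  · rintro ⟨U, hUt⟩ s hs
    apply mem_ker_frobIter
    have hs' : s ∈ nilradical Γ(X, U.1) := hs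
    have hle : n U ≤ p ^ (N + 1) := by
      have h1 : n U ≤ N := Finset.le_sup hUt
      have h2 : N + 1 ≤ p ^ (N + 1) := (Nat.lt_pow_self (Fact.out : p.Prime).one_lt).le
      omega
    exact pow_eq_zero_of_le hle (hn U s hs')

theorem hasNorm [IsNoetherian X] : ∃ e : ℕ, 0 < e ∧ Nrm.HasNorm X.nilradical.subschemeι (p ^ e) := by
  obtain ⟨e, he, hle⟩ := exists_le_ker X p
  exact ⟨e, he, hasNorm_of_le e hle⟩

end Groth.Agent.Helper28.NormRed
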