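import Mathlib
set_option autoImplicit false
universe v₁ v₂ v₃ u₁ u₂ u₃
open CategoryTheory

namespace Groth.Agent.Helper28.OverLoc

variable {C : Type u₁} [Category.{v₁} C] (W : MorphismProperty C) [W.HasRightCalculusOfFractions] (S : C)

instance hasRightCalc : (W.inverseImage (Over.forget S)).HasRightCalculusOfFractions where
  toIsMultiplicative := inferInstance
  exists_rightFraction A B φ := by
    obtain ⟨ψ, hψ⟩ := MorphismProperty.HasRightCalculusOfFractions.exists_rightFraction (W := W)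
      (MorphismProperty.LeftFraction.mk φ.f.left φ.s.left φ.hs)
    dsimp at hψ
    have hw : ψ.f ≫ B.hom = ψ.s ≫ A.hom := by
      rw [← Over.w φ.s, ← Over.w φ.f, ← Category.assoc, ← Category.assoc, hψ]
    refine ⟨MorphismProperty.RightFraction.mk (X' := Over.mk (ψ.s ≫ A.hom))
      (Over.homMk ψ.s rfl) ψ.hs (Over.homMk ψ.f hw), ?_⟩
    apply Over.OverMorphism.ext
    exact hψ
  ext A B B' f₁ f₂ s hs h := by
    obtain ⟨X', t, ht, hft⟩ := MorphismProperty.HasRightCalculusOfFractions.ext (W := W)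
      f₁.left f₂.left s.left hs (by rw [← Over.comp_left, ← Over.comp_left, h])
    refine ⟨Over.mk (t ≫ A.hom), Over.homMk t rfl, ht, ?_⟩
    apply Over.OverMorphism.ext
    exact hft


/-- surjectivity on morphisms between objects in the image of `L'` -/
lemma claimA {C : Type u₁} [Category.{v₁} C] (W : MorphismProperty C)
    [W.HasRightCalculusOfFractions] (S : C)
    {D : Type u₂} [Category.{v₂} D] (L : C ⥤ D) [L.IsLocalization W]
    {E : Type u₃} [Category.{v₃} E] (L' : Over S ⥤ E)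
    [L'.IsLocalization (W.inverseImage (Over.forget S))]
    (Φ : E ⥤ Over (L.obj S)) (e : L' ⋙ Φ ≅ Over.post L) (A B : Over S) (θ : (Over.post L).obj A ⟶ (Over.post L).obj B) :
    ∃ m : L'.obj A ⟶ L'.obj B, e.inv.app A ≫ Φ.map m ≫ e.hom.app B = θ := by
  let θl : L.obj A.left ⟶ L.obj B.left := θ.left
  obtain ⟨φ, hφ⟩ := Localization.exists_rightFraction L W θl
  have hθ : θl ≫ L.map B.hom = L.map A.hom := Over.w θ
  have h1 : L.map (φ.f ≫ B.hom) = L.map (φ.s ≫ A.hom) := by
    rw [L.map_comp, L.map_comp, ← hθ, hφ, ← Category.assoc,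
      MorphismProperty.RightFraction.map_s_comp_map]
  obtain ⟨X'', t, ht, hft⟩ := (MorphismProperty.map_eq_iff_precomp L W _ _).mp h1
  let A' : Over S := Over.mk (t ≫ φ.s ≫ A.hom)
  let σ : A' ⟶ A := Over.homMk (t ≫ φ.s) (by simp [A'])
  have hσ : (W.inverseImage (Over.forget S)) σ := W.comp_mem _ _ ht φ.hs
  let g : A' ⟶ B := Over.homMk (t ≫ φ.f) (by simp only [A', Over.mk_hom, Category.assoc]; exact hft)
  let iσ := Localization.isoOfHom L' (W.inverseImage (Over.forget S)) σ hσ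
  refine ⟨iσ.inv ≫ L'.map g, ?_⟩
  have hnatσ : e.hom.app A' ≫ (Over.post L).map σ = Φ.map (L'.map σ) ≫ e.hom.app A :=
    (e.hom.naturality σ).symm
  have hnatg : e.hom.app A' ≫ (Over.post L).map g = Φ.map (L'.map g) ≫ e.hom.app B :=
    (e.hom.naturality g).symm
  -- reduce to an identity after composing with the iso `(Over.post L).map σ`
  haveI : IsIso ((Over.post L).map σ) := by
    have : (Over.post L).map σ = e.inv.app A' ≫ Φ.map iσ.hom ≫ e.hom.app A := by
      rw [Localization.isoOfHom_hom, ← hnatσ, Iso.inv_hom_id_app_assoc]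
    rw [this]; infer_instance
  rw [← cancel_epi ((Over.post L).map σ)]
  have h2 : (Over.post L).map σ ≫ e.inv.app A = e.inv.app A' ≫ Φ.map (L'.map σ) := by
    rw [← cancel_mono (e.hom.app A), Category.assoc, Category.assoc, Iso.inv_hom_id_app,
      Category.comp_id, ← hnatσ, Iso.inv_hom_id_app_assoc]
  have h3 : L'.map σ ≫ iσ.inv ≫ L'.map g = L'.map g := by
    rw [← Localization.isoOfHom_hom L' _ σ hσ]
    exact Iso.hom_inv_id_assoc _ _
  rw [reassoc_of% h2, ← Φ.map_comp_assoc, h3, ← hnatg, Iso.inv_hom_id_app_assoc]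
  apply Over.OverMorphism.ext
  show L.map (t ≫ φ.f) = L.map (t ≫ φ.s) ≫ θl
  rw [hφ, L.map_comp, L.map_comp, Category.assoc,
    MorphismProperty.RightFraction.map_s_comp_map]


/-- the underlying fraction -/
def under {C : Type u₁} [Category.{v₁} C] (W : MorphismProperty C) (S : C) {A B : Over S}
    (φ : (W.inverseImage (Over.forget S)).RightFraction A B) : W.RightFraction A.left B.left :=
  ⟨φ.s.left, φ.hs, φ.f.left⟩

lemma mu_left {C : Type u₁} [Category.{v₁} C] (W : MorphismProperty C)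
    [W.HasRightCalculusOfFractions] (S : C)
    {D : Type u₂} [Category.{v₂} D] (L : C ⥤ D) [L.IsLocalization W]
    {E : Type u₃} [Category.{v₃} E] (L' : Over S ⥤ E)
    [L'.IsLocalization (W.inverseImage (Over.forget S))]
    (Φ : E ⥤ Over (L.obj S)) (e : L' ⋙ Φ ≅ Over.post L) (A B : Over S)
    (φ : (W.inverseImage (Over.forget S)).RightFraction A B) :
    ((e.inv.app A ≫ Φ.map (φ.map L' (Localization.inverts _ _)) ≫ e.hom.app B).left :
        L.obj A.left ⟶ L.obj B.left) =
      (under W S φ).map L (Localization.inverts _ _) := by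
  haveI : IsIso (L.map (under W S φ).s) := Localization.inverts L W _ (under W S φ).hs
  refine (cancel_epi (L.map (under W S φ).s)).mp ?_
  refine Eq.trans ?_ (MorphismProperty.RightFraction.map_s_comp_map (under W S φ) L
    (Localization.inverts _ _)).symm
  have hnats : e.hom.app φ.X' ≫ (Over.post L).map φ.s = Φ.map (L'.map φ.s) ≫ e.hom.app A :=
    (e.hom.naturality φ.s).symm
  have hnatf : e.hom.app φ.X' ≫ (Over.post L).map φ.f = Φ.map (L'.map φ.f) ≫ e.hom.app B :=
    (e.hom.naturality φ.f).symm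
  have h2 : (Over.post L).map φ.s ≫ e.inv.app A = e.inv.app φ.X' ≫ Φ.map (L'.map φ.s) := by
    rw [← cancel_mono (e.hom.app A), Category.assoc, Category.assoc, Iso.inv_hom_id_app,
      Category.comp_id, ← hnats, Iso.inv_hom_id_app_assoc]
  have h3 : (Over.post L).map φ.s ≫ e.inv.app A ≫
      Φ.map (φ.map L' (Localization.inverts _ _)) ≫ e.hom.app B = (Over.post L).map φ.f := by
    rw [reassoc_of% h2, ← Φ.map_comp_assoc, MorphismProperty.RightFraction.map_s_comp_map,
      ← hnatf, Iso.inv_hom_id_app_assoc]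
  have h4 := congrArg (fun x => x.left) h3
  exact h4

lemma claimB {C : Type u₁} [Category.{v₁} C] (W : MorphismProperty C)
    [W.HasRightCalculusOfFractions] (S : C)
    {D : Type u₂} [Category.{v₂} D] (L : C ⥤ D) [L.IsLocalization W]
    {E : Type u₃} [Category.{v₃} E] (L' : Over S ⥤ E)
    [L'.IsLocalization (W.inverseImage (Over.forget S))]
    (Φ : E ⥤ Over (L.obj S)) (e : L' ⋙ Φ ≅ Over.post L) (A B : Over S)
    (m₁ m₂ : L'.obj A ⟶ L'.obj B) (h : Φ.map m₁ = Φ.map m₂) : m₁ = m₂ := by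
  obtain ⟨φ₁, h₁⟩ := Localization.exists_rightFraction L' (W.inverseImage (Over.forget S)) m₁
  obtain ⟨φ₂, h₂⟩ := Localization.exists_rightFraction L' (W.inverseImage (Over.forget S)) m₂
  rw [h₁, h₂, MorphismProperty.RightFraction.map_eq_iff]
  have hψ : (under W S φ₁).map L (Localization.inverts _ _) =
      (under W S φ₂).map L (Localization.inverts _ _) := by
    rw [← mu_left W S L L' Φ e A B φ₁, ← mu_left W S L L' Φ e A B φ₂, ← h₁, ← h₂, h]
  obtain ⟨Z, t₁, t₂, hst', hft', ht⟩ : ∃ (Z : C) (t₁ : Z ⟶ φ₁.X'.left) (t₂ : Z ⟶ φ₂.X'.left)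
      (_ : t₁ ≫ φ₁.s.left = t₂ ≫ φ₂.s.left) (_ : t₁ ≫ φ₁.f.left = t₂ ≫ φ₂.f.left),
      W (t₁ ≫ φ₁.s.left) :=
    (MorphismProperty.RightFraction.map_eq_iff L W (under W S φ₁) (under W S φ₂)).mp hψ
  have e1 : t₂ ≫ φ₂.s.left ≫ A.hom = t₁ ≫ φ₁.s.left ≫ A.hom := by
    rw [← Category.assoc, ← hst', Category.assoc]
  refine ⟨Over.mk (t₁ ≫ φ₁.s.left ≫ A.hom), Over.homMk t₁ (by
      show t₁ ≫ φ₁.X'.hom = t₁ ≫ φ₁.s.left ≫ A.hom
      rw [Over.w φ₁.s]),
    Over.homMk t₂ (by
      show t₂ ≫ φ₂.X'.hom = t₁ ≫ φ₁.s.left ≫ A.hom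
      rw [← Over.w φ₂.s, e1]), ?_, ?_, ?_⟩
  · apply Over.OverMorphism.ext
    exact hst'
  · apply Over.OverMorphism.ext
    exact hft'
  · exact ht


theorem isEquivalence {C : Type u₁} [Category.{v₁} C] (W : MorphismProperty C)
    [W.HasRightCalculusOfFractions] (S : C)
    {D : Type u₂} [Category.{v₂} D] (L : C ⥤ D) [L.IsLocalization W]
    {E : Type u₃} [Category.{v₃} E] (L' : Over S ⥤ E)
    [L'.IsLocalization (W.inverseImage (Over.forget S))]
    (Φ : E ⥤ Over (L.obj S)) (e : L' ⋙ Φ ≅ Over.post L) : Φ.IsEquivalence := by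
  haveI : L'.EssSurj := Localization.essSurj L' (W.inverseImage (Over.forget S))
  haveI : L.EssSurj := Localization.essSurj L W
  refine { faithful := ⟨?_⟩, full := ⟨?_⟩, essSurj := ⟨?_⟩ }
  · intro X Y f g h
    let a := L'.objObjPreimageIso X
    let b := L'.objObjPreimageIso Y
    have h1 := claimB W S L L' Φ e _ _ (a.hom ≫ f ≫ b.inv) (a.hom ≫ g ≫ b.inv)
      (by simp only [Functor.map_comp, h])
    have h2 : a.inv ≫ (a.hom ≫ f ≫ b.inv) ≫ b.hom = a.inv ≫ (a.hom ≫ g ≫ b.inv) ≫ b.hom := by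
      rw [h1]
    simpa using h2
  · intro X Y θ
    let a := L'.objObjPreimageIso X
    let b := L'.objObjPreimageIso Y
    obtain ⟨m, hm⟩ := claimA W S L L' Φ e (L'.objPreimage X) (L'.objPreimage Y)
      (e.inv.app _ ≫ Φ.map a.hom ≫ θ ≫ Φ.map b.inv ≫ e.hom.app _)
    have hm' : Φ.map m = Φ.map a.hom ≫ θ ≫ Φ.map b.inv := by
      have h3 := congrArg (fun x => e.hom.app _ ≫ x ≫ e.inv.app _) hm
      simpa using h3
    refine ⟨a.inv ≫ m ≫ b.hom, ?_⟩
    rw [Φ.map_comp, Φ.map_comp, hm']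
    simp only [Category.assoc, ← Φ.map_comp, Iso.inv_hom_id, Φ.map_id, Category.comp_id]
    rw [← Category.assoc, ← Φ.map_comp, Iso.inv_hom_id, Φ.map_id, Category.id_comp]
  · intro Z
    let i := L.objObjPreimageIso Z.left
    obtain ⟨ψ, hψ⟩ := Localization.exists_rightFraction L W
      (X := L.objPreimage Z.left) (Y := S) (i.hom ≫ Z.hom)
    let A : Over S := Over.mk ψ.f
    let j : L.obj ψ.X' ≅ Z.left := Localization.isoOfHom L W ψ.s ψ.hs ≪≫ i
    have hj : j.hom ≫ Z.hom = L.map ψ.f := by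
      simp only [j, Iso.trans_hom, Localization.isoOfHom_hom, Category.assoc]
      rw [hψ, MorphismProperty.RightFraction.map_s_comp_map]
    refine ⟨L'.obj A, ⟨e.app A ≪≫ Over.isoMk j ?_⟩⟩
    exact hj

end Groth.Agent.Helper28.OverLoc
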