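import Mathlib

/-!
# A pencil argument in linear algebra (helper28)

If `μ : L → Hom(V, W)` is bilinear over an algebraically closed field, `μ a` is injective for all
`a` outside finitely many subspaces `T i` of `L`, each of codimension at least two, and `W ≠ 0` is
finite dimensional, then `dim V + 1 ≤ dim W`.
-/

set_option autoImplicit false

namespace Groth.Agent.Helper28.PencilLA

theorem finrank_add_one_le {k L V W : Type*} [Field k] [IsAlgClosed k]
    [AddCommGroup L] [Module k L] [AddCommGroup V] [Module k V] [AddCommGroup W] [Module k W]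
    (μ : L → V →ₗ[k] W)
    (hadd : ∀ a b v, μ (a + b) v = μ a v + μ b v)
    (hsmul : ∀ (c : k) a v, μ (c • a) v = c • μ a v)
    {ι : Type*} [Finite ι] (T : ι → Submodule k L)
    (hinj : ∀ a : L, (∀ i, a ∉ T i) → Function.Injective (μ a))
    (hT : ∀ i, T i ≠ ⊤)
    (hcodim : ∀ i (a : L), a ∉ T i → T i ⊔ Submodule.span k {a} ≠ ⊤)
    (hW : 1 ≤ Module.finrank k W) :
    Module.finrank k V + 1 ≤ Module.finrank k W := by
  classical
  haveI : Infinite k := inferInstance
  obtain ⟨h₀, hh₀⟩ : ∃ a : L, ∀ i, a ∉ T i := by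
    by_contra hcon
    push Not at hcon
    have hcov : ⋃ i, ((T i : Submodule k L) : Set L) = Set.univ := by
      rw [Set.eq_univ_iff_forall]
      intro a
      obtain ⟨i, hi⟩ := hcon a
      exact Set.mem_iUnion.2 ⟨i, hi⟩
    obtain ⟨i, hi⟩ := Subspace.exists_eq_top_of_iUnion_eq_univ hcov
    exact hT i hi
  haveI : Module.Finite k W := Module.finite_of_finrank_pos (Nat.lt_of_lt_of_le Nat.zero_lt_one hW)
  have hinj₀ := hinj h₀ hh₀
  haveI : FiniteDimensional k V := FiniteDimensional.of_injective (μ h₀) hinj₀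
  have hle : Module.finrank k V ≤ Module.finrank k W :=
    LinearMap.finrank_le_finrank_of_injective hinj₀
  by_contra hcon
  have heq : Module.finrank k V = Module.finrank k W := by omega
  have hsurj₀ : Function.Surjective (μ h₀) :=
    (LinearMap.injective_iff_surjective_of_finrank_eq_finrank heq).1 hinj₀
  let e : V ≃ₗ[k] W := LinearEquiv.ofBijective (μ h₀) ⟨hinj₀, hsurj₀⟩
  have he : ∀ v, e v = μ h₀ v := fun _ => rfl
  haveI : Nontrivial V := Module.nontrivial_of_finrank_pos (R := k) (by omega)
  have hcov : ⋃ i, (((T i ⊔ Submodule.span k {h₀} : Submodule k L)) : Set L) = Set.univ := by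
    rw [Set.eq_univ_iff_forall]
    intro a
    let A : Module.End k V := (e.symm : W →ₗ[k] V) ∘ₗ μ a
    obtain ⟨c, hc⟩ := Module.End.exists_eigenvalue A
    obtain ⟨v, hv⟩ := hc.exists_hasEigenvector
    have hv0 : v ≠ 0 := hv.2
    have hAv : A v = c • v := hv.apply_eq_smul
    have h1 : μ a v = c • μ h₀ v := by
      have h0 : e (A v) = μ a v := e.apply_symm_apply _
      rw [← h0, hAv, map_smul, he]
    have h2 : μ (a + (-c) • h₀) v = 0 := by
      rw [hadd, hsmul, h1, neg_smul, add_neg_cancel]
    have h3 : ∃ i, a + (-c) • h₀ ∈ T i := by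
      by_contra hno
      push Not at hno
      exact hv0 (hinj _ hno (h2.trans (map_zero _).symm))
    obtain ⟨i, hi⟩ := h3
    refine Set.mem_iUnion.2 ⟨i, ?_⟩
    have hmem : (a + (-c) • h₀) + c • h₀ ∈ T i ⊔ Submodule.span k {h₀} :=
      Submodule.add_mem _ (Submodule.mem_sup_left hi)
        (Submodule.mem_sup_right (Submodule.smul_mem _ _ (Submodule.mem_span_singleton_self h₀)))
    have hsimp : (a + (-c) • h₀) + c • h₀ = a := by
      rw [neg_smul]; abel
    rw [hsimp] at hmem
    exact hmem
  obtain ⟨i, hi⟩ := Subspace.exists_eq_top_of_iUnion_eq_univ hcov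
  exact hcodim i h₀ (hh₀ i) hi

end Groth.Agent.Helper28.PencilLA
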