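import Mathlib

/-!
# Dimension of `k[x,y]/(x^a, y^b)`
-/

namespace Groth.Agent.Helper28.PlaneQuot

open MvPolynomial

variable (k : Type*) [Field k]

/-- exponent vector of `x^i y^j`. -/
noncomputable def mon (a b : ℕ) (ij : Fin a × Fin b) : Fin 2 →₀ ℕ :=
  Finsupp.single 0 ij.1.val + Finsupp.single 1 ij.2.val

lemma mon_zero (a b : ℕ) (ij : Fin a × Fin b) : mon a b ij 0 = ij.1.val := by
  simp [mon]

lemma mon_one (a b : ℕ) (ij : Fin a × Fin b) : mon a b ij 1 = ij.2.val := by
  simp [mon]

lemma mon_injective (a b : ℕ) : Function.Injective (mon a b) := by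
  intro x y h
  have h0 := congrArg (fun s => s 0) h
  have h1 := congrArg (fun s => s 1) h
  simp only [mon_zero, mon_one] at h0 h1
  exact Prod.ext (Fin.ext h0) (Fin.ext h1)

lemma span_eq (a b : ℕ) : Ideal.span ({X 0 ^ a, X 1 ^ b} : Set (MvPolynomial (Fin 2) k)) =
    Ideal.span ((fun s => monomial s (1 : k)) ''
      ({Finsupp.single 0 a, Finsupp.single 1 b} : Set (Fin 2 →₀ ℕ))) := by
  rw [Set.image_pair, X_pow_eq_monomial, X_pow_eq_monomial]

theorem finrank_quot (a b : ℕ) :
    Module.finrank k (MvPolynomial (Fin 2) k ⧸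
      Ideal.span ({X 0 ^ a, X 1 ^ b} : Set (MvPolynomial (Fin 2) k))) = a * b := by
  classical
  set J := Ideal.span ({X 0 ^ a, X 1 ^ b} : Set (MvPolynomial (Fin 2) k)) with hJ
  let ψ : MvPolynomial (Fin 2) k →ₗ[k] (Fin a × Fin b → k) :=
    LinearMap.pi (fun ij => lcoeff k (mon a b ij))
  have hmem : ∀ f : MvPolynomial (Fin 2) k, f ∈ J ↔ ∀ s ∈ f.support, a ≤ s 0 ∨ b ≤ s 1 := by
    intro f
    rw [hJ, span_eq, mem_ideal_span_monomial_image]
    refine forall₂_congr fun s _ => ?_
    constructor
    · rintro ⟨t, ht, hts⟩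
      rcases ht with rfl | rfl
      · left
        have := hts 0
        simpa using this
      · right
        have := hts 1
        simpa using this
    · rintro (h | h)
      · refine ⟨Finsupp.single 0 a, Or.inl rfl, ?_⟩
        intro i
        fin_cases i
        · simpa using h
        · simp
      · refine ⟨Finsupp.single 1 b, Or.inr rfl, ?_⟩
        intro i
        fin_cases i
        · simp
        · simpa using h
  have hker : LinearMap.ker ψ = J.restrictScalars k := by
    ext f
    rw [LinearMap.mem_ker, Submodule.restrictScalars_mem, hmem]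
    constructor
    · intro h s hs
      by_contra hcon
      push Not at hcon
      have hs' : s = mon a b (⟨s 0, hcon.1⟩, ⟨s 1, hcon.2⟩) := by
        ext i
        fin_cases i
        · simp [mon]
        · simp [mon]
      have := congrFun h (⟨s 0, hcon.1⟩, ⟨s 1, hcon.2⟩)
      simp only [ψ, LinearMap.pi_apply, lcoeff_apply, Pi.zero_apply] at this
      rw [← hs'] at this
      exact (mem_support_iff.1 hs) this
    · intro h
      funext ij
      simp only [ψ, LinearMap.pi_apply, lcoeff_apply, Pi.zero_apply]
      by_contra hne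
      have := h _ (mem_support_iff.2 hne)
      rw [mon_zero, mon_one] at this
      have h1 := ij.1.2
      have h2 := ij.2.2
      omega
  have hsurj : Function.Surjective ψ := by
    intro g
    refine ⟨∑ ij : Fin a × Fin b, monomial (mon a b ij) (g ij), ?_⟩
    funext ij0
    simp only [ψ, LinearMap.pi_apply, lcoeff_apply, coeff_sum, coeff_monomial]
    rw [Finset.sum_eq_single ij0]
    · simp
    · intro ij _ hne
      rw [if_neg]
      exact fun h => hne (mon_injective a b h)
    · intro h; exact absurd (Finset.mem_univ _) h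
  let e : (MvPolynomial (Fin 2) k ⧸ J) ≃ₗ[k] (Fin a × Fin b → k) :=
    (Submodule.Quotient.restrictScalarsEquiv k J).symm ≪≫ₗ
      (Submodule.quotEquivOfEq _ _ hker.symm) ≪≫ₗ ψ.quotKerEquivOfSurjective hsurj
  rw [e.finrank_eq, Module.finrank_fintype_fun_eq_card, Fintype.card_prod, Fintype.card_fin,
    Fintype.card_fin]

end Groth.Agent.Helper28.PlaneQuot
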