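import Mathlib
import Groth.Prelude
import Groth.Agent.Lib.Helper26.PnGlob

/-!
# Points of `P^N_k` cut out by `N` independent linear forms are closed (helper28)
-/

set_option autoImplicit false
universe u
open MvPolynomial

namespace Groth.Agent.Helper28.PnClosedPt

/-- modulo an ideal containing all `X i - c i • h`, every polynomial is congruent to its value
at `(c i • h)`. -/
theorem sub_aeval_mem {σ : Type*} {k : Type*} [CommRing k] (I : Ideal (MvPolynomial σ k))
    (h : MvPolynomial σ k) (c : σ → k) (hc : ∀ i, X i - C (c i) * h ∈ I)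
    (f : MvPolynomial σ k) : f - aeval (fun i => C (c i) * h) f ∈ I := by
  induction f using MvPolynomial.induction_on with
  | C a =>
    rw [aeval_C, algebraMap_eq, sub_self]
    exact I.zero_mem
  | add p q hp hq =>
    rw [map_add]
    have h1 := I.add_mem hp hq
    have h2 : p + q - (aeval (fun i => C (c i) * h) p + aeval (fun i => C (c i) * h) q) =
        (p - aeval (fun i => C (c i) * h) p) + (q - aeval (fun i => C (c i) * h) q) := by ring
    rw [h2]
    exact h1
  | mul_X p i hp =>
    rw [map_mul, aeval_X]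
    have h2 : p * X i - aeval (fun i => C (c i) * h) p * (C (c i) * h) =
        (p - aeval (fun i => C (c i) * h) p) * X i +
          aeval (fun i => C (c i) * h) p * (X i - C (c i) * h) := by ring
    rw [h2]
    exact I.add_mem (I.mul_mem_right _ hp) (I.mul_mem_left _ (hc i))

/-- the value of a homogeneous polynomial of degree `d` at `(c i • h)` is `f(c) • h ^ d`. -/
theorem aeval_smul_of_isHomogeneous {σ : Type*} {k : Type*} [CommRing k]
    (h : MvPolynomial σ k) (c : σ → k) (d : ℕ) (f : MvPolynomial σ k) (hf : f.IsHomogeneous d) :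
    aeval (fun i => C (c i) * h) f = C (eval c f) * h ^ d := by
  have hsum : f = ∑ v ∈ f.support, monomial v (coeff v f) := f.as_sum
  have e1 : aeval (fun i => C (c i) * h) f =
      ∑ v ∈ f.support, aeval (fun i => C (c i) * h) (monomial v (coeff v f)) := by
    conv_lhs => rw [hsum]
    rw [map_sum]
  have e2 : eval c f = ∑ v ∈ f.support, eval c (monomial v (coeff v f)) := by
    conv_lhs => rw [hsum]
    rw [map_sum]
  rw [e1, e2, map_sum, Finset.sum_mul]
  refine Finset.sum_congr rfl (fun v hv => ?_)
  have hdeg : v.degree = d := by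
    by_contra hne
    exact (mem_support_iff.1 hv) (hf.coeff_eq_zero hne)
  rw [aeval_monomial, eval_monomial, algebraMap_eq, C_mul, mul_assoc]
  congr 1
  rw [← hdeg]
  simp only [Finsupp.prod, mul_pow, Finset.prod_mul_distrib, map_prod, map_pow]
  congr 1
  rw [Finset.prod_pow_eq_pow_sum]
  rfl

theorem sub_eval_mul_pow_mem {σ : Type*} {k : Type*} [CommRing k] (I : Ideal (MvPolynomial σ k))
    (h : MvPolynomial σ k) (c : σ → k) (hc : ∀ i, X i - C (c i) * h ∈ I) (d : ℕ)
    (f : MvPolynomial σ k) (hf : f.IsHomogeneous d) : f - C (eval c f) * h ^ d ∈ I := by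
  rw [← aeval_smul_of_isHomogeneous h c d f hf]
  exact sub_aeval_mem I h c hc f

/-- a point of `P^N_k` whose homogeneous ideal contains all `X i - c i • h` is closed. -/
theorem isClosed_singleton (N : ℕ) (k : Type u) [Field k]
    (y : ProjectiveSpectrum (CohB1.polyGrading N k))
    (h : MvPolynomial (Fin (N + 1)) k) (c : Fin (N + 1) → k)
    (hc : ∀ i, X i - C (c i) * h ∈ y.asHomogeneousIdeal.toIdeal) :
    IsClosed ({y} : Set (ProjectiveSpectrum (CohB1.polyGrading N k))) := by
  classical
  apply isClosed_of_closure_subset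
  intro q hq
  rw [← ProjectiveSpectrum.le_iff_mem_closure] at hq
  have hle : y.asHomogeneousIdeal.toIdeal ≤ q.asHomogeneousIdeal.toIdeal := hq
  have hhq : h ∉ q.asHomogeneousIdeal.toIdeal := by
    intro hmem
    obtain ⟨i, hi⟩ := Groth.Agent.Helper26.PnCoh.exists_X_notMem N k q
    apply hi
    have h1 := hle (hc i)
    have h2 : (X i : MvPolynomial (Fin (N + 1)) k) = (X i - C (c i) * h) + C (c i) * h := by ring
    show (X i : MvPolynomial (Fin (N + 1)) k) ∈ q.asHomogeneousIdeal.toIdeal
    rw [h2]
    exact Ideal.add_mem _ h1 (Ideal.mul_mem_left _ _ hmem)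
  have key : ∀ (d : ℕ) (f : MvPolynomial (Fin (N + 1)) k), f.IsHomogeneous d →
      f ∈ q.asHomogeneousIdeal.toIdeal → f ∈ y.asHomogeneousIdeal.toIdeal := by
    intro d f hf hfq
    have h1 := sub_eval_mul_pow_mem y.asHomogeneousIdeal.toIdeal h c hc d f hf
    have h2 : C (eval c f) * h ^ d ∈ q.asHomogeneousIdeal.toIdeal := by
      have h3 := Ideal.sub_mem _ hfq (hle h1)
      rw [sub_sub_cancel] at h3
      exact h3
    by_cases h0 : eval c f = 0
    · rw [h0, map_zero, zero_mul, sub_zero] at h1
      exact h1
    · exfalso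
      rcases q.isPrime.mem_or_mem h2 with h3 | h3
      · apply q.isPrime.ne_top
        rw [Ideal.eq_top_iff_one]
        have h4 : (1 : MvPolynomial (Fin (N + 1)) k) = C (eval c f)⁻¹ * C (eval c f) := by
          rw [← C_mul, inv_mul_cancel₀ h0, C_1]
        rw [h4]
        exact Ideal.mul_mem_left _ _ h3
      · exact hhq (q.isPrime.mem_of_pow_mem _ h3)
  have hqy : q.asHomogeneousIdeal.toIdeal ≤ y.asHomogeneousIdeal.toIdeal := by
    intro f hf
    rw [← DirectSum.sum_support_decompose (CohB1.polyGrading N k) f]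
    refine Ideal.sum_mem _ (fun d _ => ?_)
    apply key d
    · exact (mem_homogeneousSubmodule _ _).1
        (DirectSum.decompose (CohB1.polyGrading N k) f d).2
    · exact q.asHomogeneousIdeal.isHomogeneous d hf
  have hqy' : q ≤ y := hqy
  exact Set.mem_singleton_iff.2 (le_antisymm hqy' hq)

end Groth.Agent.Helper28.PnClosedPt
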