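import Mathlib
import Groth.Prelude
import Groth.Agent.S1705
import Groth.Agent.Lib.Helper28.TwistTensor
import Groth.Agent.Lib.Helper28.NegTwistB0

/-!
# Multiplication by a linear form `F(-1) ⟶ F` on `Proj` (helper28)
-/

set_option autoImplicit false
set_option linter.style.haveILetI false
set_option linter.unusedSectionVars false
universe u
open CategoryTheory CategoryTheory.Limits AlgebraicGeometry Opposite TopologicalSpace TensorProduct
open Groth.Agent.Helper13 Groth.Agent.Helper13.QCoh Groth.Agent.Helper13.FinType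
open Groth.Agent.Helper13.Tensor Groth.Agent.Helper13.Inv Groth.Agent.Helper13.GenLoc

noncomputable section

namespace Groth.Agent.Helper28.PnMulSec

open Groth.Agent.Helper28.TwistMul Groth.Agent.Helper28.NegTwist Twist

section General

variable {X : Scheme.{u}}

/-- multiplication by a global function, as an endomorphism of a module. -/
def smulEnd (M : X.Modules) (ρ : Γ(X, ⊤)) : M ⟶ M :=
  (lid M).inv ≫ map (LocFree.homOfSec (Coh.structureModule X) (LocFree.toO ⊤ ρ)) (𝟙 M) ≫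
    (lid M).hom

lemma smulEnd_app (M : X.Modules) (ρ : Γ(X, ⊤)) (U : X.Opens) (m : Γ(M, U)) :
    (smulEnd M ρ).app U m = X.presheaf.map (homOfLE (le_top : U ≤ ⊤)).op ρ • m := by
  unfold smulEnd
  rw [Scheme.Modules.Hom.comp_app, ConcreteCategory.comp_apply, Scheme.Modules.Hom.comp_app,
    ConcreteCategory.comp_apply, lid_inv_app, map_app_tmul]
  have h1 := LocFree.homOfSec_app_one (Coh.structureModule X) (LocFree.toO ⊤ ρ) U
  change (lidHom M).app U (tmul _ M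
    ((LocFree.homOfSec (Coh.structureModule X) (LocFree.toO ⊤ ρ)).app U (LocFree.toO U 1)) m) = _
  rw [h1, lidHom_app_tmul]
  rfl

theorem res_eq_zero_of_germ' (F : X.Modules) (U : X.Opens) (τ : Γ(F, ⊤))
    (h : ∀ (x : X) (_ : x ∈ U), F.presheaf.germ ⊤ x trivial τ = 0) :
    F.presheaf.map (homOfLE (le_top : U ≤ ⊤)).op τ = 0 := by
  apply TopCat.Presheaf.section_ext ⟨F.presheaf, F.isSheaf⟩ U
  intro x hx
  rw [TopCat.Presheaf.germ_res_apply, h x hx, map_zero]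

end General

variable {R A : Type u} [CommRing R] [CommRing A] [Algebra R A] (𝒜 : ℕ → Submodule R A)
  [GradedAlgebra 𝒜]

lemma hdeg : (0 : ℤ) = -1 + ((1 : ℕ) : ℤ) := by norm_num

/-- multiplication by a degree-one element, `O(-1) ⟶ O`. -/
def sig {g : A} (hg : g ∈ 𝒜 1) : Twist.twist 𝒜 (-1) ⟶ Coh.structureModule (Proj 𝒜) :=
  mulHom 𝒜 hg hdeg ≫ (zeroIso 𝒜).inv

lemma zeroHom_sig_app {g : A} (hg : g ∈ 𝒜 1) (W : (Proj 𝒜).Opens)
    (t : Γ(Twist.twist 𝒜 (-1), W)) :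
    (zeroHom 𝒜).app W ((sig 𝒜 hg).app W t) = mulSec hg hdeg (op W) t := by
  unfold sig
  rw [Scheme.Modules.Hom.comp_app, ConcreteCategory.comp_apply]
  have h1 : (zeroHom 𝒜) = (zeroIso 𝒜).hom := rfl
  rw [h1, ← ConcreteCategory.comp_apply, ← Scheme.Modules.Hom.comp_app, Iso.inv_hom_id]
  rfl

lemma zeroHom_app_injective (W : (Proj 𝒜).Opens) :
    Function.Injective ((zeroHom 𝒜).app W) := by
  intro c c' h
  exact (smul_oneSec_bijective (𝒜 := 𝒜) (op W)).1 h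

lemma mulSec_add_left {g g' : A} (hg : g ∈ 𝒜 1) (hg' : g' ∈ 𝒜 1)
    (U : (Opens (ProjectiveSpectrum.top 𝒜))ᵒᵖ) (t : sectN (𝒜 := 𝒜) (-1) U) :
    mulSec (Submodule.add_mem _ hg hg') hdeg U t =
      mulSec hg hdeg U t + mulSec hg' hdeg U t := by
  apply Subtype.ext
  funext x
  apply Subtype.ext
  change algebraMap A (Loc 𝒜 x.1) (g + g') * (t.1 x).1 =
    algebraMap A (Loc 𝒜 x.1) g * (t.1 x).1 + algebraMap A (Loc 𝒜 x.1) g' * (t.1 x).1
  rw [map_add, add_mul]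

lemma sig_add_app {g g' : A} (hg : g ∈ 𝒜 1) (hg' : g' ∈ 𝒜 1) (W : (Proj 𝒜).Opens)
    (t : Γ(Twist.twist 𝒜 (-1), W)) :
    (sig 𝒜 (Submodule.add_mem _ hg hg')).app W t =
      (sig 𝒜 hg).app W t + (sig 𝒜 hg').app W t := by
  apply zeroHom_app_injective 𝒜 W
  rw [map_add, zeroHom_sig_app, zeroHom_sig_app, zeroHom_sig_app]
  exact mulSec_add_left 𝒜 hg hg' (op W) t

/-- multiplication by a degree-one element, `F(-1) ⟶ F`. -/
def nu (F : (Proj 𝒜).Modules) {g : A} (hg : g ∈ 𝒜 1) :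
    CohB1.tensorMod F (Twist.twist 𝒜 (-1)) ⟶ F :=
  map (𝟙 F) (sig 𝒜 hg) ≫ (rid F).hom

lemma nu_app_tmul (F : (Proj 𝒜).Modules) {g : A} (hg : g ∈ 𝒜 1) (W : (Proj 𝒜).Opens)
    (f : Γ(F, W)) (t : Γ(Twist.twist 𝒜 (-1), W)) :
    (nu 𝒜 F hg).app W (tmul F _ f t) = LocFree.ofO W ((sig 𝒜 hg).app W t) • f := by
  unfold nu
  rw [Scheme.Modules.Hom.comp_app, ConcreteCategory.comp_apply, map_app_tmul, rid_hom_app_tmul]
  rfl

theorem nu_add (F : (Proj 𝒜).Modules) {g g' : A} (hg : g ∈ 𝒜 1) (hg' : g' ∈ 𝒜 1) :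
    nu 𝒜 F (Submodule.add_mem _ hg hg') = nu 𝒜 F hg + nu 𝒜 F hg' := by
  apply Tensor.hom_ext
  intro U f t
  have e : (nu 𝒜 F hg + nu 𝒜 F hg').app U (tmul F _ f t) =
      (nu 𝒜 F hg).app U (tmul F _ f t) + (nu 𝒜 F hg').app U (tmul F _ f t) := rfl
  rw [e, nu_app_tmul, nu_app_tmul, nu_app_tmul, sig_add_app]
  exact add_smul (LocFree.ofO U ((sig 𝒜 hg).app U t)) (LocFree.ofO U ((sig 𝒜 hg').app U t)) f

/-- compatibility of `nu` with multiplication by a degree-zero element which is a global function. -/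
theorem nu_mul (F : (Proj 𝒜).Modules) (ρ : Γ(Proj 𝒜, ⊤)) (a₀ : A)
    (hρ : ∀ x : ProjectiveSpectrum 𝒜,
      ((show O (𝒜 := 𝒜) (op ⊤) from ρ).1 ⟨x, trivial⟩).val = algebraMap A (Loc 𝒜 x) a₀)
    {g : A} (hg : g ∈ 𝒜 1) (hg' : a₀ * g ∈ 𝒜 1) :
    nu 𝒜 F hg' = nu 𝒜 F hg ≫ smulEnd F ρ := by
  apply Tensor.hom_ext
  intro U f t
  rw [Scheme.Modules.Hom.comp_app, ConcreteCategory.comp_apply, nu_app_tmul, nu_app_tmul,
    smulEnd_app, ← mul_smul]
  congr 1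
  obtain ⟨ρU, hρU⟩ : ∃ ρU : Γ(Proj 𝒜, U),
      ρU = (Proj 𝒜).presheaf.map (homOfLE (le_top : U ≤ ⊤)).op ρ := ⟨_, rfl⟩
  rw [← hρU]
  have hval : ∀ x : U, ((show O (𝒜 := 𝒜) (op U) from ρU).1 x).val =
      algebraMap A (Loc 𝒜 x.1) a₀ := by
    intro x
    rw [hρU]
    exact hρ x.1
  have key : (sig 𝒜 hg').app U t =
      LocFree.toO U (ρU * LocFree.ofO U ((sig 𝒜 hg).app U t)) := by
    apply zeroHom_app_injective 𝒜 U
    rw [zeroHom_sig_app]
    have h2 : (zeroHom 𝒜).app U (LocFree.toO U (ρU * LocFree.ofO U ((sig 𝒜 hg).app U t))) =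
        ((show O (𝒜 := 𝒜) (op U) from ρU) •
          (show sectN (𝒜 := 𝒜) 0 (op U) from (zeroHom 𝒜).app U ((sig 𝒜 hg).app U t)) :
            sectN (𝒜 := 𝒜) 0 (op U)) := by
      change ((show O (𝒜 := 𝒜) (op U) from ρU * LocFree.ofO U ((sig 𝒜 hg).app U t)) •
          oneSec (op U) : sectN (𝒜 := 𝒜) 0 (op U)) =
        (show O (𝒜 := 𝒜) (op U) from ρU) •
          ((show O (𝒜 := 𝒜) (op U) from LocFree.ofO U ((sig 𝒜 hg).app U t)) • oneSec (op U))
      exact mul_smul _ _ _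
    rw [h2, zeroHom_sig_app]
    apply Subtype.ext
    funext x
    apply Subtype.ext
    change algebraMap A (Loc 𝒜 x.1) (a₀ * g) * (t.1 x).1 =
      (((show O (𝒜 := 𝒜) (op U) from ρU).1 x • (mulSec hg hdeg (op U) t).1 x :
        twistAt 𝒜 0 x.1) : Loc 𝒜 x.1)
    rw [coe_smul_val, mulSec_val, hval x, map_mul, mul_assoc]
  exact key

/-- `nu` is bijective on stalks at points of `D_+(g)`. -/
theorem nu_stalk_bijective (F : (Proj 𝒜).Modules) {g : A} (hg : g ∈ 𝒜 1) (x : Proj 𝒜)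
    (hx : x ∈ Proj.basicOpen 𝒜 g) : Function.Bijective (stalkMap (nu 𝒜 F hg) x) := by
  unfold nu
  refine stalkMap_comp_bijective _ _ x ?_ (stalkMap_bijective_of_isIso (rid F).hom x)
  refine stalkMap_map_bijective (𝟙 F) (sig 𝒜 hg) x (stalkMap_bijective_of_isIso (𝟙 F) x) ?_
  unfold sig
  refine stalkMap_comp_bijective _ _ x ?_ (stalkMap_bijective_of_isIso (zeroIso 𝒜).inv x)
  exact (isIso_restrict_iff (mulHom 𝒜 hg hdeg) (Proj.basicOpen 𝒜 g)).1
    (isIso_restrict_mulHom 𝒜 hg hdeg _ le_rfl) x hx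

/-- if `D_+(g)` contains all associated points of `F`, multiplication by `g` is injective on
global sections of `F(-1)`. -/
theorem nu_app_top_injective [IsLocallyNoetherian (Proj 𝒜)] (F : (Proj 𝒜).Modules)
    (hF : Coh.IsCoh F) (hinv : PicF.IsInvertible (Twist.twist 𝒜 (-1))) {g : A} (hg : g ∈ 𝒜 1)
    (hass : ∀ x : Proj 𝒜, Curv2.IsAssPoint F x → g ∉ x.asHomogeneousIdeal) :
    Function.Injective ((nu 𝒜 F hg).app ⊤) := by
  have key : ∀ τ : Γ(CohB1.tensorMod F (Twist.twist 𝒜 (-1)), ⊤),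
      (nu 𝒜 F hg).app ⊤ τ = 0 → τ = 0 := by
    intro τ hτ
    have h2 : ∀ (x : Proj 𝒜) (_ : x ∈ Proj.basicOpen 𝒜 g),
        (CohB1.tensorMod F (Twist.twist 𝒜 (-1))).presheaf.germ ⊤ x trivial τ = 0 := by
      intro x hx
      apply (nu_stalk_bijective 𝒜 F hg x hx).1
      rw [stalkMap_germ, hτ, map_zero, map_zero]
    have h3 := res_eq_zero_of_germ' (CohB1.tensorMod F (Twist.twist 𝒜 (-1)))
      (Proj.basicOpen 𝒜 g) τ h2
    have hT : Coh.IsCoh (CohB1.tensorMod F (Twist.twist 𝒜 (-1))) :=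
      isCoh_tensor_inv F _ hF hinv
    have h4 := Groth.Agent.S1705.result (Proj 𝒜) (CohB1.tensorMod F (Twist.twist 𝒜 (-1))) hT.1
      (Proj.basicOpen 𝒜 g) (fun x hx => (Proj.mem_basicOpen 𝒜 g x).2
        (hass x ((isAssPoint_tensor_iff F _ hinv x).1 hx)))
    exact h4 (h3.trans (map_zero _).symm)
  intro a b hab
  have hsub : (nu 𝒜 F hg).app ⊤ (a - b) = 0 := by
    rw [map_sub, hab, sub_self]
  exact sub_eq_zero.1 (key _ hsub)

lemma nu_congr (F : (Proj 𝒜).Modules) {g g' : A} (hg : g ∈ 𝒜 1) (hg' : g' ∈ 𝒜 1) (h : g = g') :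
    nu 𝒜 F hg = nu 𝒜 F hg' := by
  subst h
  rfl

end Groth.Agent.Helper28.PnMulSec

end
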