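import Mathlib
import Groth.Prelude
import Groth.Agent.S1576
import Groth.Agent.Lib.Helper28.PencilLA
import Groth.Agent.Lib.Helper28.PnClosedPt
import Groth.Agent.Lib.Helper28.PnMulSec
import Groth.Agent.Lib.Helper26.HomGlob
import Groth.Agent.Lib.Helper26.PnGlob
import Groth.Agent.Lib.Helper13.PnFin1

/-!
# `h⁰(F(-1)) < h⁰(F)` on `P^N_k` for `F` without closed associated points (helper28)
-/

set_option autoImplicit false
set_option linter.style.haveILetI false
universe u
open CategoryTheory CategoryTheory.Limits AlgebraicGeometry Opposite TopologicalSpace MvPolynomial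

noncomputable section

namespace Groth.Agent.Helper28.PnHopf

open Groth.Agent.Helper28.PnMulSec Groth.Agent.Helper13 Twist

section General

variable {X : Scheme.{u}}

lemma smulEnd_app_top (M : X.Modules) (ρ : Γ(X, ⊤)) (m : Γ(M, ⊤)) :
    (smulEnd M ρ).app ⊤ m = ρ • m := by
  rw [smulEnd_app]
  congr 1
  have h : (homOfLE (le_top : (⊤ : X.Opens) ≤ ⊤)).op = 𝟙 (op (⊤ : X.Opens)) :=
    Subsingleton.elim _ _
  rw [h, X.presheaf.map_id]
  rfl

end General

variable (k : Type u) [Field k] (N : ℕ)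

/-- a point of `P^N_k` as a point of the projective spectrum. -/
def pt (x : ↥(CohB1.ProjSpace N k)) : ProjectiveSpectrum (CohB1.polyGrading N k) := x

/-- the global function attached to a scalar. -/
def gl (c : k) : Γ(CohB1.ProjSpace N k, ⊤) :=
  Coh.toGlobal (CohB1.ProjSpace N k ↘ Spec (CommRingCat.of k)) c

/-- the `k`-module structure on global sections of a module on `P^N_k`. -/
@[reducible] def modK (G : (CohB1.ProjSpace N k).Modules) : Module k Γ(G, ⊤) :=
  Module.compHom Γ(G, ⊤) (show k →+* Γ(CohB1.ProjSpace N k, ⊤) from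
    Coh.toGlobal (CohB1.ProjSpace N k ↘ Spec (CommRingCat.of k)))

attribute [local instance] modK

lemma smul_def (G : (CohB1.ProjSpace N k).Modules) (c : k) (m : Γ(G, ⊤)) :
    c • m = gl k N c • m := rfl

/-- `H⁰ = Γ` as `k`-vector spaces. -/
def h0L (G : (CohB1.ProjSpace N k).Modules) :
    Coh.HH (CohB1.ProjSpace N k) G 0 ≃ₗ[k] Γ(G, ⊤) :=
  { Groth.Agent.Helper26.HomGlob.h0 G with
    map_smul' := fun c x => Groth.Agent.Helper26.HomGlob.h0_smul G
      (Coh.toGlobal (CohB1.ProjSpace N k ↘ Spec (CommRingCat.of k)) c) x }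

lemma gl_val (c : k) (x : ProjectiveSpectrum (CohB1.polyGrading N k)) :
    ((show O (𝒜 := CohB1.polyGrading N k) (op ⊤) from gl k N c).1 ⟨x, trivial⟩).val =
      algebraMap (MvPolynomial (Fin (N + 1)) k) (Loc (CohB1.polyGrading N k) x) (C c) :=
  (Groth.Agent.Helper26.PnCoh.toGlobal_val N k c x).trans
    (Localization.mk_one_eq_algebraMap _).symm

theorem main [IsAlgClosed k] (F : (CohB1.ProjSpace N k).Modules) (hF : Coh.IsCoh F)
    (hass : ∀ x : ↥(CohB1.ProjSpace N k), Curv2.IsAssPoint F x →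
      ¬ IsClosed ({x} : Set ↥(CohB1.ProjSpace N k)))
    (h0 : 1 ≤ Module.finrank k (Coh.HH (CohB1.ProjSpace N k) F 0)) :
    Module.finrank k (Coh.HH (CohB1.ProjSpace N k)
        (CohB1.tensorMod F (Twist.twistProjSpace N k (-1))) 0) + 1 ≤
      Module.finrank k (Coh.HH (CohB1.ProjSpace N k) F 0) := by
  classical
  haveI : IsNoetherian (CohB1.ProjSpace N k) := PnFin.isNoetherian_projSpace N k
  haveI : IsLocallyNoetherian (Proj (CohB1.polyGrading N k)) :=
    (inferInstance : IsLocallyNoetherian (CohB1.ProjSpace N k))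
  have hcov : ∀ x : Proj (CohB1.polyGrading N k),
      ∃ g ∈ CohB1.polyGrading N k 1, g ∉ x.asHomogeneousIdeal := by
    intro x
    obtain ⟨i, hi⟩ := Groth.Agent.Helper26.PnCoh.exists_X_notMem N k x
    exact ⟨X i, isHomogeneous_X k i, hi⟩
  have hinv : PicF.IsInvertible (Twist.twist (CohB1.polyGrading N k) (-1)) :=
    (Groth.Agent.Helper28.TwistMul.twist_all_of_degree_one (CohB1.polyGrading N k) hcov).1 (-1)
  have hfin : {x : ↥(CohB1.ProjSpace N k) | Curv2.IsAssPoint F x}.Finite := by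
    have h := Groth.Agent.S1576.result (CohB1.ProjSpace N k) F hF ⊤
      (by rw [Opens.coe_top]; exact isCompact_univ)
    exact h.subset (fun x hx => ⟨trivial, hx⟩)
  haveI : Finite ↥{x : ↥(CohB1.ProjSpace N k) | Curv2.IsAssPoint F x} := hfin.to_subtype
  have e1 := (h0L k N F).finrank_eq
  have e2 := (h0L k N (CohB1.tensorMod F (Twist.twistProjSpace N k (-1)))).finrank_eq
  rw [e1] at h0 ⊢
  rw [e2]
  let μ : ↥(CohB1.polyGrading N k 1) →
      Γ(CohB1.tensorMod F (Twist.twistProjSpace N k (-1)), ⊤) →ₗ[k] Γ(F, ⊤) := fun a =>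
    { toFun := fun τ => (nu (CohB1.polyGrading N k) F a.2).app ⊤ τ
      map_add' := fun τ τ' => map_add _ τ τ'
      map_smul' := fun c τ =>
        Scheme.Modules.Hom.app_smul (nu (CohB1.polyGrading N k) F a.2) (gl k N c) τ }
  let T : ↥{x : ↥(CohB1.ProjSpace N k) | Curv2.IsAssPoint F x} →
      Submodule k ↥(CohB1.polyGrading N k 1) := fun i =>
    Submodule.comap (CohB1.polyGrading N k 1).subtype
      (Submodule.restrictScalars k (pt k N i.1).asHomogeneousIdeal.toIdeal)
  have hTmem : ∀ i a, a ∈ T i ↔ a.1 ∈ (pt k N i.1).asHomogeneousIdeal.toIdeal :=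
    fun _ _ => Iff.rfl
  refine PencilLA.finrank_add_one_le μ ?_ ?_ T ?_ ?_ ?_ h0
  · intro a b v
    show (nu (CohB1.polyGrading N k) F (a + b).2).app ⊤ v =
      (nu (CohB1.polyGrading N k) F a.2).app ⊤ v + (nu (CohB1.polyGrading N k) F b.2).app ⊤ v
    have h1 : nu (CohB1.polyGrading N k) F (a + b).2 =
        nu (CohB1.polyGrading N k) F a.2 + nu (CohB1.polyGrading N k) F b.2 :=
      nu_add (CohB1.polyGrading N k) F a.2 b.2
    rw [h1]
    rfl
  · intro c a v
    have hg' : C c * a.1 ∈ CohB1.polyGrading N k 1 := by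
      rw [← MvPolynomial.smul_eq_C_mul]
      exact (c • a).2
    have h1 : nu (CohB1.polyGrading N k) F (c • a).2 = nu (CohB1.polyGrading N k) F hg' :=
      nu_congr (CohB1.polyGrading N k) F _ _ (MvPolynomial.smul_eq_C_mul _ _)
    have h2 := nu_mul (CohB1.polyGrading N k) F (gl k N c) (C c) (gl_val k N c) a.2 hg'
    have h3 : (nu (CohB1.polyGrading N k) F (c • a).2).app ⊤ v =
        (smulEnd F (gl k N c)).app ⊤ ((nu (CohB1.polyGrading N k) F a.2).app ⊤ v) := by
      rw [h1, h2, Scheme.Modules.Hom.comp_app, ConcreteCategory.comp_apply]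
      rfl
    exact h3.trans (smulEnd_app_top F (gl k N c) _)
  · intro a ha
    exact nu_app_top_injective (CohB1.polyGrading N k) F hF hinv a.2
      (fun x hx => ha ⟨x, hx⟩)
  · intro i hTi
    obtain ⟨j, hj⟩ := Groth.Agent.Helper26.PnCoh.exists_X_notMem N k (pt k N i.1)
    have hmem : (⟨X j, isHomogeneous_X k j⟩ : ↥(CohB1.polyGrading N k 1)) ∈ T i := by
      rw [hTi]
      trivial
    exact hj hmem
  · intro i a _ htop
    have hc : ∀ j : Fin (N + 1), ∃ c : k,
        (X j : MvPolynomial (Fin (N + 1)) k) - C c * a.1 ∈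
          (pt k N i.1).asHomogeneousIdeal.toIdeal := by
      intro j
      have hmem : (⟨X j, isHomogeneous_X k j⟩ : ↥(CohB1.polyGrading N k 1)) ∈
          T i ⊔ Submodule.span k {a} := by
        rw [htop]
        trivial
      obtain ⟨t, ht, s, hs, hts⟩ := Submodule.mem_sup.1 hmem
      obtain ⟨c, rfl⟩ := Submodule.mem_span_singleton.1 hs
      refine ⟨c, ?_⟩
      have h1 : (X j : MvPolynomial (Fin (N + 1)) k) = t.1 + c • a.1 :=
        congrArg Subtype.val hts.symm
      rw [h1, MvPolynomial.smul_eq_C_mul, add_sub_cancel_right]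
      exact ht
    choose c hc using hc
    exact hass i.1 i.2 (PnClosedPt.isClosed_singleton N k (pt k N i.1) a.1 c hc)

end Groth.Agent.Helper28.PnHopf

end
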