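import Mathlib
import Groth.Prelude
import Groth.Agent.S0038
import Groth.Agent.Lib.Helper28.PnHopf

/-!
# `H⁰(F(-n)) = 0` for `n ≥ h⁰(F)` on `P^N_k`, `F` without closed associated points (helper28)
-/

set_option autoImplicit false
set_option linter.style.haveILetI false
universe u
open CategoryTheory CategoryTheory.Limits AlgebraicGeometry Opposite TopologicalSpace MvPolynomial

noncomputable section

namespace Groth.Agent.Helper28.PnHopf

open Groth.Agent.Helper28.PnMulSec Groth.Agent.Helper13 Twist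

theorem subsingleton_HH_of_iso' {X : Scheme.{u}} (k : Type u) [Field k]
    [X.Over (Spec (CommRingCat.of k))]
    {M M' : X.Modules} (e : M ≅ M') (n : ℕ) (h : Subsingleton (Coh.HH X M' n)) :
    Subsingleton (Coh.HH X M n) := by
  refine ⟨fun a b => ?_⟩
  have key : ∀ z : Coh.HH X M n, z = PnFin.hstar k e.inv n (PnFin.hstar k e.hom n z) := by
    intro z
    have h1 := PnFin.hstar_comp k e.hom e.inv n
    rw [e.hom_inv_id, PnFin.hstar_id] at h1
    exact LinearMap.congr_fun h1 z
  rw [key a, key b, Subsingleton.elim (PnFin.hstar k e.hom n a) (PnFin.hstar k e.hom n b)]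

variable (k : Type u) [Field k] (N : ℕ)

attribute [local instance] modK

lemma hcov (x : Proj (CohB1.polyGrading N k)) :
    ∃ g ∈ CohB1.polyGrading N k 1, g ∉ x.asHomogeneousIdeal := by
  obtain ⟨i, hi⟩ := Groth.Agent.Helper26.PnCoh.exists_X_notMem N k x
  exact ⟨X i, isHomogeneous_X k i, hi⟩

lemma hinvTw (n : ℤ) : PicF.IsInvertible (Twist.twist (CohB1.polyGrading N k) n) :=
  (Groth.Agent.Helper28.TwistMul.twist_all_of_degree_one (CohB1.polyGrading N k)
    (hcov k N)).1 n

/-- multiplication by a linear form on global sections, as a `k`-linear map. -/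
def muL (F : (CohB1.ProjSpace N k).Modules) (a : ↥(CohB1.polyGrading N k 1)) :
    Γ(CohB1.tensorMod F (Twist.twistProjSpace N k (-1)), ⊤) →ₗ[k] Γ(F, ⊤) :=
  { toFun := fun τ => (nu (CohB1.polyGrading N k) F a.2).app ⊤ τ
    map_add' := fun τ τ' => map_add _ τ τ'
    map_smul' := fun c τ =>
      Scheme.Modules.Hom.app_smul (nu (CohB1.polyGrading N k) F a.2) (gl k N c) τ }

theorem exists_muL_injective [Infinite k] (F : (CohB1.ProjSpace N k).Modules)
    (hF : Coh.IsCoh F) :
    ∃ a : ↥(CohB1.polyGrading N k 1), Function.Injective (muL k N F a) := by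
  classical
  haveI : IsNoetherian (CohB1.ProjSpace N k) := PnFin.isNoetherian_projSpace N k
  haveI : IsLocallyNoetherian (Proj (CohB1.polyGrading N k)) :=
    (inferInstance : IsLocallyNoetherian (CohB1.ProjSpace N k))
  have hfin : {x : ↥(CohB1.ProjSpace N k) | Curv2.IsAssPoint F x}.Finite := by
    have h := Groth.Agent.S1576.result (CohB1.ProjSpace N k) F hF ⊤
      (by rw [Opens.coe_top]; exact isCompact_univ)
    exact h.subset (fun x hx => ⟨trivial, hx⟩)
  haveI : Finite ↥{x : ↥(CohB1.ProjSpace N k) | Curv2.IsAssPoint F x} := hfin.to_subtype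
  let T : ↥{x : ↥(CohB1.ProjSpace N k) | Curv2.IsAssPoint F x} →
      Submodule k ↥(CohB1.polyGrading N k 1) := fun i =>
    Submodule.comap (CohB1.polyGrading N k 1).subtype
      (Submodule.restrictScalars k (pt k N i.1).asHomogeneousIdeal.toIdeal)
  obtain ⟨a, ha⟩ : ∃ a : ↥(CohB1.polyGrading N k 1), ∀ i, a ∉ T i := by
    by_contra hcon
    push Not at hcon
    have hcv : ⋃ i, ((T i : Submodule k ↥(CohB1.polyGrading N k 1)) :
        Set ↥(CohB1.polyGrading N k 1)) = Set.univ := by
      rw [Set.eq_univ_iff_forall]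
      intro a
      obtain ⟨i, hi⟩ := hcon a
      exact Set.mem_iUnion.2 ⟨i, hi⟩
    obtain ⟨i, hTi⟩ := Subspace.exists_eq_top_of_iUnion_eq_univ hcv
    obtain ⟨j, hj⟩ := Groth.Agent.Helper26.PnCoh.exists_X_notMem N k (pt k N i.1)
    have hmem : (⟨X j, isHomogeneous_X k j⟩ : ↥(CohB1.polyGrading N k 1)) ∈ T i := by
      rw [hTi]
      trivial
    exact hj hmem
  refine ⟨a, ?_⟩
  exact nu_app_top_injective (CohB1.polyGrading N k) F hF (hinvTw k N (-1)) a.2
    (fun x hx => ha ⟨x, hx⟩)

theorem finrank_le [Infinite k] (F : (CohB1.ProjSpace N k).Modules) (hF : Coh.IsCoh F) :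
    Module.finrank k (Coh.HH (CohB1.ProjSpace N k)
        (CohB1.tensorMod F (Twist.twistProjSpace N k (-1))) 0) ≤
      Module.finrank k (Coh.HH (CohB1.ProjSpace N k) F 0) := by
  haveI : Module.Finite k (Coh.HH (CohB1.ProjSpace N k) F 0) :=
    Groth.Agent.S0038.result N k F hF 0
  haveI : Module.Finite k Γ(F, ⊤) := Module.Finite.equiv (h0L k N F)
  rw [(h0L k N F).finrank_eq,
    (h0L k N (CohB1.tensorMod F (Twist.twistProjSpace N k (-1)))).finrank_eq]
  obtain ⟨a, ha⟩ := exists_muL_injective k N F hF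
  exact LinearMap.finrank_le_finrank_of_injective ha

theorem step [IsAlgClosed k] (F : (CohB1.ProjSpace N k).Modules) (hF : Coh.IsCoh F)
    (hass : ∀ x : ↥(CohB1.ProjSpace N k), Curv2.IsAssPoint F x →
      ¬ IsClosed ({x} : Set ↥(CohB1.ProjSpace N k)))
    (n : ℕ) (hn : Module.finrank k (Coh.HH (CohB1.ProjSpace N k) F 0) ≤ n + 1) :
    Module.finrank k (Coh.HH (CohB1.ProjSpace N k)
        (CohB1.tensorMod F (Twist.twistProjSpace N k (-1))) 0) ≤ n := by
  haveI : Infinite k := inferInstance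
  by_cases h0 : 1 ≤ Module.finrank k (Coh.HH (CohB1.ProjSpace N k) F 0)
  · have := main k N F hF hass h0
    omega
  · have := finrank_le k N F hF
    omega

theorem vanish [IsAlgClosed k] (n : ℕ) :
    ∀ (F : (CohB1.ProjSpace N k).Modules) (_ : Coh.IsCoh F)
      (_ : ∀ x : ↥(CohB1.ProjSpace N k), Curv2.IsAssPoint F x →
        ¬ IsClosed ({x} : Set ↥(CohB1.ProjSpace N k)))
      (_ : Module.finrank k (Coh.HH (CohB1.ProjSpace N k) F 0) ≤ n),
      Subsingleton (Coh.HH (CohB1.ProjSpace N k)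
        (CohB1.tensorMod F (Twist.twistProjSpace N k (-(n : ℤ)))) 0) := by
  induction n with
  | zero =>
    intro F hF _ hn
    haveI : Module.Finite k (Coh.HH (CohB1.ProjSpace N k) F 0) :=
      Groth.Agent.S0038.result N k F hF 0
    have h0 : Module.finrank k (Coh.HH (CohB1.ProjSpace N k) F 0) = 0 := by omega
    have hs : Subsingleton (Coh.HH (CohB1.ProjSpace N k) F 0) := Module.finrank_zero_iff.1 h0
    have hz : (-((0 : ℕ) : ℤ)) = 0 := by simp
    rw [hz]
    let e : CohB1.tensorMod F (Twist.twistProjSpace N k 0) ≅ F :=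
      Tensor.mapIso (Iso.refl F)
        (Groth.Agent.Helper28.TwistMul.zeroIso (CohB1.polyGrading N k)).symm ≪≫ Tensor.rid F
    exact subsingleton_HH_of_iso' k e 0 hs
  | succ n ih =>
    intro F hF hass hn
    have hinv := hinvTw k N (-1)
    have hG : Coh.IsCoh (CohB1.tensorMod F (Twist.twistProjSpace N k (-1))) :=
      Groth.Agent.Helper28.NegTwist.isCoh_tensor_inv F _ hF hinv
    have hassG : ∀ x : ↥(CohB1.ProjSpace N k),
        Curv2.IsAssPoint (CohB1.tensorMod F (Twist.twistProjSpace N k (-1))) x →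
          ¬ IsClosed ({x} : Set ↥(CohB1.ProjSpace N k)) := fun x hx =>
      hass x ((Groth.Agent.Helper28.NegTwist.isAssPoint_tensor_iff F _ hinv x).1 hx)
    have hGn := step k N F hF hass n hn
    have hs := ih _ hG hassG hGn
    obtain ⟨e⟩ := (Groth.Agent.Helper28.TwistMul.twist_all_of_degree_one
      (CohB1.polyGrading N k) (hcov k N)).2.1 (-1) (-(n : ℤ))
    have hz : (-((n + 1 : ℕ) : ℤ)) = -1 + -(n : ℤ) := by push_cast; ring
    rw [hz]
    let e' : CohB1.tensorMod F (Twist.twistProjSpace N k (-1 + -(n : ℤ))) ≅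
        CohB1.tensorMod (CohB1.tensorMod F (Twist.twistProjSpace N k (-1)))
          (Twist.twistProjSpace N k (-(n : ℤ))) :=
      Tensor.mapIso (Iso.refl F) e.symm ≪≫ (Tensor.assoc F _ _).symm
    exact subsingleton_HH_of_iso' k e' 0 hs

end Groth.Agent.Helper28.PnHopf

end
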