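import Mathlib

/-!
# van Dantzig and residual finiteness (helper28)
-/

set_option autoImplicit false

namespace Groth.Agent.Helper28.ProComplLib

open Topology Pointwise Set

section vd
variable {B : Type*} [AddCommGroup B] [TopologicalSpace B] [IsTopologicalAddGroup B]

/-- for a compact open `W` there is a neighbourhood `T` of `0` with `W + T ⊆ W`. -/
lemma exists_nhds_add_subset {W : Set B} (hWc : IsCompact W) (hWo : IsOpen W) :
    ∃ T ∈ 𝓝 (0 : B), W + T ⊆ W := by
  apply hWc.induction_on (p := fun S => ∃ T ∈ 𝓝 (0 : B), S + T ⊆ W)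
  · exact ⟨univ, Filter.univ_mem, by simp⟩
  · rintro s t hst ⟨T, hT, h⟩
    exact ⟨T, hT, (Set.add_subset_add_right hst).trans h⟩
  · rintro s t ⟨T₁, hT₁, h₁⟩ ⟨T₂, hT₂, h₂⟩
    refine ⟨T₁ ∩ T₂, Filter.inter_mem hT₁ hT₂, ?_⟩
    rw [Set.union_add]
    exact union_subset ((Set.add_subset_add_left inter_subset_left).trans h₁)
      ((Set.add_subset_add_left inter_subset_right).trans h₂)
  · intro x hx
    have h1 : (x, (0 : B)) ∈ (fun p : B × B => p.1 + p.2) ⁻¹' W := by simp [hx]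
    obtain ⟨U, V, hU, hV, hxU, h0V, hUV⟩ :=
      isOpen_prod_iff.mp (continuous_add.isOpen_preimage W hWo) x 0 h1
    refine ⟨U ∩ W, ⟨U, hU.mem_nhds hxU, W, fun _ a => a, rfl⟩, V, hV.mem_nhds h0V, ?_⟩
    rintro _ ⟨u, hu, v, hv, rfl⟩
    exact hUV (mk_mem_prod hu.1 hv)

/-- van Dantzig: compact open subgroups form a basis at `0`. -/
theorem exists_compact_open_subgroup [T2Space B] [LocallyCompactSpace B]
    [TotallyDisconnectedSpace B] {O : Set B} (hO : IsOpen O) (h0 : (0 : B) ∈ O) :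
    ∃ U : AddSubgroup B, IsOpen (U : Set B) ∧ IsCompact (U : Set B) ∧ (U : Set B) ⊆ O := by
  obtain ⟨K, hK, h0K, hKO⟩ := exists_compact_subset hO h0
  obtain ⟨W, hWclopen, h0W, hWK⟩ :=
    (loc_compact_Haus_tot_disc_of_zero_dim (H := B)).mem_nhds_iff.mp
      (isOpen_interior.mem_nhds h0K)
  have hWclopen' : IsClopen W := hWclopen
  have hWc : IsCompact W :=
    hK.of_isClosed_subset hWclopen'.isClosed (hWK.trans interior_subset)
  obtain ⟨T, hT, hWT⟩ := exists_nhds_add_subset hWc hWclopen'.isOpen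
  set T' : Set B := T ∩ -T with hT'def
  have hT' : T' ∈ 𝓝 (0 : B) := Filter.inter_mem hT (neg_mem_nhds_zero B hT)
  have hneg : ∀ x ∈ T', -x ∈ T' := by
    rintro x ⟨hx1, hx2⟩
    exact ⟨hx2, by simpa using hx1⟩
  let H : AddSubgroup B := AddSubgroup.closure T'
  have key : ∀ x ∈ H, (∀ w ∈ W, w + x ∈ W) ∧ (∀ w ∈ W, w - x ∈ W) := by
    intro x hx
    induction hx using AddSubgroup.closure_induction with
    | mem x hx =>
      refine ⟨fun w hw => hWT (Set.add_mem_add hw hx.1), fun w hw => ?_⟩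
      rw [sub_eq_add_neg]
      exact hWT (Set.add_mem_add hw (hneg x hx).1)
    | zero => simp
    | add x y _ _ hx hy =>
      refine ⟨fun w hw => ?_, fun w hw => ?_⟩
      · rw [← add_assoc]
        exact hy.1 _ (hx.1 _ hw)
      · rw [← sub_sub]
        exact hy.2 _ (hx.2 _ hw)
    | neg x _ hx =>
      refine ⟨fun w hw => ?_, fun w hw => ?_⟩
      · rw [← sub_eq_add_neg]
        exact hx.2 w hw
      · rw [sub_neg_eq_add]
        exact hx.1 w hw
  have hHW : (H : Set B) ⊆ W := by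
    intro x hx
    have := (key x hx).1 0 h0W
    rwa [zero_add] at this
  have hHo : IsOpen (H : Set B) :=
    AddSubgroup.isOpen_of_mem_nhds H (g := 0)
      (Filter.mem_of_superset hT' AddSubgroup.subset_closure)
  have hHc : IsClosed (H : Set B) := AddSubgroup.isClosed_of_isOpen H hHo
  exact ⟨H, hHo, hWc.of_isClosed_subset hHc hHW,
    hHW.trans (hWK.trans (interior_subset.trans hKO))⟩

end vd

section resfin

/-- finitely generated abelian groups are residually finite. -/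
theorem exists_finiteIndex_not_mem {Q : Type*} [AddCommGroup Q] [AddGroup.FG Q] {x : Q}
    (hx : x ≠ 0) : ∃ Q' : AddSubgroup Q, Q'.FiniteIndex ∧ x ∉ Q' := by
  classical
  obtain ⟨n, ι, _, p, hp, e, ⟨f⟩⟩ := AddCommGroup.equiv_free_prod_directSum_zmod Q
  have hfx : f x ≠ 0 := (AddEquiv.map_ne_zero_iff f).mpr hx
  by_cases h1 : (f x).1 = 0
  · have h2 : (f x).2 ≠ 0 := fun h => hfx (Prod.ext h1 h)
    obtain ⟨i, hi⟩ : ∃ i, (f x).2 i ≠ 0 := by
      by_contra hcon
      push Not at hcon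
      exact h2 (DFinsupp.ext hcon)
    have : NeZero (p i ^ e i) := ⟨pow_ne_zero _ (hp i).ne_zero⟩
    let φ : Q →+ ZMod (p i ^ e i) :=
      (DFinsupp.evalAddMonoidHom i).comp ((AddMonoidHom.snd _ _).comp f.toAddMonoidHom)
    refine ⟨φ.ker, inferInstance, fun hmem => hi ?_⟩
    exact hmem
  · obtain ⟨j, hj⟩ : ∃ j, (f x).1 j ≠ 0 := by
      by_contra hcon
      push Not at hcon
      exact h1 (Finsupp.ext hcon)
    set a : ℤ := (f x).1 j with ha
    have : NeZero (a.natAbs + 1) := ⟨Nat.succ_ne_zero _⟩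
    let φ : Q →+ ZMod (a.natAbs + 1) :=
      (Int.castAddHom (ZMod (a.natAbs + 1))).comp
        ((Finsupp.applyAddHom j).comp ((AddMonoidHom.fst _ _).comp f.toAddMonoidHom))
    refine ⟨φ.ker, inferInstance, fun hmem => hj ?_⟩
    have h3 : ((a : ℤ) : ZMod (a.natAbs + 1)) = 0 := hmem
    rw [ZMod.intCast_zmod_eq_zero_iff_dvd] at h3
    have h4 := Int.natAbs_dvd_natAbs.mpr h3
    rw [Int.natAbs_natCast] at h4
    by_contra hne
    have h5 : 0 < a.natAbs := Int.natAbs_pos.mpr hne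
    have := Nat.le_of_dvd h5 h4
    omega

end resfin

section ext

/-- `ℚ/ℤ` is an injective abelian group. -/
theorem exists_extension {A' B' : Type*} [AddCommGroup A'] [AddCommGroup B'] (j : A' →+ B')
    (hj : Function.Injective j) (χ : A' →+ ℚ ⧸ AddSubgroup.zmultiples (1 : ℚ)) :
    ∃ ψ : B' →+ ℚ ⧸ AddSubgroup.zmultiples (1 : ℚ), ψ.comp j = χ := by
  obtain ⟨ψ, hψ⟩ := CharacterModule.dual_surjective_of_injective (R := ℤ) j.toIntLinearMap hj
    (show CharacterModule A' from χ)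
  refine ⟨(show B' →+ AddCircle (1 : ℚ) from ψ), ?_⟩
  ext a
  exact DFunLike.congr_fun hψ a

end ext

end Groth.Agent.Helper28.ProComplLib
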