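import Mathlib
import Groth.Agent.Lib.Helper28.ProjFracN
import Groth.Agent.Lib.Helper28.TwistLcm

/-!
# Fractions `c/w^k` on `D₊(w)` for `w` of arbitrary positive degree, and generation of `B_(w)`
by monomial fractions (helper28)
-/

set_option autoImplicit false
universe u
open CategoryTheory CategoryTheory.Limits AlgebraicGeometry Opposite TopologicalSpace
open HomogeneousLocalization Groth.Agent.Helper13 Groth.Agent.Helper28.ProjFrac
open Groth.Agent.Helper13.Inv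
open Groth.Agent.Helper28.ProjFracSec

noncomputable section

namespace Groth.Agent.Helper28.ProjFracK

variable {R A : Type u} [CommRing R] [CommRing A] [Algebra R A] (𝒜 : ℕ → Submodule R A)
  [GradedAlgebra 𝒜]

open Twist

/-- `c/w^k` as a function on `D₊(w)`. -/
def fracK {w : A} {l : ℕ} (hw : w ∈ 𝒜 l) (k : ℕ) (c : A) (hc : c ∈ 𝒜 (k • l)) :
    Γ(Proj 𝒜, Proj.basicOpen 𝒜 w) :=
  (Proj.awayToSection 𝒜 w).hom (Away.mk 𝒜 hw k c hc)

lemma fracK_val {w : A} {l : ℕ} (hw : w ∈ 𝒜 l) (k : ℕ) (c : A) (hc : c ∈ 𝒜 (k • l))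
    (x : Proj.basicOpen 𝒜 w) :
    ((show O (𝒜 := 𝒜) (op (Proj.basicOpen 𝒜 w)) from fracK 𝒜 hw k c hc).1 x).val =
      Localization.mk c (⟨w ^ k, fun h => x.2 (x.1.isPrime.mem_of_pow_mem k h)⟩ :
        x.1.asHomogeneousIdeal.toIdeal.primeCompl) := by
  unfold fracK
  rw [awayToSection_val, Away.val_mk, Localization.mk_eq_mk', IsLocalization.map_mk',
    ← Localization.mk_eq_mk']
  rfl

/-- **the identity `c = (c/w^k) · w^k`** in `O(n)`, `n = k·l`, over `D₊(w)`. -/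
lemma globalOf_res_eqK {w : A} {l : ℕ} (hw : w ∈ 𝒜 l) (k n : ℕ) (hn : k • l = n) (c : A)
    (hc : c ∈ 𝒜 n) (hwk : w ^ k ∈ 𝒜 n) :
    (Twist.twist 𝒜 (n : ℤ)).presheaf.map (homOfLE (le_top : Proj.basicOpen 𝒜 w ≤ ⊤)).op
        (Twist.globalOf 𝒜 ⟨c, hc⟩) =
      fracK 𝒜 hw k c (hn ▸ hc) •
        (Twist.twist 𝒜 (n : ℤ)).presheaf.map (homOfLE (le_top : Proj.basicOpen 𝒜 w ≤ ⊤)).op
          (Twist.globalOf 𝒜 ⟨w ^ k, hwk⟩) := by
  apply sec_ext
  intro x
  rw [smul_val, res_val, res_val, fracK_val]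
  change Localization.mk c ⟨1, _⟩ = Localization.mk c ⟨w ^ k, _⟩ * Localization.mk (w ^ k) ⟨1, _⟩
  rw [Localization.mk_mul, Localization.mk_eq_mk_iff, Localization.r_iff_exists]
  refine ⟨1, ?_⟩
  simp only [OneMemClass.coe_one, one_mul, Submonoid.coe_mul, mul_one]
  ring

lemma isGen_globalOf_iff' {n : ℕ} (hcovn : ∀ x : Proj 𝒜, ∃ k ∈ 𝒜 n, k ∉ x.asHomogeneousIdeal)
    (hinv : PicF.IsInvertible (Twist.twist 𝒜 (n : ℤ)))
    {c : A} (hcn : c ∈ 𝒜 n) (x : Proj 𝒜) :
    IsGen (Twist.twist 𝒜 (n : ℤ)) (Twist.globalOf 𝒜 ⟨c, hcn⟩) x trivial ↔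
      c ∉ x.asHomogeneousIdeal := by
  have h : (n : ℤ) = 0 + (n : ℤ) := (zero_add _).symm
  have e1 := TwistMul.genLocus_secHom_eq' 𝒜 hcovn hcn h
  have e2 := GenLoc.mem_genLocus_iff_isGen (Twist.twist 𝒜 (n : ℤ)) (TwistMul.secHom 𝒜 hcn h)
    hinv x
  have e3 : GenLoc.sec _ (TwistMul.secHom 𝒜 hcn h) = Twist.globalOf 𝒜 ⟨c, hcn⟩ :=
    TwistMul.secHom_app_top_one 𝒜 hcn h
  rw [e3] at e2
  refine e2.symm.trans ?_
  rw [e1]
  rfl

/-- change of numerator/denominator: `m / w^k = (m w^p) / w^(k+p)`. -/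
lemma mk_eq_mk_mul_pow {w : A} {l : ℕ} (hw : w ∈ 𝒜 l) (k p : ℕ) (m : A)
    (hm : m ∈ 𝒜 (k • l)) (hm' : m * w ^ p ∈ 𝒜 ((k + p) • l)) :
    Away.mk 𝒜 hw k m hm = Away.mk 𝒜 hw (k + p) (m * w ^ p) hm' := by
  apply HomogeneousLocalization.val_injective
  rw [Away.val_mk, Away.val_mk, Localization.mk_eq_mk_iff, Localization.r_iff_exists]
  refine ⟨1, ?_⟩
  change ((1 : Submonoid.powers w) : A) * (w ^ (k + p) * m) =
    ((1 : Submonoid.powers w) : A) * (w ^ k * (m * w ^ p))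
  rw [pow_add]
  ring

/-- **key decomposition**: every monomial fraction is a product of a "remainder" fraction and
powers of the fractions `f_j^{λ_j}/w`. -/
theorem mk_mem_of_decomp {s : ℕ} (f : Fin s → A) (deg : Fin s → ℕ) (hdeg : ∀ i, 0 < deg i)
    (hf : ∀ i, f i ∈ 𝒜 (deg i)) {l : ℕ} (hl : 0 < l) (lam : Fin s → ℕ)
    (hlam : ∀ j, lam j * deg j = l) {w : A} (hw : w ∈ 𝒜 l) (a : ℕ) (has : s - 1 ≤ a)
    (E : Subring (Away 𝒜 w))
    (h1 : ∀ j (hm : f j ^ lam j ∈ 𝒜 (1 • l)), Away.mk 𝒜 hw 1 (f j ^ lam j) hm ∈ E)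
    (h2 : ∀ (ρ : ℕ) (r : Fin s → ℕ), ρ ≤ a → (∀ j, r j < lam j) →
      ∑ j, r j • deg j = ρ • l → ∀ (hm : ∏ j, f j ^ r j ∈ 𝒜 (ρ • l)),
        Away.mk 𝒜 hw ρ (∏ j, f j ^ r j) hm ∈ E)
    (k : ℕ) (α : Fin s → ℕ) (hα : ∑ j, α j • deg j = k • l)
    (hm : ∏ j, f j ^ α j ∈ 𝒜 (k • l)) :
    Away.mk 𝒜 hw k (∏ j, f j ^ α j) hm ∈ E := by
  classical
  have hlampos : ∀ j, 0 < lam j := fun j => by
    rcases Nat.eq_zero_or_pos (lam j) with h | h
    · have := hlam j; rw [h, zero_mul] at this; omega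
    · exact h
  let q : Fin s → ℕ := fun j => α j / lam j
  let r : Fin s → ℕ := fun j => α j % lam j
  have hqr : ∀ j, α j = r j + lam j * q j := fun j => (Nat.mod_add_div (α j) (lam j)).symm
  have hsum : ∑ j, r j * deg j + l * ∑ j, q j = k * l := by
    have h1 : ∀ j, α j * deg j = r j * deg j + l * q j := by
      intro j
      rw [hqr j, add_mul, mul_assoc, mul_comm (q j) (deg j), ← mul_assoc, hlam j]
    have h2 : ∑ j, α j * deg j = k * l := by simpa [smul_eq_mul] using hα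
    rw [← h2, Finset.mul_sum, ← Finset.sum_add_distrib]
    exact Finset.sum_congr rfl (fun j _ => (h1 j).symm)
  have hqk : ∑ j, q j ≤ k := by
    have : l * ∑ j, q j ≤ k * l := by omega
    rw [mul_comm k l] at this
    exact Nat.le_of_mul_le_mul_left this hl
  let ρ : ℕ := k - ∑ j, q j
  have hρsum : ∑ j, r j * deg j = ρ * l := by
    have : ρ * l = k * l - (∑ j, q j) * l := Nat.sub_mul _ _ _
    rw [this, mul_comm (∑ j, q j) l]
    omega
  have hρa : ρ ≤ a := by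
    rcases Nat.eq_zero_or_pos s with hs | hs
    · subst hs
      have h0 : ρ * l = 0 := by rw [← hρsum]; simp
      rcases Nat.mul_eq_zero.1 h0 with h | h
      · omega
      · omega
    · haveI : Nonempty (Fin s) := ⟨⟨0, hs⟩⟩
      have hlt : ∑ j, r j * deg j < ∑ _j : Fin s, l := by
        apply Finset.sum_lt_sum_of_nonempty Finset.univ_nonempty
        intro j _
        have h3 : r j < lam j := Nat.mod_lt _ (hlampos j)
        calc r j * deg j < lam j * deg j := Nat.mul_lt_mul_of_pos_right h3 (hdeg j)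
          _ = l := hlam j
      rw [Finset.sum_const, Finset.card_univ, Fintype.card_fin, smul_eq_mul, hρsum] at hlt
      have : ρ < s := Nat.lt_of_mul_lt_mul_right hlt
      omega
  have hρk : ρ + ∑ j, q j = k := by omega
  have hr_lt : ∀ j, r j < lam j := fun j => Nat.mod_lt _ (hlampos j)
  have hrsum' : ∑ j, r j • deg j = ρ • l := by simpa [smul_eq_mul] using hρsum
  have hmr : ∏ j, f j ^ r j ∈ 𝒜 (ρ • l) :=
    hrsum' ▸ SetLike.prod_pow_mem_graded _ _ _ _ fun j _ => hf j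
  have hmu : ∀ j, f j ^ lam j ∈ 𝒜 (1 • l) := fun j => by
    have := SetLike.pow_mem_graded (lam j) (hf j)
    rw [smul_eq_mul, hlam j] at this
    simpa using this
  have H : Away.mk 𝒜 hw k (∏ j, f j ^ α j) hm =
      Away.mk 𝒜 hw ρ (∏ j, f j ^ r j) hmr *
        ∏ j, (Away.mk 𝒜 hw 1 (f j ^ lam j) (hmu j)) ^ q j := by
    apply HomogeneousLocalization.val_injective
    rw [HomogeneousLocalization.val_mul, Away.val_mk, Away.val_mk]
    have hprod : (∏ j, (Away.mk 𝒜 hw 1 (f j ^ lam j) (hmu j)) ^ q j).val =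
        Localization.mk (∏ j, (f j ^ lam j) ^ q j)
          (⟨w ^ (∑ j, q j), ⟨∑ j, q j, rfl⟩⟩ : Submonoid.powers w) := by
      have : ∀ (t : Finset (Fin s)),
          (∏ j ∈ t, (Away.mk 𝒜 hw 1 (f j ^ lam j) (hmu j)) ^ q j).val =
          Localization.mk (∏ j ∈ t, (f j ^ lam j) ^ q j)
            (⟨w ^ (∑ j ∈ t, q j), ⟨∑ j ∈ t, q j, rfl⟩⟩ : Submonoid.powers w) := by
        intro t
        induction t using Finset.induction_on with
        | empty =>
          simp only [Finset.prod_empty, Finset.sum_empty, pow_zero]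
          rw [HomogeneousLocalization.val_one]
          exact (Localization.mk_one).symm
        | insert j t hj ih =>
          rw [Finset.prod_insert hj, Finset.prod_insert hj, Finset.sum_insert hj,
            HomogeneousLocalization.val_mul, ih, HomogeneousLocalization.val_pow, Away.val_mk,
            Localization.mk_pow, Localization.mk_mul]
          congr 1
          apply Subtype.ext
          change (w ^ 1) ^ q j * w ^ (∑ j ∈ t, q j) = w ^ (q j + ∑ j ∈ t, q j)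
          rw [pow_one, pow_add]
      exact this Finset.univ
    rw [hprod, Localization.mk_mul]
    congr 1
    · rw [← Finset.prod_mul_distrib]
      apply Finset.prod_congr rfl
      intro j _
      rw [← pow_mul, ← pow_add, ← hqr j]
    · apply Subtype.ext
      change w ^ k = w ^ ρ * w ^ (∑ j, q j)
      rw [← pow_add, hρk]
  rw [H]
  apply E.mul_mem
  · exact h2 ρ r hρa hr_lt hrsum' hmr
  · apply Subring.prod_mem
    intro j _
    exact E.pow_mem (h1 j (hmu j)) _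

/-- a subring of `B_(w)` containing the image of `B_0` and all monomial fractions is everything. -/
theorem subring_eq_top_of_monomials {s : ℕ} (f : Fin s → A) (deg : Fin s → ℕ)
    (hf : ∀ i, f i ∈ 𝒜 (deg i)) (hx : Algebra.adjoin (𝒜 0) (Set.range f) = ⊤)
    {w : A} {l : ℕ} (hw : w ∈ 𝒜 l) (E : Subring (Away 𝒜 w))
    (h0 : ∀ z : 𝒜 0, fromZeroRingHom 𝒜 _ z ∈ E)
    (hmon : ∀ (k : ℕ) (α : Fin s → ℕ), ∑ j, α j • deg j = k • l →
      ∀ (hm : ∏ j, f j ^ α j ∈ 𝒜 (k • l)), Away.mk 𝒜 hw k (∏ j, f j ^ α j) hm ∈ E) :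
    E = ⊤ := by
  rw [eq_top_iff]
  rintro z -
  have hz : z ∈ Submodule.span (𝒜 0) { (Away.mk 𝒜 hw a (∏ i, f i ^ ai i)
      (hai ▸ SetLike.prod_pow_mem_graded _ _ _ _ fun i _ ↦ hf i) : Away 𝒜 w) |
        (a : ℕ) (ai : Fin s → ℕ) (hai : ∑ i, ai i • deg i = a • l) } := by
    rw [Away.span_mk_prod_pow_eq_top hw f hx deg hf]
    trivial
  induction hz using Submodule.span_induction with
  | mem x hx =>
    obtain ⟨k, α, hα, rfl⟩ := hx
    exact hmon k α hα _
  | zero => exact E.zero_mem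
  | add x y _ _ hx hy => exact E.add_mem hx hy
  | smul c x _ hx =>
    rw [Algebra.smul_def]
    exact E.mul_mem (h0 c) hx

end Groth.Agent.Helper28.ProjFracK
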