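import Mathlib
import Groth.Agent.S4381
import Groth.Agent.Lib.Helper17.QP5
import Groth.Agent.Lib.Helper6.ProjClosed
import Groth.Agent.Lib.Helper15.ProjSpaceProper
import Groth.Agent.Lib.Helper28.VeryAmpleAmpleG

/-!
# A proper scheme over an affine base with a relatively ample invertible module is `Proj` of a
standard graded algebra (helper28)

* `map_toSpecZero_algebraMap`: `Proj.map φ` is compatible with the structure morphisms to `Spec R`
  when `φ` is `R`-linear.
* `exists_proj_of_closedImmersion`: a closed subscheme of `Proj 𝒜` (`𝒜` standard graded with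
  `R → 𝒜 0` onto) is `Proj` of a standard graded quotient, over `Spec R`.
* `proper_ample_iso_proj`: the main statement.
-/

set_option autoImplicit false
universe u
open CategoryTheory CategoryTheory.Limits AlgebraicGeometry HomogeneousLocalization MvPolynomial
open Scheme.IdealSheafData
open Groth.Agent.Helper6 Groth.Agent.Helper6.IdealComap Groth.Agent.Helper6.FSchLib
open Groth.Agent.Helper6.ProjClosedAlg Groth.Agent.Helper6.ProjClosed
open Groth.Agent.Helper17.SG Groth.Agent.Helper17.QP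
open Groth.Agent.Helper28.VeryAmpleCrit (sndP)

noncomputable section

namespace Groth.Agent.Helper28.ProjOfAmple

section general

variable {R A B : Type u} [CommRing R] [CommRing A] [CommRing B] [Algebra R A] [Algebra R B]
  (𝒜 : ℕ → Submodule R A) (ℬ : ℕ → Submodule R B) [GradedAlgebra 𝒜] [GradedAlgebra ℬ]

set_option backward.isDefEq.respectTransparency false in
theorem map_toSpecZero_algebraMap (φ : 𝒜 →+*ᵍ ℬ)
    (hφ : HomogeneousIdeal.irrelevant ℬ ≤ (HomogeneousIdeal.irrelevant 𝒜).map φ)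
    (hR : ∀ r : R, φ (algebraMap R A r) = algebraMap R B r) :
    Proj.map φ hφ ≫ Proj.toSpecZero 𝒜 ≫ Spec.map (CommRingCat.ofHom (algebraMap R (𝒜 0))) =
      Proj.toSpecZero ℬ ≫ Spec.map (CommRingCat.ofHom (algebraMap R (ℬ 0))) := by
  refine (Proj.mapAffineOpenCover φ hφ).openCover.hom_ext _ _ fun s => ?_
  simp only [Scheme.AffineOpenCover.openCover_f, Proj.mapAffineOpenCover_f]
  rw [Proj.awayι_comp_map_assoc φ hφ s.1.2 _ s.2.2, Proj.awayι_toSpecZero_assoc,
    Proj.awayι_toSpecZero_assoc, ← Spec.map_comp, ← Spec.map_comp, ← Spec.map_comp]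
  congr 1
  ext r
  change (Away.map φ s.2.1 (fromZeroRingHom 𝒜 _ (algebraMap R (𝒜 0) r))).val =
    (fromZeroRingHom ℬ _ (algebraMap R (ℬ 0) r)).val
  have e1 : fromZeroRingHom 𝒜 (Submonoid.powers (s.2.1 : A)) (algebraMap R (𝒜 0) r) =
      HomogeneousLocalization.mk ⟨0, algebraMap R (𝒜 0) r, 1, one_mem _⟩ := rfl
  have e2 : fromZeroRingHom ℬ (Submonoid.powers (φ (s.2.1 : A))) (algebraMap R (ℬ 0) r) =
      HomogeneousLocalization.mk ⟨0, algebraMap R (ℬ 0) r, 1, one_mem _⟩ := rfl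
  rw [e1, e2]
  unfold Away.map
  rw [HomogeneousLocalization.map_mk, val_mk, val_mk]
  exact congrArg₂ Localization.mk (hR r) (Subtype.ext (map_one φ))

end general

section quotient

variable {R A : Type u} [CommRing R] [CommRing A] [Algebra R A] (𝒜 : ℕ → Submodule R A)
  [GradedAlgebra 𝒜]

theorem exists_proj_of_closedImmersion (s₀ : Finset A) (hs1 : ∀ f ∈ s₀, f ∈ 𝒜 1)
    (hs : (HomogeneousIdeal.irrelevant 𝒜).toIdeal = Ideal.span (s₀ : Set A))
    (h0 : Function.Surjective (algebraMap R (𝒜 0)))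
    {Z : Scheme.{u}} (i : Z ⟶ Proj 𝒜) [IsClosedImmersion i] :
    ∃ (S : Type u) (_ : CommRing S) (_ : Algebra R S) (𝒮 : ℕ → Submodule R S)
      (_ : GradedAlgebra 𝒮) (s : Finset S),
      Function.Surjective (algebraMap R (𝒮 0)) ∧ (∀ g ∈ s, g ∈ 𝒮 1) ∧
      (HomogeneousIdeal.irrelevant 𝒮).toIdeal = Ideal.span (s : Set S) ∧
      ∃ e : Z ≅ Proj 𝒮,
        e.hom ≫ Proj.toSpecZero 𝒮 ≫ Spec.map (CommRingCat.ofHom (algebraMap R (𝒮 0))) =
          i ≫ Proj.toSpecZero 𝒜 ≫ Spec.map (CommRingCat.ofHom (algebraMap R (𝒜 0))) := by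
  classical
  let I := idl 𝒜 s₀ hs1 (Jloc 𝒜 i.ker)
  have hI : I.IsHomogeneous 𝒜 := idl_isHomogeneous
  let _ : GradedAlgebra (GradedQuot.grading 𝒜 I) := GradedQuot.gradedAlgebra 𝒜 hI
  let φ : 𝒜 →+*ᵍ GradedQuot.grading 𝒜 I := GradedQuot.mkHom 𝒜 I
  have hsurj : Function.Surjective φ := Ideal.Quotient.mk_surjective
  have hφ := irrelevant_le_map_of_surjective φ hsurj
  have hcl : IsClosedImmersion (Proj.map φ hφ) :=
    proj_map_isClosedImmersion_of_surjective φ hφ hsurj
  have hker : (Proj.map φ hφ).ker = i.ker := by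
    refine ext_of_openImmersions (ι := s₀) (fun f => Spec (.of (Away 𝒜 f.1)))
      (fun f => Proj.awayι 𝒜 f.1 (hs1 f.1 f.2) one_pos) ?_ ?_
    · simp_rw [Proj.opensRange_awayι]
      exact Proj.iSup_basicOpen_eq_top 𝒜 (fun f : s₀ => f.1) (by rw [hs]; simp)
    · intro f
      rw [← ker_of_isPullback (isPullback_awayι_map φ hφ one_pos f.1 (hs1 f.1 f.2)),
        ker_specMap_of_surjective _ (awayMap_surjective φ hsurj (hs1 f.1 f.2)), ← idealSpec_Jloc]
      congr 1
      exact ker_awayMap_eq (fun f g hfs hgs => Jloc_compat 𝒜 i.ker f g _ _) φ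
        (fun a => Ideal.Quotient.eq_zero_iff_mem) f.2
  have := IsClosedImmersion.isIso_lift (Proj.map φ hφ) i hker
  have hfac : IsClosedImmersion.lift (Proj.map φ hφ) i hker.le ≫ Proj.map φ hφ = i :=
    IsClosedImmersion.lift_fac _ _ _
  refine ⟨A ⧸ I, inferInstance, inferInstance, GradedQuot.grading 𝒜 I, inferInstance,
    s₀.image (Ideal.Quotient.mk I), ?_, ?_, ?_,
    asIso (IsClosedImmersion.lift (Proj.map φ hφ) i hker.le), ?_⟩
  · rintro ⟨x, hx⟩
    obtain ⟨a, ha, rfl⟩ := GradedQuot.exists_of_mem 𝒜 I hx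
    obtain ⟨r, hr⟩ := h0 ⟨a, ha⟩
    refine ⟨r, Subtype.ext ?_⟩
    have hra : algebraMap R A r = a := congrArg Subtype.val hr
    change algebraMap R (A ⧸ I) r = Ideal.Quotient.mk I a
    rw [← hra]; rfl
  · intro g hg
    obtain ⟨a, ha, rfl⟩ := Finset.mem_image.1 hg
    exact GradedQuot.mk_mem I (hs1 a ha)
  · apply le_antisymm
    · intro b hb
      have h1 : b ∈ ((HomogeneousIdeal.irrelevant 𝒜).map φ).toIdeal :=
        (toIdeal_le_toIdeal_iff.mpr hφ) hb
      rw [HomogeneousIdeal.toIdeal_map, hs, Ideal.map_span] at h1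
      have h2 : (φ '' (s₀ : Set A)) =
          ((s₀.image (Ideal.Quotient.mk I) : Finset (A ⧸ I)) : Set (A ⧸ I)) := by
        rw [Finset.coe_image]; rfl
      rw [← h2]; exact h1
    · rw [Ideal.span_le]
      intro g hg
      obtain ⟨a, ha, rfl⟩ := Finset.mem_image.1 (Finset.mem_coe.1 hg)
      exact HomogeneousIdeal.mem_irrelevant_of_mem _ one_pos (GradedQuot.mk_mem I (hs1 a ha))
  · have h1 := map_toSpecZero_algebraMap 𝒜 (GradedQuot.grading 𝒜 I) φ hφ (fun r => rfl)
    rw [asIso_hom, ← h1]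
    exact (Category.assoc _ _ _).symm.trans (congrArg (· ≫ _) hfac)

end quotient

section poly

variable (n : ℕ) (A : Type u) [CommRing A]

theorem algebraMap_polyGrading_zero_surjective :
    Function.Surjective (algebraMap A (CohB1.polyGrading n A 0)) := by
  rintro ⟨p, hp⟩
  have hp' : p.IsHomogeneous 0 := hp
  have h1 : p.totalDegree = 0 := (MvPolynomial.totalDegree_zero_iff_isHomogeneous _).2 hp'
  have h2 : p = C (p.coeff 0) := MvPolynomial.totalDegree_eq_zero_iff_eq_C.1 h1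
  refine ⟨p.coeff 0, Subtype.ext ?_⟩
  change algebraMap A (MvPolynomial (Fin (n + 1)) A) (p.coeff 0) = p
  rw [MvPolynomial.algebraMap_eq]; exact h2.symm

open scoped Classical in
/-- the finite set of variables -/
def vars : Finset (MvPolynomial (Fin (n + 1)) A) :=
  Finset.univ.image (fun k : Fin (n + 1) => (X k : MvPolynomial (Fin (n + 1)) A))

theorem vars_mem : ∀ f ∈ vars n A, f ∈ CohB1.polyGrading n A 1 := by
  classical
  intro f hf
  unfold vars at hf
  obtain ⟨k, -, rfl⟩ := Finset.mem_image.1 hf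
  exact X_mem n A k

theorem irrelevant_eq_span_vars :
    (HomogeneousIdeal.irrelevant (CohB1.polyGrading n A)).toIdeal =
      Ideal.span (vars n A : Set (MvPolynomial (Fin (n + 1)) A)) := by
  have hc : (vars n A : Set (MvPolynomial (Fin (n + 1)) A)) =
      Set.range (fun k : Fin (n + 1) => (X k : MvPolynomial (Fin (n + 1)) A)) := by
    classical
    unfold vars
    rw [Finset.coe_image, Finset.coe_univ, Set.image_univ]
  rw [hc]
  apply le_antisymm
  · exact irrelevant_le_span n A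
  · rw [Ideal.span_le]
    rintro _ ⟨k, rfl⟩
    exact HomogeneousIdeal.mem_irrelevant_of_mem _ one_pos (X_mem n A k)

end poly

theorem proper_ample_iso_proj {A : Type u} [CommRing A] {X : Scheme.{u}}
    (f : X ⟶ Spec (CommRingCat.of A)) [IsProper f]
    (L : X.Modules) (hamp : RelAmple.IsRelAmple f L) :
    ∃ (S : Type u) (_ : CommRing S) (_ : Algebra A S) (𝒮 : ℕ → Submodule A S)
      (_ : GradedAlgebra 𝒮) (s : Finset S),
      Function.Surjective (algebraMap A (𝒮 0)) ∧ (∀ g ∈ s, g ∈ 𝒮 1) ∧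
      (HomogeneousIdeal.irrelevant 𝒮).toIdeal = Ideal.span (s : Set S) ∧
      ∃ e : X ≅ Proj 𝒮,
        e.hom ≫ Proj.toSpecZero 𝒮 ≫ Spec.map (CommRingCat.ofHom (algebraMap A (𝒮 0))) = f := by
  have hA : CohB1.IsAmple L := (Groth.Agent.S4381.result f L).1 hamp
  obtain ⟨d₀, -, hva⟩ :=
    Groth.Agent.Helper28.VeryAmpleAmpleG.eventually_veryAmple_pow f L hA
  obtain ⟨n, i, hi, hcomp, -⟩ := hva d₀ le_rfl
  haveI := hi
  haveI : IsProper (sndP n (Spec (CommRingCat.of A))) :=
    Groth.Agent.Helper15.isProper_projSpaceOver_toBase n _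
  haveI : IsProper (i ≫ sndP n (Spec (CommRingCat.of A))) := by rw [hcomp]; infer_instance
  haveI : IsProper i := IsProper.of_comp i (sndP n (Spec (CommRingCat.of A)))
  haveI : IsClosedImmersion i :=
    IsClosedImmersion.of_isPreimmersion i i.isClosedMap.isClosed_range
  have hpb : IsPullback (gmap n A) (πP n A) (CohB1.ProjSpace.toSpec n (ULift.{u} ℤ))
      (specULiftZIsTerminal.from (Spec (CommRingCat.of A))) :=
    isPullback_congr (projSpace_isPullback n A) rfl (specULiftZIsTerminal.hom_ext _ _)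
  obtain ⟨E, hE⟩ : ∃ E : Proj (CohB1.polyGrading n A) ≅
      CohB1.ProjSpaceOver n (Spec (CommRingCat.of A)), E = hpb.isoPullback := ⟨_, rfl⟩
  have hEs : E.hom ≫ pullback.snd (CohB1.ProjSpace.toSpec n (ULift.{u} ℤ))
      (specULiftZIsTerminal.from (Spec (CommRingCat.of A))) = πP n A := by
    rw [hE]; exact hpb.isoPullback_hom_snd
  haveI : IsClosedImmersion (i ≫ E.inv) := inferInstance
  have hi' : (i ≫ E.inv) ≫ πP n A = f := by
    rw [← hEs, Category.assoc, Iso.inv_hom_id_assoc, hcomp]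
  obtain ⟨S, iS, iAlg, 𝒮, iG, s, h1, h2, h3, e, he⟩ :=
    exists_proj_of_closedImmersion (CohB1.polyGrading n A) (vars n A) (vars_mem n A)
      (irrelevant_eq_span_vars n A) (algebraMap_polyGrading_zero_surjective n A) (i ≫ E.inv)
  exact ⟨S, iS, iAlg, 𝒮, iG, s, h1, h2, h3, e, he.trans hi'⟩

end Groth.Agent.Helper28.ProjOfAmple
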