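import Mathlib
import Groth.Agent.Lib.Helper28.ProjFracK
import Groth.Agent.Lib.Helper28.ProjVeryAmple

/-!
# `O(al)` is very ample on `Proj B`, `B` generated by `f_1, …, f_s` of positive degrees with
lcm `l`, for `a ≥ max(1, s - 1)` (helper28)
-/

set_option autoImplicit false
universe u
open CategoryTheory CategoryTheory.Limits AlgebraicGeometry Opposite TopologicalSpace
open HomogeneousLocalization
open Groth.Agent.Helper13 Groth.Agent.Helper13.Inv Groth.Agent.Helper13.GenLoc
open Groth.Agent.Helper28.ProjFrac Groth.Agent.Helper28.ProjFracSec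
open Groth.Agent.Helper28.ProjFracN Groth.Agent.Helper28.ProjFracK
open Groth.Agent.Helper28.ProjVeryAmple
open Groth.Agent.Helper28.PullSecBridge
open Groth.Agent.Helper28.VeryAmpleCrit
open Groth.Agent.Helper18.AffHom (res res_smul res_res app_res res_self)

noncomputable section

namespace Groth.Agent.Helper28.ProjVeryAmpleLcm

variable {R A : Type u} [CommRing R] [CommRing A] [Algebra R A] (𝒜 : ℕ → Submodule R A)
  [GradedAlgebra 𝒜]

lemma mk_congr {w : A} {l : ℕ} (hw : w ∈ 𝒜 l) {k k' : ℕ} (hk : k = k') {m m' : A}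
    (hmm : m = m') (hm : m ∈ 𝒜 (k • l)) (hm' : m' ∈ 𝒜 (k' • l)) :
    Away.mk 𝒜 hw k m hm = Away.mk 𝒜 hw k' m' hm' := by
  subst hk
  subst hmm
  rfl

set_option maxHeartbeats 1600000 in
theorem closedImmersion_twist_lcm {s : ℕ} (f : Fin s → A) (deg : Fin s → ℕ)
    (hdeg : ∀ i, 0 < deg i) (hf : ∀ i, f i ∈ 𝒜 (deg i))
    (hgen : Algebra.adjoin R (Set.range f) = ⊤) (a : ℕ) (ha : 0 < a) (has : s - 1 ≤ a) :
    ∃ (N : ℕ) (i : Proj 𝒜 ⟶ CohB1.ProjSpaceOver N (Spec (CommRingCat.of R))),
      IsClosedImmersion i ∧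
      i ≫ pullback.snd (CohB1.ProjSpace.toSpec N (ULift.{u} ℤ))
          (specULiftZIsTerminal.from (Spec (CommRingCat.of R))) =
        Proj.toSpecZero 𝒜 ≫ Spec.map (CommRingCat.ofHom (algebraMap R (𝒜 0))) ∧
      Nonempty (Twist.twist 𝒜 ((a * Finset.univ.lcm deg : ℕ) : ℤ) ≅
        (Scheme.Modules.pullback i).obj (Twist.twistOver N (Spec (CommRingCat.of R)) 1)) := by
  classical
  have hl : 0 < Finset.univ.lcm deg := TwistMul.lcm_pos deg hdeg
  generalize hl_def : Finset.univ.lcm deg = l at hl ⊢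
  let n := a * l
  have hdvd : ∀ j, deg j ∣ l := fun j => hl_def ▸ Finset.dvd_lcm (Finset.mem_univ j)
  let lam : Fin s → ℕ := fun j => l / deg j
  have hlam : ∀ j, lam j * deg j = l := fun j => Nat.div_mul_cancel (hdvd j)
  let w : Fin s → A := fun i => f i ^ lam i
  have hw : ∀ i, w i ∈ 𝒜 l := fun i => by
    have := SetLike.pow_mem_graded (lam i) (hf i)
    rwa [smul_eq_mul, hlam i] at this
  have hwpow : ∀ (i : Fin s) (k : ℕ), w i ^ k ∈ 𝒜 (k * l) := fun i k => by
    have := SetLike.pow_mem_graded k (hw i)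
    rwa [smul_eq_mul] at this
  haveI : Algebra.FiniteType R A := ⟨⟨Finset.univ.image f, by
    rw [Finset.coe_image, Finset.coe_univ, Set.image_univ]; exact hgen⟩⟩
  have hsurj0 : Function.Surjective (algebraMap R (𝒜 0)) :=
    algebraMap_zero_surjective 𝒜 (Set.range f) hgen (by
      rintro x ⟨i, rfl⟩
      exact ⟨deg i, hdeg i, hf i⟩)
  haveI : IsScalarTower R (𝒜 0) A := ⟨fun r a x => by
    rw [Algebra.smul_def (r • a) x, Algebra.smul_def a x]
    change (r • (a : A)) * x = r • ((a : A) * x)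
    exact smul_mul_assoc r (a : A) x⟩
  haveI : Algebra.FiniteType (𝒜 0) A :=
    Algebra.FiniteType.of_restrictScalars_finiteType R (𝒜 0) A
  let q : Proj 𝒜 ⟶ Spec (CommRingCat.of R) :=
    Proj.toSpecZero 𝒜 ≫ Spec.map (CommRingCat.ofHom (algebraMap R (𝒜 0)))
  haveI : IsClosedImmersion (Spec.map (CommRingCat.ofHom (algebraMap R (𝒜 0)))) :=
    IsClosedImmersion.spec_of_surjective _ hsurj0
  haveI hqprop : IsProper q := inferInstance
  have hcovn : ∀ x : Proj 𝒜, ∃ k ∈ 𝒜 n, k ∉ x.asHomogeneousIdeal := by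
    have := TwistMul.lcm_cover 𝒜 f deg hf hgen a
    rw [hl_def] at this
    exact this
  have hnm : ∀ x : Proj 𝒜, ∃ i, f i ∉ x.asHomogeneousIdeal :=
    TwistMul.exists_nmem_of_adjoin 𝒜 f deg hf hgen
  let M := Twist.twist 𝒜 (n : ℤ)
  have hM : PicF.IsInvertible M := by
    have := (TwistMul.twist_lcm_ample_generated 𝒜 f deg hdeg hf hgen a ha).1.1
    rw [hl_def] at this
    exact this
  have hx0 : Algebra.adjoin (𝒜 0) (Set.range f) = ⊤ := TwistMul.adjoin_zero_eq_top 𝒜 f hgen
  -- the sections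
  let Box := (j : Fin s) → Fin (lam j)
  let rsum : Box → ℕ := fun r => ∑ j, (r j : ℕ) * deg j
  let J := Fin s × Option (Fin s ⊕ Box)
  let elt : J → A := fun x => match x with
    | (i, none) => w i ^ a
    | (i, some (Sum.inl j)) => f j ^ lam j * w i ^ (a - 1)
    | (i, some (Sum.inr r)) =>
      if l ∣ rsum r ∧ rsum r / l ≤ a then (∏ j, f j ^ (r j : ℕ)) * w i ^ (a - rsum r / l) else 0
  have helt : ∀ x, elt x ∈ 𝒜 n := by
    rintro ⟨i, (_ | (j | r))⟩
    · exact hwpow i a
    · have h1 : f j ^ lam j * w i ^ (a - 1) ∈ 𝒜 (l + (a - 1) * l) :=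
        SetLike.mul_mem_graded (hw j) (hwpow i (a - 1))
      have h2 : l + (a - 1) * l = n := by
        calc l + (a - 1) * l = (a - 1 + 1) * l := by ring
          _ = a * l := by rw [Nat.sub_add_cancel ha]
      exact h2 ▸ h1
    · change (if l ∣ rsum r ∧ rsum r / l ≤ a then
        (∏ j, f j ^ (r j : ℕ)) * w i ^ (a - rsum r / l) else 0) ∈ 𝒜 n
      split_ifs with h
      · have h0 : ∏ j, f j ^ (r j : ℕ) ∈ 𝒜 (∑ j, (r j : ℕ) • deg j) :=
          SetLike.prod_pow_mem_graded _ _ _ _ fun j _ => hf j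
        have h1 : (∏ j, f j ^ (r j : ℕ)) * w i ^ (a - rsum r / l) ∈
            𝒜 ((∑ j, (r j : ℕ) • deg j) + (a - rsum r / l) * l) :=
          SetLike.mul_mem_graded h0 (hwpow i _)
        have h2 : (∑ j, (r j : ℕ) • deg j) + (a - rsum r / l) * l = n := by
          have h3 : (∑ j, (r j : ℕ) • deg j) = rsum r / l * l := by
            rw [Nat.div_mul_cancel h.1]
            simp only [smul_eq_mul, rsum]
          rw [h3]
          calc rsum r / l * l + (a - rsum r / l) * l = (rsum r / l + (a - rsum r / l)) * l := by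
                ring
            _ = a * l := by rw [Nat.add_sub_cancel' h.2]
        exact h2 ▸ h1
      · exact zero_mem _
  let τs : J → Γ(M, ⊤) := fun x => Twist.globalOf 𝒜 ⟨elt x, helt x⟩
  let N := Fintype.card J
  have hcard : Fintype.card (Option J) = N + 1 := Fintype.card_option
  let eqv : Option J ≃ Fin (N + 1) := Fintype.equivFinOfCardEq hcard
  let σ' : Fin (N + 1) → Γ(M, ⊤) := fun a => (eqv.symm a).elim 0 τs
  let good : Fin (N + 1) → Prop := fun a => ∃ i : Fin s, eqv.symm a = some (i, none)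
  have hσ'some : ∀ j, σ' (eqv (some j)) = τs j := fun j => by
    change (eqv.symm (eqv (some j))).elim 0 τs = τs j
    rw [Equiv.symm_apply_apply]
    rfl
  have hgenw : ∀ (i : Fin s) (z : Proj 𝒜), IsGen M (τs (i, none)) z trivial ↔
      w i ∉ z.asHomogeneousIdeal := by
    intro i z
    refine (isGen_globalOf_iff' 𝒜 hcovn hM (helt (i, none)) z).trans ?_
    change w i ^ a ∉ z.asHomogeneousIdeal ↔ w i ∉ z.asHomogeneousIdeal
    constructor
    · intro h h'
      exact h (Ideal.pow_mem_of_mem _ h' a ha)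
    · intro h h'
      exact h (z.isPrime.mem_of_pow_mem _ h')
  have hva : RelAmple.IsRelVeryAmplePn q M := by
    refine isRelVeryAmplePn_of_sections q M hM N σ' good ?_ ?_
    · intro x
      obtain ⟨i, hi⟩ := hnm x
      refine ⟨eqv (some (i, none)), ⟨i, Equiv.symm_apply_apply _ _⟩, ?_⟩
      rw [hσ'some]
      exact (hgenw i x).2 (fun h => hi (x.isPrime.mem_of_pow_mem _ h))
    · rintro b ⟨i, hb⟩ V hV
      have hb' : b = eqv (some (i, none)) := by rw [← hb, Equiv.apply_symm_apply]
      subst hb'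
      have hVeq : V = Proj.basicOpen 𝒜 (w i) := by
        apply TopologicalSpace.Opens.ext
        ext z
        change z ∈ V ↔ w i ∉ z.asHomogeneousIdeal
        rw [hV z, hσ'some]
        exact hgenw i z
      subst hVeq
      refine ⟨Proj.isAffineOpen_basicOpen 𝒜 _ (hw i) hl, fun c hc' => ?_⟩
      let D := Proj.basicOpen 𝒜 (w i)
      let Cl : Subring Γ(Proj 𝒜, D) :=
        Subring.closure (Set.range (q.appLE ⊤ D (fun _ _ => trivial)).hom ∪ Set.range c)
      change Cl = ⊤
      let ε : Γ(M, D) := res M (le_top : D ≤ ⊤) (τs (i, none))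
      have hε : ∀ (y : Proj 𝒜) (hy : y ∈ D), IsGen M ε y hy := fun y hy =>
        (isGen_res M (homOfLE (le_top : D ≤ ⊤)) _ y hy).2 ((hgenw i y).2 hy)
      have hn : a • l = n := smul_eq_mul a l
      have hcoef : ∀ j : J, fracK 𝒜 (hw i) a (elt j) (hn ▸ helt j) = c (eqv (some j)) := by
        intro j
        apply smul_cancel_of_isGen M ε hε
        have h1 := hc' (eqv (some j))
        rw [hσ'some j, hσ'some (i, none)] at h1
        rw [← h1]
        exact (globalOf_res_eqK 𝒜 (hw i) a n hn (elt j) (helt j) (helt (i, none))).symm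
      let E : Subring (Away 𝒜 (w i)) := Cl.comap (Proj.awayToSection 𝒜 (w i)).hom
      -- fractions with numerator one of our sections lie in `E`
      have hfrac : ∀ (k p : ℕ) (hkp : k + p = a) (m : A) (hm : m ∈ 𝒜 (k • l)) (j' : J)
          (hj' : m * w i ^ p = elt j'), Away.mk 𝒜 (hw i) k m hm ∈ E := by
        intro k p hkp m hm j' hj'
        have hm' : m * w i ^ p ∈ 𝒜 ((k + p) • l) := by
          rw [hj', hkp]
          exact hn ▸ helt j'
        have e1 := mk_eq_mk_mul_pow 𝒜 (hw i) k p m hm hm'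
        have e2 : Away.mk 𝒜 (hw i) (k + p) (m * w i ^ p) hm' =
            Away.mk 𝒜 (hw i) a (elt j') (hn ▸ helt j') := mk_congr 𝒜 (hw i) hkp hj' _ _
        rw [e1, e2]
        change fracK 𝒜 (hw i) a (elt j') (hn ▸ helt j') ∈ Cl
        rw [hcoef j']
        exact Subring.subset_closure (Or.inr ⟨_, rfl⟩)
      have hE : E = ⊤ := by
        apply subring_eq_top_of_monomials 𝒜 f deg hf hx0 (hw i) E
        · intro z
          obtain ⟨r, rfl⟩ := hsurj0 z
          change (Proj.awayToSection 𝒜 (w i)).hom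
            (fromZeroRingHom 𝒜 _ (algebraMap R (𝒜 0) r)) ∈ Cl
          rw [← appLE_toSpec_apply 𝒜 (hw i) hl r]
          exact Subring.subset_closure (Or.inl ⟨_, rfl⟩)
        · apply mk_mem_of_decomp 𝒜 f deg hdeg hf hl lam hlam (hw i) a has E
          · intro j hm
            exact hfrac 1 (a - 1) (by omega) (f j ^ lam j) hm (i, some (Sum.inl j)) rfl
          · intro ρ r hρ hr hrs hm
            let r' : Box := fun j => ⟨r j, hr j⟩
            have hrs' : rsum r' = ρ * l := by
              have : ∑ j, r j • deg j = ρ • l := hrs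
              simpa [rsum, r', smul_eq_mul] using this
            have hdiv : l ∣ rsum r' := ⟨ρ, by rw [hrs', mul_comm]⟩
            have hquot : rsum r' / l = ρ := by rw [hrs']; exact Nat.mul_div_cancel _ hl
            have helt' : (∏ j, f j ^ r j) * w i ^ (a - ρ) = elt (i, some (Sum.inr r')) := by
              change _ = (if l ∣ rsum r' ∧ rsum r' / l ≤ a then
                (∏ j, f j ^ (r' j : ℕ)) * w i ^ (a - rsum r' / l) else 0)
              rw [if_pos ⟨hdiv, hquot ▸ hρ⟩, hquot]
            exact hfrac ρ (a - ρ) (by omega) (∏ j, f j ^ r j) hm (i, some (Sum.inr r')) helt'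
      rw [eq_top_iff]
      intro y _
      obtain ⟨a', rfl⟩ : ∃ a', (Proj.awayToSection 𝒜 (w i)).hom a' = y := by
        have hbij : Function.Bijective (Proj.basicOpenIsoAway 𝒜 (w i) (hw i) hl).hom :=
          ConcreteCategory.bijective_of_isIso _
        exact hbij.2 y
      exact (hE ▸ trivial : a' ∈ E)
  obtain ⟨N', i, himm, hcomp, ⟨iso⟩⟩ := hva
  haveI := himm
  haveI : IsProper (sndP N' (Spec (CommRingCat.of R))) :=
    Groth.Agent.Helper15.isProper_projSpaceOver_toBase N' _
  haveI : IsProper (i ≫ sndP N' (Spec (CommRingCat.of R))) := by rw [hcomp]; exact hqprop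
  haveI : IsProper i := IsProper.of_comp i (sndP N' (Spec (CommRingCat.of R)))
  exact ⟨N', i, IsClosedImmersion.of_isPreimmersion i i.isClosedMap.isClosed_range, hcomp, ⟨iso⟩⟩

end Groth.Agent.Helper28.ProjVeryAmpleLcm
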