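import Mathlib
import Groth.Agent.Lib.Helper28.EffCartierOld

/-!
# An integral closed subscheme meeting an effective Cartier divisor properly is not contained in it
(helper28)
-/
set_option autoImplicit false
universe u
open CategoryTheory AlgebraicGeometry TopologicalSpace

namespace Groth.Agent.Helper28.ProperInt

open Groth.Agent.Helper28.EffCartierOld

lemma one_le_dim_stalk {X : Scheme.{u}} [IsLocallyNoetherian X] (𝓘 : X.IdealSheafData)
    (h𝓘 : BlowUp.IsEffCartierIdeal 𝓘) (y : X) (hy : y ∈ 𝓘.support) :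
    1 ≤ ringKrullDim (X.presheaf.stalk y) := by
  obtain ⟨U, hyU, t, ht, hIt⟩ := h𝓘 y
  have hU := U.2
  letI : Algebra Γ(X, U.1) (X.presheaf.stalk y) :=
    TopCat.Presheaf.algebra_section_stalk X.presheaf ⟨y, hyU⟩
  haveI hloc : IsLocalization.AtPrime (X.presheaf.stalk y)
      (hU.primeIdealOf ⟨y, hyU⟩).asIdeal := hU.isLocalization_stalk ⟨y, hyU⟩
  have e := IsLocalization.AtPrime.ringKrullDim_eq_height
    (hU.primeIdealOf ⟨y, hyU⟩).asIdeal (X.presheaf.stalk y)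
  rw [e]
  have htp : t ∈ (hU.primeIdealOf ⟨y, hyU⟩).asIdeal := by
    by_contra hnot
    have h1 : y ∈ X.basicOpen t := (mem_basicOpen_iff_notMem_primeIdealOf hU y hyU t).mpr hnot
    rw [Scheme.IdealSheafData.mem_support_iff_of_mem hyU, Scheme.mem_zeroLocus_iff] at hy
    exact hy t (by rw [hIt]; exact Ideal.mem_span_singleton_self t) h1
  have h1 : 1 ≤ (hU.primeIdealOf ⟨y, hyU⟩).asIdeal.height := by
    rw [Order.one_le_iff_ne_zero, Ne, Ideal.height_eq_zero_iff]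
    intro hmin
    exact Set.disjoint_left.mp (Ideal.disjoint_nonZeroDivisors_of_mem_minimalPrimes hmin) htp ht
  exact_mod_cast h1

theorem main {X Z : Scheme.{u}}
    [IsLocallyNoetherian X] (𝓘 : X.IdealSheafData) (hY : BlowUp.IsEffCartierIdeal 𝓘)
    (i : Z ⟶ X) [IsClosedImmersion i] [IsIntegral Z]
    (hprop : ∀ ζ : ↥X, ζ ∈ (𝓘.support : Set ↥X) ∩ Set.range i.base →
        (∀ ζ' : ↥X, ζ' ∈ (𝓘.support : Set ↥X) ∩ Set.range i.base → ζ' ⤳ ζ → ζ' = ζ) →
        ringKrullDim ↑(X.presheaf.stalk ζ) =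
          (⨅ y : (𝓘.support : Set ↥X), ringKrullDim ↑(X.presheaf.stalk y.1)) +
            ringKrullDim ↑(X.presheaf.stalk (i (genericPoint ↥Z)))) :
    ¬ Set.range i.base ⊆ (𝓘.support : Set ↥X) := by
  intro hsub
  have hζmem : i (genericPoint ↥Z) ∈ (𝓘.support : Set ↥X) ∩ Set.range i.base :=
    ⟨hsub ⟨_, rfl⟩, ⟨_, rfl⟩⟩
  have hmax : ∀ ζ' : ↥X, ζ' ∈ (𝓘.support : Set ↥X) ∩ Set.range i.base →
      ζ' ⤳ i (genericPoint ↥Z) → ζ' = i (genericPoint ↥Z) := by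
    rintro ζ' ⟨-, z', rfl⟩ hsp
    have h1 : genericPoint ↥Z ⤳ z' := (genericPoint_spec ↥Z).specializes (Set.mem_univ z')
    have h2 : i (genericPoint ↥Z) ⤳ i z' := h1.map i.continuous
    exact (hsp.antisymm h2).eq
  have h := hprop _ hζmem hmax
  have hc : (1 : WithBot ℕ∞) ≤
      ⨅ y : (𝓘.support : Set ↥X), ringKrullDim ↑(X.presheaf.stalk y.1) :=
    le_iInf (fun y => one_le_dim_stalk 𝓘 hY y.1 y.2)
  have hd_top : ringKrullDim ↑(X.presheaf.stalk (i (genericPoint ↥Z))) ≠ ⊤ := ringKrullDim_ne_top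
  have hd_bot : ringKrullDim ↑(X.presheaf.stalk (i (genericPoint ↥Z))) ≠ ⊥ := ringKrullDim_ne_bot
  obtain ⟨d, hd⟩ := WithBot.ne_bot_iff_exists.mp hd_bot
  rw [← hd] at h hd_top
  have hd' : d ≠ ⊤ := fun hh => hd_top (by rw [hh]; rfl)
  obtain ⟨n, rfl⟩ := ENat.ne_top_iff_exists.mp hd'
  have h3 : (1 : WithBot ℕ∞) + ((n : ℕ∞) : WithBot ℕ∞) ≤ ((n : ℕ∞) : WithBot ℕ∞) := by
    conv_rhs => rw [h]
    exact add_le_add_left hc _
  have h4 : 1 + n ≤ n := by exact_mod_cast h3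
  omega

end Groth.Agent.Helper28.ProperInt
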