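import Mathlib
import Groth.Agent.Lib.Helper28.ProperInt
import Groth.Agent.Lib.Helper7.CatDim

/-!
# Effective Cartier pullback to an integral closed subscheme gives a proper intersection
(catenary irreducible ambient scheme)  (helper28)
-/
set_option autoImplicit false
universe u
open CategoryTheory AlgebraicGeometry TopologicalSpace

namespace Groth.Agent.Helper28.ProperInt2

open Groth.Agent.Helper28.EffCartierOld Groth.Agent.Helper28.ProperInt

section Ring

/-- Ring-level core: `pξ ⊆ pζ` primes of a Noetherian ring, `t ∈ pζ ∖ pξ` with `pζ` minimal over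
`(t) + pξ`; if the localization at `pζ` is catenary and equidimensional then
`ht pζ = ht pξ + 1`. -/
theorem height_eq_succ {R : Type u} [CommRing R] [IsNoetherianRing R] (pζ pξ : Ideal R)
    [hζ : pζ.IsPrime] [hξ : pξ.IsPrime] (hle : pξ ≤ pζ) (t : R) (htξ : t ∉ pξ)
    (hmin : pζ ∈ (Ideal.span {t} ⊔ pξ).minimalPrimes)
    (A : Type u) [CommRing A] [Algebra R A] [IsLocalization.AtPrime A pζ]
    (hcat : CAlg.IsCatenary A)
    (heq : ∀ p ∈ minimalPrimes A, ringKrullDim (A ⧸ p) = ringKrullDim A) :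
    (pζ.height : WithBot ℕ∞) = pξ.height + 1 := by
  haveI : IsLocalRing A := IsLocalization.AtPrime.isLocalRing A pζ
  haveI : IsNoetherianRing A := IsLocalization.isNoetherianRing pζ.primeCompl A inferInstance
  have hdisj : Disjoint (pζ.primeCompl : Set R) (pξ : Set R) := by
    rw [Set.disjoint_left]
    intro x hx hxξ
    exact hx (hle hxξ)
  set P : Ideal A := pξ.map (algebraMap R A) with hP
  haveI hPprime : P.IsPrime :=
    IsLocalization.isPrime_of_isPrime_disjoint pζ.primeCompl A pξ hξ hdisj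
  have hPunder : P.comap (algebraMap R A) = pξ :=
    IsLocalization.under_map_of_isPrime_disjoint pζ.primeCompl A hξ hdisj
  set t' : A := algebraMap R A t with ht'
  have ht'P : t' ∉ P := by
    intro h
    apply htξ
    rw [← hPunder]
    exact h
  have htζ : t ∈ pζ := hmin.1.2 (Ideal.mem_sup_left (Ideal.mem_span_singleton_self t))
  have hm : IsLocalRing.maximalIdeal A ∈ (Ideal.span {t'} ⊔ P).minimalPrimes := by
    refine ⟨⟨inferInstance, ?_⟩, ?_⟩
    · rw [sup_le_iff, Ideal.span_singleton_le_iff_mem]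
      exact ⟨(IsLocalization.AtPrime.to_map_mem_maximal_iff A pζ t).mpr htζ,
        IsLocalRing.le_maximalIdeal hPprime.ne_top⟩
    · rintro Q ⟨hQprime, hQle⟩ -
      rw [sup_le_iff, Ideal.span_singleton_le_iff_mem] at hQle
      have hq := (IsLocalization.isPrime_iff_isPrime_disjoint pζ.primeCompl A Q).mp hQprime
      have hq1 : Ideal.span {t} ⊔ pξ ≤ Q.comap (algebraMap R A) := by
        rw [sup_le_iff, Ideal.span_singleton_le_iff_mem]
        refine ⟨hQle.1, ?_⟩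
        rw [← hPunder]
        exact Ideal.comap_mono hQle.2
      have hq2 : Q.comap (algebraMap R A) ≤ pζ := by
        intro x hx
        by_contra hxn
        exact Set.disjoint_left.mp hq.2 hxn hx
      have hq3 : pζ ≤ Q.comap (algebraMap R A) := hmin.2 ⟨hq.1, hq1⟩ hq2
      have h1 : IsLocalRing.maximalIdeal A = pζ.map (algebraMap R A) :=
        (IsLocalization.AtPrime.map_eq_maximalIdeal pζ A).symm
      rw [h1, ← IsLocalization.map_under pζ.primeCompl A Q]
      exact Ideal.map_mono hq3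
  have h1 := Groth.Agent.Helper7.CatDim.dim_quot_succ A hcat P (IsLocalRing.maximalIdeal A) t' ht'P hm
  have h2 := Groth.Agent.Helper7.CatDim.height_add_dim_quot A hcat heq P
  have h3 : ringKrullDim (A ⧸ IsLocalRing.maximalIdeal A) = 0 :=
    ringKrullDim_eq_zero_of_isField
      ((Ideal.Quotient.maximal_ideal_iff_isField_quotient _).mp inferInstance)
  have h4 : ringKrullDim A = pζ.height :=
    IsLocalization.AtPrime.ringKrullDim_eq_height pζ A
  have h5 : P.height = pξ.height :=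
    IsLocalization.height_map_of_disjoint pζ.primeCompl pξ hdisj
  rw [h1, h3, zero_add, h4, h5] at h2
  exact h2.symm

end Ring

section Scheme

theorem specializes_iff_primeIdealOf_le {Y : Scheme.{u}} {V : Y.Opens} (hV : IsAffineOpen V)
    (y' y₁ : Y) (hy' : y' ∈ V) (hy₁ : y₁ ∈ V) :
    y' ⤳ y₁ ↔
      (hV.primeIdealOf ⟨y', hy'⟩).asIdeal ≤ (hV.primeIdealOf ⟨y₁, hy₁⟩).asIdeal := by
  have h1 : (hV.primeIdealOf ⟨y', hy'⟩).asIdeal ≤ (hV.primeIdealOf ⟨y₁, hy₁⟩).asIdeal ↔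
      hV.primeIdealOf ⟨y', hy'⟩ ⤳ hV.primeIdealOf ⟨y₁, hy₁⟩ :=
    PrimeSpectrum.le_iff_specializes _ _
  rw [h1]
  change _ ↔ hV.isoSpec.hom ⟨y', hy'⟩ ⤳ hV.isoSpec.hom ⟨y₁, hy₁⟩
  rw [hV.isoSpec.hom.isOpenEmbedding.isInducing.specializes_iff,
    ← V.ι.isOpenEmbedding.isInducing.specializes_iff]
  rfl

lemma fromSpec_mem {X : Scheme.{u}} {U : X.Opens} (hU : IsAffineOpen U)
    (y : PrimeSpectrum Γ(X, U)) : hU.fromSpec y ∈ U := by
  have : hU.fromSpec y ∈ hU.fromSpec.opensRange := ⟨_, rfl⟩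
  rwa [hU.opensRange_fromSpec] at this

lemma primeIdealOf_fromSpec' {X : Scheme.{u}} {U : X.Opens} (hU : IsAffineOpen U)
    (y : PrimeSpectrum Γ(X, U)) (hy : hU.fromSpec y ∈ U) :
    hU.primeIdealOf ⟨hU.fromSpec y, hy⟩ = y := by
  apply hU.fromSpec.isOpenEmbedding.injective
  exact hU.fromSpec_primeIdealOf ⟨hU.fromSpec y, hy⟩

lemma mem_support_iff_mem_primeIdealOf {X : Scheme.{u}} (𝓘 : X.IdealSheafData) (U : X.affineOpens)
    (t : Γ(X, U.1)) (hIt : 𝓘.ideal U = Ideal.span {t}) (y : X) (hyU : y ∈ U.1) :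
    y ∈ 𝓘.support ↔ t ∈ (U.2.primeIdealOf ⟨y, hyU⟩).asIdeal := by
  rw [Scheme.IdealSheafData.mem_support_iff_of_mem hyU, Scheme.mem_zeroLocus_iff]
  constructor
  · intro h
    by_contra hnot
    exact h t (by rw [hIt]; exact Ideal.mem_span_singleton_self t)
      ((mem_basicOpen_iff_notMem_primeIdealOf U.2 y hyU t).mpr hnot)
  · intro h f hf hyf
    rw [hIt, SetLike.mem_coe, Ideal.mem_span_singleton'] at hf
    obtain ⟨a, rfl⟩ := hf
    exact (mem_basicOpen_iff_notMem_primeIdealOf U.2 y hyU (a * t)).mp hyf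
      (Ideal.mul_mem_left _ a h)

lemma genericPoint_notMem_support {Z : Scheme.{u}} [IsIntegral Z] (𝓙 : Z.IdealSheafData)
    (h : BlowUp.IsEffCartierIdeal 𝓙) : genericPoint Z ∉ 𝓙.support := by
  obtain ⟨V, hξV, s, hs, hJs⟩ := h (genericPoint Z)
  apply notMem_support_of_mem_basicOpen 𝓙 V s hJs
  haveI : Nonempty V.1 := ⟨⟨_, hξV⟩⟩
  have hne : s ≠ 0 := nonZeroDivisors.ne_zero hs
  have hne' : (Z.basicOpen s : Set Z).Nonempty := by
    rw [Set.nonempty_iff_ne_empty]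
    intro h0
    apply hne
    have : Z.basicOpen s = ⊥ := SetLike.coe_injective h0
    exact (basicOpen_eq_bot_iff s).mp this
  exact ((genericPoint_spec Z).mem_open_set_iff (Z.basicOpen s).isOpen).mpr
    (by simpa using hne')

lemma stalk_heq {X : Scheme.{u}} [IrreducibleSpace X] (ζ : X) :
    ∀ p ∈ minimalPrimes (X.presheaf.stalk ζ),
      ringKrullDim (X.presheaf.stalk ζ ⧸ p) = ringKrullDim (X.presheaf.stalk ζ) := by
  intro p hp
  have hemb := (X.fromSpecStalk ζ).isEmbedding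
  have hη : genericPoint X ∈ Set.range (X.fromSpecStalk ζ) := by
    rw [Scheme.range_fromSpecStalk]
    exact (genericPoint_spec X).specializes (Set.mem_univ ζ)
  obtain ⟨q₀, hq₀⟩ : ∃ q₀ : PrimeSpectrum (X.presheaf.stalk ζ),
      (X.fromSpecStalk ζ).base q₀ = genericPoint X := hη
  have hbot : ∀ Q : PrimeSpectrum (X.presheaf.stalk ζ), q₀ ≤ Q := by
    intro Q
    rw [PrimeSpectrum.le_iff_specializes]
    have h1 : (X.fromSpecStalk ζ).base q₀ ⤳ (X.fromSpecStalk ζ).base Q := by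
      rw [hq₀]
      exact (genericPoint_spec X).specializes (Set.mem_univ _)
    exact hemb.isInducing.specializes_iff.mp h1
  have hpq : p = q₀.asIdeal :=
    le_antisymm (hp.2 ⟨q₀.2, bot_le⟩ (hbot ⟨p, hp.1.1⟩)) (hbot ⟨p, hp.1.1⟩)
  rw [hpq, Groth.Agent.Helper7.CatDim.dim_quot_eq_coheight (X.presheaf.stalk ζ) q₀]
  unfold ringKrullDim
  haveI : Nonempty (PrimeSpectrum (X.presheaf.stalk ζ)) := ⟨q₀⟩
  rw [Order.krullDim_eq_iSup_coheight_of_nonempty]
  congr 1
  exact le_antisymm (le_iSup _ q₀) (iSup_le fun a => Order.coheight_anti (hbot a))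

lemma iInf_dim_eq_one {X : Scheme.{u}} [IsLocallyNoetherian X] (𝓘 : X.IdealSheafData)
    (h𝓘 : BlowUp.IsEffCartierIdeal 𝓘) (ζ : X) (hζ : ζ ∈ 𝓘.support) :
    (⨅ y : (𝓘.support : Set ↥X), ringKrullDim ↑(X.presheaf.stalk y.1)) = 1 := by
  apply le_antisymm
  · obtain ⟨U, hζU, t, ht, hIt⟩ := h𝓘 ζ
    have hU := U.2
    haveI : IsNoetherianRing Γ(X, U.1) := IsLocallyNoetherian.component_noetherian U
    have htp : t ∈ (hU.primeIdealOf ⟨ζ, hζU⟩).asIdeal :=
      (mem_support_iff_mem_primeIdealOf 𝓘 U t hIt ζ hζU).mp hζ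
    obtain ⟨q, hq, hqle⟩ := Ideal.exists_minimalPrimes_le
      (I := Ideal.span {t}) (J := (hU.primeIdealOf ⟨ζ, hζU⟩).asIdeal)
      ((Ideal.span_singleton_le_iff_mem _).mpr htp)
    haveI hqprime : q.IsPrime := hq.1.1
    have hht : q.height ≤ 1 := Ideal.height_le_one_of_isPrincipal_of_mem_minimalPrimes _ _ hq
    set y : X := hU.fromSpec ⟨q, hqprime⟩ with hy
    have hyU : y ∈ U.1 := fromSpec_mem hU _
    have hqy : hU.primeIdealOf ⟨y, hyU⟩ = ⟨q, hqprime⟩ := primeIdealOf_fromSpec' hU _ _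
    have hys : y ∈ 𝓘.support := by
      rw [mem_support_iff_mem_primeIdealOf 𝓘 U t hIt y hyU, hqy]
      exact hq.1.2 (Ideal.mem_span_singleton_self t)
    refine (iInf_le _ (⟨y, hys⟩ : (𝓘.support : Set ↥X))).trans ?_
    letI : Algebra Γ(X, U.1) (X.presheaf.stalk y) :=
      TopCat.Presheaf.algebra_section_stalk X.presheaf ⟨y, hyU⟩
    haveI hloc : IsLocalization.AtPrime (X.presheaf.stalk y)
        (hU.primeIdealOf ⟨y, hyU⟩).asIdeal := hU.isLocalization_stalk ⟨y, hyU⟩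
    have e := IsLocalization.AtPrime.ringKrullDim_eq_height
      (hU.primeIdealOf ⟨y, hyU⟩).asIdeal (X.presheaf.stalk y)
    change ringKrullDim (X.presheaf.stalk y) ≤ 1
    rw [e, hqy]
    exact_mod_cast hht
  · exact le_iInf (fun y => one_le_dim_stalk 𝓘 h𝓘 y.1 y.2)

theorem main {X Z : Scheme.{u}}
    [IsLocallyNoetherian X] [IrreducibleSpace ↥X]
    (hcat : ∀ x : ↥X, CAlg.IsCatenary ↑(X.presheaf.stalk x))
    (𝓘 : X.IdealSheafData) (hY : BlowUp.IsEffCartierIdeal 𝓘)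
    (i : Z ⟶ X) [IsClosedImmersion i] [IsIntegral Z]
    (hc : BlowUp.IsEffCartierIdeal (𝓘.comap i)) :
    (∀ ζ : ↥X, ζ ∈ (𝓘.support : Set ↥X) ∩ Set.range i.base →
        (∀ ζ' : ↥X, ζ' ∈ (𝓘.support : Set ↥X) ∩ Set.range i.base → ζ' ⤳ ζ → ζ' = ζ) →
        ringKrullDim ↑(X.presheaf.stalk ζ) =
          (⨅ y : (𝓘.support : Set ↥X), ringKrullDim ↑(X.presheaf.stalk y.1)) +
            ringKrullDim ↑(X.presheaf.stalk (i (genericPoint ↥Z)))) := by
  intro ζ hζ hmax
  rw [iInf_dim_eq_one 𝓘 hY ζ hζ.1]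
  set ξ := genericPoint ↥Z with hξ
  have hξs : i ξ ∉ 𝓘.support := by
    have := genericPoint_notMem_support (𝓘.comap i) hc
    rw [Scheme.IdealSheafData.support_comap] at this
    exact this
  obtain ⟨U, hζU, t, ht, hIt⟩ := hY ζ
  have hU := U.2
  haveI : IsNoetherianRing Γ(X, U.1) := IsLocallyNoetherian.component_noetherian U
  obtain ⟨z, hz⟩ := hζ.2
  have hsp : i ξ ⤳ ζ := by
    rw [← hz]
    exact ((genericPoint_spec ↥Z).specializes (Set.mem_univ z)).map i.continuous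
  have hξU : i ξ ∈ U.1 := hsp.mem_open U.1.isOpen hζU
  set pζ := (hU.primeIdealOf ⟨ζ, hζU⟩).asIdeal with hpζ
  set pξ := (hU.primeIdealOf ⟨i ξ, hξU⟩).asIdeal with hpξ
  have hle : pξ ≤ pζ := (specializes_iff_primeIdealOf_le hU _ _ hξU hζU).mp hsp
  have htξ : t ∉ pξ := fun h =>
    hξs ((mem_support_iff_mem_primeIdealOf 𝓘 U t hIt _ hξU).mpr h)
  have htζ : t ∈ pζ := (mem_support_iff_mem_primeIdealOf 𝓘 U t hIt _ hζU).mp hζ.1
  have hmin : pζ ∈ (Ideal.span {t} ⊔ pξ).minimalPrimes := by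
    refine ⟨⟨inferInstance, sup_le ((Ideal.span_singleton_le_iff_mem _).mpr htζ) hle⟩, ?_⟩
    rintro q ⟨hqprime, hqle⟩ hqζ
    rw [sup_le_iff, Ideal.span_singleton_le_iff_mem] at hqle
    set y : X := hU.fromSpec ⟨q, hqprime⟩ with hy
    have hyU : y ∈ U.1 := fromSpec_mem hU _
    have hqy : hU.primeIdealOf ⟨y, hyU⟩ = ⟨q, hqprime⟩ := primeIdealOf_fromSpec' hU _ _
    have hy1 : y ∈ 𝓘.support := by
      rw [mem_support_iff_mem_primeIdealOf 𝓘 U t hIt y hyU, hqy]
      exact hqle.1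
    have hy2 : y ∈ Set.range i.base := by
      have hspy : i ξ ⤳ y := by
        rw [specializes_iff_primeIdealOf_le hU _ _ hξU hyU, hqy]
        exact hqle.2
      exact hspy.mem_closed i.isClosedEmbedding.isClosed_range ⟨ξ, rfl⟩
    have hy3 : y ⤳ ζ := by
      rw [specializes_iff_primeIdealOf_le hU _ _ hyU hζU, hqy]
      exact hqζ
    have hyζ := hmax y ⟨hy1, hy2⟩ hy3
    have h2 : hU.primeIdealOf ⟨y, hyU⟩ = hU.primeIdealOf ⟨ζ, hζU⟩ := by
      congr 1
      exact Subtype.ext hyζ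
    rw [hqy] at h2
    rw [hpζ, ← h2]
  letI : Algebra Γ(X, U.1) (X.presheaf.stalk ζ) :=
    TopCat.Presheaf.algebra_section_stalk X.presheaf ⟨ζ, hζU⟩
  haveI : IsLocalization.AtPrime (X.presheaf.stalk ζ) pζ := hU.isLocalization_stalk ⟨ζ, hζU⟩
  have key := height_eq_succ pζ pξ hle t htξ hmin (X.presheaf.stalk ζ) (hcat ζ) (stalk_heq ζ)
  have e1 : ringKrullDim (X.presheaf.stalk ζ) = pζ.height :=
    IsLocalization.AtPrime.ringKrullDim_eq_height pζ _
  letI : Algebra Γ(X, U.1) (X.presheaf.stalk (i ξ)) :=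
    TopCat.Presheaf.algebra_section_stalk X.presheaf ⟨i ξ, hξU⟩
  haveI : IsLocalization.AtPrime (X.presheaf.stalk (i ξ)) pξ :=
    hU.isLocalization_stalk ⟨i ξ, hξU⟩
  have e2 : ringKrullDim (X.presheaf.stalk (i ξ)) = pξ.height :=
    IsLocalization.AtPrime.ringKrullDim_eq_height pξ _
  rw [e1, e2, key, add_comm]

end Scheme

end Groth.Agent.Helper28.ProperInt2
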