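import Mathlib
import Groth.Prelude.Def_MoreMor
import Groth.Agent.S7441
import Groth.Agent.S7434
import Groth.Agent.S7437

/-!
# Helper28: geometric fibres of locally quasi-finite morphisms are discrete and of bounded size
-/

set_option autoImplicit false
open CategoryTheory AlgebraicGeometry TopologicalSpace Limits
universe u
namespace Groth.Agent.Helper28.QFGeomFib

/-- In a discrete space the irreducible components are the singletons. -/
theorem irreducibleComponents_eq_of_discrete (T : Type*) [TopologicalSpace T] [DiscreteTopology T] :
    irreducibleComponents T = Set.range (fun x : T => ({x} : Set T)) := by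
  ext s
  constructor
  · intro hs
    obtain ⟨x, rfl⟩ := isIrreducible_iff_singleton.1 hs.prop
    exact ⟨x, rfl⟩
  · rintro ⟨x, rfl⟩
    refine ⟨isIrreducible_singleton, ?_⟩
    intro t ht hxt
    obtain ⟨y, rfl⟩ := isIrreducible_iff_singleton.1 ht
    have : x = y := by simpa using hxt (Set.mem_singleton x)
    rw [this]

theorem card_connectedComponents_eq (T : Type*) [TopologicalSpace T] [DiscreteTopology T] :
    ENat.card (ConnectedComponents T) = ENat.card T := by
  have hinj : Function.Injective (ConnectedComponents.mk : T → ConnectedComponents T) := by
    intro x y hxy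
    have := ConnectedComponents.coe_eq_coe'.1 hxy
    rw [connectedComponent_eq_singleton] at this
    exact this
  exact (ENat.card_congr (Equiv.ofBijective _ ⟨hinj, ConnectedComponents.surjective_coe⟩)).symm

/-- In a discrete space irreducible components and connected components are both in bijection with
the points. -/
theorem encard_irreducibleComponents_eq (T : Type*) [TopologicalSpace T] [DiscreteTopology T] :
    (irreducibleComponents T).encard = ENat.card (ConnectedComponents T) := by
  have h1 : (irreducibleComponents T).encard = ENat.card T := by
    rw [irreducibleComponents_eq_of_discrete, ← Set.image_univ,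
      Function.Injective.encard_image Set.singleton_injective, Set.encard_univ]
  rw [h1, card_connectedComponents_eq]

/-- The geometric fibre of a locally quasi-finite morphism is a discrete space. -/
theorem discreteTopology_geomFiber {X Y : Scheme.{u}} (f : X ⟶ Y) [LocallyQuasiFinite f] (y : Y) :
    DiscreteTopology ↥(MoreMor.geomFiber f y) := by
  unfold MoreMor.geomFiber
  haveI : LocallyQuasiFinite (f.fiberToSpecResidueField y) :=
    MorphismProperty.pullback_snd _ _ inferInstance
  have h := Scheme.Hom.isDiscrete_preimage_singleton
    (pullback.snd (f.fiberToSpecResidueField y)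
      (Spec.map (CommRingCat.ofHom
        (algebraMap (Y.residueField y) (SeparableClosure (Y.residueField y))))))
    (IsLocalRing.closedPoint (SeparableClosure (Y.residueField y)))
  have h2 : _root_.IsDiscrete (Set.univ : Set ↥(pullback (f.fiberToSpecResidueField y)
      (Spec.map (CommRingCat.ofHom
        (algebraMap (Y.residueField y) (SeparableClosure (Y.residueField y))))))) := by
    convert h using 1
    ext x
    simp only [Set.mem_preimage, Set.mem_singleton_iff, Set.mem_univ, true_iff]
    exact Subsingleton.elim (α := PrimeSpectrum (SeparableClosure (Y.residueField y))) _ _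
  exact isDiscrete_univ_iff.1 h2

/-- Main statement. -/
theorem main {X Y : Scheme.{u}} (f : X ⟶ Y) [LocallyQuasiFinite f] [LocallyOfFiniteType f] :
    (∀ y : Y, MoreMor.nGeomIrredComp f y = MoreMor.nGeomConnComp f y) ∧
      (CompactSpace ↑X → ∃ d : ℕ, ∀ y : Y, MoreMor.nGeomConnComp f y ≤ d) := by
  constructor
  · intro y
    haveI := discreteTopology_geomFiber f y
    exact encard_irreducibleComponents_eq _
  · intro hX
    obtain ⟨n, hn⟩ := Groth.Agent.S7441.result f
    refine ⟨n, fun y => ?_⟩
    haveI := discreteTopology_geomFiber f y
    have hfib : BddFib.FibreDegLE (f.fiberToSpecResidueField y) n :=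
      Groth.Agent.S7437.result f (Y.fromSpecResidueField y) (f.fiberToSpecResidueField y)
        (f.fiberι y) (IsPullback.of_hasPullback f (Y.fromSpecResidueField y)) n hn
    obtain ⟨hfin, hcard⟩ := Groth.Agent.S7434.result (f.fiberToSpecResidueField y) n hfib
      (SeparableClosure (Y.residueField y))
      (Spec.map (CommRingCat.ofHom
        (algebraMap (Y.residueField y) (SeparableClosure (Y.residueField y)))))
    change ENat.card (_root_.ConnectedComponents ↥(MoreMor.geomFiber f y)) ≤ n
    rw [card_connectedComponents_eq]
    haveI : Finite ↥(MoreMor.geomFiber f y) := hfin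
    rw [ENat.card_eq_coe_natCard]
    exact_mod_cast hcard

end Groth.Agent.Helper28.QFGeomFib
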