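import Mathlib
import Groth.Prelude.Def_RegImm
import Groth.Agent.Lib.Helper28.RegBC8
import Groth.Agent.Lib.Helper26.BCQR1

/-!
A relative quasi-regular immersion into `X/S` forces `X → S` to be flat at points with Noetherian
local ring.
-/

set_option autoImplicit false
universe u

open CategoryTheory CategoryTheory.Limits AlgebraicGeometry TopologicalSpace TensorProduct

namespace Groth.Agent.Helper28.RegBC

/-- If `B` is Noetherian, `J` lies in the Jacobson radical and all `B/J^n` are flat over `A`, then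
`B` is flat over `A`. -/
theorem flat_of_flat_quot_pow {A B : Type u} [CommRing A] [CommRing B] [Algebra A B]
    [IsNoetherianRing B] (J : Ideal B) (hJ : J ≤ Ideal.jacobson ⊥)
    (hfl : ∀ n, Module.Flat A (B ⧸ J ^ n)) : Module.Flat A B := by
  rw [Module.Flat.iff_lTensor_injective]
  intro I hI
  haveI : Module.Finite A I := Module.Finite.iff_fg.2 hI
  rw [injective_iff_map_eq_zero]
  intro x hx
  have key : ∀ n, x ∈ (J ^ n • ⊤ : Submodule B (B ⊗[A] I)) := by
    intro n
    haveI := hfl n
    let q : B →ₗ[A] B ⧸ J ^ n := (Ideal.Quotient.mkₐ A (J ^ n)).toLinearMap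
    have hsq : (LinearMap.lTensor (B ⧸ J ^ n) I.subtype) ((LinearMap.rTensor I q) x) =
        (LinearMap.rTensor A q) ((LinearMap.lTensor B I.subtype) x) := by
      rw [← LinearMap.comp_apply, ← LinearMap.comp_apply, LinearMap.lTensor_comp_rTensor,
        LinearMap.rTensor_comp_lTensor]
    rw [hx, map_zero] at hsq
    have hinj : Function.Injective (LinearMap.lTensor (B ⧸ J ^ n) I.subtype) :=
      Module.Flat.lTensor_preserves_injective_linearMap _ (Submodule.injective_subtype I)
    have hx0 : LinearMap.rTensor I q x = 0 := hinj (by rw [hsq, map_zero])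
    have hex : Function.Exact (LinearMap.rTensor I ((J ^ n).restrictScalars A).subtype)
        (LinearMap.rTensor I q) := by
      apply rTensor_exact I
      · intro b
        constructor
        · intro hb
          have hb' : b ∈ J ^ n := Ideal.Quotient.eq_zero_iff_mem.1 hb
          exact ⟨⟨b, hb'⟩, rfl⟩
        · rintro ⟨⟨y, hy⟩, rfl⟩
          exact Ideal.Quotient.eq_zero_iff_mem.2 hy
      · exact Ideal.Quotient.mk_surjective
    obtain ⟨y, hy⟩ := (hex x).1 hx0
    rw [← hy]
    clear hy hx0 hsq hx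
    induction y using TensorProduct.induction_on with
    | zero =>
      rw [map_zero]
      exact Submodule.zero_mem _
    | tmul j a =>
      rw [LinearMap.rTensor_tmul]
      have : ((((J ^ n).restrictScalars A).subtype j) ⊗ₜ[A] a : B ⊗[A] I) =
          (j.1 : B) • ((1 : B) ⊗ₜ[A] a) := by
        rw [TensorProduct.smul_tmul', smul_eq_mul, mul_one]
        rfl
      rw [this]
      exact Submodule.smul_mem_smul j.2 Submodule.mem_top
    | add y₁ y₂ h₁ h₂ =>
      rw [map_add]
      exact Submodule.add_mem _ h₁ h₂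
  have hK := Ideal.iInf_pow_smul_eq_bot_of_le_jacobson (M := B ⊗[A] I) J hJ
  have hx' : x ∈ (⨅ n : ℕ, J ^ n • ⊤ : Submodule B (B ⊗[A] I)) := (Submodule.mem_iInf _).2 key
  rw [hK] at hx'
  exact (Submodule.mem_bot _).1 hx'

/-- stalk form of a regular immersion of any kind -/
theorem exists_kind_stalk {Z X : Scheme.{u}} (i : Z ⟶ X) (k : RegImm.Kind) (z : Z)
    (h : RegImm.IsRegularImmersionAt k i z) :
    ∃ rs : List (X.presheaf.stalk (i z)), k.Seq (X.presheaf.stalk (i z)) rs ∧
      RingHom.ker (i.stalkMap z).hom = Ideal.ofList rs := by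
  obtain ⟨U, hzU, hcl, rs, hrs, hker⟩ := h
  haveI := hcl
  have hV : IsAffineOpen (i ⁻¹ᵁ U.1) := RegImmStalk.isAffineOpen_preimage i U.1 U.2
  have hsurj : Function.Surjective (i.app U.1).hom := RegImmStalk.app_surjective i U.1 U.2
  letI := X.presheaf.algebra_section_stalk (U := U.1) ⟨i z, hzU⟩
  haveI hloc := U.2.isLocalization_stalk ⟨i z, hzU⟩
  haveI : Module.Flat Γ(X, U.1) (X.presheaf.stalk (i z)) :=
    IsLocalization.flat _ (U.2.primeIdealOf ⟨i z, hzU⟩).asIdeal.primeCompl
  have hk : RingHom.ker (i.stalkMap z).hom =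
      Ideal.ofList (rs.map (algebraMap Γ(X, U.1) (X.presheaf.stalk (i z)))) := by
    rw [RegImmStalk.ker_stalkMap_of_surjective i z U hzU hV hsurj, hker, Ideal.map_ofList]
    rfl
  refine ⟨rs.map (algebraMap Γ(X, U.1) (X.presheaf.stalk (i z))), ?_, hk⟩
  apply kind_of_flat k rs hrs
  rw [← hk]
  exact RingHom.ker_ne_top _

end Groth.Agent.Helper28.RegBC
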