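import Mathlib
import Groth.Prelude.Def_RegImm
import Groth.Agent.Lib.Helper28.RegBC9

/-!
A relative quasi-regular immersion into `X/S` forces `X → S` to be flat at points with Noetherian
local ring: scheme level.
-/

set_option autoImplicit false
universe u

open CategoryTheory CategoryTheory.Limits AlgebraicGeometry TopologicalSpace TensorProduct

namespace Groth.Agent.Helper28.RegBC

theorem flat_stalkMap_of_rel_quasi {Z X S : Scheme.{u}} (f : X ⟶ S) (i : Z ⟶ X)
    (hi : RegImm.IsRelRegularImmersion RegImm.Kind.quasi f i) (z : Z)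
    [IsNoetherianRing (X.presheaf.stalk (i z))] : (f.stalkMap (i z)).hom.Flat := by
  obtain ⟨⟨himm, hreg⟩, hflat⟩ := hi
  haveI := himm
  obtain ⟨rs, hrs, hker⟩ := exists_kind_stalk i RegImm.Kind.quasi z (hreg z)
  have hq : CAlgX.IsQuasiRegular rs.get := hrs
  have hsurj : Function.Surjective (i.stalkMap z).hom := i.stalkMap_surjective z
  have hfl0 : ((i ≫ f).stalkMap z).hom.Flat := ((Flat.iff_flat_stalkMap (i ≫ f)).1 hflat) z
  rw [Scheme.Hom.stalkMap_comp] at hfl0
  letI : Algebra (S.presheaf.stalk (f (i z))) (X.presheaf.stalk (i z)) :=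
    (f.stalkMap (i z)).hom.toAlgebra
  have hspan : Ideal.ofList rs = Ideal.span (Set.range rs.get) := by
    unfold Ideal.ofList; rw [Set.range_list_get]
  haveI hflq : Module.Flat (S.presheaf.stalk (f (i z)))
      (X.presheaf.stalk (i z) ⧸ Ideal.span (Set.range rs.get)) := by
    rw [← hspan]
    exact flat_quot_of_surjective (i.stalkMap z).hom hsurj _ hker hfl0
  have hJ : Ideal.span (Set.range rs.get) ≤ Ideal.jacobson ⊥ := by
    rw [IsLocalRing.jacobson_eq_maximalIdeal ⊥ bot_ne_top, ← hspan, ← hker]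
    exact IsLocalRing.le_maximalIdeal (RingHom.ker_ne_top _)
  exact flat_of_flat_quot_pow _ hJ
    (fun n => Groth.Agent.Helper26.BCQR.flat_quotient_pow rs.get hq n)

end Groth.Agent.Helper28.RegBC
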