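import Mathlib
import Groth.Prelude.Def_RegImm
import Groth.Prelude.Def_CAlg
import Groth.Agent.Lib.Helper28.BlowCM2
import Groth.Agent.Lib.Helper28.RegImmStalk
import Groth.Agent.Lib.Helper9.Depth

/-!
Regularly immersed subschemes of Cohen–Macaulay schemes are Cohen–Macaulay; no embedded points.
-/

set_option autoImplicit false
universe u

open CategoryTheory CategoryTheory.Limits AlgebraicGeometry TopologicalSpace

namespace Groth.Agent.Helper28.RegCMEmb

open Groth.Agent.Helper20.RE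

/-- a CM local ring whose maximal ideal is associated has dimension 0 -/
theorem dim_zero_of_isAssociatedPrime (R : Type u) [CommRing R]
    [LocCoh.IsCohenMacaulayLocalRing R]
    (h : IsAssociatedPrime (IsLocalRing.maximalIdeal R) R) : ringKrullDim R = 0 := by
  have h1 := LocCoh.IsCohenMacaulayLocalRing.supportDim_eq_depth (R := R)
  rw [Module.supportDim_self_eq_ringKrullDim] at h1
  have h2 : LocCoh.depth R R = 0 :=
    (Groth.Agent.Helper9.Depth.depth_eq_zero_iff_mem_associatedPrimes R).2 h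
  rw [h1, h2]; rfl

/-- stalks of a regularly immersed subscheme of a CM scheme are CM -/
theorem cm_stalk {X Z : Scheme.{u}} [IsLocallyNoetherian X]
    (hCM : ∀ x : X, LocCoh.IsCohenMacaulayLocalRing (X.presheaf.stalk x))
    (i : Z ⟶ X) (hi : RegImm.IsRegularImmersion RegImm.Kind.regular i) (z : Z) :
    LocCoh.IsCohenMacaulayLocalRing (Z.presheaf.stalk z) := by
  obtain ⟨⟨U, hU⟩, hzU, hcl, rs, hrs, hker⟩ := hi.2 z
  haveI := hcl
  have hrs' : RingTheory.Sequence.IsRegular Γ(X, U) rs := hrs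
  have hV : IsAffineOpen (i ⁻¹ᵁ U) := RegImmStalk.isAffineOpen_preimage i U hU
  have hsurj := RegImmStalk.app_surjective i U hU
  have hA := BlowCM.isCohenMacaulayRing_sections hCM ⟨U, hU⟩
  have hQ : LocCoh.IsCohenMacaulayRing (Γ(X, U) ⧸ Ideal.ofList rs) :=
    BlowCM.cm_quot_ofList _ _ rs rfl hrs'.toIsWeaklyRegular hA
  have e : (Γ(X, U) ⧸ Ideal.ofList rs) ≃+* Γ(Z, i ⁻¹ᵁ U) :=
    (Ideal.quotEquivOfEq hker.symm).trans (RingHom.quotientKerEquivOfSurjective hsurj)
  have hB : LocCoh.IsCohenMacaulayRing Γ(Z, i ⁻¹ᵁ U) :=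
    BlowCM.isCohenMacaulayRing_of_ringEquiv e hQ
  have hz : z ∈ i ⁻¹ᵁ U := hzU
  letI : Algebra Γ(Z, i ⁻¹ᵁ U) (Z.presheaf.stalk z) :=
    TopCat.Presheaf.algebra_section_stalk Z.presheaf ⟨z, hz⟩
  haveI hloc : IsLocalization.AtPrime (Z.presheaf.stalk z) (hV.primeIdealOf ⟨z, hz⟩).asIdeal :=
    hV.isLocalization_stalk ⟨z, hz⟩
  haveI := hB.isCohenMacaulayLocalRing_localization (hV.primeIdealOf ⟨z, hz⟩).asIdeal
  exact isCohenMacaulayLocalRing_of_ringEquiv
    (IsLocalization.algEquiv (hV.primeIdealOf ⟨z, hz⟩).asIdeal.primeCompl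
      (Localization.AtPrime (hV.primeIdealOf ⟨z, hz⟩).asIdeal) (Z.presheaf.stalk z)).toRingEquiv

end Groth.Agent.Helper28.RegCMEmb
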