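import Mathlib
import Groth.Prelude.Def_RegImm
import Groth.Agent.Lib.Helper3.RegImm2
set_option autoImplicit false
universe u

open CategoryTheory AlgebraicGeometry Polynomial RingTheory.Sequence

/-!
A regular immersion into affine space is, locally, presented by a regular sequence in a polynomial
ring in one more variable.
-/

namespace Groth.Agent.Helper28.RegPres

theorem isSMulRegular_CX_sub_one (R : Type*) [CommRing R] (G : R) :
    IsSMulRegular R[X] (C G * X - 1 : R[X]) := by
  intro p q hpq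
  have h : (C G * X - 1) * (p - q) = 0 := by
    have h1 : (C G * X - 1) * p = (C G * X - 1) * q := hpq
    rw [mul_sub, h1, sub_self]
  rw [← sub_eq_zero]
  set r := p - q
  have hcoeff : ∀ k, r.coeff k = 0 := by
    intro k
    induction k with
    | zero =>
      have h0 := congrArg (fun s => Polynomial.coeff s 0) h
      simp only [sub_mul, one_mul, Polynomial.coeff_sub, Polynomial.coeff_zero, mul_assoc] at h0
      rw [Polynomial.coeff_C_mul, mul_comm X r, Polynomial.coeff_mul_X_zero, mul_zero, zero_sub,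
        neg_eq_zero] at h0
      exact h0
    | succ k ih =>
      have h0 := congrArg (fun s => Polynomial.coeff s (k+1)) h
      simp only [sub_mul, one_mul, Polynomial.coeff_sub, Polynomial.coeff_zero, mul_assoc] at h0
      rw [Polynomial.coeff_C_mul, mul_comm X r, Polynomial.coeff_mul_X, ih, mul_zero, zero_sub,
        neg_eq_zero] at h0
      exact h0
  ext k
  simp [hcoeff k]

theorem isLocalization_quotient {R : Type u} [CommRing R] (I : Ideal R) (G : R)
    (S : Type u) [CommRing S] [Algebra R S] [IsLocalization.Away G S] :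
    IsLocalization (Submonoid.powers (Ideal.Quotient.mk I G)) (S ⧸ I.map (algebraMap R S)) := by
  have h1 : IsLocalization (Algebra.algebraMapSubmonoid (R ⧸ I) (Submonoid.powers G))
      (S ⧸ I.map (algebraMap R S)) := inferInstance
  have h2 : Algebra.algebraMapSubmonoid (R ⧸ I) (Submonoid.powers G) =
      Submonoid.powers (Ideal.Quotient.mk I G) := by
    unfold Algebra.algebraMapSubmonoid
    rw [Submonoid.map_powers]
    rfl
  rw [← h2]
  exact h1

theorem alg_main {A R T : Type u} [CommRing A] [CommRing R] [CommRing T] [Algebra A R]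
    [Algebra A T] (e₁ : T ≃ₐ[A] R[X]) (I : Ideal R) (G : R)
    (S : Type u) [CommRing S] [Algebra R S] [IsLocalization.Away G S]
    (rs : List S) (hrs : IsWeaklyRegular S rs)
    (hI : I.map (algebraMap R S) = Ideal.ofList rs)
    (hne : I.map (algebraMap R S) ≠ ⊤) :
    ∃ l : List T, IsRegular T l ∧
      Nonempty (Localization.Away (Ideal.Quotient.mk I G) ≃ₐ[A] (T ⧸ Ideal.ofList l)) := by
  classical
  let f : R[X] := C G * X - 1
  let e₂ : Localization.Away G ≃ₐ[R] AdjoinRoot f := Localization.awayEquivAdjoin G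
  let e₃ : Localization.Away G ≃ₐ[R] S := IsLocalization.algEquiv (Submonoid.powers G) _ _
  let ψ' : R[X] →ₐ[R] S := (e₃.toAlgHom.comp e₂.symm.toAlgHom).comp (AdjoinRoot.mkₐ f)
  let ψ : T →+* S := ψ'.toRingHom.comp e₁.toAlgHom.toRingHom
  have hψ'def : ∀ y : R[X], ψ' y = e₃ (e₂.symm (AdjoinRoot.mk f y)) := fun _ => rfl
  have hψdef : ∀ t : T, ψ t = ψ' (e₁ t) := fun _ => rfl
  have hψ' : Function.Surjective ψ' := by
    intro s
    obtain ⟨y, hy⟩ := AdjoinRoot.mk_surjective (g := f) (e₂ (e₃.symm s))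
    refine ⟨y, ?_⟩
    rw [hψ'def, hy, AlgEquiv.symm_apply_apply, AlgEquiv.apply_symm_apply]
  have hψ : Function.Surjective ψ := by
    intro s
    obtain ⟨y, hy⟩ := hψ' s
    refine ⟨e₁.symm y, ?_⟩
    rw [hψdef, AlgEquiv.apply_symm_apply, hy]
  have hkerψ' : ∀ y : R[X], ψ' y = 0 ↔ y ∈ Ideal.span {f} := by
    intro y
    rw [hψ'def, map_eq_zero_iff e₃ e₃.injective, map_eq_zero_iff e₂.symm e₂.symm.injective,
      AdjoinRoot.mk_eq_zero, Ideal.mem_span_singleton]
  let f₀ : T := e₁.symm f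
  have hker : RingHom.ker ψ = Ideal.ofList [f₀] := by
    ext t
    rw [RingHom.mem_ker, hψdef, hkerψ', Ideal.ofList_singleton, Ideal.mem_span_singleton,
      Ideal.mem_span_singleton]
    constructor
    · rintro ⟨c, hc⟩
      refine ⟨e₁.symm c, ?_⟩
      apply e₁.injective
      rw [hc, map_mul, AlgEquiv.apply_symm_apply, AlgEquiv.apply_symm_apply]
    · rintro ⟨c, hc⟩
      refine ⟨e₁ c, ?_⟩
      rw [hc, map_mul, AlgEquiv.apply_symm_apply]
  have hf₀ : IsWeaklyRegular T [f₀] := by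
    refine (isWeaklyRegular_singleton_iff T f₀).mpr ?_
    intro x y hxy
    have h2 : f₀ * x = f₀ * y := hxy
    have h3 : f * e₁ x = f * e₁ y := by
      have := congrArg e₁ h2
      rwa [map_mul, map_mul, AlgEquiv.apply_symm_apply] at this
    exact e₁.injective (isSMulRegular_CX_sub_one R G h3)
  obtain ⟨ts, hts⟩ : ∃ ts : List T, ts.map ψ = rs := (List.map_surjective_iff.mpr hψ) rs
  have hreg : IsRegular S (ts.map ψ) := by
    rw [hts]
    refine ⟨hrs, ?_⟩
    intro htop
    apply hne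
    rw [hI]
    rw [smul_eq_mul, Ideal.mul_top] at htop
    exact htop.symm
  obtain ⟨hR1, hR2⟩ := Groth.Agent.Helper3.RegImm.isRegular_append ψ hψ [f₀] hf₀ hker ts hreg
  refine ⟨[f₀] ++ ts, hR1, ?_⟩
  rw [hR2, hts, ← hI]
  let J : Ideal S := I.map (algebraMap R S)
  let χ : T →+* S ⧸ J := (Ideal.Quotient.mk J).comp ψ
  have hχ : Function.Surjective χ := Ideal.Quotient.mk_surjective.comp hψ
  have hkerχ : J.comap ψ = RingHom.ker χ := by
    ext t
    rw [RingHom.mem_ker, Ideal.mem_comap]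
    show _ ↔ Ideal.Quotient.mk J (ψ t) = 0
    rw [Ideal.Quotient.eq_zero_iff_mem]
  let E₁ : (T ⧸ J.comap ψ) ≃+* (S ⧸ J) :=
    (Ideal.quotEquivOfEq hkerχ).trans (RingHom.quotientKerEquivOfSurjective hχ)
  haveI : IsLocalization (Submonoid.powers (Ideal.Quotient.mk I G)) (S ⧸ J) :=
    isLocalization_quotient I G S
  let E₂ : Localization.Away (Ideal.Quotient.mk I G) ≃ₐ[R ⧸ I] (S ⧸ J) :=
    IsLocalization.algEquiv (Submonoid.powers (Ideal.Quotient.mk I G)) _ _
  let E : Localization.Away (Ideal.Quotient.mk I G) ≃+* (T ⧸ J.comap ψ) :=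
    E₂.toRingEquiv.trans E₁.symm
  refine ⟨AlgEquiv.ofRingEquiv (f := E) ?_⟩
  intro a
  show E₁.symm (E₂ (algebraMap A _ a)) = _
  rw [RingEquiv.symm_apply_eq]
  have h1 : algebraMap A (Localization.Away (Ideal.Quotient.mk I G)) a =
      algebraMap (R ⧸ I) _ (algebraMap A (R ⧸ I) a) :=
    IsScalarTower.algebraMap_apply A (R ⧸ I) _ a
  rw [h1, E₂.commutes]
  have h4 : ψ (algebraMap A T a) = algebraMap R S (algebraMap A R a) := by
    rw [hψdef, e₁.commutes, IsScalarTower.algebraMap_apply A R R[X], ψ'.commutes]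
  have h3 : E₁ (algebraMap A (T ⧸ J.comap ψ) a) = Ideal.Quotient.mk J (ψ (algebraMap A T a)) :=
    rfl
  rw [h3, h4]
  rfl


theorem scheme_part {R : Type u} [CommRing R] (I : Ideal R)
    (h : RegImm.IsRegularImmersion RegImm.Kind.regular
      (Spec.map (CommRingCat.ofHom (Ideal.Quotient.mk I))))
    (q : PrimeSpectrum (R ⧸ I)) :
    ∃ (G : R), Ideal.Quotient.mk I G ∉ q.asIdeal ∧ ∃ (S : Type u) (_ : CommRing S)
      (_ : Algebra R S) (_ : IsLocalization.Away G S) (rs : List S), IsWeaklyRegular S rs ∧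
        I.map (algebraMap R S) = Ideal.ofList rs := by
  let X : Scheme.{u} := Spec (CommRingCat.of R)
  let i : Spec (CommRingCat.of (R ⧸ I)) ⟶ X := Spec.map (CommRingCat.ofHom (Ideal.Quotient.mk I))
  haveI : IsClosedImmersion i :=
    IsClosedImmersion.spec_of_surjective _ Ideal.Quotient.mk_surjective
  let z : ↥(Spec (CommRingCat.of (R ⧸ I))) := q
  obtain ⟨U, hzU, hcl, rs, hrs, hker⟩ := h.2 z
  have hrs' : IsRegular Γ(X, U.1) rs := hrs
  obtain ⟨_, ⟨_, ⟨G, rfl⟩, rfl⟩, hzG, hGU⟩ :=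
    PrimeSpectrum.isBasis_basic_opens.exists_subset_of_mem_open hzU U.1.isOpen
  let eΓ : R ≃+* Γ(X, ⊤) := (Scheme.ΓSpecIso (CommRingCat.of R)).symm.commRingCatIsoToRingEquiv
  have heΓ : ∀ r : R, eΓ r = (Scheme.ΓSpecIso (CommRingCat.of R)).inv.hom r := fun _ => rfl
  let G' : Γ(X, ⊤) := eΓ G
  let W : X.Opens := X.basicOpen G'
  have hW : IsAffineOpen W := (isAffineOpen_top X).basicOpen G'
  have hWeq : W = PrimeSpectrum.basicOpen G := basicOpen_eq_of_affine G
  have hWU : W ≤ U.1 := by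
    rw [hWeq]
    exact fun x hx => hGU hx
  haveI hloc : IsLocalization.Away G' Γ(X, W) := (isAffineOpen_top X).isLocalization_basicOpen G'
  letI algS : Algebra R Γ(X, W) :=
    ((algebraMap Γ(X, ⊤) Γ(X, W)).comp eΓ.toRingHom).toAlgebra
  haveI hlocG : IsLocalization.Away G Γ(X, W) := by
    refine IsLocalization.of_ringEquiv_left (M₁ := Submonoid.powers G')
      (M₂ := Submonoid.powers G) eΓ ?_ (fun x => rfl)
    rw [Submonoid.map_powers]
  have hGq : Ideal.Quotient.mk I G ∉ q.asIdeal := by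
    intro hq
    exact hzG hq
  refine ⟨G, hGq, Γ(X, W), inferInstance, algS, hlocG,
    rs.map (X.presheaf.map (homOfLE hWU).op).hom,
    Groth.Agent.Helper3.RegImm.weaklyRegular_restrict U.2 hW hWU rs hrs'.1, ?_⟩
  have h1 : i.ker.ideal ⟨W, hW⟩ =
      Ideal.ofList (rs.map (X.presheaf.map (homOfLE hWU).op).hom) := by
    rw [← i.ker.map_ideal (U := ⟨W, hW⟩) (V := U) hWU, Scheme.Hom.ker_apply, hker,
      Ideal.map_ofList]
    rfl
  have h2 : i.ker.ideal ⟨W, hW⟩ =
      (RingHom.ker i.appTop.hom).map (X.presheaf.map (homOfLE le_top).op).hom := by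
    rw [Scheme.ker_of_isAffine i, Scheme.IdealSheafData.ofIdealTop_ideal]
  have hnat := Scheme.ΓSpecIso_naturality (CommRingCat.ofHom (Ideal.Quotient.mk I))
  have hx : ∀ x : Γ(X, ⊤), (Scheme.ΓSpecIso (CommRingCat.of (R ⧸ I))).hom.hom (i.appTop.hom x) =
      Ideal.Quotient.mk I ((Scheme.ΓSpecIso (CommRingCat.of R)).hom.hom x) := by
    intro x
    exact congrArg (fun φ => φ.hom x) hnat
  have hinj : Function.Injective (Scheme.ΓSpecIso (CommRingCat.of (R ⧸ I))).hom.hom :=
    (ConcreteCategory.bijective_of_isIso (Scheme.ΓSpecIso (CommRingCat.of (R ⧸ I))).hom).1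
  have h3 : RingHom.ker i.appTop.hom = I.map eΓ.toRingHom := by
    apply le_antisymm
    · intro x h0
      rw [RingHom.mem_ker] at h0
      have h4 : Ideal.Quotient.mk I ((Scheme.ΓSpecIso (CommRingCat.of R)).hom.hom x) = 0 := by
        rw [← hx, h0, map_zero]
      rw [Ideal.Quotient.eq_zero_iff_mem] at h4
      have hxe : x = eΓ.toRingHom ((Scheme.ΓSpecIso (CommRingCat.of R)).hom.hom x) := by
        show x = (Scheme.ΓSpecIso (CommRingCat.of R)).inv.hom
          ((Scheme.ΓSpecIso (CommRingCat.of R)).hom.hom x)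
        simp
      rw [hxe]
      exact Ideal.mem_map_of_mem _ h4
    · rw [Ideal.map_le_iff_le_comap]
      intro r hr
      rw [Ideal.mem_comap, RingHom.mem_ker]
      apply hinj
      rw [hx, map_zero]
      have h5 : (Scheme.ΓSpecIso (CommRingCat.of R)).hom.hom (eΓ.toRingHom r) = r := by
        show (Scheme.ΓSpecIso (CommRingCat.of R)).hom.hom
          ((Scheme.ΓSpecIso (CommRingCat.of R)).inv.hom r) = r
        simp
      rw [h5]
      exact Ideal.Quotient.eq_zero_iff_mem.mpr hr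
  rw [← h1, h2, h3, Ideal.map_map]
  rfl

theorem main (A : Type u) [CommRing A] (n : ℕ) (I : Ideal (MvPolynomial (Fin n) A))
    (h : RegImm.IsRegularImmersion RegImm.Kind.regular
      (Spec.map (CommRingCat.ofHom (Ideal.Quotient.mk I))))
    (q : PrimeSpectrum (MvPolynomial (Fin n) A ⧸ I)) :
    ∃ g : MvPolynomial (Fin n) A ⧸ I, g ∉ q.asIdeal ∧
      ∃ (d : ℕ) (P : Fin d → MvPolynomial (Fin (n + 1)) A),
        RingTheory.Sequence.IsRegular (MvPolynomial (Fin (n + 1)) A) (List.ofFn P) ∧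
        Nonempty (Localization.Away g ≃ₐ[A]
          (MvPolynomial (Fin (n + 1)) A ⧸ Ideal.ofList (List.ofFn P))) := by
  obtain ⟨G, hGq, S, _, _, _, rs, hrs, hI⟩ := scheme_part I h q
  have hne : I.map (algebraMap (MvPolynomial (Fin n) A) S) ≠ ⊤ := by
    intro htop
    haveI := isLocalization_quotient I G S
    haveI : Subsingleton (S ⧸ I.map (algebraMap (MvPolynomial (Fin n) A) S)) :=
      Ideal.Quotient.subsingleton_iff.mpr htop
    have h1 : algebraMap (MvPolynomial (Fin n) A ⧸ I)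
        (S ⧸ I.map (algebraMap (MvPolynomial (Fin n) A) S)) 1 = 0 := Subsingleton.elim _ _
    rw [IsLocalization.map_eq_zero_iff (Submonoid.powers (Ideal.Quotient.mk I G))] at h1
    obtain ⟨⟨m, k, hk⟩, hm⟩ := h1
    apply hGq
    have h2 : (Ideal.Quotient.mk I G) ^ k = 0 := by
      have : m = 0 := by simpa using hm
      rw [← this]
      exact hk
    exact Ideal.IsPrime.mem_of_pow_mem q.isPrime k (h2 ▸ q.asIdeal.zero_mem)
  obtain ⟨l, hl, hiso⟩ := alg_main (MvPolynomial.finSuccEquiv A n) I G S rs hrs hI hne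
  refine ⟨Ideal.Quotient.mk I G, hGq, l.length, l.get, ?_, ?_⟩
  · rw [List.ofFn_get]
    exact hl
  · rw [List.ofFn_get]
    exact hiso

end Groth.Agent.Helper28.RegPres
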