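import Mathlib
import Groth.Prelude.Def_RelProj3
import Groth.Prelude.Def_LCI2
import Groth.Agent.Lib.Helper28.GrTwistAmple
import Groth.Agent.Lib.Helper28.RelSys
import Groth.Agent.Lib.Helper18.SymAlg8
import Groth.Agent.Lib.Helper13.AmpleLocal

/-!
# `O_X(d)` is invertible and relatively ample on the relative `Proj` of a graded algebra of finite
type over a quasi-compact base (helper28)
-/

set_option autoImplicit false
universe u
open CategoryTheory CategoryTheory.Limits AlgebraicGeometry Opposite TopologicalSpace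
open scoped HomogeneousIdeal

noncomputable section

namespace Groth.Agent.Helper28.RelSys

open Groth.Agent.Helper28.ChartGlue GrTwist Groth.Agent.Helper28.GrTwistMul Groth.Agent.Helper13

variable {S : Scheme.{u}} {𝒮 : RelProj.QCGrAlg S} {P : Scheme.{u}} {p : P ⟶ S}
  {chart : ∀ (U : S.Opens) (hU : IsAffineOpen U),
    (((p ⁻¹ᵁ U : P.Opens) : Scheme.{u}) ≅ Proj (𝒮.deg U hU))}

/-- over the affine open `U`, `Proj 𝒮(U)` is covered by the `D_+(g)`, `deg g = e`. -/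
def CovDeg (𝒮 : RelProj.QCGrAlg S) (e : ℕ) (U : Aff S) : Prop :=
  ∀ y : Proj (𝒮.deg U.1 U.2), ∃ g ∈ 𝒮.deg U.1 U.2 e, g ∉ y.asHomogeneousIdeal

lemma covDeg_bo (e : ℕ) (U : Aff S) (r : Γ(S, U.1)) (h : CovDeg 𝒮 e U) :
    CovDeg 𝒮 e (bo U r) := by
  intro yD
  obtain ⟨g, hg, hgy⟩ := h (ProjectiveSpectrum.comap
    (𝒮.res U.2 (U.2.basicOpen r) (S.basicOpen_le r)) (𝒮.irrelevant_le_map U.1 U.2 r) yD)
  exact ⟨𝒮.res U.2 (U.2.basicOpen r) (S.basicOpen_le r) g,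
    (𝒮.res U.2 (U.2.basicOpen r) (S.basicOpen_le r)).map_mem hg, hgy⟩

lemma exists_nmem_of_covDeg_bo (hP : RelProj.IsRelProj 𝒮 p chart) (e : ℕ) (V : Aff S)
    (r' : Γ(S, V.1)) (h : CovDeg 𝒮 e (bo V r')) (y : Proj (𝒮.deg V.1 V.2))
    (hy : (RelProj.emb p chart V.1 V.2).base y ∈ p ⁻¹ᵁ (S.basicOpen r')) :
    ∃ a ∈ 𝒮.deg V.1 V.2 e, a ∉ y.asHomogeneousIdeal := by
  have hx : (RelProj.emb p chart V.1 V.2).base y ∈
      (RelProj.emb p chart (S.basicOpen r') (V.2.basicOpen r')).opensRange := by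
    rw [RelTwist.opensRange_emb]; exact hy
  obtain ⟨yD, hyD⟩ := hx
  have e2 : (RelProj.emb p chart V.1 V.2).base (ProjectiveSpectrum.comap
      (𝒮.res V.2 (V.2.basicOpen r') (S.basicOpen_le r')) (𝒮.irrelevant_le_map V.1 V.2 r') yD) =
      (RelProj.emb p chart (S.basicOpen r') (V.2.basicOpen r')).base yD := by
    have e := RelProj.map_res_emb hP V.1 V.2 r'
    rw [← e]; rfl
  have hcy : ProjectiveSpectrum.comap
      (𝒮.res V.2 (V.2.basicOpen r') (S.basicOpen_le r')) (𝒮.irrelevant_le_map V.1 V.2 r') yD = y :=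
    (RelProj.emb p chart V.1 V.2).isOpenEmbedding.injective (e2.trans hyD)
  obtain ⟨b, hb, hby⟩ := h yD
  obtain ⟨k, a, ha, hab⟩ :=
    Groth.Agent.Helper18.SymAlg.exists_homogeneous_lift 𝒮 V.1 V.2 r' e b hb
  refine ⟨a, ha, fun hay => hby ?_⟩
  rw [← hcy] at hay
  have h1 : (𝒮.presheaf.map (homOfLE (S.basicOpen_le r')).op).hom a ∈
      yD.asHomogeneousIdeal.toIdeal := hay
  rw [hab] at h1
  obtain ⟨u, hu'⟩ := (Groth.Agent.Helper18.SymAlg.isUnit_res_str 𝒮 V.1 r').pow k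
  have hb2 : b = b * (𝒮.presheaf.map (homOfLE (S.basicOpen_le r')).op).hom
      ((𝒮.str.app (op V.1)).hom r') ^ k * ↑u⁻¹ := by
    rw [← hu', mul_assoc, Units.mul_inv, mul_one]
  change b ∈ yD.asHomogeneousIdeal.toIdeal
  rw [hb2]
  exact Ideal.mul_mem_right _ _ h1

lemma exists_nmem_transfer (hP : RelProj.IsRelProj 𝒮 p chart) (e : ℕ) (U V : Aff S)
    (hU : CovDeg 𝒮 e U) (y : Proj (𝒮.deg V.1 V.2))
    (hy : (RelProj.emb p chart V.1 V.2).base y ∈ p ⁻¹ᵁ U.1) :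
    ∃ a ∈ 𝒮.deg V.1 V.2 e, a ∉ y.asHomogeneousIdeal := by
  have hxV : (RelProj.emb p chart V.1 V.2).base y ∈ p ⁻¹ᵁ V.1 := by
    rw [← RelTwist.opensRange_emb p chart V.1 V.2]; exact ⟨y, rfl⟩
  obtain ⟨D, ⟨r, hDr⟩, ⟨r', hDr'⟩, hxD⟩ := inter p U V _ hy hxV
  have hD : CovDeg 𝒮 e D := by rw [hDr]; exact covDeg_bo e U r hU
  subst hDr'
  exact exists_nmem_of_covDeg_bo hP e V r' hD y hxD

/-- **`O_X(d)` is invertible and relatively ample for a suitable `d > 0`.** -/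
theorem exists_d_invertible_relAmple [CompactSpace S]
    (hft : ∀ (U : S.Opens) (hU : IsAffineOpen U), (𝒮.str.app (op U)).hom.FiniteType)
    (hP : RelProj.IsRelProj 𝒮 p chart) :
    ∃ d : ℕ, 0 < d ∧ ∀ (L : P.Modules)
      (lam : ∀ (U : S.Opens) (hU : IsAffineOpen U),
        L ⟶ (Scheme.Modules.pushforward (RelProj.emb p chart U hU)).obj
          (GrTwist.twist (𝒮.deg U hU) (d : ℤ))),
      RelProj.IsRelTwist 𝒮 p chart (d : ℤ) L lam →
        PicF.IsInvertible L ∧ RelAmple.IsRelAmple p L := by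
  classical
  have hdata : ∀ V : Aff S, ∃ e : ℕ, 0 < e ∧ ∃ t : Finset (𝒮.presheaf.obj (op V.1)),
      (∀ g ∈ t, g ∈ 𝒮.deg V.1 V.2 e) ∧
        ∀ y : Proj (𝒮.deg V.1 V.2), ∃ g ∈ t, g ∉ y.asHomogeneousIdeal :=
    fun V => exists_deg_cover (𝒮.deg V.1 V.2) (𝒮.str.app (op V.1)).hom (𝒮.str_mem V.1 V.2)
      (hft V.1 V.2)
  choose e he t ht1 ht2 using hdata
  have hcompact : ∀ V : Aff S, CompactSpace (Proj (𝒮.deg V.1 V.2)) := fun V =>
    compactSpace_of_finite_cover (𝒮.deg V.1 V.2) (t V) (fun _ => e V)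
      (fun g hg => ⟨he V, ht1 V g hg⟩) (ht2 V)
  have hcovE : ∀ V : Aff S, CovDeg 𝒮 (e V) V := fun V y => by
    obtain ⟨g, hg, hgy⟩ := ht2 V y
    exact ⟨g, ht1 V g hg, hgy⟩
  obtain ⟨T, hT⟩ := isCompact_univ.elim_finite_subcover
    (fun V : Aff S => ((V.1 : S.Opens) : Set S)) (fun V => V.1.2)
    (fun y _ => by
      obtain ⟨V, hV, hyV, -⟩ := exists_isAffineOpen_mem_and_subset (x := y) (U := ⊤) trivial
      exact Set.mem_iUnion.2 ⟨⟨V, hV⟩, hyV⟩)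
  have hdpos : 0 < ∏ V ∈ T, e V := Finset.prod_pos (fun V _ => he V)
  have hcovD : ∀ V : Aff S, CovDeg 𝒮 (∏ V ∈ T, e V) V := by
    intro V y
    obtain ⟨U, hUT, hyU⟩ : ∃ U ∈ T, p.base ((RelProj.emb p chart V.1 V.2).base y) ∈ U.1 := by
      have := hT (Set.mem_univ (p.base ((RelProj.emb p chart V.1 V.2).base y)))
      simpa using this
    obtain ⟨a, ha, hay⟩ := exists_nmem_transfer hP (e U) U V (hcovE U) y hyU
    have hdvd : e U ∣ ∏ V ∈ T, e V := Finset.dvd_prod_of_mem e hUT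
    refine ⟨a ^ ((∏ V ∈ T, e V) / e U), ?_, fun h => hay
      ((show y.asHomogeneousIdeal.toIdeal.IsPrime from y.isPrime).mem_of_pow_mem _ h)⟩
    have h1 := SetLike.pow_mem_graded ((∏ V ∈ T, e V) / e U) ha
    rwa [smul_eq_mul, Nat.div_mul_cancel hdvd] at h1
  refine ⟨∏ V ∈ T, e V, hdpos, fun L lam hL => ?_⟩
  have hK : ∀ (U : S.Opens) (hU : IsAffineOpen U), IsCompact ((p ⁻¹ᵁ U : P.Opens) : Set P) := by
    intro U hU
    haveI := hcompact ⟨U, hU⟩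
    rw [← RelTwist.opensRange_emb p chart U hU, Scheme.Hom.coe_opensRange]
    exact isCompact_range (RelProj.emb p chart U hU).continuous
  have hample : ∀ V : S.affineOpens, CohB1.IsAmple (L.restrict (p ⁻¹ᵁ V.1).ι) := by
    intro V
    haveI := hcompact ⟨V.1, V.2⟩
    have h1 : CohB1.IsAmple (GrTwist.twist (𝒮.deg V.1 V.2) ((∏ V ∈ T, e V : ℕ) : ℤ)) :=
      twist_isAmple_of_cover (𝒮.deg V.1 V.2) hdpos (hcovD ⟨V.1, V.2⟩)
    have h2 : CohB1.IsAmple (L.restrict (RelProj.emb p chart V.1 V.2)) :=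
      Ample.isAmple_of_iso (RelTwist.restrictIso hL V.1 V.2).symm h1
    haveI : CompactSpace ((p ⁻¹ᵁ V.1 : P.Opens) : Scheme.{u}) :=
      isCompact_iff_compactSpace.mp (hK V.1 V.2)
    exact Ample.isAmple_restrict_of_factor (RelProj.emb p chart V.1 V.2) (p ⁻¹ᵁ V.1).ι
      (by rw [Scheme.Opens.range_ι, ← RelTwist.opensRange_emb p chart V.1 V.2,
        Scheme.Hom.coe_opensRange]) L h2
  refine ⟨?_, quasiCompact_iff_forall_isAffineOpen.2 hK, hample⟩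
  apply Ample.isInvertible_of_forall_exists_restrict
  intro y
  obtain ⟨U, hyU⟩ := cover p y
  refine ⟨↑(p ⁻¹ᵁ U.1), (p ⁻¹ᵁ U.1).ι, inferInstance, ?_, (hample ⟨U.1, U.2⟩).1⟩
  rw [Scheme.Opens.range_ι]
  exact hyU

end Groth.Agent.Helper28.RelSys

end
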