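import Mathlib
import Groth.Agent.Lib.Helper28.GrTwistLoc
import Groth.Agent.Lib.Helper28.ChartExist3
import Groth.Agent.Lib.Helper18.SymAlg8

/-!
# Existence of the twisting sheaves `O_P(n)` on a relative homogeneous spectrum (helper28)
-/

set_option autoImplicit false
universe u
open CategoryTheory CategoryTheory.Limits AlgebraicGeometry Opposite TopologicalSpace
open scoped HomogeneousIdeal

noncomputable section

namespace Groth.Agent.Helper28.RelSys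

open ChartGlue GrTwist GrTwistMul Groth.Agent.Helper13 Groth.Agent.Helper28.GrTwistLoc

variable {S : Scheme.{u}} {𝒮 : RelProj.QCGrAlg S} {P : Scheme.{u}} {p : P ⟶ S}
  {chart : ∀ (U : S.Opens) (hU : IsAffineOpen U),
    (((p ⁻¹ᵁ U : P.Opens) : Scheme.{u}) ≅ Proj (𝒮.deg U hU))}

/-! ### Localization facts for the restriction to a basic open -/

lemma res_ker (U : Aff S) (r : Γ(S, U.1)) (a : 𝒮.presheaf.obj (op U.1))
    (h : (𝒮.res U.2 (U.2.basicOpen r) (S.basicOpen_le r)) a = 0) : ∃ k : ℕ, ((𝒮.str.app (op U.1)).hom r) ^ k * a = 0 := by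
  let _inst := (𝒮.presheaf.map (homOfLE (S.basicOpen_le r)).op).hom.toAlgebra
  have hloc : IsLocalization.Away ((𝒮.str.app (op U.1)).hom r) (𝒮.presheaf.obj (op (S.basicOpen r))) :=
    𝒮.isQC U.1 U.2 r
  have h' : algebraMap (𝒮.presheaf.obj (op U.1)) (𝒮.presheaf.obj (op (S.basicOpen r))) a =
      algebraMap (𝒮.presheaf.obj (op U.1)) (𝒮.presheaf.obj (op (S.basicOpen r))) 0 := by
    rw [map_zero]; exact h
  obtain ⟨⟨_, k, rfl⟩, hk⟩ := IsLocalization.exists_of_eq (M := Submonoid.powers ((𝒮.str.app (op U.1)).hom r)) h'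
  exact ⟨k, by simpa using hk⟩

lemma res_surj_gen (U : Aff S) (r : Γ(S, U.1)) (b : 𝒮.presheaf.obj (op (S.basicOpen r))) :
    ∃ (k : ℕ) (a : 𝒮.presheaf.obj (op U.1)), (𝒮.res U.2 (U.2.basicOpen r) (S.basicOpen_le r)) a = b * (𝒮.res U.2 (U.2.basicOpen r) (S.basicOpen_le r)) ((𝒮.str.app (op U.1)).hom r) ^ k := by
  let _inst := (𝒮.presheaf.map (homOfLE (S.basicOpen_le r)).op).hom.toAlgebra
  have hloc : IsLocalization.Away ((𝒮.str.app (op U.1)).hom r) (𝒮.presheaf.obj (op (S.basicOpen r))) :=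
    𝒮.isQC U.1 U.2 r
  obtain ⟨⟨x, s, hs⟩, hxs⟩ := IsLocalization.surj (Submonoid.powers ((𝒮.str.app (op U.1)).hom r)) b
  obtain ⟨k, rfl⟩ := (Submonoid.mem_powers_iff _ _).mp hs
  change b * (𝒮.res U.2 (U.2.basicOpen r) (S.basicOpen_le r)) (((𝒮.str.app (op U.1)).hom r) ^ k) = (𝒮.res U.2 (U.2.basicOpen r) (S.basicOpen_le r)) x at hxs
  exact ⟨k, x, by rw [← hxs, map_pow]⟩

/-! ### The general transition relation -/

variable (𝒮 p chart) in
/-- the transition relation for a general pair of affine opens `D ≤ U`. -/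
def relAt (n : ℤ) (U D : Aff S) (hle : D.1 ≤ U.1)
    (hirr : (𝒮.deg D.1 D.2)₊ ≤ ((𝒮.deg U.1 U.2)₊).map (𝒮.res U.2 D.2 hle)) (W : P.Opens)
    (a : Γ(twN 𝒮 p chart n U, W)) (b : Γ(twN 𝒮 p chart n D, W)) : Prop :=
  ∀ (y : ProjectiveSpectrum (𝒮.deg D.1 D.2))
    (hy : (RelProj.emb p chart D.1 D.2).base y ∈ W)
    (hy' : (RelProj.emb p chart U.1 U.2).base
      (ProjectiveSpectrum.comap (𝒮.res U.2 D.2 hle) hirr y) ∈ W),
    GrTwist.val (V := RelProj.emb p chart D.1 D.2 ⁻¹ᵁ W) b ⟨y, hy⟩ =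
      GrTwist.locMap (𝒮.res U.2 D.2 hle) hirr y
        (GrTwist.val (V := RelProj.emb p chart U.1 U.2 ⁻¹ᵁ W) a ⟨_, hy'⟩)

lemma twistRelAt_iff (n : ℤ) (U : Aff S) (r : Γ(S, U.1)) (W : P.Opens)
    (a : Γ((twN 𝒮 p chart n U), W)) (b : Γ((twN 𝒮 p chart n (bo U r)), W)) :
    twistRelAt 𝒮 p chart n U r W a b ↔
      relAt 𝒮 p chart n U (bo U r) (S.basicOpen_le r) (𝒮.irrelevant_le_map U.1 U.2 r) W a b := Iff.rfl

lemma relAt_congr (n : ℤ) (U D D' : Aff S) (e : D = D') (hle : D.1 ≤ U.1)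
    (hirr : (𝒮.deg D.1 D.2)₊ ≤ ((𝒮.deg U.1 U.2)₊).map (𝒮.res U.2 D.2 hle))
    (hle' : D'.1 ≤ U.1)
    (hirr' : (𝒮.deg D'.1 D'.2)₊ ≤ ((𝒮.deg U.1 U.2)₊).map (𝒮.res U.2 D'.2 hle'))
    (W : P.Opens) (a : Γ(twN 𝒮 p chart n U, W)) (b : Γ(twN 𝒮 p chart n D, W))
    (b' : Γ(twN 𝒮 p chart n D', W)) (hb : HEq b b')
    (h : relAt 𝒮 p chart n U D hle hirr W a b) : relAt 𝒮 p chart n U D' hle' hirr' W a b' := by
  subst e
  obtain rfl := eq_of_heq hb
  exact h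

lemma irr_of_eq (U D D' : Aff S) (e : D = D') (hle : D.1 ≤ U.1) (hle' : D'.1 ≤ U.1)
    (h : (𝒮.deg D.1 D.2)₊ ≤ ((𝒮.deg U.1 U.2)₊).map (𝒮.res U.2 D.2 hle)) :
    (𝒮.deg D'.1 D'.2)₊ ≤ ((𝒮.deg U.1 U.2)₊).map (𝒮.res U.2 D'.2 hle') := by
  subst e
  exact h

lemma rel_iff (hP : RelProj.IsRelProj 𝒮 p chart) (n : ℤ) (U : Aff S) (r : Γ(S, U.1))
    (W : P.Opens) (a : Γ((twN 𝒮 p chart n U), W)) (b : Γ((twN 𝒮 p chart n (bo U r)), W)) :
    (twistSys 𝒮 p chart hP n).Rel U (bo U r) W a b ↔ twistRelAt 𝒮 p chart n U r W a b := by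
  constructor
  · intro h
    exact h r rfl b HEq.rfl
  · intro h r' e b' hb'
    exact (twistRelAt_iff n U r' W a b').2
      (relAt_congr n U (bo U r) (bo U r') e (S.basicOpen_le r) (𝒮.irrelevant_le_map U.1 U.2 r) (S.basicOpen_le r')
        (𝒮.irrelevant_le_map U.1 U.2 r') W a b b' hb' ((twistRelAt_iff n U r W a b).1 h))

/-! ### Points -/

section Main

variable (hP : RelProj.IsRelProj 𝒮 p chart)

include hP in
lemma emb_comap (U : Aff S) (r : Γ(S, U.1)) (y : ProjectiveSpectrum (𝒮.deg (S.basicOpen r) (U.2.basicOpen r))) :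
    (RelProj.emb p chart U.1 U.2).base (ProjectiveSpectrum.comap (𝒮.res U.2 (U.2.basicOpen r) (S.basicOpen_le r)) (𝒮.irrelevant_le_map U.1 U.2 r) y) = (RelProj.emb p chart (S.basicOpen r) (U.2.basicOpen r)).base y := by
  have e := RelProj.map_res_emb hP U.1 U.2 r
  rw [← e]; rfl

include hP in
lemma exists_comap_eq (U : Aff S) (r : Γ(S, U.1)) (W : P.Opens)
    (hW : W ≤ p ⁻¹ᵁ (S.basicOpen r)) (x : ProjectiveSpectrum (𝒮.deg U.1 U.2)) (hx : (RelProj.emb p chart U.1 U.2).base x ∈ W) :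
    ∃ y : ProjectiveSpectrum (𝒮.deg (S.basicOpen r) (U.2.basicOpen r)), ProjectiveSpectrum.comap (𝒮.res U.2 (U.2.basicOpen r) (S.basicOpen_le r)) (𝒮.irrelevant_le_map U.1 U.2 r) y = x := by
  have h1 : (RelProj.emb p chart U.1 U.2).base x ∈ (RelProj.emb p chart (S.basicOpen r) (U.2.basicOpen r)).opensRange := by
    rw [RelTwist.opensRange_emb]; exact hW hx
  obtain ⟨y, hy⟩ := h1
  refine ⟨y, ?_⟩
  have hinj := (RelProj.emb p chart U.1 U.2).isOpenEmbedding.injective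
  exact hinj ((emb_comap hP U r y).trans hy)

/-! ### The transition map -/

/-- the transition map of the twisting sheaves over a basic open. -/
def rho (n : ℤ) (U : Aff S) (r : Γ(S, U.1)) (W : P.Opens) (a : Γ((twN 𝒮 p chart n U), W)) : Γ((twN 𝒮 p chart n (bo U r)), W) :=
  GrTwist.comapApp (𝒮.res U.2 (U.2.basicOpen r) (S.basicOpen_le r)) (𝒮.irrelevant_le_map U.1 U.2 r) n ((RelProj.emb p chart U.1 U.2) ⁻¹ᵁ W) ((RelProj.emb p chart (S.basicOpen r) (U.2.basicOpen r)) ⁻¹ᵁ W)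
    (fun y hy => emb_comap_mem hP U r W y hy) a

lemma twistRelAt_iff_eq_rho (n : ℤ) (U : Aff S) (r : Γ(S, U.1)) (W : P.Opens)
    (a : Γ((twN 𝒮 p chart n U), W)) (b : Γ((twN 𝒮 p chart n (bo U r)), W)) :
    twistRelAt 𝒮 p chart n U r W a b ↔ b = rho hP n U r W a := by
  constructor
  · intro h
    refine twist_sec_ext (𝒮.deg (S.basicOpen r) (U.2.basicOpen r)) n (V := (RelProj.emb p chart (S.basicOpen r) (U.2.basicOpen r)) ⁻¹ᵁ W) b _ (fun y => ?_)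
    exact h y.1 y.2 (emb_comap_mem hP U r W y.1 y.2)
  · rintro rfl y hy hy'
    rfl

lemma rho_zero (n : ℤ) (U : Aff S) (r : Γ(S, U.1)) (W : P.Opens) :
    rho hP n U r W 0 = 0 :=
  map_zero (GrTwist.comapApp (𝒮.res U.2 (U.2.basicOpen r) (S.basicOpen_le r)) (𝒮.irrelevant_le_map U.1 U.2 r) n ((RelProj.emb p chart U.1 U.2) ⁻¹ᵁ W) ((RelProj.emb p chart (S.basicOpen r) (U.2.basicOpen r)) ⁻¹ᵁ W)
    (fun y hy => emb_comap_mem hP U r W y hy))

lemma rho_add (n : ℤ) (U : Aff S) (r : Γ(S, U.1)) (W : P.Opens) (a a' : Γ((twN 𝒮 p chart n U), W)) :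
    rho hP n U r W (a + a') = rho hP n U r W a + rho hP n U r W a' :=
  map_add (GrTwist.comapApp (𝒮.res U.2 (U.2.basicOpen r) (S.basicOpen_le r)) (𝒮.irrelevant_le_map U.1 U.2 r) n ((RelProj.emb p chart U.1 U.2) ⁻¹ᵁ W) ((RelProj.emb p chart (S.basicOpen r) (U.2.basicOpen r)) ⁻¹ᵁ W)
    (fun y hy => emb_comap_mem hP U r W y hy)) a a'

lemma rho_res (n : ℤ) (U : Aff S) (r : Γ(S, U.1)) {W W' : P.Opens} (hW : W' ≤ W)
    (a : Γ((twN 𝒮 p chart n U), W)) :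
    rs (twN 𝒮 p chart n (bo U r)) hW (rho hP n U r W a) = rho hP n U r W' (rs (twN 𝒮 p chart n U) hW a) :=
  Subtype.ext (funext fun y => Subtype.ext rfl)

lemma rho_smul (n : ℤ) (U : Aff S) (r : Γ(S, U.1)) (W : P.Opens) (c : Γ(P, W))
    (a : Γ((twN 𝒮 p chart n U), W)) : rho hP n U r W (c • a) = c • rho hP n U r W a := by
  have hUV : ((RelProj.emb p chart (S.basicOpen r) (U.2.basicOpen r)) ⁻¹ᵁ W).1 ⊆ ProjectiveSpectrum.comap (𝒮.res U.2 (U.2.basicOpen r) (S.basicOpen_le r)) (𝒮.irrelevant_le_map U.1 U.2 r) ⁻¹' ((RelProj.emb p chart U.1 U.2) ⁻¹ᵁ W).1 :=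
    fun y hy => emb_comap_mem hP U r W y hy
  have e1 := GrTwist.comapApp_smul (𝒮.res U.2 (U.2.basicOpen r) (S.basicOpen_le r)) (𝒮.irrelevant_le_map U.1 U.2 r) n ((RelProj.emb p chart U.1 U.2) ⁻¹ᵁ W) ((RelProj.emb p chart (S.basicOpen r) (U.2.basicOpen r)) ⁻¹ᵁ W) hUV
    (show O (𝒜 := (𝒮.deg U.1 U.2)) (op ((RelProj.emb p chart U.1 U.2) ⁻¹ᵁ W)) from ((RelProj.emb p chart U.1 U.2).app W).hom c) a
  have e2 := scalar_compat (𝒮.res U.2 (U.2.basicOpen r) (S.basicOpen_le r)) (𝒮.irrelevant_le_map U.1 U.2 r) (RelProj.emb p chart U.1 U.2) (RelProj.emb p chart (S.basicOpen r) (U.2.basicOpen r)) (RelProj.map_res_emb hP U.1 U.2 r) W c ((RelProj.emb p chart (S.basicOpen r) (U.2.basicOpen r)) ⁻¹ᵁ W)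
    le_rfl hUV
  have hid : ((Proj (𝒮.deg (S.basicOpen r) (U.2.basicOpen r))).presheaf.map (homOfLE (le_refl ((RelProj.emb p chart (S.basicOpen r) (U.2.basicOpen r)) ⁻¹ᵁ W))).op) = 𝟙 _ :=
    (Proj (𝒮.deg (S.basicOpen r) (U.2.basicOpen r))).presheaf.map_id _
  have e3 : (show O (𝒜 := (𝒮.deg (S.basicOpen r) (U.2.basicOpen r))) (op ((RelProj.emb p chart (S.basicOpen r) (U.2.basicOpen r)) ⁻¹ᵁ W)) from
      ((Proj (𝒮.deg (S.basicOpen r) (U.2.basicOpen r))).presheaf.map (homOfLE (le_refl ((RelProj.emb p chart (S.basicOpen r) (U.2.basicOpen r)) ⁻¹ᵁ W))).op).hom (((RelProj.emb p chart (S.basicOpen r) (U.2.basicOpen r)).app W).hom c)) =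
      (show O (𝒜 := (𝒮.deg (S.basicOpen r) (U.2.basicOpen r))) (op ((RelProj.emb p chart (S.basicOpen r) (U.2.basicOpen r)) ⁻¹ᵁ W)) from ((RelProj.emb p chart (S.basicOpen r) (U.2.basicOpen r)).app W).hom c) :=
    congrArg (fun k => k.hom (((RelProj.emb p chart (S.basicOpen r) (U.2.basicOpen r)).app W).hom c)) hid
  refine e1.trans ?_
  exact congrArg (fun r' : O (𝒜 := (𝒮.deg (S.basicOpen r) (U.2.basicOpen r))) (op ((RelProj.emb p chart (S.basicOpen r) (U.2.basicOpen r)) ⁻¹ᵁ W)) =>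
    (r' • (GrTwist.comapApp (𝒮.res U.2 (U.2.basicOpen r) (S.basicOpen_le r)) (𝒮.irrelevant_le_map U.1 U.2 r) n ((RelProj.emb p chart U.1 U.2) ⁻¹ᵁ W) ((RelProj.emb p chart (S.basicOpen r) (U.2.basicOpen r)) ⁻¹ᵁ W) hUV a) :
      sectN (𝒜 := (𝒮.deg (S.basicOpen r) (U.2.basicOpen r))) n (op ((RelProj.emb p chart (S.basicOpen r) (U.2.basicOpen r)) ⁻¹ᵁ W)))) (e2.symm.trans e3)

/-! ### Properties of the transition relation -/

include hP in
lemma tw_local (n : ℤ) (U : Aff S) (r : Γ(S, U.1)) (W : P.Opens) (a : Γ((twN 𝒮 p chart n U), W))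
    (b : Γ((twN 𝒮 p chart n (bo U r)), W))
    (h : ∀ x ∈ W ⊓ p ⁻¹ᵁ (S.basicOpen r), ∃ (W' : P.Opens) (hW' : W' ≤ W), x ∈ W' ∧
      twistRelAt 𝒮 p chart n U r W' (rs (twN 𝒮 p chart n U) hW' a) (rs (twN 𝒮 p chart n (bo U r)) hW' b)) :
    twistRelAt 𝒮 p chart n U r W a b := by
  unfold twistRelAt
  intro y hy hy'
  have hyD : (RelProj.emb p chart (S.basicOpen r) (U.2.basicOpen r)).base y ∈ p ⁻¹ᵁ (S.basicOpen r) := by
    have h1 : (RelProj.emb p chart (S.basicOpen r) (U.2.basicOpen r)).base y ∈ (RelProj.emb p chart (S.basicOpen r) (U.2.basicOpen r)).opensRange := ⟨y, rfl⟩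
    rw [RelTwist.opensRange_emb] at h1
    exact h1
  obtain ⟨W', hW', hxW', hrel⟩ := h _ ⟨hy, hyD⟩
  exact hrel y hxW' (emb_comap_mem hP U r W' y hxW')

include hP in
lemma tw_inj (n : ℤ) (U : Aff S) (r : Γ(S, U.1)) (W : P.Opens)
    (hW : W ≤ p ⁻¹ᵁ (S.basicOpen r)) (a a' : Γ((twN 𝒮 p chart n U), W)) (b : Γ((twN 𝒮 p chart n (bo U r)), W))
    (h : twistRelAt 𝒮 p chart n U r W a b) (h' : twistRelAt 𝒮 p chart n U r W a' b) :
    a = a' := by
  refine twist_sec_ext (𝒮.deg U.1 U.2) n (V := (RelProj.emb p chart U.1 U.2) ⁻¹ᵁ W) a a' ?_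
  rintro ⟨x, hx⟩
  obtain ⟨y, rfl⟩ := exists_comap_eq hP U r W hW x hx
  have hy : (RelProj.emb p chart (S.basicOpen r) (U.2.basicOpen r)).base y ∈ W := by
    rw [← emb_comap hP U r y]; exact hx
  have e1 := h y hy hx
  have e2 := h' y hy hx
  exact locMap_injective (𝒮.res U.2 (U.2.basicOpen r) (S.basicOpen_le r)) (𝒮.irrelevant_le_map U.1 U.2 r) ((𝒮.str.app (op U.1)).hom r) (Groth.Agent.Helper18.SymAlg.isUnit_res_str 𝒮 U.1 r)
    (res_ker U r) (res_surj_gen U r) y (e1.symm.trans e2)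

include hP in
lemma tw_surj_loc (n : ℤ) (U : Aff S) (r : Γ(S, U.1)) (W : P.Opens)
    (hW : W ≤ p ⁻¹ᵁ (S.basicOpen r)) (b : Γ((twN 𝒮 p chart n (bo U r)), W)) (x : P) (hx : x ∈ W) :
    ∃ (W' : P.Opens) (hW' : W' ≤ W), x ∈ W' ∧ ∃ a' : Γ((twN 𝒮 p chart n U), W'),
      twistRelAt 𝒮 p chart n U r W' a' (rs (twN 𝒮 p chart n (bo U r)) hW' b) := by
  have hxr : x ∈ (RelProj.emb p chart (S.basicOpen r) (U.2.basicOpen r)).opensRange := by
    rw [RelTwist.opensRange_emb]; exact hW hx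
  obtain ⟨y₀, hy₀⟩ := hxr
  have hy₀W : (RelProj.emb p chart (S.basicOpen r) (U.2.basicOpen r)).base y₀ ∈ W := by rw [hy₀]; exact hx
  have hb : (isLocFracN (𝒮.deg (S.basicOpen r) (U.2.basicOpen r)) n).pred (b : sectN (𝒜 := (𝒮.deg (S.basicOpen r) (U.2.basicOpen r))) n (op ((RelProj.emb p chart (S.basicOpen r) (U.2.basicOpen r)) ⁻¹ᵁ W))).1 :=
    (b : sectN (𝒜 := (𝒮.deg (S.basicOpen r) (U.2.basicOpen r))) n (op ((RelProj.emb p chart (S.basicOpen r) (U.2.basicOpen r)) ⁻¹ᵁ W))).2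
  obtain ⟨V', hyV', iV, i, j, β, σ', nin, hor, w⟩ := hb ⟨y₀, hy₀W⟩
  have hW' : (RelProj.emb p chart (S.basicOpen r) (U.2.basicOpen r)) ''ᵁ V' ≤ W := by
    rintro _ ⟨y, hy, rfl⟩
    exact iV.le hy
  have hxW' : x ∈ (RelProj.emb p chart (S.basicOpen r) (U.2.basicOpen r)) ''ᵁ V' := ⟨y₀, hyV', hy₀⟩
  have hV'of : ∀ y : ProjectiveSpectrum (𝒮.deg (S.basicOpen r) (U.2.basicOpen r)), (RelProj.emb p chart (S.basicOpen r) (U.2.basicOpen r)).base y ∈ (RelProj.emb p chart (S.basicOpen r) (U.2.basicOpen r)) ''ᵁ V' → y ∈ V' := by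
    rintro y ⟨y', hy', e⟩
    have : y' = y := (RelProj.emb p chart (S.basicOpen r) (U.2.basicOpen r)).isOpenEmbedding.injective e
    rw [← this]; exact hy'
  refine ⟨(RelProj.emb p chart (S.basicOpen r) (U.2.basicOpen r)) ''ᵁ V', hW', hxW', ?_⟩
  rcases hor with hab | hβ0
  · obtain ⟨α, s, hα, hs, hfrac⟩ := exists_lift_frac (𝒮.res U.2 (U.2.basicOpen r) (S.basicOpen_le r)) (𝒮.irrelevant_le_map U.1 U.2 r) ((𝒮.str.app (op U.1)).hom r) (𝒮.str_mem U.1 U.2 r)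
      (Groth.Agent.Helper18.SymAlg.isUnit_res_str 𝒮 U.1 r)
      (fun i b hb => Groth.Agent.Helper18.SymAlg.exists_homogeneous_lift 𝒮 U.1 U.2 r i b hb)
      (β : 𝒮.presheaf.obj (op (S.basicOpen r))) (σ' : 𝒮.presheaf.obj (op (S.basicOpen r)))
      β.2 σ'.2
    have nin' : ∀ x' : ((RelProj.emb p chart U.1 U.2) ⁻¹ᵁ ((RelProj.emb p chart (S.basicOpen r) (U.2.basicOpen r)) ''ᵁ V') : (Proj (𝒮.deg U.1 U.2)).Opens),
        s ∉ x'.1.asHomogeneousIdeal := by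
      rintro ⟨x', hx'⟩
      obtain ⟨y, rfl⟩ := exists_comap_eq hP U r ((RelProj.emb p chart (S.basicOpen r) (U.2.basicOpen r)) ''ᵁ V') (hW'.trans hW) x' hx'
      have hyW' : (RelProj.emb p chart (S.basicOpen r) (U.2.basicOpen r)).base y ∈ (RelProj.emb p chart (S.basicOpen r) (U.2.basicOpen r)) ''ᵁ V' := by
        rw [← emb_comap hP U r y]; exact hx'
      obtain ⟨hs', -⟩ := hfrac y (nin ⟨y, hV'of y hyW'⟩)
      exact hs'
    refine ⟨twFrac (𝒮.deg U.1 U.2) n ((RelProj.emb p chart U.1 U.2) ⁻¹ᵁ ((RelProj.emb p chart (S.basicOpen r) (U.2.basicOpen r)) ''ᵁ V')) ⟨α, hα⟩ ⟨s, hs⟩ nin' hab, ?_⟩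
    unfold twistRelAt
    intro y hy hy'
    have hyV : y ∈ V' := hV'of y hy
    obtain ⟨hs', e⟩ := hfrac y (nin ⟨y, hyV⟩)
    have e1 : GrTwist.val (V := (RelProj.emb p chart (S.basicOpen r) (U.2.basicOpen r)) ⁻¹ᵁ ((RelProj.emb p chart (S.basicOpen r) (U.2.basicOpen r)) ''ᵁ V')) (rs (twN 𝒮 p chart n (bo U r)) hW' b) ⟨y, hy⟩ =
        Localization.mk (β : 𝒮.presheaf.obj (op (S.basicOpen r)))
          ⟨(σ' : 𝒮.presheaf.obj (op (S.basicOpen r))), nin ⟨y, hyV⟩⟩ := w ⟨y, hyV⟩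
    refine e1.trans ?_
    exact e.symm
  · refine ⟨0, ?_⟩
    unfold twistRelAt
    intro y hy hy'
    have hyV : y ∈ V' := hV'of y hy
    have e1 : GrTwist.val (V := (RelProj.emb p chart (S.basicOpen r) (U.2.basicOpen r)) ⁻¹ᵁ ((RelProj.emb p chart (S.basicOpen r) (U.2.basicOpen r)) ''ᵁ V')) (rs (twN 𝒮 p chart n (bo U r)) hW' b) ⟨y, hy⟩ =
        Localization.mk (β : 𝒮.presheaf.obj (op (S.basicOpen r)))
          ⟨(σ' : 𝒮.presheaf.obj (op (S.basicOpen r))), nin ⟨y, hyV⟩⟩ := w ⟨y, hyV⟩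
    refine e1.trans ?_
    rw [hβ0, Localization.mk_zero]
    exact (map_zero (GrTwist.locMap (𝒮.res U.2 (U.2.basicOpen r) (S.basicOpen_le r)) (𝒮.irrelevant_le_map U.1 U.2 r) y)).symm

include hP in
lemma tw_surj (n : ℤ) (U : Aff S) (r : Γ(S, U.1)) (W : P.Opens)
    (hW : W ≤ p ⁻¹ᵁ (S.basicOpen r)) (b : Γ((twN 𝒮 p chart n (bo U r)), W)) :
    ∃ a : Γ((twN 𝒮 p chart n U), W), twistRelAt 𝒮 p chart n U r W a b := by
  refine exists_rel_of_local (M := (twN 𝒮 p chart n U)) (N := (twN 𝒮 p chart n (bo U r)))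
    (fun W a b => twistRelAt 𝒮 p chart n U r W a b) ?_ ?_ (p ⁻¹ᵁ (S.basicOpen r)) ?_ W hW b
    (fun x hx => tw_surj_loc hP n U r W hW b x hx)
  · intro W W' h a b hab
    rw [twistRelAt_iff_eq_rho hP] at hab ⊢
    rw [hab]
    exact rho_res hP n U r h a
  · intro W a b h
    exact tw_local hP n U r W a b (fun x hx => h x hx.1)
  · intro W hW a a' b h h'
    exact tw_inj hP n U r W hW a a' b h h'

include hP in
lemma relAt_trans (n : ℤ) (U : Aff S) (r : Γ(S, U.1)) (r' : Γ(S, S.basicOpen r))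
    (hle : (bo (bo U r) r').1 ≤ U.1)
    (hirr : (𝒮.deg (bo (bo U r) r').1 (bo (bo U r) r').2)₊ ≤
      ((𝒮.deg U.1 U.2)₊).map (𝒮.res U.2 (bo (bo U r) r').2 hle))
    (W : P.Opens) (a : Γ((twN 𝒮 p chart n U), W)) (b : Γ((twN 𝒮 p chart n (bo U r)), W))
    (c : Γ(twN 𝒮 p chart n (bo (bo U r) r'), W))
    (h1 : twistRelAt 𝒮 p chart n U r W a b)
    (h2 : twistRelAt 𝒮 p chart n (bo U r) r' W b c) :
    relAt 𝒮 p chart n U (bo (bo U r) r') hle hirr W a c := by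
  intro y hy hy'
  have hy1 := emb_comap_mem hP (bo U r) r' W y hy
  have hy2 := emb_comap_mem hP U r W _ hy1
  have e1 := h2 y hy hy1
  have e2 := h1 _ hy1 hy2
  refine e1.trans ?_
  refine (congrArg (GrTwist.locMap (𝒮.res (bo U r).2 ((bo U r).2.basicOpen r')
    (S.basicOpen_le r')) (𝒮.irrelevant_le_map (bo U r).1 (bo U r).2 r') y) e2).trans ?_
  refine locMap_comp (𝒮.res U.2 (U.2.basicOpen r) (S.basicOpen_le r)) (𝒮.irrelevant_le_map U.1 U.2 r) (𝒮.res (bo U r).2 ((bo U r).2.basicOpen r') (S.basicOpen_le r'))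
    (𝒮.irrelevant_le_map (bo U r).1 (bo U r).2 r') (𝒮.res U.2 (bo (bo U r) r').2 hle) hirr
    (fun x => ?_) n ((RelProj.emb p chart U.1 U.2) ⁻¹ᵁ W) a y hy2 hy'
  have c : 𝒮.presheaf.map (homOfLE (S.basicOpen_le r)).op ≫
      𝒮.presheaf.map (homOfLE (S.basicOpen_le r')).op =
      𝒮.presheaf.map (homOfLE hle).op := by
    rw [← 𝒮.presheaf.map_comp]; rfl
  exact congrArg (fun k => k.hom x) c

section Fields

variable (n : ℤ)

lemma f_le (U D : Aff S) (h : basic U D) : p ⁻¹ᵁ D.1 ≤ p ⁻¹ᵁ U.1 := by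
  obtain ⟨r, rfl⟩ := h
  exact p.preimage_mono (S.basicOpen_le r)

lemma f_trans_basic (U D D' : Aff S) (h : basic U D) (h' : basic D D') : basic U D' := by
  obtain ⟨r, rfl⟩ := h
  obtain ⟨r', rfl⟩ := h'
  obtain ⟨f', hf'⟩ := U.2.basicOpen_basicOpen_is_basicOpen r r'
  exact ⟨f', Subtype.ext hf'.symm⟩

lemma f_zero (U D : Aff S) (h : basic U D) (W : P.Opens) :
    (twistSys 𝒮 p chart hP n).Rel U D W 0 0 := by
  obtain ⟨r, rfl⟩ := h
  exact (rel_iff hP n U r W _ _).2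
    ((twistRelAt_iff_eq_rho hP n U r W _ _).2 (rho_zero hP n U r W).symm)

lemma f_add (U D : Aff S) (h : basic U D) (W : P.Opens) (a a' : Γ(twN 𝒮 p chart n U, W))
    (b b' : Γ(twN 𝒮 p chart n D, W)) (h1 : (twistSys 𝒮 p chart hP n).Rel U D W a b)
    (h2 : (twistSys 𝒮 p chart hP n).Rel U D W a' b') :
    (twistSys 𝒮 p chart hP n).Rel U D W (a + a') (b + b') := by
  obtain ⟨r, rfl⟩ := h
  have e1 := (twistRelAt_iff_eq_rho hP n U r W _ _).1 ((rel_iff hP n U r W _ _).1 h1)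
  have e2 := (twistRelAt_iff_eq_rho hP n U r W _ _).1 ((rel_iff hP n U r W _ _).1 h2)
  refine (rel_iff hP n U r W _ _).2 ((twistRelAt_iff_eq_rho hP n U r W _ _).2 ?_)
  rw [e1, e2]
  exact (rho_add hP n U r W a a').symm

lemma f_smul (U D : Aff S) (h : basic U D) (W : P.Opens) (c : Γ(P, W))
    (a : Γ(twN 𝒮 p chart n U, W)) (b : Γ(twN 𝒮 p chart n D, W))
    (h1 : (twistSys 𝒮 p chart hP n).Rel U D W a b) :
    (twistSys 𝒮 p chart hP n).Rel U D W (c • a) (c • b) := by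
  obtain ⟨r, rfl⟩ := h
  have e1 := (twistRelAt_iff_eq_rho hP n U r W _ _).1 ((rel_iff hP n U r W _ _).1 h1)
  refine (rel_iff hP n U r W _ _).2 ((twistRelAt_iff_eq_rho hP n U r W _ _).2 ?_)
  rw [e1]
  exact (rho_smul hP n U r W c a).symm

lemma f_res (U D : Aff S) (h : basic U D) (W W' : P.Opens) (hW : W' ≤ W)
    (a : Γ(twN 𝒮 p chart n U, W)) (b : Γ(twN 𝒮 p chart n D, W))
    (h1 : (twistSys 𝒮 p chart hP n).Rel U D W a b) :
    (twistSys 𝒮 p chart hP n).Rel U D W' (rs (twN 𝒮 p chart n U) hW a)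
      (rs (twN 𝒮 p chart n D) hW b) := by
  obtain ⟨r, rfl⟩ := h
  have e1 := (twistRelAt_iff_eq_rho hP n U r W _ _).1 ((rel_iff hP n U r W _ _).1 h1)
  refine (rel_iff hP n U r W' _ _).2 ((twistRelAt_iff_eq_rho hP n U r W' _ _).2 ?_)
  rw [e1]
  exact rho_res hP n U r hW a

lemma f_local (U D : Aff S) (h : basic U D) (W : P.Opens) (a : Γ(twN 𝒮 p chart n U, W))
    (b : Γ(twN 𝒮 p chart n D, W))
    (hl : ∀ x ∈ W ⊓ p ⁻¹ᵁ D.1, ∃ (W' : P.Opens) (hW' : W' ≤ W), x ∈ W' ∧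
      (twistSys 𝒮 p chart hP n).Rel U D W' (rs (twN 𝒮 p chart n U) hW' a)
        (rs (twN 𝒮 p chart n D) hW' b)) :
    (twistSys 𝒮 p chart hP n).Rel U D W a b := by
  obtain ⟨r, rfl⟩ := h
  refine (rel_iff hP n U r W _ _).2 (tw_local hP n U r W a b ?_)
  intro x hx
  obtain ⟨W', hW', hxW', hrel⟩ := hl x hx
  exact ⟨W', hW', hxW', (rel_iff hP n U r W' _ _).1 hrel⟩

lemma f_total (U D : Aff S) (h : basic U D) (W : P.Opens) (a : Γ(twN 𝒮 p chart n U, W)) :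
    ∃ b : Γ(twN 𝒮 p chart n D, W), (twistSys 𝒮 p chart hP n).Rel U D W a b := by
  obtain ⟨r, rfl⟩ := h
  exact ⟨rho hP n U r W a, (rel_iff hP n U r W _ _).2
    ((twistRelAt_iff_eq_rho hP n U r W _ _).2 rfl)⟩

lemma f_inj (U D : Aff S) (h : basic U D) (W : P.Opens) (hW : W ≤ p ⁻¹ᵁ D.1)
    (a a' : Γ(twN 𝒮 p chart n U, W)) (b : Γ(twN 𝒮 p chart n D, W))
    (h1 : (twistSys 𝒮 p chart hP n).Rel U D W a b)
    (h2 : (twistSys 𝒮 p chart hP n).Rel U D W a' b) : a = a' := by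
  obtain ⟨r, rfl⟩ := h
  exact tw_inj hP n U r W hW a a' b ((rel_iff hP n U r W _ _).1 h1)
    ((rel_iff hP n U r W _ _).1 h2)

lemma f_surj (U D : Aff S) (h : basic U D) (W : P.Opens) (hW : W ≤ p ⁻¹ᵁ D.1)
    (b : Γ(twN 𝒮 p chart n D, W)) :
    ∃ a : Γ(twN 𝒮 p chart n U, W), (twistSys 𝒮 p chart hP n).Rel U D W a b := by
  obtain ⟨r, rfl⟩ := h
  obtain ⟨a, ha⟩ := tw_surj hP n U r W hW b
  exact ⟨a, (rel_iff hP n U r W _ _).2 ha⟩

lemma f_trans (U D D' : Aff S) (h : basic U D) (h' : basic D D') (W : P.Opens)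
    (a : Γ(twN 𝒮 p chart n U, W)) (b : Γ(twN 𝒮 p chart n D, W))
    (c : Γ(twN 𝒮 p chart n D', W)) (h1 : (twistSys 𝒮 p chart hP n).Rel U D W a b)
    (h2 : (twistSys 𝒮 p chart hP n).Rel D D' W b c) :
    (twistSys 𝒮 p chart hP n).Rel U D' W a c := by
  obtain ⟨r, rfl⟩ := h
  obtain ⟨r', rfl⟩ := h'
  have k1 := (rel_iff hP n U r W _ _).1 h1
  have k2 := (rel_iff hP n (bo U r) r' W _ _).1 h2
  intro t e c' hc'
  have hle : (bo (bo U r) r').1 ≤ U.1 := (S.basicOpen_le r').trans (S.basicOpen_le r)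
  have hirr := irr_of_eq U (bo U t) (bo (bo U r) r') e.symm (S.basicOpen_le t) hle
    (𝒮.irrelevant_le_map U.1 U.2 t)
  have h3 := relAt_trans hP n U r r' hle hirr W a b c k1 k2
  exact (twistRelAt_iff n U t W a c').2
    (relAt_congr n U (bo (bo U r) r') (bo U t) e hle hirr (S.basicOpen_le t)
      (𝒮.irrelevant_le_map U.1 U.2 t) W a c c' hc' h3)

lemma f_res_surj (U : Aff S) (W : P.Opens) :
    Function.Surjective (rs (twN 𝒮 p chart n U) (inf_le_left : W ⊓ p ⁻¹ᵁ U.1 ≤ W)) := by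
  intro τ
  have h2 : RelProj.emb p chart U.1 U.2 ⁻¹ᵁ W ≤
      RelProj.emb p chart U.1 U.2 ⁻¹ᵁ (W ⊓ p ⁻¹ᵁ U.1) :=
    emb_preimage_le 𝒮 p chart U W (W ⊓ p ⁻¹ᵁ U.1) le_rfl
  refine ⟨rs (GrTwist.twist (𝒮.deg U.1 U.2) n) h2 τ, ?_⟩
  exact (rs_rs (GrTwist.twist (𝒮.deg U.1 U.2) n) _ _ τ).trans
    (rs_self (GrTwist.twist (𝒮.deg U.1 U.2) n) _ τ)

end Fields

/-- the chart system of the twisting sheaves is glueable. -/
theorem glueable_twistSys (n : ℤ) : Glueable (twistSys 𝒮 p chart hP n) where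
  le := fun U D h => f_le U D h
  trans_basic := fun U D D' h h' => f_trans_basic U D D' h h'
  rel_zero := fun U D h W => f_zero hP n U D h W
  rel_add := fun U D h W a a' b b' h1 h2 => f_add hP n U D h W a a' b b' h1 h2
  rel_smul := fun U D h W c a b h1 => f_smul hP n U D h W c a b h1
  rel_res := fun U D h W W' hW a b h1 => f_res hP n U D h W W' hW a b h1
  rel_local := fun U D h W a b hl => f_local hP n U D h W a b hl
  rel_total := fun U D h W _ a => f_total hP n U D h W a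
  rel_inj := fun U D h W hW a a' b h1 h2 => f_inj hP n U D h W hW a a' b h1 h2
  rel_surj := fun U D h W hW b => f_surj hP n U D h W hW b
  rel_trans := fun U D D' h h' W _ a b c h1 h2 => f_trans hP n U D D' h h' W a b c h1 h2
  res_surj := fun U W => f_res_surj n U W

theorem isRelTwist_of_adapted {n : ℤ} {L : P.Modules}
    {lam : ∀ U : Aff S, L ⟶ twN 𝒮 p chart n U}
    (h : Adapted (twistSys 𝒮 p chart hP n) L lam) :
    RelProj.IsRelTwist 𝒮 p chart n L (fun U hU => lam ⟨U, hU⟩) where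
  bijective := fun U hU W hW => h.bij ⟨U, hU⟩ W hW
  compat := fun U hU r W s y hy hy' =>
    h.compat ⟨U, hU⟩ (bo ⟨U, hU⟩ r) ⟨r, rfl⟩ W s r rfl _ HEq.rfl y hy hy'

include hP in
/-- **existence of the twisting sheaf `O_P(n)`** on a relative homogeneous spectrum. -/
theorem exists_isRelTwist (n : ℤ) :
    ∃ (L : P.Modules) (lam : ∀ (U : S.Opens) (hU : IsAffineOpen U),
      L ⟶ (Scheme.Modules.pushforward (RelProj.emb p chart U hU)).obj
        (GrTwist.twist (𝒮.deg U hU) n)),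
      RelProj.IsRelTwist 𝒮 p chart n L lam := by
  obtain ⟨L, lam, h⟩ := exists_adapted (twistSys 𝒮 p chart hP n) (glueable_twistSys hP n)
  exact ⟨L, fun U hU => lam ⟨U, hU⟩, isRelTwist_of_adapted hP h⟩

end Main

end Groth.Agent.Helper28.RelSys

end
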