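import Mathlib
import Groth.Agent.Lib.Helper28.RelTwistAmple
import Groth.Agent.Lib.Helper28.RelTwistExist
import Groth.Agent.Lib.Helper28.RelTwistPair2
import Groth.Agent.Lib.Helper28.RelTwistZero
import Groth.Agent.Lib.Helper13.CounitTwist

/-!
# Relative Serre generation on the relative `Proj` of an algebra generated in degree one (helper28)
-/

set_option autoImplicit false
universe u
open CategoryTheory CategoryTheory.Limits AlgebraicGeometry Opposite TopologicalSpace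
open scoped HomogeneousIdeal

noncomputable section

namespace Groth.Agent.Helper28.RelSys

open Groth.Agent.Helper28.ChartGlue GrTwist Groth.Agent.Helper28.GrTwistMul Groth.Agent.Helper13

lemma epi_counit_of_iso {C D : Type*} [Category C] [Category D] {Lf : C ⥤ D} {R : D ⥤ C}
    (adj : Lf ⊣ R) {A B : D} (e : A ≅ B) [Epi (adj.counit.app B)] : Epi (adj.counit.app A) := by
  have h := adj.counit.naturality e.hom
  have h2 : adj.counit.app A = (R ⋙ Lf).map e.hom ≫ adj.counit.app B ≫ e.inv := by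
    rw [← Category.assoc, h]
    simp
  rw [h2]
  infer_instance

variable {S : Scheme.{u}} {𝒮 : RelProj.QCGrAlg S} {P : Scheme.{u}} {p : P ⟶ S}
  {chart : ∀ (U : S.Opens) (hU : IsAffineOpen U),
    (((p ⁻¹ᵁ U : P.Opens) : Scheme.{u}) ≅ Proj (𝒮.deg U hU))}

/-- a finite cover of `Proj 𝒮(V)` by degree one elements. -/
lemma exists_finite_cover_deg_one (hgen : 𝒮.IsGenDegOne) (hft : 𝒮.IsFTDeg 1) (V : Aff S) :
    ∃ t : Finset (𝒮.presheaf.obj (op V.1)), (∀ g ∈ t, g ∈ 𝒮.deg V.1 V.2 1) ∧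
      ∀ y : Proj (𝒮.deg V.1 V.2), ∃ g ∈ t, g ∉ y.asHomogeneousIdeal := by
  obtain ⟨T, hTsub, hTgen⟩ := hft V.1 V.2
  refine ⟨T, fun g hg => hTsub hg, fun y => ?_⟩
  obtain ⟨f, hf, hfy⟩ := RelTwist.exists_deg_one_nmem (𝒮.deg V.1 V.2) (hgen V.1 V.2) y
  by_contra hcon
  push_neg at hcon
  obtain ⟨c, hc⟩ := hTgen f hf
  apply hfy
  change f ∈ y.asHomogeneousIdeal.toIdeal
  rw [hc]
  exact Ideal.sum_mem _ (fun t ht => Ideal.mul_mem_left _ _ (hcon t ht))

/-- `O_P(d)` is relatively ample when every `Proj 𝒮(V)` has a finite cover by elements of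
degree `d > 0`. -/
theorem isRelAmple_of_finite_cover {d : ℕ} (hd : 0 < d)
    (hcov : ∀ V : Aff S, ∃ t : Finset (𝒮.presheaf.obj (op V.1)),
      (∀ g ∈ t, g ∈ 𝒮.deg V.1 V.2 d) ∧
        ∀ y : Proj (𝒮.deg V.1 V.2), ∃ g ∈ t, g ∉ y.asHomogeneousIdeal)
    {L : P.Modules}
    {lam : ∀ (U : S.Opens) (hU : IsAffineOpen U),
      L ⟶ (Scheme.Modules.pushforward (RelProj.emb p chart U hU)).obj
        (GrTwist.twist (𝒮.deg U hU) (d : ℤ))}
    (hL : RelProj.IsRelTwist 𝒮 p chart (d : ℤ) L lam) :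
    RelAmple.IsRelAmple p L := by
  classical
  choose t ht1 ht2 using hcov
  have hcompact : ∀ V : Aff S, CompactSpace (Proj (𝒮.deg V.1 V.2)) := fun V =>
    compactSpace_of_finite_cover (𝒮.deg V.1 V.2) (t V) (fun _ => d)
      (fun g hg => ⟨hd, ht1 V g hg⟩) (ht2 V)
  have hcovD : ∀ V : Aff S, CovDeg 𝒮 d V := fun V y => by
    obtain ⟨g, hg, hgy⟩ := ht2 V y
    exact ⟨g, ht1 V g hg, hgy⟩
  have hK : ∀ (U : S.Opens) (hU : IsAffineOpen U), IsCompact ((p ⁻¹ᵁ U : P.Opens) : Set P) := by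
    intro U hU
    haveI := hcompact ⟨U, hU⟩
    rw [← RelTwist.opensRange_emb p chart U hU, Scheme.Hom.coe_opensRange]
    exact isCompact_range (RelProj.emb p chart U hU).continuous
  have hample : ∀ V : S.affineOpens, CohB1.IsAmple (L.restrict (p ⁻¹ᵁ V.1).ι) := by
    intro V
    haveI := hcompact ⟨V.1, V.2⟩
    have h1 : CohB1.IsAmple (GrTwist.twist (𝒮.deg V.1 V.2) ((d : ℕ) : ℤ)) :=
      twist_isAmple_of_cover (𝒮.deg V.1 V.2) hd (hcovD ⟨V.1, V.2⟩)
    have h2 : CohB1.IsAmple (L.restrict (RelProj.emb p chart V.1 V.2)) :=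
      Ample.isAmple_of_iso (RelTwist.restrictIso hL V.1 V.2).symm h1
    haveI : CompactSpace ((p ⁻¹ᵁ V.1 : P.Opens) : Scheme.{u}) :=
      isCompact_iff_compactSpace.mp (hK V.1 V.2)
    exact Ample.isAmple_restrict_of_factor (RelProj.emb p chart V.1 V.2) (p ⁻¹ᵁ V.1).ι
      (by rw [Scheme.Opens.range_ι, ← RelTwist.opensRange_emb p chart V.1 V.2,
        Scheme.Hom.coe_opensRange]) L h2
  exact ⟨quasiCompact_iff_forall_isAffineOpen.2 hK, hample⟩

/-- uniqueness of the twisting sheaf `O_P(n)`. -/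
theorem nonempty_iso_of_isRelTwist (hP : RelProj.IsRelProj 𝒮 p chart) {n : ℤ} {L : P.Modules}
    {lam : ∀ (U : S.Opens) (hU : IsAffineOpen U),
      L ⟶ (Scheme.Modules.pushforward (RelProj.emb p chart U hU)).obj
        (GrTwist.twist (𝒮.deg U hU) n)}
    (hL : RelProj.IsRelTwist 𝒮 p chart n L lam) {L' : P.Modules}
    {lam' : ∀ (U : S.Opens) (hU : IsAffineOpen U),
      L' ⟶ (Scheme.Modules.pushforward (RelProj.emb p chart U hU)).obj
        (GrTwist.twist (𝒮.deg U hU) n)}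
    (hL' : RelProj.IsRelTwist 𝒮 p chart n L' lam') : Nonempty (L ≅ L') := by
  have hA := adapted_of_isRelTwist hP hL
  have hA' := adapted_of_isRelTwist hP hL'
  obtain ⟨⟨φ, hφ, -⟩, hiso⟩ := existsUnique_iso hA hA'
  haveI := hiso φ hφ
  exact ⟨asIso φ⟩

/-- for an algebra generated in degree one, `O_P(k) ≅ O_P(1)^{⊗ k}`. -/
theorem nonempty_iso_tensorPow (hP : RelProj.IsRelProj 𝒮 p chart) (hgen : 𝒮.IsGenDegOne)
    {L₁ : P.Modules}
    {lam₁ : ∀ (U : S.Opens) (hU : IsAffineOpen U),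
      L₁ ⟶ (Scheme.Modules.pushforward (RelProj.emb p chart U hU)).obj
        (GrTwist.twist (𝒮.deg U hU) ((1 : ℕ) : ℤ))}
    (h₁ : RelProj.IsRelTwist 𝒮 p chart ((1 : ℕ) : ℤ) L₁ lam₁) :
    ∀ (k : ℕ) (n : ℤ) (_ : n = (k : ℤ)) (L : P.Modules)
      (lam : ∀ (U : S.Opens) (hU : IsAffineOpen U),
        L ⟶ (Scheme.Modules.pushforward (RelProj.emb p chart U hU)).obj
          (GrTwist.twist (𝒮.deg U hU) n)),
      RelProj.IsRelTwist 𝒮 p chart n L lam → Nonempty (L ≅ CohB1.tensorPow L₁ k)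
  | 0, n, hn, L, lam, hL => by
    have hn0 : n = 0 := by rw [hn]; rfl
    subst hn0
    exact nonempty_iso_of_isRelTwist hP hL (isRelTwist_zero hP)
  | k + 1, n, hn, L, lam, hL => by
    obtain ⟨Lk, lamk, hk⟩ := exists_isRelTwist hP (k : ℤ)
    obtain ⟨e⟩ := nonempty_iso_tensorPow hP hgen h₁ k (k : ℤ) rfl Lk lamk hk
    have h : n = (k : ℤ) + ((1 : ℕ) : ℤ) := by rw [hn]; push_cast; ring
    haveI := isIso_pairHom hP h hk h₁ hL (fun x => covAt_of_genDegOne hgen (k : ℤ) x)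
    exact ⟨(asIso (pairHom hP h hk h₁ hL)).symm ≪≫ Tensor.mapIso e (Iso.refl L₁)⟩

/-- **relative Serre generation**: over a quasi-compact base, for an algebra generated by its
degree one part of finite type, the counit `p^* p_* F(n) ⟶ F(n)` is an epimorphism for `n` large. -/
theorem exists_epi_counit_relTwist [CompactSpace S] (hP : RelProj.IsRelProj 𝒮 p chart)
    (hgen : 𝒮.IsGenDegOne) (hft : 𝒮.IsFTDeg 1) (F : P.Modules) [F.IsQuasicoherent]
    [SheafOfModules.IsFiniteType (R := P.ringCatSheaf) F] :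
    ∃ n₀ : ℤ, ∀ (n : ℤ), n₀ ≤ n → ∀ (L : P.Modules)
      (lam : ∀ (U : S.Opens) (hU : IsAffineOpen U),
        L ⟶ (Scheme.Modules.pushforward (RelProj.emb p chart U hU)).obj
          (GrTwist.twist (𝒮.deg U hU) n)),
      RelProj.IsRelTwist 𝒮 p chart n L lam →
        Epi ((Scheme.Modules.pullbackPushforwardAdjunction p).counit.app
          (CohB1.tensorMod F L)) := by
  obtain ⟨L₁, lam₁, h₁⟩ := exists_isRelTwist hP ((1 : ℕ) : ℤ)
  have hamp : RelAmple.IsRelAmple p L₁ :=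
    isRelAmple_of_finite_cover Nat.one_pos (fun V => exists_finite_cover_deg_one hgen hft V) h₁
  obtain ⟨N, hN⟩ := CounitTwist.exists_epi_counit_twist p L₁ hamp F
  refine ⟨(N : ℤ), fun n hn L lam hL => ?_⟩
  obtain ⟨k, hk'⟩ : ∃ k : ℕ, n = (k : ℤ) :=
    ⟨n.toNat, (Int.toNat_of_nonneg (le_trans (Int.natCast_nonneg N) hn)).symm⟩
  have hk : N ≤ k := by
    rw [hk'] at hn
    exact_mod_cast hn
  obtain ⟨e⟩ := nonempty_iso_tensorPow hP hgen h₁ k n hk' L lam hL
  haveI := hN k hk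
  exact epi_counit_of_iso (Scheme.Modules.pullbackPushforwardAdjunction p)
    (Tensor.mapIso (Iso.refl F) e)

end Groth.Agent.Helper28.RelSys

end
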