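import Mathlib
import Groth.Prelude.Def_LCI2
import Groth.Agent.Lib.Helper13.RelAmpleComp2
import Groth.Agent.Lib.Helper13.PbAmple
import Groth.Agent.Lib.Helper13.Ample

set_option autoImplicit false
universe u
open CategoryTheory CategoryTheory.Limits AlgebraicGeometry Opposite TopologicalSpace
open Groth.Agent.Helper13.Tensor Groth.Agent.Helper13.Inv Groth.Agent.Helper13.GenLoc
open Groth.Agent.Helper13.Ample Groth.Agent.Helper13.RelAmpleComp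

namespace Groth.Agent.Helper28.YBlowComp

/-- a section `O ⟶ L` is an isomorphism iff its locus is everything. -/
theorem genLocus_eq_top_iff {X : Scheme.{u}} (L : X.Modules) (s : Coh.structureModule X ⟶ L) :
    CohB1.genLocus L s = ⊤ ↔ IsIso s := by
  constructor
  · intro h
    apply Groth.Agent.Helper13.LocFree.isIso_of_stalk_bijective
    intro x
    exact stalkMap_bijective_of_mem_genLocus L s (h ▸ (trivial : x ∈ (⊤ : X.Opens)))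
  · intro h
    rw [eq_top_iff]
    intro x _
    exact (mem_genLocus_iff L s x).2 ⟨⊤, trivial, fun y _ => stalkMap_bijective_of_isIso s y⟩

/-- if the pullback of a section of an invertible module is an isomorphism, the map lands in the
locus of the section. -/
theorem preimage_genLocus_eq_top_of_isIso {X Y : Scheme.{u}} (f : Y ⟶ X) (L : X.Modules)
    (hL : PicF.IsInvertible L) (s : Coh.structureModule X ⟶ L)
    (h : IsIso ((Scheme.Modules.pullback f).map s)) :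
    f ⁻¹ᵁ CohB1.genLocus L s = ⊤ := by
  rw [← Groth.Agent.Helper13.PbInv.genLocus_pullback f L hL s
    (Groth.Agent.Helper13.PbUnit.pullbackUnitIso f).symm, genLocus_eq_top_iff]
  infer_instance

/-- conversely. -/
theorem isIso_pullback_of_preimage_genLocus {X Y : Scheme.{u}} (f : Y ⟶ X) (L : X.Modules)
    (hL : PicF.IsInvertible L) (s : Coh.structureModule X ⟶ L)
    (h : f ⁻¹ᵁ CohB1.genLocus L s = ⊤) :
    IsIso ((Scheme.Modules.pullback f).map s) := by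
  have h1 := Groth.Agent.Helper13.PbInv.genLocus_pullback f L hL s
    (Groth.Agent.Helper13.PbUnit.pullbackUnitIso f).symm
  rw [h, genLocus_eq_top_iff] at h1
  exact IsIso.of_isIso_comp_left (Groth.Agent.Helper13.PbUnit.pullbackUnitIso f).symm.hom _

/-- **EGA II 4.6.13 (ii), relative form over a quasi-compact base**: `L` ample relative to
`h : Z ⟶ Y`, `K` ample relative to `g : Y ⟶ X`, `X` quasi-compact: `L ⊗ h^*K^n` is ample relative to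
`h ≫ g` for all large `n`. -/
theorem exists_isRelAmple_comp {X Y Z : Scheme.{u}} (h : Z ⟶ Y) (g : Y ⟶ X) [CompactSpace X]
    (L : Z.Modules) (K : Y.Modules) (hL : RelAmple.IsRelAmple h L)
    (hK : RelAmple.IsRelAmple g K) :
    ∃ n₀ : ℕ, ∀ n, n₀ ≤ n → RelAmple.IsRelAmple (h ≫ g)
      (CohB1.tensorMod L ((Scheme.Modules.pullback h).obj (CohB1.tensorPow K n))) := by
  classical
  haveI := hL.1
  haveI := hK.1
  have key : ∀ x : X, ∃ (V : X.Opens) (n₀ : ℕ), IsAffineOpen V ∧ x ∈ V ∧ ∀ n, n₀ ≤ n →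
      CohB1.IsAmple ((CohB1.tensorMod L ((Scheme.Modules.pullback h).obj
        (CohB1.tensorPow K n))).restrict (h ⁻¹ᵁ (g ⁻¹ᵁ V)).ι) := by
    intro x
    obtain ⟨V, hV, hxV, -⟩ := exists_isAffineOpen_mem_and_subset (x := x) (U := ⊤) trivial
    have hKV := hK.2 ⟨V, hV⟩
    have hLV := isRelAmple_morphismRestrict h L hL (g ⁻¹ᵁ V)
    obtain ⟨n₀, hn₀⟩ := exists_isAmple_tensor_pullback_pow (h ∣_ (g ⁻¹ᵁ V)) _ _ hLV hKV
    refine ⟨V, n₀, hV, hxV, fun n hn => ?_⟩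
    exact isAmple_of_iso (restrictTensorPullbackPowIso h L K n (g ⁻¹ᵁ V)).symm (hn₀ n hn)
  choose V n₀ hV hxV hamp using key
  obtain ⟨T, hT⟩ := isCompact_univ.elim_finite_subcover
    (fun x : X => ((V x : X.Opens) : Set X)) (fun x => (V x).2)
    (fun x _ => Set.mem_iUnion.2 ⟨x, hxV x⟩)
  refine ⟨T.sup n₀, fun n hn => ⟨inferInstance, fun W => ?_⟩⟩
  apply isAmple_restrict_preimage_of_local (h ≫ g) _ W.1 W.2
  intro y _
  obtain ⟨x, hxT, hyx⟩ : ∃ x ∈ T, y ∈ V x := by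
    have := hT (Set.mem_univ y)
    simpa using this
  exact ⟨h ⁻¹ᵁ (g ⁻¹ᵁ V x), V x, hyx, le_of_eq rfl, hamp x n ((Finset.le_sup hxT).trans hn)⟩

/-- the composite of two `Y`-blow-ups: the module and its trivialising section. -/
theorem exists_relAmple_section_comp {X Y Xᵢ Xⱼ : Scheme.{u}} [CompactSpace X]
    (fᵢ : Y ⟶ Xᵢ) (gᵢ : Xᵢ ⟶ X) (fⱼ : Y ⟶ Xⱼ) (gᵢⱼ : Xⱼ ⟶ Xᵢ) (hcomp : fⱼ ≫ gᵢⱼ = fᵢ)
    (Lᵢ : Xᵢ.Modules) (εᵢ : Coh.structureModule Xᵢ ⟶ Lᵢ) (hLᵢ : RelAmple.IsRelAmple gᵢ Lᵢ)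
    (hεᵢ : IsIso ((Scheme.Modules.pullback fᵢ).map εᵢ))
    (Lⱼ : Xⱼ.Modules) (εⱼ : Coh.structureModule Xⱼ ⟶ Lⱼ) (hLⱼ : RelAmple.IsRelAmple gᵢⱼ Lⱼ)
    (hεⱼ : IsIso ((Scheme.Modules.pullback fⱼ).map εⱼ)) :
    ∃ (L : Xⱼ.Modules) (ε : Coh.structureModule Xⱼ ⟶ L),
      RelAmple.IsRelAmple (gᵢⱼ ≫ gᵢ) L ∧ IsIso ((Scheme.Modules.pullback fⱼ).map ε) := by
  obtain ⟨n₀, hn₀⟩ := exists_isRelAmple_comp gᵢⱼ gᵢ Lⱼ Lᵢ hLⱼ hLᵢ
  have hLᵢinv := isInvertible_of_isRelAmple gᵢ Lᵢ hLᵢ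
  have hLⱼinv := isInvertible_of_isRelAmple gᵢⱼ Lⱼ hLⱼ
  have hPinv : PicF.IsInvertible (CohB1.tensorPow Lᵢ (n₀ + 1)) :=
    isInvertible_tensorPow Lᵢ hLᵢinv _
  have hQinv : PicF.IsInvertible
      ((Scheme.Modules.pullback gᵢⱼ).obj (CohB1.tensorPow Lᵢ (n₀ + 1))) :=
    Groth.Agent.Helper13.PbInv.isInvertible_pullback gᵢⱼ _ hPinv
  refine ⟨_, SecTwist.tmulHom εⱼ ((Groth.Agent.Helper13.PbUnit.pullbackUnitIso gᵢⱼ).symm.hom ≫
    (Scheme.Modules.pullback gᵢⱼ).map (SecTwist.powHom εᵢ (n₀ + 1))),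
    hn₀ (n₀ + 1) (Nat.le_succ _), ?_⟩
  apply isIso_pullback_of_preimage_genLocus fⱼ _ (isInvertible_tensorMod _ _ hLⱼinv hQinv)
  rw [genLocus_tmulHom _ _ hLⱼinv hQinv,
    Groth.Agent.Helper13.PbInv.genLocus_pullback gᵢⱼ _ hPinv (SecTwist.powHom εᵢ (n₀ + 1))
      (Groth.Agent.Helper13.PbUnit.pullbackUnitIso gᵢⱼ).symm,
    genLocus_powHom _ hLᵢinv]
  have h1 := preimage_genLocus_eq_top_of_isIso fⱼ Lⱼ hLⱼinv εⱼ hεⱼ
  have h2 := preimage_genLocus_eq_top_of_isIso fᵢ Lᵢ hLᵢinv εᵢ hεᵢ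
  rw [eq_top_iff]
  intro y _
  refine ⟨?_, ?_⟩
  · have : y ∈ fⱼ ⁻¹ᵁ CohB1.genLocus Lⱼ εⱼ := h1 ▸ (trivial : y ∈ (⊤ : Y.Opens))
    exact this
  · have : y ∈ fᵢ ⁻¹ᵁ CohB1.genLocus Lᵢ εᵢ := h2 ▸ (trivial : y ∈ (⊤ : Y.Opens))
    change gᵢⱼ (fⱼ y) ∈ CohB1.genLocus Lᵢ εᵢ
    have e : gᵢⱼ (fⱼ y) = fᵢ y := by rw [← hcomp]; rfl
    rw [e]
    exact this

end Groth.Agent.Helper28.YBlowComp
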