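import Mathlib
import Groth.Prelude.Def_LCI2
import Groth.Agent.Lib.Helper28.YBlowComp
import Groth.Agent.Lib.Helper13.PullbackLocal
import Groth.Agent.Lib.Helper18.KerToImage

set_option autoImplicit false
universe u
open CategoryTheory CategoryTheory.Limits AlgebraicGeometry Opposite TopologicalSpace
open Groth.Agent.Helper13.Tensor Groth.Agent.Helper13.Inv Groth.Agent.Helper13.GenLoc
open Groth.Agent.Helper13.Ample Groth.Agent.Helper13.RelAmpleComp Groth.Agent.Helper13.PbAmple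
open Groth.Agent.Helper13.Pullback Groth.Agent.Helper28.YBlowComp

namespace Groth.Agent.Helper28.YBlowSup

/-- the pullback of a section, as a section of the pullback. -/
noncomputable def pbSec {X Z : Scheme.{u}} (v : Z ⟶ X) {L : X.Modules}
    (s : Coh.structureModule X ⟶ L) :
    Coh.structureModule Z ⟶ (Scheme.Modules.pullback v).obj L :=
  (Groth.Agent.Helper13.PbUnit.pullbackUnitIso v).symm.hom ≫ (Scheme.Modules.pullback v).map s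

theorem genLocus_pbSec {X Z : Scheme.{u}} (v : Z ⟶ X) (L : X.Modules) (hL : PicF.IsInvertible L)
    (s : Coh.structureModule X ⟶ L) :
    CohB1.genLocus _ (pbSec v s) = v ⁻¹ᵁ CohB1.genLocus L s :=
  Groth.Agent.Helper13.PbInv.genLocus_pullback v L hL s
    (Groth.Agent.Helper13.PbUnit.pullbackUnitIso v).symm

/-- pullback along an affine morphism `i` of a `q`-ample module is `(i ≫ q)`-ample. -/
theorem isRelAmple_pullback_of_isAffineHom {X Z S : Scheme.{u}} (i : Z ⟶ X) [IsAffineHom i]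
    (q : X ⟶ S) (M : X.Modules) (hM : RelAmple.IsRelAmple q M) :
    RelAmple.IsRelAmple (i ≫ q) ((Scheme.Modules.pullback i).obj M) := by
  haveI := hM.1
  refine ⟨inferInstance, fun V => ?_⟩
  haveI : IsAffineHom (i ∣_ (q ⁻¹ᵁ V.1)) :=
    IsZariskiLocalAtTarget.restrict (P := @IsAffineHom) inferInstance _
  have h2 := isAmple_pullback_of_isAffineHom (i ∣_ (q ⁻¹ᵁ V.1)) _ (hM.2 V)
  exact isAmple_of_iso ((pullbackRestrictIso i (i ⁻¹ᵁ (q ⁻¹ᵁ V.1)).ι (q ⁻¹ᵁ V.1).ι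
    (i ∣_ (q ⁻¹ᵁ V.1)) (morphismRestrict_ι i (q ⁻¹ᵁ V.1)).symm).app M).symm h2

/-- the local step of base change of relative ampleness. -/
theorem isAmple_baseChange_aux {X S S' X' : Scheme.{u}} {f : X ⟶ S} {g : S' ⟶ S} {f' : X' ⟶ S'}
    {g' : X' ⟶ X} (h : IsPullback g' f' f g) (L : X.Modules) (hL : RelAmple.IsRelAmple f L)
    (V' : S'.Opens) (hV' : IsAffineOpen V') (W : S.Opens) (hW : IsAffineOpen W)
    (hV'W : V' ≤ g ⁻¹ᵁ W) :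
    CohB1.IsAmple (((Scheme.Modules.pullback g').obj L).restrict (f' ⁻¹ᵁ V').ι) := by
  haveI : IsAffine (V' : Scheme.{u}) := hV'
  haveI : IsAffine (W : Scheme.{u}) := hW
  have hr : Set.range ((f' ⁻¹ᵁ V').ι ≫ g') ⊆ Set.range (f ⁻¹ᵁ W).ι := by
    rw [Scheme.Opens.range_ι]
    rintro _ ⟨z, rfl⟩
    change f (g' ((f' ⁻¹ᵁ V').ι z)) ∈ W
    have e : f (g' ((f' ⁻¹ᵁ V').ι z)) = g (f' ((f' ⁻¹ᵁ V').ι z)) :=
      congrArg (fun k : X' ⟶ S => k ((f' ⁻¹ᵁ V').ι z)) h.w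
    rw [e]
    exact hV'W z.2
  have hc : Set.range (V'.ι ≫ g) ⊆ Set.range W.ι := by
    rw [Scheme.Opens.range_ι]
    rintro _ ⟨z, rfl⟩
    exact hV'W z.2
  obtain ⟨r, hrfac⟩ : ∃ r : (f' ⁻¹ᵁ V' : X'.Opens).toScheme ⟶ (f ⁻¹ᵁ W : X.Opens).toScheme,
      r ≫ (f ⁻¹ᵁ W).ι = (f' ⁻¹ᵁ V').ι ≫ g' :=
    ⟨IsOpenImmersion.lift (f ⁻¹ᵁ W).ι ((f' ⁻¹ᵁ V').ι ≫ g') hr, IsOpenImmersion.lift_fac _ _ _⟩
  obtain ⟨c, hcfac⟩ : ∃ c : (V' : Scheme.{u}) ⟶ (W : Scheme.{u}), c ≫ W.ι = V'.ι ≫ g :=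
    ⟨IsOpenImmersion.lift W.ι (V'.ι ≫ g) hc, IsOpenImmersion.lift_fac _ _ _⟩
  have hbig : IsPullback (f' ∣_ V') (r ≫ (f ⁻¹ᵁ W).ι) (c ≫ W.ι) f := by
    rw [hrfac, hcfac]
    exact (isPullback_morphismRestrict f' V').paste_vert h.flip
  have hcomm : (f' ∣_ V') ≫ c = r ≫ (f ∣_ W) := by
    rw [← cancel_mono W.ι, Category.assoc, Category.assoc, morphismRestrict_ι, hcfac,
      reassoc_of% hrfac, h.w, ← Category.assoc, morphismRestrict_ι, Category.assoc]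
  have hsq : IsPullback (f' ∣_ V') r c (f ∣_ W) :=
    IsPullback.of_bot hbig hcomm (isPullback_morphismRestrict f W)
  haveI : IsAffineHom r :=
    MorphismProperty.of_isPullback (P := @IsAffineHom) hsq inferInstance
  have h2 := isAmple_pullback_of_isAffineHom r _ (hL.2 ⟨W, hW⟩)
  exact isAmple_of_iso ((pullbackRestrictIso g' (f' ⁻¹ᵁ V').ι (f ⁻¹ᵁ W).ι r hrfac.symm).app L).symm h2

/-- **base change of relative ampleness** (EGA II 4.6.13 (iii)). -/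
theorem isRelAmple_baseChange {X S S' X' : Scheme.{u}} {f : X ⟶ S} {g : S' ⟶ S} {f' : X' ⟶ S'}
    {g' : X' ⟶ X} (h : IsPullback g' f' f g) (L : X.Modules) (hL : RelAmple.IsRelAmple f L) :
    RelAmple.IsRelAmple f' ((Scheme.Modules.pullback g').obj L) := by
  haveI := hL.1
  haveI : QuasiCompact f' := MorphismProperty.of_isPullback (P := @QuasiCompact) h hL.1
  refine ⟨inferInstance, fun V => ?_⟩
  apply isAmple_restrict_preimage_of_local f' _ V.1 V.2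
  intro y _
  obtain ⟨_, ⟨W, hW, rfl⟩, hyW, -⟩ :=
    S.isBasis_affineOpens.exists_subset_of_mem_open (Set.mem_univ (g y)) isOpen_univ
  obtain ⟨_, ⟨V', hV', rfl⟩, hyV', hV'W⟩ :=
    S'.isBasis_affineOpens.exists_subset_of_mem_open (show y ∈ g ⁻¹ᵁ W from hyW) (g ⁻¹ᵁ W).2
  exact ⟨f' ⁻¹ᵁ V', V', hyV', le_rfl, isAmple_baseChange_aux h L hL V' hV' W hW hV'W⟩

/-- the module and section on a common refinement. -/
theorem common_aux {X Y X₁ X₂ P X₃ : Scheme.{u}} [CompactSpace X]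
    (f₁ : Y ⟶ X₁) (g₁ : X₁ ⟶ X) (f₂ : Y ⟶ X₂) (g₂ : X₂ ⟶ X)
    (p₁ : P ⟶ X₁) (p₂ : P ⟶ X₂) (hP : IsPullback p₁ p₂ g₁ g₂)
    (i : X₃ ⟶ P) [IsAffineHom i] (f₃ : Y ⟶ X₃) (h₁ : f₃ ≫ i ≫ p₁ = f₁) (h₂ : f₃ ≫ i ≫ p₂ = f₂)
    (L₁ : X₁.Modules) (ε₁ : Coh.structureModule X₁ ⟶ L₁) (hL₁ : RelAmple.IsRelAmple g₁ L₁)
    (hε₁ : IsIso ((Scheme.Modules.pullback f₁).map ε₁))
    (L₂ : X₂.Modules) (ε₂ : Coh.structureModule X₂ ⟶ L₂) (hL₂ : RelAmple.IsRelAmple g₂ L₂)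
    (hε₂ : IsIso ((Scheme.Modules.pullback f₂).map ε₂)) :
    ∃ (L : X₃.Modules) (ε : Coh.structureModule X₃ ⟶ L),
      RelAmple.IsRelAmple (i ≫ p₁ ≫ g₁) L ∧ IsIso ((Scheme.Modules.pullback f₃).map ε) := by
  have hbc : RelAmple.IsRelAmple p₁ ((Scheme.Modules.pullback p₂).obj L₂) :=
    isRelAmple_baseChange hP.flip L₂ hL₂
  obtain ⟨n₀, hn₀⟩ := exists_isRelAmple_comp p₁ g₁ _ L₁ hbc hL₁
  have hL₁inv := isInvertible_of_isRelAmple g₁ L₁ hL₁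
  have hL₂inv := isInvertible_of_isRelAmple g₂ L₂ hL₂
  have hA : PicF.IsInvertible ((Scheme.Modules.pullback p₂).obj L₂) :=
    Groth.Agent.Helper13.PbInv.isInvertible_pullback p₂ _ hL₂inv
  have hPinv : PicF.IsInvertible (CohB1.tensorPow L₁ (n₀ + 1)) :=
    isInvertible_tensorPow L₁ hL₁inv _
  have hB : PicF.IsInvertible ((Scheme.Modules.pullback p₁).obj (CohB1.tensorPow L₁ (n₀ + 1))) :=
    Groth.Agent.Helper13.PbInv.isInvertible_pullback p₁ _ hPinv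
  have hM := isInvertible_tensorMod _ _ hA hB
  have hμ : CohB1.genLocus _ (SecTwist.tmulHom (pbSec p₂ ε₂)
      (pbSec p₁ (SecTwist.powHom ε₁ (n₀ + 1)))) =
      p₂ ⁻¹ᵁ CohB1.genLocus L₂ ε₂ ⊓ p₁ ⁻¹ᵁ CohB1.genLocus L₁ ε₁ := by
    rw [genLocus_tmulHom _ _ hA hB, genLocus_pbSec p₂ L₂ hL₂inv, genLocus_pbSec p₁ _ hPinv,
      genLocus_powHom _ hL₁inv]
  refine ⟨_, pbSec i (SecTwist.tmulHom (pbSec p₂ ε₂) (pbSec p₁ (SecTwist.powHom ε₁ (n₀ + 1)))),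
    isRelAmple_pullback_of_isAffineHom i (p₁ ≫ g₁) _ (hn₀ (n₀ + 1) (Nat.le_succ _)), ?_⟩
  apply isIso_pullback_of_preimage_genLocus f₃ _
    (Groth.Agent.Helper13.PbInv.isInvertible_pullback i _ hM)
  rw [genLocus_pbSec i _ hM, hμ, eq_top_iff]
  intro y _
  have k1 := preimage_genLocus_eq_top_of_isIso f₁ L₁ hL₁inv ε₁ hε₁
  have k2 := preimage_genLocus_eq_top_of_isIso f₂ L₂ hL₂inv ε₂ hε₂
  refine ⟨?_, ?_⟩
  · change p₂ (i (f₃ y)) ∈ CohB1.genLocus L₂ ε₂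
    have e : p₂ (i (f₃ y)) = f₂ y := by rw [← h₂]; rfl
    rw [e]
    have : y ∈ f₂ ⁻¹ᵁ CohB1.genLocus L₂ ε₂ := k2 ▸ (trivial : y ∈ (⊤ : Y.Opens))
    exact this
  · change p₁ (i (f₃ y)) ∈ CohB1.genLocus L₁ ε₁
    have e : p₁ (i (f₃ y)) = f₁ y := by rw [← h₁]; rfl
    rw [e]
    have : y ∈ f₁ ⁻¹ᵁ CohB1.genLocus L₁ ε₁ := k1 ▸ (trivial : y ∈ (⊤ : Y.Opens))
    exact this

/-- two `Y`-blow-ups are dominated by a third. -/
theorem exists_common_yBlowUp {X Y X₁ X₂ : Scheme.{u}} [CompactSpace X] [QuasiSeparatedSpace X]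
    [CompactSpace Y] (f : Y ⟶ X) (f₁ : Y ⟶ X₁) (g₁ : X₁ ⟶ X) (f₂ : Y ⟶ X₂) (g₂ : X₂ ⟶ X)
    [IsProper g₁] [IsProper g₂] (hf₁ : f₁ ≫ g₁ = f) (hf₂ : f₂ ≫ g₂ = f)
    (L₁ : X₁.Modules) (ε₁ : Coh.structureModule X₁ ⟶ L₁) (hL₁ : RelAmple.IsRelAmple g₁ L₁)
    (hε₁ : IsIso ((Scheme.Modules.pullback f₁).map ε₁))
    (L₂ : X₂.Modules) (ε₂ : Coh.structureModule X₂ ⟶ L₂) (hL₂ : RelAmple.IsRelAmple g₂ L₂)
    (hε₂ : IsIso ((Scheme.Modules.pullback f₂).map ε₂)) :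
    ∃ (X₃ : Scheme.{u}) (f₃ : Y ⟶ X₃) (g₃ : X₃ ⟶ X) (d₁ : X₃ ⟶ X₁) (d₂ : X₃ ⟶ X₂),
      (IsSchemeTheoreticallyDominant f₃ ∧ IsProper g₃ ∧ f₃ ≫ g₃ = f ∧
        ∃ (L : X₃.Modules) (ε : Coh.structureModule X₃ ⟶ L),
          RelAmple.IsRelAmple g₃ L ∧ IsIso ((Scheme.Modules.pullback f₃).map ε)) ∧
      f₃ ≫ d₁ = f₁ ∧ d₁ ≫ g₁ = g₃ ∧ f₃ ≫ d₂ = f₂ ∧ d₂ ≫ g₂ = g₃ := by
  have hP := IsPullback.of_hasPullback g₁ g₂
  haveI : IsProper (pullback.fst g₁ g₂) :=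
    MorphismProperty.of_isPullback (P := @IsProper) hP.flip inferInstance
  haveI : QuasiSeparatedSpace (pullback g₁ g₂ : Scheme.{u}) :=
    quasiSeparatedSpace_of_quasiSeparated (pullback.fst g₁ g₂ ≫ g₁)
  obtain ⟨φ, hφ₁, hφ₂⟩ : ∃ φ : Y ⟶ pullback g₁ g₂, φ ≫ pullback.fst g₁ g₂ = f₁ ∧
      φ ≫ pullback.snd g₁ g₂ = f₂ :=
    ⟨pullback.lift f₁ f₂ (hf₁.trans hf₂.symm), pullback.lift_fst _ _ _, pullback.lift_snd _ _ _⟩
  haveI : QuasiCompact φ := inferInstance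
  have hfac : φ.toImage ≫ φ.imageι = φ := φ.toImage_imageι
  have h₁ : φ.toImage ≫ φ.imageι ≫ pullback.fst g₁ g₂ = f₁ := by
    rw [reassoc_of% hfac, hφ₁]
  have h₂ : φ.toImage ≫ φ.imageι ≫ pullback.snd g₁ g₂ = f₂ := by
    rw [reassoc_of% hfac, hφ₂]
  obtain ⟨L, ε, hL, hε⟩ := common_aux f₁ g₁ f₂ g₂ _ _ hP φ.imageι φ.toImage h₁ h₂
    L₁ ε₁ hL₁ hε₁ L₂ ε₂ hL₂ hε₂
  refine ⟨φ.image, φ.toImage, φ.imageι ≫ pullback.fst g₁ g₂ ≫ g₁, φ.imageι ≫ pullback.fst g₁ g₂,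
    φ.imageι ≫ pullback.snd g₁ g₂, ⟨inferInstance, inferInstance, ?_, L, ε, hL, hε⟩,
    h₁, ?_, h₂, ?_⟩
  · rw [reassoc_of% hfac, reassoc_of% hφ₁, hf₁]
  · rw [Category.assoc]
  · rw [Category.assoc, ← pullback.condition]

end Groth.Agent.Helper28.YBlowSup
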