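import Mathlib
import Groth.Prelude.Def_RelProj
import Groth.Agent.Lib.Helper28.RelTwistSerre
import Groth.Agent.Lib.Helper28.YBlowSup

/-!
# A projective morphism is proper and quasi-projective (helper28)

`Proj 𝒜 ⟶ Spec 𝒜₀ ⟶ Spec A` is proper when `𝒜` is generated by `𝒜₁` over `𝒜₀` and `𝒜₁` is a
finitely generated `A`-module (no finiteness of `𝒜₀` over `A` is needed): valuative criterion
plus Cayley–Hamilton.
-/

set_option autoImplicit false
universe u
open CategoryTheory CategoryTheory.Limits AlgebraicGeometry Opposite TopologicalSpace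
open HomogeneousLocalization

noncomputable section

namespace Groth.Agent.Helper28.RelProjProper

section ring

lemma finiteType_comp_of_range {A B C : Type*} [CommRing A] [CommRing B] [CommRing C]
    (f : A →+* B) (g : B →+* C) (hg : g.FiniteType) (G' : Finset C)
    (h : ∀ b, g b ∈ Subring.closure (Set.range (g.comp f) ∪ (G' : Set C))) :
    (g.comp f).FiniteType := by
  classical
  letI algB : Algebra B C := g.toAlgebra
  letI algA : Algebra A C := (g.comp f).toAlgebra
  obtain ⟨G, hG⟩ := (show Algebra.FiniteType B C from hg).out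
  refine (show Algebra.FiniteType A C from ⟨⟨G ∪ G', ?_⟩⟩)
  have hle : Subring.closure (Set.range (g.comp f) ∪ (G' : Set C)) ≤
      (Algebra.adjoin A ((G ∪ G' : Finset C) : Set C)).toSubring := by
    rw [Subring.closure_le]
    rintro y (⟨a, rfl⟩ | hy)
    · exact (Algebra.adjoin A ((G ∪ G' : Finset C) : Set C)).algebraMap_mem a
    · exact Algebra.subset_adjoin (by
        rw [Finset.coe_union]; exact Or.inr hy)
  have key : ∀ x, x ∈ Algebra.adjoin B (G : Set C) →
      x ∈ Algebra.adjoin A ((G ∪ G' : Finset C) : Set C) := by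
    intro x hx
    induction hx using Algebra.adjoin_induction with
    | mem y hy => exact Algebra.subset_adjoin (by rw [Finset.coe_union]; exact Or.inl hy)
    | algebraMap b => exact hle (h b)
    | add y z _ _ hy hz => exact add_mem hy hz
    | mul y z _ _ hy hz => exact mul_mem hy hz
  rw [eq_top_iff]
  intro x _
  exact key x (by rw [hG]; trivial)

end ring

section alg

variable {R : Type u} [CommRing R] (𝒜 : ℕ → AddSubgroup R) [GradedRing 𝒜]
  {A : Type u} [CommRing A] (φ : A →+* 𝒜 0)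

/-- the hypotheses: generated in degree one over degree zero, and the degree one part is spanned
over `A` by the finite set `T`. -/
structure Hyp (T : Finset R) : Prop where
  gen : Subring.closure ((𝒜 0 : Set R) ∪ (𝒜 1 : Set R)) = ⊤
  sub : (↑T : Set R) ⊆ (𝒜 1 : Set R)
  span : ∀ x ∈ 𝒜 1, ∃ c : R → A, x = ∑ t ∈ T, ((φ (c t) : 𝒜 0) : R) * t

variable {𝒜 φ}

lemma adjoin_eq_top {T : Finset R} (h : Hyp 𝒜 φ T) : Algebra.adjoin (𝒜 0) (T : Set R) = ⊤ := by
  rw [eq_top_iff]
  intro x _
  have hx : x ∈ Subring.closure ((𝒜 0 : Set R) ∪ (𝒜 1 : Set R)) := by rw [h.gen]; trivial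
  have hle : Subring.closure ((𝒜 0 : Set R) ∪ (𝒜 1 : Set R)) ≤
      (Algebra.adjoin (𝒜 0) (T : Set R)).toSubring := by
    rw [Subring.closure_le]
    rintro y (hy | hy)
    · exact (Algebra.adjoin (𝒜 0) (T : Set R)).algebraMap_mem ⟨y, hy⟩
    · obtain ⟨c, hc⟩ := h.span y hy
      change y ∈ Algebra.adjoin (𝒜 0) (T : Set R)
      rw [hc]
      refine Subalgebra.sum_mem _ (fun t ht => Subalgebra.mul_mem _ ?_ (Algebra.subset_adjoin ht))
      exact (Algebra.adjoin (𝒜 0) (T : Set R)).algebraMap_mem (φ (c t))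
  exact hle hx

lemma finiteType {T : Finset R} (h : Hyp 𝒜 φ T) : Algebra.FiniteType (𝒜 0) R :=
  ⟨⟨T, adjoin_eq_top h⟩⟩

lemma iSup_basicOpen_eq_top {T : Finset R} (h : Hyp 𝒜 φ T) :
    ⨆ t : T, Proj.basicOpen 𝒜 (t : R) = ⊤ := by
  refine Proj.iSup_basicOpen_eq_top' 𝒜 (ι := T) (fun t => (t : R)) (fun t => ⟨1, h.sub t.2⟩) ?_
  have : Set.range (fun t : T => (t : R)) = (T : Set R) := Subtype.range_coe
  rw [this]
  exact adjoin_eq_top h

/-- Cayley–Hamilton: every `b ∈ 𝒜₀` satisfies a monic polynomial over `A` up to the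
annihilator of `T`. -/
lemma exists_monic_annihilator {T : Finset R} (h : Hyp 𝒜 φ T) (b : 𝒜 0) :
    ∃ P : Polynomial A, P.Monic ∧ ∀ t ∈ T, ((P.eval₂ φ b : 𝒜 0) : R) * t = 0 := by
  classical
  let φR : A →+* R := (algebraMap (𝒜 0) R).comp φ
  have hbt : ∀ t : T, ∃ c : R → A, (b : R) * (t : R) = ∑ s ∈ T, φR (c s) * s := by
    intro t
    have h1 : (b : R) * (t : R) ∈ 𝒜 1 := by
      have := SetLike.mul_mem_graded b.2 (h.sub t.2)
      simpa using this
    exact h.span _ h1
  choose c hc using hbt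
  let M : Matrix T T A := fun i j => c i j
  let v : T → R := fun i => i
  have h1 : (M.map φR).mulVec v = (b : R) • v := by
    ext i
    simp only [Matrix.mulVec, dotProduct, Matrix.map_apply, Pi.smul_apply, smul_eq_mul]
    rw [hc i, ← Finset.sum_coe_sort T (fun s => φR (c i s) * s)]
  have h2 : (Matrix.scalar T (b : R) - M.map φR).mulVec v = 0 := by
    rw [Matrix.sub_mulVec, h1, sub_eq_zero]
    ext i
    simp [Matrix.scalar_apply, Matrix.mulVec_diagonal]
  have h3 : (Matrix.scalar T (b : R) - M.map φR).det • v = 0 := by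
    have := congrArg (Matrix.mulVec (Matrix.adjugate (Matrix.scalar T (b : R) - M.map φR))) h2
    rwa [Matrix.mulVec_mulVec, Matrix.adjugate_mul, Matrix.smul_mulVec, Matrix.one_mulVec,
      Matrix.mulVec_zero] at this
  refine ⟨M.charpoly, Matrix.charpoly_monic M, fun t ht => ?_⟩
  have h4 : ((M.charpoly.eval₂ φ b : 𝒜 0) : R) = (Matrix.scalar T (b : R) - M.map φR).det := by
    rw [← Matrix.eval_charpoly, Matrix.charpoly_map, Polynomial.eval_map]
    exact Polynomial.hom_eval₂ M.charpoly φ (algebraMap (𝒜 0) R) b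
  rw [h4]
  exact congrFun h3 ⟨t, ht⟩

lemma fromZero_eq_zero {t : R} (z : 𝒜 0) (hz : (z : R) * t = 0) :
    fromZeroRingHom 𝒜 (Submonoid.powers t) z = 0 := by
  apply HomogeneousLocalization.val_injective
  rw [HomogeneousLocalization.val_zero]
  change Localization.mk (z : R) 1 = 0
  rw [← Localization.mk_zero 1, Localization.mk_eq_mk_iff, Localization.r_iff_exists]
  exact ⟨⟨t, Submonoid.mem_powers t⟩, by simpa [mul_comm] using hz⟩

/-- the degree zero localisations are of finite type over `A`. -/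
lemma finiteType_away {T : Finset R} (h : Hyp 𝒜 φ T) (t : R) (htT : t ∈ T) :
    ((fromZeroRingHom 𝒜 (Submonoid.powers t)).comp φ).FiniteType := by
  classical
  haveI := finiteType h
  have ht1 : t ∈ 𝒜 1 := h.sub htT
  have hg : (fromZeroRingHom 𝒜 (Submonoid.powers t)).FiniteType :=
    HomogeneousLocalization.Away.finiteType t 1 ht1
  have hs1 : ∀ s : T, (s : R) ∈ 𝒜 (1 • 1) := fun s => by simpa using h.sub s.2
  let G' : Finset (Away 𝒜 t) := T.attach.image (fun s : T => Away.mk 𝒜 ht1 1 (s : R) (hs1 s))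
  refine finiteType_comp_of_range φ _ hg G' (fun b => ?_)
  have hbt : (b : R) * t ∈ 𝒜 1 := by simpa using SetLike.mul_mem_graded b.2 ht1
  obtain ⟨c, hc⟩ := h.span _ hbt
  have key : fromZeroRingHom 𝒜 (Submonoid.powers t) b =
      ∑ s ∈ T.attach, fromZeroRingHom 𝒜 (Submonoid.powers t) (φ (c s)) *
        Away.mk 𝒜 ht1 1 (s : R) (hs1 s) := by
    apply (show Function.Injective (algebraMap (Away 𝒜 t) (Localization.Away t))
      from HomogeneousLocalization.val_injective _)
    rw [map_sum]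
    simp only [map_mul, HomogeneousLocalization.algebraMap_apply, Away.val_mk]
    have hfz : ∀ z : 𝒜 0, (fromZeroRingHom 𝒜 (Submonoid.powers t) z).val =
        Localization.mk (z : R) 1 := fun z => rfl
    simp only [hfz, Localization.mk_mul, one_mul]
    rw [← Localization.mk_sum, Localization.mk_eq_mk_iff, Localization.r_iff_exists]
    refine ⟨1, ?_⟩
    have h5 : ∑ s ∈ T.attach, ((φ (c s) : 𝒜 0) : R) * (s : R) = (b : R) * t := by
      rw [hc]
      exact Finset.sum_attach T (fun s => ((φ (c s) : 𝒜 0) : R) * s)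
    simp only [OneMemClass.coe_one, one_mul, pow_one, h5]
    ring
  rw [key]
  refine Subring.sum_mem _ (fun s hs => Subring.mul_mem _
    (Subring.subset_closure (Or.inl ⟨c s, rfl⟩)) (Subring.subset_closure (Or.inr ?_)))
  exact Finset.mem_coe.mpr (Finset.mem_image.mpr ⟨s, hs, rfl⟩)

theorem locallyOfFiniteType {T : Finset R} (h : Hyp 𝒜 φ T) :
    LocallyOfFiniteType (Proj.toSpecZero 𝒜 ≫ Spec.map (CommRingCat.ofHom φ)) := by
  haveI := finiteType h
  rw [IsZariskiLocalAtSource.iff_of_iSup_eq_top (P := @LocallyOfFiniteType) _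
    (iSup_basicOpen_eq_top h)]
  intro t
  have ht1 : (t : R) ∈ 𝒜 1 := h.sub t.2
  have key : (Proj.basicOpenIsoSpec 𝒜 (t : R) ht1 one_pos).inv ≫
      (Proj.basicOpen 𝒜 (t : R)).ι ≫ Proj.toSpecZero 𝒜 ≫ Spec.map (CommRingCat.ofHom φ) =
      Spec.map (CommRingCat.ofHom
        ((fromZeroRingHom 𝒜 (Submonoid.powers (t : R))).comp φ)) := by
    calc _ = Proj.awayι 𝒜 _ ht1 one_pos ≫ Proj.toSpecZero 𝒜 ≫
          Spec.map (CommRingCat.ofHom φ) := by simp only [Proj.awayι, Category.assoc]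
      _ = _ := by
        rw [← Category.assoc, Proj.awayι_toSpecZero, ← Spec.map_comp]
        rfl
  rw [← MorphismProperty.cancel_left_of_respectsIso (P := @LocallyOfFiniteType)
    (Proj.basicOpenIsoSpec 𝒜 (t : R) ht1 one_pos).inv, key,
    HasRingHomProperty.Spec_iff (P := @LocallyOfFiniteType)]
  exact finiteType_away h _ t.2

/-- the valuative criterion (existence part) for `Proj 𝒜 ⟶ Spec A`. -/
theorem valuativeCriterion_existence {T : Finset R} (h : Hyp 𝒜 φ T) :
    ValuativeCriterion.Existence (Proj.toSpecZero 𝒜 ≫ Spec.map (CommRingCat.ofHom φ)) := by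
  haveI := finiteType h
  rintro ⟨O, K, i₁, i₂, w⟩
  have hx : i₁ (IsLocalRing.closedPoint K) ∈ (⊤ : (Proj 𝒜).Opens) := trivial
  rw [← iSup_basicOpen_eq_top h, TopologicalSpace.Opens.mem_iSup] at hx
  obtain ⟨t, ht⟩ := hx
  have ht1 : (t : R) ∈ 𝒜 1 := h.sub t.2
  have hrange : Set.range i₁ ⊆ (Proj.awayι 𝒜 _ ht1 one_pos).opensRange := by
    rw [Proj.opensRange_awayι]
    rintro _ ⟨x, rfl⟩
    obtain rfl := Subsingleton.elim x (IsLocalRing.closedPoint K)
    exact ht
  let ι₁ : Spec (.of K) ⟶ Spec (.of (Away 𝒜 (t : R))) := IsOpenImmersion.lift _ _ hrange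
  have hι₁ : ι₁ ≫ Proj.awayι 𝒜 _ ht1 one_pos = i₁ := IsOpenImmersion.lift_fac _ _ hrange
  let φK : Away 𝒜 (t : R) →+* K := (Spec.preimage ι₁).hom
  let β : 𝒜 0 →+* K := φK.comp (fromZeroRingHom 𝒜 _)
  have hβ : i₁ ≫ Proj.toSpecZero 𝒜 = Spec.map (CommRingCat.ofHom β) := by
    have e1 : CommRingCat.ofHom β =
        CommRingCat.ofHom (fromZeroRingHom 𝒜 (Submonoid.powers (t : R))) ≫ Spec.preimage ι₁ := by
      ext x; rfl
    rw [e1, Spec.map_comp, Spec.map_preimage, ← hι₁, Category.assoc, Proj.awayι_toSpecZero]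
  let α : A →+* O := (Spec.preimage i₂).hom
  have hα : i₂ = Spec.map (CommRingCat.ofHom α) := by
    rw [CommRingCat.ofHom_hom, Spec.map_preimage]
  have hcomm : β.comp φ = (algebraMap O K).comp α := by
    have h1 := w.w
    rw [← Category.assoc, hβ, hα, ← Spec.map_comp, ← Spec.map_comp] at h1
    have h2 := Spec.map_injective h1
    exact congrArg CommRingCat.Hom.hom h2
  have hint : ∀ b : 𝒜 0, β b ∈ (algebraMap O K).range := by
    intro b
    obtain ⟨P, hP, hPt⟩ := exists_monic_annihilator h b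
    have hz : fromZeroRingHom 𝒜 (Submonoid.powers (t : R)) (P.eval₂ φ b) = 0 :=
      fromZero_eq_zero _ (hPt t t.2)
    have hroot : (P.map α).eval₂ (algebraMap O K) (β b) = 0 := by
      rw [Polynomial.eval₂_map, ← hcomm, ← Polynomial.hom_eval₂]
      change φK (fromZeroRingHom 𝒜 (Submonoid.powers (t : R)) (P.eval₂ φ b)) = 0
      rw [hz, map_zero]
    have hI : IsIntegral O (β b) := ⟨P.map α, hP.map α, hroot⟩
    exact IsIntegrallyClosed.isIntegral_iff.mp hI
  have hle : β.range ≤ (algebraMap O K).range := by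
    rintro _ ⟨b, rfl⟩
    exact hint b
  let e : O ≃+* (algebraMap O K).range :=
    (AlgEquiv.ofInjective (Algebra.ofId O K) (IsFractionRing.injective _ _)).toRingEquiv
  let ψ : 𝒜 0 →+* O := e.symm.toRingHom.comp ((Subring.inclusion hle).comp β.rangeRestrict)
  have hψ : (algebraMap O K).comp ψ = β := by
    ext x
    exact congr_arg Subtype.val (e.apply_symm_apply _)
  have hψφ : ψ.comp φ = α := by
    ext a
    apply IsFractionRing.injective O K
    have h1 := congrArg (fun f => f a) hcomm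
    have h2 := congrArg (fun f => f (φ a)) hψ
    exact h2.trans h1
  have sq : CommSq i₁ (Spec.map (CommRingCat.ofHom (algebraMap O K))) (Proj.toSpecZero 𝒜)
      (Spec.map (CommRingCat.ofHom ψ)) :=
    ⟨by rw [hβ, ← Spec.map_comp, ← CommRingCat.ofHom_comp, hψ]⟩
  obtain ⟨⟨l, hl1, hl2⟩⟩ := Proj.valuativeCriterion_existence 𝒜 ⟨O, K, i₁, _, sq⟩
  refine ⟨⟨l, hl1, ?_⟩⟩
  rw [← Category.assoc, hl2, ← Spec.map_comp, ← CommRingCat.ofHom_comp, hψφ, ← hα]

theorem isProper_comp {T : Finset R} (h : Hyp 𝒜 φ T) :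
    IsProper (Proj.toSpecZero 𝒜 ≫ Spec.map (CommRingCat.ofHom φ)) := by
  haveI := finiteType h
  haveI : LocallyOfFiniteType (Proj.toSpecZero 𝒜 ≫ Spec.map (CommRingCat.ofHom φ)) :=
    locallyOfFiniteType h
  haveI : QuasiCompact (Proj.toSpecZero 𝒜 ≫ Spec.map (CommRingCat.ofHom φ)) := inferInstance
  haveI : IsSeparated (Proj.toSpecZero 𝒜 ≫ Spec.map (CommRingCat.ofHom φ)) := inferInstance
  haveI : UniversallyClosed (Proj.toSpecZero 𝒜 ≫ Spec.map (CommRingCat.ofHom φ)) :=
    UniversallyClosed.of_valuativeCriterion _ (valuativeCriterion_existence h)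
  exact {}

end alg

section global

variable {S : Scheme.{u}} {𝒮 : RelProj.QCGrAlg S} {P : Scheme.{u}} {p : P ⟶ S}
  {chart : ∀ (U : S.Opens) (hU : IsAffineOpen U),
    (((p ⁻¹ᵁ U : P.Opens) : Scheme.{u}) ≅ Proj (𝒮.deg U hU))}

/-- the relative homogeneous spectrum of an algebra generated in degree one with degree one part
of finite type is proper. -/
theorem isProper_of_isRelProj (hgen : 𝒮.IsGenDegOne) (hft : 𝒮.IsFTDeg 1)
    (hP : RelProj.IsRelProj 𝒮 p chart) : IsProper p := by
  have hcov : ⨆ U : S.affineOpens, U.1 = ⊤ := by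
    rw [eq_top_iff]
    intro x _
    obtain ⟨_, ⟨U, hU, rfl⟩, hxU, -⟩ :=
      S.isBasis_affineOpens.exists_subset_of_mem_open (Set.mem_univ x) isOpen_univ
    exact TopologicalSpace.Opens.mem_iSup.mpr ⟨⟨U, hU⟩, hxU⟩
  rw [IsZariskiLocalAtTarget.iff_of_iSup_eq_top (P := @IsProper) (fun U : S.affineOpens => U.1) hcov]
  intro U
  obtain ⟨T, hTsub, hTspan⟩ := hft U.1 U.2
  have hyp : Hyp (𝒮.deg U.1 U.2) (𝒮.strZero U.1 U.2).hom T := ⟨hgen U.1 U.2, hTsub, hTspan⟩
  haveI := isProper_comp hyp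
  have e : p ∣_ U.1 = (chart U.1 U.2).hom ≫ (Proj.toSpecZero (𝒮.deg U.1 U.2) ≫
      Spec.map (CommRingCat.ofHom (𝒮.strZero U.1 U.2).hom)) ≫ U.2.isoSpec.inv := by
    rw [← cancel_mono U.1.ι, morphismRestrict_ι]
    simp only [Category.assoc, IsAffineOpen.isoSpec_inv_ι, CommRingCat.ofHom_hom]
    exact (hP.chart_over U.1 U.2).symm
  rw [e]
  infer_instance

/-- **a projective morphism is quasi-projective and proper.** -/
theorem main {X Y : Scheme.{u}} (f : X ⟶ Y) (hf : RelProj.IsProjective f) :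
    RelProj.IsQuasiProjective f ∧ IsProper f := by
  obtain ⟨𝒮, P, p, chart, e, hgen, hft, hP, hef⟩ := hf
  have hproper : IsProper f := by
    haveI := isProper_of_isRelProj hgen hft hP
    rw [← hef]
    infer_instance
  obtain ⟨L, lam, hL⟩ := Groth.Agent.Helper28.RelSys.exists_isRelTwist hP ((1 : ℕ) : ℤ)
  have hamp : RelAmple.IsRelAmple p L :=
    Groth.Agent.Helper28.RelSys.isRelAmple_of_finite_cover one_pos
      (fun V => Groth.Agent.Helper28.RelSys.exists_finite_cover_deg_one hgen hft V) hL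
  have h2 := Groth.Agent.Helper28.YBlowSup.isRelAmple_pullback_of_isAffineHom e.hom p L hamp
  rw [hef] at h2
  exact ⟨⟨inferInstance, inferInstance, _, h2⟩, hproper⟩

end global

end Groth.Agent.Helper28.RelProjProper

end
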