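import Mathlib
import Groth.Agent.Lib.Helper28.RelTildePair

/-!
# The multiplication `ℳ(k)~ ⊗ O_P(n) ⟶ ℳ(k+n)~` on a relative `Proj` is an isomorphism
where `O_P(n)` is trivialised by a homogeneous element of degree `± n` (helper28)
-/

set_option autoImplicit false
universe u
open CategoryTheory CategoryTheory.Limits AlgebraicGeometry Opposite TopologicalSpace
open scoped HomogeneousIdeal

noncomputable section

namespace Groth.Agent.Helper28.RelSys

open ChartGlue GrTwist GrTwistMul GrTwistTensor GrModTensor Groth.Agent.Helper13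

variable {S : Scheme.{u}} {𝒮 : RelProj.QCGrAlg S} {P : Scheme.{u}} {p : P ⟶ S}
  {chart : ∀ (U : S.Opens) (hU : IsAffineOpen U),
    (((p ⁻¹ᵁ U : P.Opens) : Scheme.{u}) ≅ Proj (𝒮.deg U hU))}
  {ℳ : RelProj.GrModule 𝒮}

variable (hP : RelProj.IsRelProj 𝒮 p chart) {k n k' : ℤ} (h : k' = k + n)
  {F : P.Modules}
  {lam : ∀ (U : S.Opens) (hU : IsAffineOpen U),
    F ⟶ (Scheme.Modules.pushforward (RelProj.emb p chart U hU)).obj
      (GrMod.tilde (𝒮.deg U hU) (ℳ.deg U hU) k)}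
  (hF : RelProj.IsRelTilde 𝒮 p chart ℳ k F lam)
  {L : P.Modules}
  {lamL : ∀ (U : S.Opens) (hU : IsAffineOpen U),
    L ⟶ (Scheme.Modules.pushforward (RelProj.emb p chart U hU)).obj
      (GrTwist.twist (𝒮.deg U hU) n)}
  (hL : RelProj.IsRelTwist 𝒮 p chart n L lamL)
  {F' : P.Modules}
  {lam' : ∀ (U : S.Opens) (hU : IsAffineOpen U),
    F' ⟶ (Scheme.Modules.pushforward (RelProj.emb p chart U hU)).obj
      (GrMod.tilde (𝒮.deg U hU) (ℳ.deg U hU) k')}
  (hF' : RelProj.IsRelTilde 𝒮 p chart ℳ k' F' lam')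

/-- on a chart, the glued multiplication is the multiplication of the graded module. -/
theorem pairT_square (V : Aff S) :
    Tensor.restrictHom (RelProj.emb p chart V.1 V.2) F L ≫
      (Scheme.Modules.restrictFunctor (RelProj.emb p chart V.1 V.2)).map
        (pairHomT hP h hF hL hF') ≫ (restrictIsoT hF' V.1 V.2).hom =
    Tensor.map (restrictIsoT hF V.1 V.2).hom (RelTwist.restrictIso hL V.1 V.2).hom ≫
      mulTensorHomT (𝒮.deg V.1 V.2) (ℳ.deg V.1 V.2) h := by
  apply Tensor.hom_ext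
  intro V' s t
  have hle : RelProj.emb p chart V.1 V.2 ''ᵁ V' ≤ p ⁻¹ᵁ V.1 :=
    RelTwist.image_emb_le p chart V.1 V.2 V'
  have e1 : (Tensor.restrictHom (RelProj.emb p chart V.1 V.2) F L).app V'
      (Tensor.tmul (F.restrict (RelProj.emb p chart V.1 V.2))
        (L.restrict (RelProj.emb p chart V.1 V.2)) s t) =
      Tensor.tmul F L (show Γ(F, RelProj.emb p chart V.1 V.2 ''ᵁ V') from s)
        (show Γ(L, RelProj.emb p chart V.1 V.2 ''ᵁ V') from t) :=
    Tensor.restrictHom_app_tmul (RelProj.emb p chart V.1 V.2) F L s t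
  have e2 := pairHomT_app_tmul hP h hF hL hF' (RelProj.emb p chart V.1 V.2 ''ᵁ V')
    (show Γ(F, RelProj.emb p chart V.1 V.2 ''ᵁ V') from s)
    (show Γ(L, RelProj.emb p chart V.1 V.2 ''ᵁ V') from t)
  have e3 : (lam' V.1 V.2).app (RelProj.emb p chart V.1 V.2 ''ᵁ V')
      (pairSecT hP h hF hL hF' (show Γ(F, RelProj.emb p chart V.1 V.2 ''ᵁ V') from s)
        (show Γ(L, RelProj.emb p chart V.1 V.2 ''ᵁ V') from t)) =
      mulTT 𝒮 p chart ℳ h V (RelProj.emb p chart V.1 V.2 ''ᵁ V')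
        ((lam V.1 V.2).app (RelProj.emb p chart V.1 V.2 ''ᵁ V') s)
        ((lamL V.1 V.2).app (RelProj.emb p chart V.1 V.2 ''ᵁ V') t) := by
    have := pairSecT_spec hP h hF hL hF' (W := RelProj.emb p chart V.1 V.2 ''ᵁ V')
      (show Γ(F, RelProj.emb p chart V.1 V.2 ''ᵁ V') from s)
      (show Γ(L, RelProj.emb p chart V.1 V.2 ''ᵁ V') from t) V
      (RelProj.emb p chart V.1 V.2 ''ᵁ V') le_rfl hle
    rw [rl_self, rl_self, rl_self] at this
    exact this
  have e4 : (Tensor.map (restrictIsoT hF V.1 V.2).hom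
      (RelTwist.restrictIso hL V.1 V.2).hom ≫
        mulTensorHomT (𝒮.deg V.1 V.2) (ℳ.deg V.1 V.2) h).app V'
      (Tensor.tmul (F.restrict (RelProj.emb p chart V.1 V.2))
        (L.restrict (RelProj.emb p chart V.1 V.2)) s t) =
      mulSec₂T (𝒜 := 𝒮.deg V.1 V.2) (ℳ := ℳ.deg V.1 V.2) h (op V')
        ((restrictIsoT hF V.1 V.2).hom.app V' s)
        ((RelTwist.restrictIso hL V.1 V.2).hom.app V' t) := by
    rw [Scheme.Modules.Hom.comp_app, ConcreteCategory.comp_apply, Tensor.map_app_tmul,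
      mulTensorHomT_app_tmul]
  rw [e4]
  have e5 : (Tensor.restrictHom (RelProj.emb p chart V.1 V.2) F L ≫
      (Scheme.Modules.restrictFunctor (RelProj.emb p chart V.1 V.2)).map
        (pairHomT hP h hF hL hF') ≫ (restrictIsoT hF' V.1 V.2).hom).app V'
      (Tensor.tmul (F.restrict (RelProj.emb p chart V.1 V.2))
        (L.restrict (RelProj.emb p chart V.1 V.2)) s t) =
      (restrictIsoT hF' V.1 V.2).hom.app V'
        ((pairHomT hP h hF hL hF').app (RelProj.emb p chart V.1 V.2 ''ᵁ V')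
          ((Tensor.restrictHom (RelProj.emb p chart V.1 V.2) F L).app V'
            (Tensor.tmul (F.restrict (RelProj.emb p chart V.1 V.2))
              (L.restrict (RelProj.emb p chart V.1 V.2)) s t))) := rfl
  rw [e5, e1, e2, restrictIsoT_hom_app, e3, restrictIsoT_hom_app, restrictIso_hom_app]
  rfl

/-- the glued multiplication is bijective on sections over the image of an open of `D_+(G)`,
`deg G = ± n`. -/
theorem pairHomT_app_bijective_image (V : Aff S) {e : ℕ} {G : 𝒮.presheaf.obj (op V.1)}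
    (hG : G ∈ 𝒮.deg V.1 V.2 e) (hn : n = 0 + (e : ℤ) ∨ (0 : ℤ) = n + e)
    (V' : (Proj (𝒮.deg V.1 V.2)).Opens) (hV' : V' ≤ Proj.basicOpen (𝒮.deg V.1 V.2) G) :
    Function.Bijective
      ((pairHomT hP h hF hL hF').app (RelProj.emb p chart V.1 V.2 ''ᵁ V')) := by
  have hiso : IsIso ((Scheme.Modules.restrictFunctor V'.ι).map
      (mulTensorHomT (𝒮.deg V.1 V.2) (ℳ.deg V.1 V.2) h)) := by
    rcases hn with hn | hn
    · exact isIso_restrict_mulTensorHomT_pos _ _ hG hn h V' hV'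
    · exact isIso_restrict_mulTensorHomT_neg _ _ hG hn h V' hV'
  have hb := app_bijective_of_isIso_restrict _ V' hiso V' le_rfl
  have sq := pairT_square hP h hF hL hF' V
  have sqa : ∀ x, (restrictIsoT hF' V.1 V.2).hom.app V'
      ((pairHomT hP h hF hL hF').app (RelProj.emb p chart V.1 V.2 ''ᵁ V')
        ((Tensor.restrictHom (RelProj.emb p chart V.1 V.2) F L).app V' x)) =
      (mulTensorHomT (𝒮.deg V.1 V.2) (ℳ.deg V.1 V.2) h).app V'
        ((Tensor.map (restrictIsoT hF V.1 V.2).hom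
          (RelTwist.restrictIso hL V.1 V.2).hom).app V' x) := by
    intro x
    have := congrArg (fun φ => φ.app V' x) sq
    exact this
  have b1 := app_bijective_of_isIso (Tensor.restrictHom (RelProj.emb p chart V.1 V.2) F L) V'
  have b3 := app_bijective_of_isIso (restrictIsoT hF' V.1 V.2).hom V'
  haveI : IsIso (Tensor.map (restrictIsoT hF V.1 V.2).hom
      (RelTwist.restrictIso hL V.1 V.2).hom) := by
    change IsIso (Tensor.mapIso (restrictIsoT hF V.1 V.2)
      (RelTwist.restrictIso hL V.1 V.2)).hom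
    infer_instance
  have b4 := app_bijective_of_isIso (Tensor.map (restrictIsoT hF V.1 V.2).hom
      (RelTwist.restrictIso hL V.1 V.2).hom) V'
  have hc : Function.Bijective ((fun z => (restrictIsoT hF' V.1 V.2).hom.app V'
      ((pairHomT hP h hF hL hF').app (RelProj.emb p chart V.1 V.2 ''ᵁ V') z)) ∘
      ((Tensor.restrictHom (RelProj.emb p chart V.1 V.2) F L).app V')) := by
    have e : ((fun z => (restrictIsoT hF' V.1 V.2).hom.app V'
        ((pairHomT hP h hF hL hF').app (RelProj.emb p chart V.1 V.2 ''ᵁ V') z)) ∘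
        ((Tensor.restrictHom (RelProj.emb p chart V.1 V.2) F L).app V')) =
        fun x => (mulTensorHomT (𝒮.deg V.1 V.2) (ℳ.deg V.1 V.2) h).app V'
          ((Tensor.map (restrictIsoT hF V.1 V.2).hom
            (RelTwist.restrictIso hL V.1 V.2).hom).app V' x) := funext sqa
    rw [e]
    exact hb.comp b4
  have hc2 := (Function.Bijective.of_comp_iff _ b1).1 hc
  exact (Function.Bijective.of_comp_iff' b3 _).1 hc2

theorem pairHomT_app_bijective (V : Aff S) {e : ℕ} {G : 𝒮.presheaf.obj (op V.1)}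
    (hG : G ∈ 𝒮.deg V.1 V.2 e) (hn : n = 0 + (e : ℤ) ∨ (0 : ℤ) = n + e) (W : P.Opens)
    (hW : W ≤ RelProj.emb p chart V.1 V.2 ''ᵁ Proj.basicOpen (𝒮.deg V.1 V.2) G) :
    Function.Bijective ((pairHomT hP h hF hL hF').app W) := by
  have e1 : W = RelProj.emb p chart V.1 V.2 ''ᵁ (RelProj.emb p chart V.1 V.2 ⁻¹ᵁ W) := by
    rw [Scheme.Hom.image_preimage_eq_opensRange_inf]
    exact (inf_eq_right.2 (hW.trans (Scheme.Hom.image_le_opensRange _ _))).symm
  have e2 : RelProj.emb p chart V.1 V.2 ⁻¹ᵁ W ≤ Proj.basicOpen (𝒮.deg V.1 V.2) G := by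
    have := (RelProj.emb p chart V.1 V.2).preimage_mono hW
    rwa [Scheme.Hom.preimage_image_eq] at this
  obtain ⟨V', hV', rfl⟩ : ∃ V' : (Proj (𝒮.deg V.1 V.2)).Opens,
      V' ≤ Proj.basicOpen (𝒮.deg V.1 V.2) G ∧ W = RelProj.emb p chart V.1 V.2 ''ᵁ V' :=
    ⟨_, e2, e1⟩
  exact pairHomT_app_bijective_image hP h hF hL hF' V hG hn V' hV'

theorem exists_nhds_bijectiveT (x : P) (hx : CovAt 𝒮 p chart n x) :
    ∃ V₀ : P.Opens, x ∈ V₀ ∧
      ∀ W : P.Opens, W ≤ V₀ → Function.Bijective ((pairHomT hP h hF hL hF').app W) := by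
  obtain ⟨V, e, G, y, hG, rfl, hGy, hn⟩ := hx
  refine ⟨RelProj.emb p chart V.1 V.2 ''ᵁ Proj.basicOpen (𝒮.deg V.1 V.2) G,
    ⟨y, (Proj.mem_basicOpen (𝒮.deg V.1 V.2) G y).2 hGy, rfl⟩, fun W hW => ?_⟩
  exact pairHomT_app_bijective hP h hF hL hF' V hG hn W hW

/-- the glued multiplication `ℳ(k)~ ⊗ O_P(n) ⟶ ℳ(k+n)~` is an isomorphism when `O_P(n)` is
everywhere trivialised by a homogeneous element of degree `± n`. -/
theorem isIso_pairHomT (hcov : ∀ x : P, CovAt 𝒮 p chart n x) :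
    IsIso (pairHomT hP h hF hL hF') :=
  isIso_of_locally_bijective _ (fun x => exists_nhds_bijectiveT hP h hF hL hF' x (hcov x))

/-- the restricted version. -/
theorem isIso_restrict_pairHomT (U : P.Opens) (hcov : ∀ x ∈ U, CovAt 𝒮 p chart n x) :
    IsIso ((Scheme.Modules.restrictFunctor U.ι).map (pairHomT hP h hF hL hF')) := by
  apply isIso_of_locally_bijective
  intro x'
  have hxU : U.ι.base x' ∈ U := x'.2
  obtain ⟨V₀, hx, hV₀⟩ := exists_nhds_bijectiveT hP h hF hL hF' (U.ι.base x') (hcov _ hxU)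
  refine ⟨U.ι ⁻¹ᵁ V₀, hx, fun V'' hV'' => ?_⟩
  exact hV₀ (U.ι ''ᵁ V'') (by
    rintro _ ⟨z, hz, rfl⟩
    exact hV'' hz)

end Groth.Agent.Helper28.RelSys

end
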