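import Mathlib
import Groth.Agent.Lib.Helper28.GrModTN
import Groth.Agent.Lib.Helper28.RelTildePair2
import Groth.Agent.Lib.Helper13.QCoh

/-!
# (TF) and `ℳ~ = 0` imply (TN) on a relative `Proj` over a quasi-compact base (helper28)
-/

set_option autoImplicit false
universe u
open CategoryTheory CategoryTheory.Limits AlgebraicGeometry Opposite TopologicalSpace
open scoped HomogeneousIdeal

noncomputable section

namespace Groth.Agent.Helper28.RelSys

open ChartGlue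

variable {S : Scheme.{u}} {𝒮 : RelProj.QCGrAlg S}

/-- the underlying module over the structure sheaf of a graded module. -/
abbrev osMod (ℳ : RelProj.GrModule 𝒮) : S.Modules := (AMod.toOS 𝒮.toQCAlg).obj ℳ.mod

section base

variable (ℳ : RelProj.GrModule 𝒮)

/-- a section of the graded module, as a section of the underlying module over the structure
sheaf. -/
def toSec {U : S.Opens} (t : ℳ.mod.val.obj (op U)) : Γ(osMod ℳ, U) := t

/-- restriction of sections of the graded module. -/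
def resM {U V : S.Opens} (i : V ≤ U) (t : ℳ.mod.val.obj (op U)) : ℳ.mod.val.obj (op V) :=
  (ℳ.mod.val.map (homOfLE i).op).hom t

lemma res_eq_resM {U V : S.Opens} (hU : IsAffineOpen U) (hV : IsAffineOpen V) (i : V ≤ U)
    (t : ℳ.mod.val.obj (op U)) : ℳ.res hU hV i t = resM ℳ i t := rfl

lemma toSec_res {U V : S.Opens} (i : V ≤ U) (t : ℳ.mod.val.obj (op U)) :
    rs (osMod ℳ) i (toSec ℳ t) = toSec ℳ (resM ℳ i t) := rfl

lemma toSec_smul {U : S.Opens} (r : Γ(S, U)) (t : ℳ.mod.val.obj (op U)) :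
    r • toSec ℳ t = toSec ℳ (((𝒮.str.app (op U)).hom r) • t) := rfl

lemma toSec_zero {U : S.Opens} : toSec ℳ (0 : ℳ.mod.val.obj (op U)) = 0 := rfl

lemma toSec_eq_zero {U : S.Opens} {t : ℳ.mod.val.obj (op U)} (h : toSec ℳ t = 0) : t = 0 := h

/-- over a basic open of an affine open, the vanishing of the pieces of large degree is
inherited (quasi-coherence of the underlying module). -/
theorem tn_basicOpen (hℳ : Coh.IsQCoh (osMod ℳ)) {U : S.Opens} (hU : IsAffineOpen U)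
    (r : Γ(S, U)) {N : ℕ} (hN : ∀ k, N ≤ k → ∀ m ∈ ℳ.deg U hU k, m = 0)
    (W : S.Opens) (hW : IsAffineOpen W) (hWr : W = S.basicOpen r) :
    ∀ k, N ≤ k → ∀ m ∈ ℳ.deg W hW k, m = 0 := by
  subst hWr
  intro k hk m hm
  haveI : (osMod ℳ).IsQuasicoherent := hℳ
  obtain ⟨l, t, ht⟩ := Groth.Agent.Helper13.QCoh.exists_pow_smul_eq_res (osMod ℳ) hU r
    (toSec ℳ m)
  let t' : ℳ.mod.val.obj (op U) := t
  let u : Γ(S, S.basicOpen r) := S.presheaf.map (homOfLE (S.basicOpen_le r)).op r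
  have hu : IsUnit u := RingedSpace.isUnit_res_basicOpen _ r
  -- the restriction of `t'` is `str (u^l) • m`
  have ht' : resM ℳ (S.basicOpen_le r) t' =
      ((𝒮.str.app (op (S.basicOpen r))).hom (u ^ l)) • m := ht
  -- it is homogeneous of degree `k`
  have hmem : ((𝒮.str.app (op (S.basicOpen r))).hom (u ^ l)) • m ∈
      ℳ.deg (S.basicOpen r) hW k := by
    have := SetLike.GradedSMul.smul_mem (A := 𝒮.deg (S.basicOpen r) hW)
      (B := ℳ.deg (S.basicOpen r) hW) (𝒮.str_mem (S.basicOpen r) hW (u ^ l)) hm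
    rwa [vadd_eq_add, zero_add] at this
  -- projection to degree `k` commutes with restriction
  have hdm := GrModTN.decompose_map (ℳ.deg U hU) (ℳ.deg (S.basicOpen r) hW)
    (ℳ.res hU hW (S.basicOpen_le r)).toAddMonoidHom
    (fun j x hx => ℳ.res_mem hU hW (S.basicOpen_le r) j x hx) t' k
  have hzero : ((DirectSum.decompose (ℳ.deg U hU) t' k : ℳ.deg U hU k) :
      ℳ.mod.val.obj (op U)) = 0 :=
    hN k hk _ (DirectSum.decompose (ℳ.deg U hU) t' k).2
  rw [hzero, map_zero] at hdm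
  have hdm' : ((DirectSum.decompose (ℳ.deg (S.basicOpen r) hW)
      (resM ℳ (S.basicOpen_le r) t') k :
        ℳ.deg (S.basicOpen r) hW k) : ℳ.mod.val.obj (op (S.basicOpen r))) = 0 := hdm
  rw [ht', DirectSum.decompose_of_mem_same _ hmem] at hdm'
  -- `u^l` is a unit
  have h3 : (u ^ l) • toSec ℳ m = 0 := hdm'
  exact toSec_eq_zero ℳ ((IsUnit.smul_eq_zero (M := Γ(osMod ℳ, S.basicOpen r)) (hu.pow l)).1 h3)

/-- a chartwise (TN) gives (TN) over a quasi-compact base, for a quasi-coherent graded module. -/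
theorem isTN_of_local [CompactSpace S] (hℳ : Coh.IsQCoh (osMod ℳ))
    (hloc : ∀ (U : S.Opens) (hU : IsAffineOpen U), ∃ N : ℕ,
      ∀ k, N ≤ k → ∀ m ∈ ℳ.deg U hU k, m = 0) : ℳ.IsTN := by
  classical
  choose Nf hNf using hloc
  have hcov : ∀ x : S, ∃ U : S.affineOpens, x ∈ (U.1 : S.Opens) := by
    intro x
    obtain ⟨_, ⟨V, hV, rfl⟩, hxV, -⟩ := S.isBasis_affineOpens.exists_subset_of_mem_open
      (Set.mem_univ x) isOpen_univ
    exact ⟨⟨V, hV⟩, hxV⟩
  obtain ⟨T, hT⟩ := isCompact_univ.elim_finite_subcover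
    (fun U : S.affineOpens => ((U.1 : S.Opens) : Set S)) (fun U => U.1.2)
    (fun x _ => by
      obtain ⟨U, hU⟩ := hcov x
      exact Set.mem_iUnion.2 ⟨U, hU⟩)
  refine ⟨T.sup (fun U => Nf U.1 U.2), fun V hV k hk m hm => ?_⟩
  apply toSec_eq_zero ℳ
  apply sec_ext
  intro x hxV
  have hx := hT (Set.mem_univ x)
  simp only [Set.mem_iUnion, exists_prop] at hx
  obtain ⟨U, hUT, hxU⟩ := hx
  obtain ⟨f, g, hfg, hxf⟩ := exists_basicOpen_le_affine_inter U.2 hV x ⟨hxU, hxV⟩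
  refine ⟨S.basicOpen g, S.basicOpen_le g, hfg ▸ hxf, ?_⟩
  have e0 : rs (osMod ℳ) (S.basicOpen_le g) (0 : Γ(osMod ℳ, V)) = 0 := map_zero _
  rw [toSec_res, e0]
  have hNU : Nf U.1 U.2 ≤ k :=
    le_trans (Finset.le_sup (f := fun U : S.affineOpens => Nf U.1 U.2) hUT) hk
  have := tn_basicOpen ℳ hℳ U.2 f (hNf U.1 U.2) (S.basicOpen g) (hV.basicOpen g) hfg.symm k hNU _
    (ℳ.res_mem hV (hV.basicOpen g) (S.basicOpen_le g) k m hm)
  rw [res_eq_resM] at this
  rw [this]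
  rfl

end base

variable {P : Scheme.{u}} {p : P ⟶ S}
  {chart : ∀ (U : S.Opens) (hU : IsAffineOpen U),
    (((p ⁻¹ᵁ U : P.Opens) : Scheme.{u}) ≅ Proj (𝒮.deg U hU))}
  {ℳ : RelProj.GrModule 𝒮} {k : ℤ} {F : P.Modules}
  {lam : ∀ (U : S.Opens) (hU : IsAffineOpen U),
    F ⟶ (Scheme.Modules.pushforward (RelProj.emb p chart U hU)).obj
      (GrMod.tilde (𝒮.deg U hU) (ℳ.deg U hU) k)}

/-- if the glued module is zero, so are all the sections of the chart modules. -/
theorem sections_zero_of_isZero (hF : RelProj.IsRelTilde 𝒮 p chart ℳ k F lam) (h0 : IsZero F)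
    (U : S.Opens) (hU : IsAffineOpen U) (V' : (Proj (𝒮.deg U hU)).Opens)
    (s : Γ(GrMod.tilde (𝒮.deg U hU) (ℳ.deg U hU) k, V')) : s = 0 := by
  have hb := app_bijective_of_isIso (restrictIsoT hF U hU).hom V'
  obtain ⟨t, rfl⟩ := hb.2 s
  have ht : t = 0 := by
    have h1 : (𝟙 F : F ⟶ F) = 0 := h0.eq_of_src _ _
    have h2 := congrArg (fun φ : F ⟶ F => φ.app (RelProj.emb p chart U hU ''ᵁ V')
      (show Γ(F, RelProj.emb p chart U hU ''ᵁ V') from t)) h1
    exact h2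
  rw [ht, map_zero]

/-- **(TF) and `ℳ~ = 0` imply (TN)**, over a quasi-compact base. -/
theorem isTN_of_isZero_relTilde [CompactSpace S] (hgen : 𝒮.IsGenDegOne) (hft : 𝒮.IsFTDeg 1)
    (hℳ : Coh.IsQCoh (osMod ℳ)) (hTF : ℳ.IsTF)
    {lam0 : ∀ (U : S.Opens) (hU : IsAffineOpen U),
      F ⟶ (Scheme.Modules.pushforward (RelProj.emb p chart U hU)).obj
        (GrMod.tilde (𝒮.deg U hU) (ℳ.deg U hU) 0)}
    (hF : RelProj.IsRelTilde 𝒮 p chart ℳ 0 F lam0) (h0 : IsZero F) : ℳ.IsTN := by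
  apply isTN_of_local ℳ hℳ
  intro U hU
  obtain ⟨n, hn⟩ := hTF
  obtain ⟨T, hTsub, hTgen⟩ := hft U hU
  refine GrModTN.tn_of_sections_zero (𝒮.deg U hU) (ℳ.deg U hU) (hgen U hU) T
    (fun t ht => hTsub ht) (fun x hx => ?_) ⟨n, hn U hU⟩
    (fun f _ s => sections_zero_of_isZero hF h0 U hU _ s)
  obtain ⟨c, hc⟩ := hTgen x hx
  rw [hc]
  exact Ideal.sum_mem _ (fun t ht => Ideal.mul_mem_left _ _ (Ideal.subset_span ht))

end Groth.Agent.Helper28.RelSys

end
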