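import Mathlib
import Groth.Prelude.Def_RelProj3
import Groth.Agent.Lib.Helper28.RelTildeSurj
import Groth.Agent.Lib.Helper6.GrModExactA
import Groth.Agent.Lib.Helper13.LocLift

/-!
# Exactness of `ℳ ↦ (ℳ(n))~` on the relative Proj (helper28)
-/

set_option autoImplicit false
universe u
open CategoryTheory CategoryTheory.Limits AlgebraicGeometry Opposite TopologicalSpace DirectSum
open scoped HomogeneousIdeal

noncomputable section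

namespace Groth.Agent.Helper28.RelSys

open ChartGlue Groth.Agent.Helper6.GrModFrac

section General

variable {X : Scheme.{u}}

theorem exact_of_locally {A B C : X.Modules} (a : A ⟶ B) (b : B ⟶ C) (w : a ≫ b = 0)
    (h : ∀ (V : X.Opens) (t : Γ(B, V)), b.app V t = 0 → ∀ y : X, y ∈ V →
      ∃ (W : X.Opens) (hW : W ≤ V), y ∈ W ∧ ∃ s : Γ(A, W), a.app W s = rs B hW t) :
    (ShortComplex.mk a b w).Exact := by
  rw [ShortComplex.exact_iff_epi_kernel_lift]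
  apply epi_of_locally_surjective
  intro V t₀ y hy
  have h0 : b.app V ((kernel.ι b).app V t₀) = 0 := by
    change ((kernel.ι b ≫ b).app V) t₀ = 0
    rw [kernel.condition]
    rfl
  obtain ⟨W, hW, hyW, s, hs⟩ := h V _ h0 y hy
  refine ⟨W, hW, hyW, s, ?_⟩
  apply Groth.Agent.Helper13.LocLift.app_injective_of_mono (kernel.ι b) W
  rw [app_rs, ← hs]
  change ((kernel.lift b a w ≫ kernel.ι b).app W) s = _
  rw [kernel.lift_ι]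

end General

section Alg

variable {A σ : Type u} [CommRing A] [SetLike σ A] [AddSubgroupClass σ A] (𝒜 : ℕ → σ) [GradedRing 𝒜]
variable {M τ : Type u} [AddCommGroup M] [Module A M] [SetLike τ M] [AddSubgroupClass τ M]
  (ℳ : ℕ → τ) [SetLike.GradedSMul 𝒜 ℳ]
variable {N τ' : Type u} [AddCommGroup N] [Module A N] [SetLike τ' N] [AddSubgroupClass τ' N]
  (𝒩 : ℕ → τ') [SetLike.GradedSMul 𝒜 𝒩]
variable (u : M →ₗ[A] N) (hu : ∀ (i : ℕ) (m : M), m ∈ ℳ i → u m ∈ 𝒩 i)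

include hu in
theorem local_lift_core (n : ℤ) (V₀ : Opens (ProjectiveSpectrum.top 𝒜))
    (b : GrMod.sect 𝒜 𝒩 n (op V₀)) (x : ProjectiveSpectrum 𝒜)
    (V'' : Opens (ProjectiveSpectrum.top 𝒜)) (hxV : x ∈ V'') (hV'' : V'' ≤ V₀) {i j : ℕ}
    (n' : N) (t' : A) (ht' : t' ∈ 𝒜 j) (nin : ∀ z : V'', t' ∉ z.1.asHomogeneousIdeal)
    (hij : (i : ℤ) = j + n)
    (w : ∀ z : V'', (b.1 ⟨z.1, hV'' z.2⟩).1 = LocalizedModule.mk n' ⟨t', nin z⟩) {k : ℕ} (c : A)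
    (hc : c ∈ 𝒜 k) (hcx : c ∉ x.asHomogeneousIdeal) (m : M) (hm : m ∈ ℳ (k + i))
    (hum : u m = c • n') :
    ∃ (V₁ : Opens (ProjectiveSpectrum.top 𝒜)) (hV : V₁ ≤ V₀), x ∈ V₁ ∧
      ∃ a : GrMod.sect 𝒜 ℳ n (op V₁),
        ∀ z : V₁, GrMod.locMap u z.1 (a.1 z).1 = (b.1 ⟨z.1, hV z.2⟩).1 := by
  have hgt : c * t' ∈ 𝒜 (k + j) := SetLike.mul_mem_graded hc ht'
  have nin' : ∀ z : (V'' ⊓ ProjectiveSpectrum.basicOpen 𝒜 c : Opens (ProjectiveSpectrum.top 𝒜)),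
      (c * t') ∉ z.1.asHomogeneousIdeal := by
    intro z hin
    have hprime : z.1.asHomogeneousIdeal.toIdeal.IsPrime := z.1.isPrime
    rcases hprime.mem_or_mem hin with h1 | h1
    · exact ((ProjectiveSpectrum.mem_basicOpen 𝒜 c z.1).1 z.2.2) h1
    · exact nin ⟨z.1, z.2.1⟩ h1
  have hdeg : ((k + i : ℕ) : ℤ) = ((k + j : ℕ) : ℤ) + n := by
    push_cast
    omega
  refine ⟨V'' ⊓ ProjectiveSpectrum.basicOpen 𝒜 c, fun z hz => hV'' hz.1,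
    ⟨hxV, (ProjectiveSpectrum.mem_basicOpen 𝒜 c x).2 hcx⟩,
    fracSec 𝒜 ℳ n _ ⟨m, hm⟩ ⟨c * t', hgt⟩ nin' hdeg, ?_⟩
  intro z
  have hw : (b.1 ⟨z.1, hV'' z.2.1⟩).1 = LocalizedModule.mk n' ⟨t', nin ⟨z.1, z.2.1⟩⟩ :=
    w ⟨z.1, z.2.1⟩
  change GrMod.locMap u z.1 (LocalizedModule.mk m ⟨c * t', nin' z⟩) = _
  rw [GrMod.locMap_mk, hum]
  refine Eq.trans ?_ hw.symm
  rw [LocalizedModule.mk_eq]
  refine ⟨1, ?_⟩
  simp only [one_smul, Submonoid.smul_def]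
  rw [mul_smul, smul_comm]

variable {Q τ'' : Type u} [AddCommGroup Q] [Module A Q] [SetLike τ'' Q] [AddSubgroupClass τ'' Q]
  (𝒬 : ℕ → τ'') [SetLike.GradedSMul 𝒜 𝒬]
variable [DirectSum.Decomposition ℳ] [DirectSum.Decomposition 𝒩] [DirectSum.Decomposition 𝒬]
variable (v : N →ₗ[A] Q) (hv : ∀ (i : ℕ) (m : N), m ∈ 𝒩 i → v m ∈ 𝒬 i)

include hu hv in
theorem exists_local_lift_exact (hex : Function.Exact u v) (n : ℤ)
    (V₀ : Opens (ProjectiveSpectrum.top 𝒜)) (b : GrMod.sect 𝒜 𝒩 n (op V₀))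
    (hb : GrMod.mapApp (ℳ := 𝒩) (𝒩 := 𝒬) v hv n (op V₀) b = 0)
    (x : ProjectiveSpectrum 𝒜) (hx : x ∈ V₀) :
    ∃ (V₁ : Opens (ProjectiveSpectrum.top 𝒜)) (hV : V₁ ≤ V₀), x ∈ V₁ ∧
      ∃ a : GrMod.sect 𝒜 ℳ n (op V₁),
        ∀ z : V₁, GrMod.locMap u z.1 (a.1 z).1 = (b.1 ⟨z.1, hV z.2⟩).1 := by
  obtain ⟨V'', hxV, iV, i, j, ⟨n', hn'⟩, ⟨t', ht'⟩, nin, hor, w⟩ := b.2 ⟨x, hx⟩
  rcases hor with hij | h0
  · have h1 : GrMod.locMap v x (b.1 ⟨x, hx⟩).1 = 0 := congrArg (fun f => (f.1 ⟨x, hx⟩).1) hb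
    have hw : (b.1 ⟨x, hx⟩).1 = LocalizedModule.mk n' ⟨t', nin ⟨x, hxV⟩⟩ := w ⟨x, hxV⟩
    rw [hw, GrMod.locMap_mk, ← LocalizedModule.zero_mk 1, LocalizedModule.mk_eq] at h1
    obtain ⟨c, hc⟩ := h1
    have hc0 : (c : A) • v n' = 0 := by
      have := hc
      simp only [one_smul, smul_zero] at this
      exact this
    obtain ⟨k, hk⟩ := exists_component_nmem 𝒜 x c c.2
    have hck : (decompose 𝒜 (c : A) k : A) • v n' = 0 :=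
      mem_ann.1 (ann_isHomogeneous 𝒜 𝒬 (hv i n' hn') k (mem_ann.2 hc0))
    have hv0 : v ((decompose 𝒜 (c : A) k : A) • n') = 0 := by rw [map_smul, hck]
    obtain ⟨m₁', hm₁'⟩ := (hex _).1 hv0
    have hmem : (decompose 𝒜 (c : A) k : A) • n' ∈ 𝒩 (k + i) :=
      SetLike.GradedSMul.smul_mem (decompose 𝒜 (c : A) k).2 hn'
    have hum : u (decompose ℳ m₁' (k + i) : M) = (decompose 𝒜 (c : A) k : A) • n' := by
      rw [← map_proj ℳ 𝒩 u hu m₁' (k + i), hm₁']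
      exact DirectSum.decompose_of_mem_same 𝒩 hmem
    exact local_lift_core 𝒜 ℳ 𝒩 u hu n V₀ b x V'' hxV iV.le n' t' ht' nin hij w
      (decompose 𝒜 (c : A) k : A) (decompose 𝒜 (c : A) k).2 hk _ (decompose ℳ m₁' (k + i)).2 hum
  · refine ⟨V'', iV.le, hxV, 0, ?_⟩
    intro z
    have hw : (b.1 ⟨z.1, iV.le z.2⟩).1 = LocalizedModule.mk n' ⟨t', nin z⟩ := w z
    change (n' : N) = 0 at h0
    rw [h0, LocalizedModule.zero_mk] at hw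
    change GrMod.locMap u z.1 0 = _
    rw [hw]
    exact map_zero _

end Alg

variable {S : Scheme.{u}} {𝒮 : RelProj.QCGrAlg S} {P : Scheme.{u}} {p : P ⟶ S}
  {chart : ∀ (U : S.Opens) (hU : IsAffineOpen U),
    (((p ⁻¹ᵁ U : P.Opens) : Scheme.{u}) ≅ Proj (𝒮.deg U hU))}
  {ℳ₁ ℳ₂ ℳ₃ : RelProj.GrModule 𝒮}

/-- exactness of `ℳ ↦ (ℳ(n))~`. -/
theorem exact_tildeMap (u : ℳ₁.mod ⟶ ℳ₂.mod) (hu : RelProj.IsGrModHom u)
    (v : ℳ₂.mod ⟶ ℳ₃.mod) (hv : RelProj.IsGrModHom v)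
    (hex : ∀ (U : S.Opens) (_ : IsAffineOpen U),
      Function.Exact (u.val.app (op U)).hom (v.val.app (op U)).hom)
    (n : ℤ) {F₁ F₂ F₃ : P.Modules}
    {lam₁ : ∀ (U : S.Opens) (hU : IsAffineOpen U),
      F₁ ⟶ (Scheme.Modules.pushforward (RelProj.emb p chart U hU)).obj
        (GrMod.tilde (𝒮.deg U hU) (ℳ₁.deg U hU) n)}
    (hF₁ : RelProj.IsRelTilde 𝒮 p chart ℳ₁ n F₁ lam₁)
    {lam₂ : ∀ (U : S.Opens) (hU : IsAffineOpen U),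
      F₂ ⟶ (Scheme.Modules.pushforward (RelProj.emb p chart U hU)).obj
        (GrMod.tilde (𝒮.deg U hU) (ℳ₂.deg U hU) n)}
    (hF₂ : RelProj.IsRelTilde 𝒮 p chart ℳ₂ n F₂ lam₂)
    {lam₃ : ∀ (U : S.Opens) (hU : IsAffineOpen U),
      F₃ ⟶ (Scheme.Modules.pushforward (RelProj.emb p chart U hU)).obj
        (GrMod.tilde (𝒮.deg U hU) (ℳ₃.deg U hU) n)}
    (ut : F₁ ⟶ F₂) (hut : ∀ U : Aff S, ut ≫ lam₂ U.1 U.2 = thetaAt u hu n lam₁ U)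
    (vt : F₂ ⟶ F₃) (hvt : ∀ U : Aff S, vt ≫ lam₃ U.1 U.2 = thetaAt v hv n lam₂ U)
    (w : ut ≫ vt = 0) : (ShortComplex.mk ut vt w).Exact := by
  apply exact_of_locally
  intro V t ht y hy
  obtain ⟨U, hyU⟩ := cover p y
  have hyR : y ∈ (RelProj.emb p chart U.1 U.2).opensRange := by
    rw [RelTwist.opensRange_emb]; exact hyU
  obtain ⟨y', rfl⟩ := hyR
  have hb : GrMod.mapApp (uAt v U) (hv U.1 U.2) n
      (op (RelProj.emb p chart U.1 U.2 ⁻¹ᵁ (V ⊓ p ⁻¹ᵁ U.1)))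
      ((lam₂ U.1 U.2).app (V ⊓ p ⁻¹ᵁ U.1) (rs F₂ inf_le_left t)) = 0 := by
    change (thetaAt v hv n lam₂ U).app (V ⊓ p ⁻¹ᵁ U.1) (rs F₂ inf_le_left t) = 0
    rw [← hvt U]
    change (lam₃ U.1 U.2).app _ (vt.app _ (rs F₂ _ t)) = 0
    rw [app_rs, ht]
    simp only [map_zero]
  obtain ⟨V₁, hV₁, hxV₁, a, ha⟩ := exists_local_lift_exact (𝒮.deg U.1 U.2) (ℳ₁.deg U.1 U.2)
    (ℳ₂.deg U.1 U.2) (uAt u U) (hu U.1 U.2) (ℳ₃.deg U.1 U.2) (uAt v U) (hv U.1 U.2)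
    (hex U.1 U.2) n
    (RelProj.emb p chart U.1 U.2 ⁻¹ᵁ (V ⊓ p ⁻¹ᵁ U.1))
    ((lam₂ U.1 U.2).app (V ⊓ p ⁻¹ᵁ U.1) (rs F₂ inf_le_left t)) hb y' ⟨hy, hyU⟩
  have hWW₀ : RelProj.emb p chart U.1 U.2 ''ᵁ V₁ ≤ V ⊓ p ⁻¹ᵁ U.1 := by
    rintro _ ⟨z, hz, rfl⟩
    exact hV₁ hz
  have hle : RelProj.emb p chart U.1 U.2 ⁻¹ᵁ RelProj.emb p chart U.1 U.2 ''ᵁ V₁ ≤ V₁ :=
    le_of_eq ((RelProj.emb p chart U.1 U.2).preimage_image_eq V₁)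
  obtain ⟨s, hs⟩ := (hF₁.bijective U.1 U.2 (RelProj.emb p chart U.1 U.2 ''ᵁ V₁)
    (hWW₀.trans inf_le_right)).2
    (GrMod.res (𝒮.deg U.1 U.2) (ℳ₁.deg U.1 U.2) n (homOfLE hle).op a)
  refine ⟨RelProj.emb p chart U.1 U.2 ''ᵁ V₁, hWW₀.trans inf_le_left, ⟨y', hxV₁, rfl⟩, s, ?_⟩
  apply (hF₂.bijective U.1 U.2 (RelProj.emb p chart U.1 U.2 ''ᵁ V₁)
    (hWW₀.trans inf_le_right)).1
  have e1 : (lam₂ U.1 U.2).app _ (ut.app _ s) = (thetaAt u hu n lam₁ U).app _ s := by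
    rw [← hut U]; rfl
  rw [e1]
  have e2 : rs F₂ (hWW₀.trans inf_le_left) t = rs F₂ hWW₀ (rs F₂ inf_le_left t) :=
    (rs_rs F₂ _ _ t).symm
  rw [e2, app_rs]
  refine tilde_sec_ext _ _ n
    (V := RelProj.emb p chart U.1 U.2 ⁻¹ᵁ RelProj.emb p chart U.1 U.2 ''ᵁ V₁) _ _ (fun z => ?_)
  rw [thetaAt_val, hs]
  exact ha ⟨z.1, hle z.2⟩

end Groth.Agent.Helper28.RelSys

end
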