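import Mathlib
import Groth.Agent.Lib.Helper28.GrModLoc
import Groth.Agent.Lib.Helper28.RelTwistExist
import Groth.Agent.Lib.Helper28.RelTN

/-!
# Existence of the modules `ℳ(n)~` on a relative homogeneous spectrum (helper28)
-/

set_option autoImplicit false
universe u
open CategoryTheory CategoryTheory.Limits AlgebraicGeometry Opposite TopologicalSpace
open scoped HomogeneousIdeal

noncomputable section

namespace Groth.Agent.Helper28.RelSys.TE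

open ChartGlue GrTwist GrTwistMul Groth.Agent.Helper13 Groth.Agent.Helper28.GrModLoc

variable {S : Scheme.{u}} {𝒮 : RelProj.QCGrAlg S} {P : Scheme.{u}} {p : P ⟶ S}
  {chart : ∀ (U : S.Opens) (hU : IsAffineOpen U),
    (((p ⁻¹ᵁ U : P.Opens) : Scheme.{u}) ≅ Proj (𝒮.deg U hU))}
  {ℳ : RelProj.GrModule 𝒮}

/-! ### Localization facts for the restriction of the module to a basic open -/

lemma str_res (U : Aff S) (r : Γ(S, U.1)) : (𝒮.res U.2 (U.2.basicOpen r) (S.basicOpen_le r)) ((𝒮.str.app (op U.1)).hom r) = (𝒮.str.app (op (S.basicOpen r))).hom ((S.presheaf.map (homOfLE (S.basicOpen_le r)).op).hom r) := by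
  have := congrArg (fun k => k.hom r) (𝒮.str.naturality (homOfLE (S.basicOpen_le r)).op)
  exact this.symm

lemma resM_ker (hℳ : Coh.IsQCoh (osMod ℳ)) (U : Aff S) (r : Γ(S, U.1))
    (m : ℳ.mod.val.obj (op U.1)) (h : (ℳ.res U.2 (U.2.basicOpen r) (S.basicOpen_le r)) m = 0) : ∃ k : ℕ, ((𝒮.str.app (op U.1)).hom r) ^ k • m = 0 := by
  haveI : (osMod ℳ).IsQuasicoherent := hℳ
  obtain ⟨k, hk⟩ := Groth.Agent.Helper13.QCoh.exists_pow_smul_eq_zero (osMod ℳ) U.2 r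
    (toSec ℳ m) h
  refine ⟨k, ?_⟩
  have h2 : ((𝒮.str.app (op U.1)).hom (r ^ k)) • m = 0 := hk
  rwa [map_pow] at h2

lemma resM_lift (hℳ : Coh.IsQCoh (osMod ℳ)) (U : Aff S) (r : Γ(S, U.1)) (i : ℕ)
    (μ : ℳ.mod.val.obj (op (S.basicOpen r))) (hμ : μ ∈ (ℳ.deg (S.basicOpen r) (U.2.basicOpen r)) i) :
    ∃ (k : ℕ) (m : ℳ.mod.val.obj (op U.1)), m ∈ (ℳ.deg U.1 U.2) i ∧ (ℳ.res U.2 (U.2.basicOpen r) (S.basicOpen_le r)) m = (𝒮.res U.2 (U.2.basicOpen r) (S.basicOpen_le r)) ((𝒮.str.app (op U.1)).hom r) ^ k • μ := by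
  haveI : (osMod ℳ).IsQuasicoherent := hℳ
  obtain ⟨l, t, ht⟩ := Groth.Agent.Helper13.QCoh.exists_pow_smul_eq_res (osMod ℳ) U.2 r
    (toSec ℳ μ)
  obtain ⟨t', ht'def⟩ : ∃ t' : ℳ.mod.val.obj (op U.1), t' = t := ⟨t, rfl⟩
  have ht' : (ℳ.res U.2 (U.2.basicOpen r) (S.basicOpen_le r)) t' = ((𝒮.str.app (op (S.basicOpen r))).hom (((S.presheaf.map (homOfLE (S.basicOpen_le r)).op).hom r) ^ l)) • μ := by
    rw [ht'def]; exact ht
  have hmem : ((𝒮.str.app (op (S.basicOpen r))).hom (((S.presheaf.map (homOfLE (S.basicOpen_le r)).op).hom r) ^ l)) • μ ∈ (ℳ.deg (S.basicOpen r) (U.2.basicOpen r)) i := by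
    have := SetLike.GradedSMul.smul_mem (A := (𝒮.deg (S.basicOpen r) (U.2.basicOpen r))) (B := (ℳ.deg (S.basicOpen r) (U.2.basicOpen r)))
      (𝒮.str_mem (S.basicOpen r) (U.2.basicOpen r) (((S.presheaf.map (homOfLE (S.basicOpen_le r)).op).hom r) ^ l)) hμ
    rwa [vadd_eq_add, zero_add] at this
  have hdm := GrModTN.decompose_map (ℳ.deg U.1 U.2) (ℳ.deg (S.basicOpen r) (U.2.basicOpen r)) (ℳ.res U.2 (U.2.basicOpen r) (S.basicOpen_le r)).toAddMonoidHom (fun i m hm => ℳ.res_mem U.2 (U.2.basicOpen r) (S.basicOpen_le r) i m hm) t' i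
  have hdm' : ((DirectSum.decompose (ℳ.deg (S.basicOpen r) (U.2.basicOpen r)) ((ℳ.res U.2 (U.2.basicOpen r) (S.basicOpen_le r)) t') i : (ℳ.deg (S.basicOpen r) (U.2.basicOpen r)) i) :
      ℳ.mod.val.obj (op (S.basicOpen r))) =
      (ℳ.res U.2 (U.2.basicOpen r) (S.basicOpen_le r)) ((DirectSum.decompose (ℳ.deg U.1 U.2) t' i : (ℳ.deg U.1 U.2) i) : ℳ.mod.val.obj (op U.1)) := hdm
  rw [ht', DirectSum.decompose_of_mem_same _ hmem] at hdm'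
  refine ⟨l, ((DirectSum.decompose (ℳ.deg U.1 U.2) t' i : (ℳ.deg U.1 U.2) i) : ℳ.mod.val.obj (op U.1)),
    (DirectSum.decompose (ℳ.deg U.1 U.2) t' i).2, ?_⟩
  rw [← hdm', str_res U r, map_pow]

/-! ### The general transition relation -/

variable (𝒮 p chart ℳ) in
/-- the transition relation for a general pair of affine opens `D ≤ U`. -/
def relAt (n : ℤ) (U D : Aff S) (hle : D.1 ≤ U.1)
    (hirr : (𝒮.deg D.1 D.2)₊ ≤ ((𝒮.deg U.1 U.2)₊).map (𝒮.res U.2 D.2 hle)) (W : P.Opens)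
    (a : Γ(tdN 𝒮 p chart ℳ n U, W)) (b : Γ(tdN 𝒮 p chart ℳ n D, W)) : Prop :=
  ∀ (y : ProjectiveSpectrum (𝒮.deg D.1 D.2))
    (hy : (RelProj.emb p chart D.1 D.2).base y ∈ W)
    (hy' : (RelProj.emb p chart U.1 U.2).base
      (ProjectiveSpectrum.comap (𝒮.res U.2 D.2 hle) hirr y) ∈ W),
    GrMod.val (V := RelProj.emb p chart D.1 D.2 ⁻¹ᵁ W) b ⟨y, hy⟩ =
      GrMod.locModMap (𝒮.res U.2 D.2 hle) hirr (ℳ.res U.2 D.2 hle) y
        (GrMod.val (V := RelProj.emb p chart U.1 U.2 ⁻¹ᵁ W) a ⟨_, hy'⟩)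

lemma tildeRelAt_iff (n : ℤ) (U : Aff S) (r : Γ(S, U.1)) (W : P.Opens)
    (a : Γ((tdN 𝒮 p chart ℳ n U), W)) (b : Γ((tdN 𝒮 p chart ℳ n (bo U r)), W)) :
    tildeRelAt 𝒮 p chart ℳ n U r W a b ↔
      relAt 𝒮 p chart ℳ n U (bo U r) (S.basicOpen_le r) (𝒮.irrelevant_le_map U.1 U.2 r) W a b := Iff.rfl

lemma relAt_congr (n : ℤ) (U D D' : Aff S) (e : D = D') (hle : D.1 ≤ U.1)
    (hirr : (𝒮.deg D.1 D.2)₊ ≤ ((𝒮.deg U.1 U.2)₊).map (𝒮.res U.2 D.2 hle))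
    (hle' : D'.1 ≤ U.1)
    (hirr' : (𝒮.deg D'.1 D'.2)₊ ≤ ((𝒮.deg U.1 U.2)₊).map (𝒮.res U.2 D'.2 hle'))
    (W : P.Opens) (a : Γ(tdN 𝒮 p chart ℳ n U, W)) (b : Γ(tdN 𝒮 p chart ℳ n D, W))
    (b' : Γ(tdN 𝒮 p chart ℳ n D', W)) (hb : HEq b b')
    (h : relAt 𝒮 p chart ℳ n U D hle hirr W a b) :
    relAt 𝒮 p chart ℳ n U D' hle' hirr' W a b' := by
  subst e
  obtain rfl := eq_of_heq hb
  exact h

lemma rel_iff (hP : RelProj.IsRelProj 𝒮 p chart) (n : ℤ) (U : Aff S) (r : Γ(S, U.1))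
    (W : P.Opens) (a : Γ((tdN 𝒮 p chart ℳ n U), W)) (b : Γ((tdN 𝒮 p chart ℳ n (bo U r)), W)) :
    (tildeSys 𝒮 p chart ℳ hP n).Rel U (bo U r) W a b ↔ tildeRelAt 𝒮 p chart ℳ n U r W a b := by
  constructor
  · intro h
    exact h r rfl b HEq.rfl
  · intro h r' e b' hb'
    exact (tildeRelAt_iff n U r' W a b').2
      (relAt_congr n U (bo U r) (bo U r') e (S.basicOpen_le r) (𝒮.irrelevant_le_map U.1 U.2 r) (S.basicOpen_le r')
        (𝒮.irrelevant_le_map U.1 U.2 r') W a b b' hb' ((tildeRelAt_iff n U r W a b).1 h))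

section Main

variable (hP : RelProj.IsRelProj 𝒮 p chart)

/-! ### The transition map -/

/-- the transition map of the modules `ℳ(n)~` over a basic open. -/
def rho (n : ℤ) (U : Aff S) (r : Γ(S, U.1)) (W : P.Opens) (a : Γ((tdN 𝒮 p chart ℳ n U), W)) : Γ((tdN 𝒮 p chart ℳ n (bo U r)), W) :=
  GrMod.comapApp (𝒮.res U.2 (U.2.basicOpen r) (S.basicOpen_le r)) (𝒮.irrelevant_le_map U.1 U.2 r) (ℳ.res U.2 (U.2.basicOpen r) (S.basicOpen_le r)) (fun i m hm => ℳ.res_mem U.2 (U.2.basicOpen r) (S.basicOpen_le r) i m hm) n ((RelProj.emb p chart U.1 U.2) ⁻¹ᵁ W) ((RelProj.emb p chart (S.basicOpen r) (U.2.basicOpen r)) ⁻¹ᵁ W)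
    (fun y hy => emb_comap_mem hP U r W y hy) a

lemma tildeRelAt_iff_eq_rho (n : ℤ) (U : Aff S) (r : Γ(S, U.1)) (W : P.Opens)
    (a : Γ((tdN 𝒮 p chart ℳ n U), W)) (b : Γ((tdN 𝒮 p chart ℳ n (bo U r)), W)) :
    tildeRelAt 𝒮 p chart ℳ n U r W a b ↔ b = rho hP n U r W a := by
  constructor
  · intro h
    refine tilde_sec_ext (𝒮.deg (S.basicOpen r) (U.2.basicOpen r)) (ℳ.deg (S.basicOpen r) (U.2.basicOpen r)) n (V := (RelProj.emb p chart (S.basicOpen r) (U.2.basicOpen r)) ⁻¹ᵁ W) b _ (fun y => ?_)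
    exact h y.1 y.2 (emb_comap_mem hP U r W y.1 y.2)
  · rintro rfl y hy hy'
    rfl

lemma rho_zero (n : ℤ) (U : Aff S) (r : Γ(S, U.1)) (W : P.Opens) :
    rho hP n U r W (0 : Γ((tdN 𝒮 p chart ℳ n U), W)) = 0 :=
  map_zero (GrMod.comapApp (𝒮.res U.2 (U.2.basicOpen r) (S.basicOpen_le r)) (𝒮.irrelevant_le_map U.1 U.2 r) (ℳ.res U.2 (U.2.basicOpen r) (S.basicOpen_le r)) (fun i m hm => ℳ.res_mem U.2 (U.2.basicOpen r) (S.basicOpen_le r) i m hm) n ((RelProj.emb p chart U.1 U.2) ⁻¹ᵁ W) ((RelProj.emb p chart (S.basicOpen r) (U.2.basicOpen r)) ⁻¹ᵁ W)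
    (fun y hy => emb_comap_mem hP U r W y hy))

lemma rho_add (n : ℤ) (U : Aff S) (r : Γ(S, U.1)) (W : P.Opens) (a a' : Γ((tdN 𝒮 p chart ℳ n U), W)) :
    rho hP n U r W (a + a') = rho hP n U r W a + rho hP n U r W a' :=
  map_add (GrMod.comapApp (𝒮.res U.2 (U.2.basicOpen r) (S.basicOpen_le r)) (𝒮.irrelevant_le_map U.1 U.2 r) (ℳ.res U.2 (U.2.basicOpen r) (S.basicOpen_le r)) (fun i m hm => ℳ.res_mem U.2 (U.2.basicOpen r) (S.basicOpen_le r) i m hm) n ((RelProj.emb p chart U.1 U.2) ⁻¹ᵁ W) ((RelProj.emb p chart (S.basicOpen r) (U.2.basicOpen r)) ⁻¹ᵁ W)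
    (fun y hy => emb_comap_mem hP U r W y hy)) a a'

lemma rho_res (n : ℤ) (U : Aff S) (r : Γ(S, U.1)) {W W' : P.Opens} (hW : W' ≤ W)
    (a : Γ((tdN 𝒮 p chart ℳ n U), W)) :
    rs (tdN 𝒮 p chart ℳ n (bo U r)) hW (rho hP n U r W a) = rho hP n U r W' (rs (tdN 𝒮 p chart ℳ n U) hW a) :=
  Subtype.ext (funext fun y => Subtype.ext rfl)

lemma rho_smul (n : ℤ) (U : Aff S) (r : Γ(S, U.1)) (W : P.Opens) (c : Γ(P, W))
    (a : Γ((tdN 𝒮 p chart ℳ n U), W)) : rho hP n U r W (c • a) = c • rho hP n U r W a := by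
  have hUV : ((RelProj.emb p chart (S.basicOpen r) (U.2.basicOpen r)) ⁻¹ᵁ W).1 ⊆ ProjectiveSpectrum.comap (𝒮.res U.2 (U.2.basicOpen r) (S.basicOpen_le r)) (𝒮.irrelevant_le_map U.1 U.2 r) ⁻¹' ((RelProj.emb p chart U.1 U.2) ⁻¹ᵁ W).1 :=
    fun y hy => emb_comap_mem hP U r W y hy
  have e1 := GrMod.comapApp_smul (𝒮.res U.2 (U.2.basicOpen r) (S.basicOpen_le r)) (𝒮.irrelevant_le_map U.1 U.2 r) (ℳ.res U.2 (U.2.basicOpen r) (S.basicOpen_le r)) (fun i m hm => ℳ.res_mem U.2 (U.2.basicOpen r) (S.basicOpen_le r) i m hm) n ((RelProj.emb p chart U.1 U.2) ⁻¹ᵁ W) ((RelProj.emb p chart (S.basicOpen r) (U.2.basicOpen r)) ⁻¹ᵁ W) hUV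
    (show O (𝒜 := (𝒮.deg U.1 U.2)) (op ((RelProj.emb p chart U.1 U.2) ⁻¹ᵁ W)) from ((RelProj.emb p chart U.1 U.2).app W).hom c) a
  have e2 := scalar_compat (𝒮.res U.2 (U.2.basicOpen r) (S.basicOpen_le r)) (𝒮.irrelevant_le_map U.1 U.2 r) (RelProj.emb p chart U.1 U.2) (RelProj.emb p chart (S.basicOpen r) (U.2.basicOpen r)) (RelProj.map_res_emb hP U.1 U.2 r) W c ((RelProj.emb p chart (S.basicOpen r) (U.2.basicOpen r)) ⁻¹ᵁ W)
    le_rfl hUV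
  have hid : ((Proj (𝒮.deg (S.basicOpen r) (U.2.basicOpen r))).presheaf.map (homOfLE (le_refl ((RelProj.emb p chart (S.basicOpen r) (U.2.basicOpen r)) ⁻¹ᵁ W))).op) = 𝟙 _ :=
    (Proj (𝒮.deg (S.basicOpen r) (U.2.basicOpen r))).presheaf.map_id _
  have e3 : (show O (𝒜 := (𝒮.deg (S.basicOpen r) (U.2.basicOpen r))) (op ((RelProj.emb p chart (S.basicOpen r) (U.2.basicOpen r)) ⁻¹ᵁ W)) from
      ((Proj (𝒮.deg (S.basicOpen r) (U.2.basicOpen r))).presheaf.map (homOfLE (le_refl ((RelProj.emb p chart (S.basicOpen r) (U.2.basicOpen r)) ⁻¹ᵁ W))).op).hom (((RelProj.emb p chart (S.basicOpen r) (U.2.basicOpen r)).app W).hom c)) =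
      (show O (𝒜 := (𝒮.deg (S.basicOpen r) (U.2.basicOpen r))) (op ((RelProj.emb p chart (S.basicOpen r) (U.2.basicOpen r)) ⁻¹ᵁ W)) from ((RelProj.emb p chart (S.basicOpen r) (U.2.basicOpen r)).app W).hom c) :=
    congrArg (fun k => k.hom (((RelProj.emb p chart (S.basicOpen r) (U.2.basicOpen r)).app W).hom c)) hid
  refine e1.trans ?_
  exact congrArg (fun r' : O (𝒜 := (𝒮.deg (S.basicOpen r) (U.2.basicOpen r))) (op ((RelProj.emb p chart (S.basicOpen r) (U.2.basicOpen r)) ⁻¹ᵁ W)) =>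
    (r' • (GrMod.comapApp (𝒮.res U.2 (U.2.basicOpen r) (S.basicOpen_le r)) (𝒮.irrelevant_le_map U.1 U.2 r) (ℳ.res U.2 (U.2.basicOpen r) (S.basicOpen_le r)) (fun i m hm => ℳ.res_mem U.2 (U.2.basicOpen r) (S.basicOpen_le r) i m hm) n ((RelProj.emb p chart U.1 U.2) ⁻¹ᵁ W) ((RelProj.emb p chart (S.basicOpen r) (U.2.basicOpen r)) ⁻¹ᵁ W) hUV a) :
      GrMod.sect (𝒮.deg (S.basicOpen r) (U.2.basicOpen r)) (ℳ.deg (S.basicOpen r) (U.2.basicOpen r)) n (op ((RelProj.emb p chart (S.basicOpen r) (U.2.basicOpen r)) ⁻¹ᵁ W)))) (e2.symm.trans e3)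

/-! ### Properties of the transition relation -/

include hP in
lemma td_local (n : ℤ) (U : Aff S) (r : Γ(S, U.1)) (W : P.Opens) (a : Γ((tdN 𝒮 p chart ℳ n U), W))
    (b : Γ((tdN 𝒮 p chart ℳ n (bo U r)), W))
    (h : ∀ x ∈ W ⊓ p ⁻¹ᵁ (S.basicOpen r), ∃ (W' : P.Opens) (hW' : W' ≤ W), x ∈ W' ∧
      tildeRelAt 𝒮 p chart ℳ n U r W' (rs (tdN 𝒮 p chart ℳ n U) hW' a) (rs (tdN 𝒮 p chart ℳ n (bo U r)) hW' b)) :
    tildeRelAt 𝒮 p chart ℳ n U r W a b := by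
  unfold tildeRelAt
  intro y hy hy'
  have hyD : (RelProj.emb p chart (S.basicOpen r) (U.2.basicOpen r)).base y ∈ p ⁻¹ᵁ (S.basicOpen r) := by
    have h1 : (RelProj.emb p chart (S.basicOpen r) (U.2.basicOpen r)).base y ∈ (RelProj.emb p chart (S.basicOpen r) (U.2.basicOpen r)).opensRange := ⟨y, rfl⟩
    rw [RelTwist.opensRange_emb] at h1
    exact h1
  obtain ⟨W', hW', hxW', hrel⟩ := h _ ⟨hy, hyD⟩
  exact hrel y hxW' (emb_comap_mem hP U r W' y hxW')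

include hP in
lemma td_inj (hℳ : Coh.IsQCoh (osMod ℳ)) (n : ℤ) (U : Aff S) (r : Γ(S, U.1)) (W : P.Opens)
    (hW : W ≤ p ⁻¹ᵁ (S.basicOpen r)) (a a' : Γ((tdN 𝒮 p chart ℳ n U), W)) (b : Γ((tdN 𝒮 p chart ℳ n (bo U r)), W))
    (h : tildeRelAt 𝒮 p chart ℳ n U r W a b) (h' : tildeRelAt 𝒮 p chart ℳ n U r W a' b) :
    a = a' := by
  refine tilde_sec_ext (𝒮.deg U.1 U.2) (ℳ.deg U.1 U.2) n (V := (RelProj.emb p chart U.1 U.2) ⁻¹ᵁ W) a a' ?_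
  rintro ⟨x, hx⟩
  obtain ⟨y, rfl⟩ := exists_comap_eq hP U r W hW x hx
  have hy : (RelProj.emb p chart (S.basicOpen r) (U.2.basicOpen r)).base y ∈ W := by
    rw [← emb_comap hP U r y]; exact hx
  have e1 := h y hy hx
  have e2 := h' y hy hx
  exact locModMap_injective (𝒮.res U.2 (U.2.basicOpen r) (S.basicOpen_le r)) (𝒮.irrelevant_le_map U.1 U.2 r) (ℳ.res U.2 (U.2.basicOpen r) (S.basicOpen_le r)) ((𝒮.str.app (op U.1)).hom r)
    (Groth.Agent.Helper18.SymAlg.isUnit_res_str 𝒮 U.1 r)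
    (resM_ker hℳ U r) (res_surj_gen U r) y (e1.symm.trans e2)

include hP in
lemma td_surj_loc (hℳ : Coh.IsQCoh (osMod ℳ)) (n : ℤ) (U : Aff S) (r : Γ(S, U.1))
    (W : P.Opens) (hW : W ≤ p ⁻¹ᵁ (S.basicOpen r)) (b : Γ((tdN 𝒮 p chart ℳ n (bo U r)), W)) (x : P) (hx : x ∈ W) :
    ∃ (W' : P.Opens) (hW' : W' ≤ W), x ∈ W' ∧ ∃ a' : Γ((tdN 𝒮 p chart ℳ n U), W'),
      tildeRelAt 𝒮 p chart ℳ n U r W' a' (rs (tdN 𝒮 p chart ℳ n (bo U r)) hW' b) := by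
  have hxr : x ∈ (RelProj.emb p chart (S.basicOpen r) (U.2.basicOpen r)).opensRange := by
    rw [RelTwist.opensRange_emb]; exact hW hx
  obtain ⟨y₀, hy₀⟩ := hxr
  have hy₀W : (RelProj.emb p chart (S.basicOpen r) (U.2.basicOpen r)).base y₀ ∈ W := by rw [hy₀]; exact hx
  have hb : (GrMod.isLocFrac (𝒮.deg (S.basicOpen r) (U.2.basicOpen r)) (ℳ.deg (S.basicOpen r) (U.2.basicOpen r)) n).pred (b : GrMod.sect (𝒮.deg (S.basicOpen r) (U.2.basicOpen r)) (ℳ.deg (S.basicOpen r) (U.2.basicOpen r)) n (op ((RelProj.emb p chart (S.basicOpen r) (U.2.basicOpen r)) ⁻¹ᵁ W))).1 :=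
    (b : GrMod.sect (𝒮.deg (S.basicOpen r) (U.2.basicOpen r)) (ℳ.deg (S.basicOpen r) (U.2.basicOpen r)) n (op ((RelProj.emb p chart (S.basicOpen r) (U.2.basicOpen r)) ⁻¹ᵁ W))).2
  obtain ⟨V', hyV', iV, i, j, β, σ', nin, hor, w⟩ := hb ⟨y₀, hy₀W⟩
  have hW' : (RelProj.emb p chart (S.basicOpen r) (U.2.basicOpen r)) ''ᵁ V' ≤ W := by
    rintro _ ⟨y, hy, rfl⟩
    exact iV.le hy
  have hxW' : x ∈ (RelProj.emb p chart (S.basicOpen r) (U.2.basicOpen r)) ''ᵁ V' := ⟨y₀, hyV', hy₀⟩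
  have hV'of : ∀ y : ProjectiveSpectrum (𝒮.deg (S.basicOpen r) (U.2.basicOpen r)), (RelProj.emb p chart (S.basicOpen r) (U.2.basicOpen r)).base y ∈ (RelProj.emb p chart (S.basicOpen r) (U.2.basicOpen r)) ''ᵁ V' → y ∈ V' := by
    rintro y ⟨y', hy', e⟩
    have : y' = y := (RelProj.emb p chart (S.basicOpen r) (U.2.basicOpen r)).isOpenEmbedding.injective e
    rw [← this]; exact hy'
  refine ⟨(RelProj.emb p chart (S.basicOpen r) (U.2.basicOpen r)) ''ᵁ V', hW', hxW', ?_⟩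
  rcases hor with hab | hβ0
  · obtain ⟨m, s, hm, hs, hfrac⟩ := exists_lift_frac_mod (ℳ := (ℳ.deg U.1 U.2)) (𝒩 := (ℳ.deg (S.basicOpen r) (U.2.basicOpen r))) (𝒮.res U.2 (U.2.basicOpen r) (S.basicOpen_le r)) (𝒮.irrelevant_le_map U.1 U.2 r) (ℳ.res U.2 (U.2.basicOpen r) (S.basicOpen_le r)) ((𝒮.str.app (op U.1)).hom r)
      (𝒮.str_mem U.1 U.2 r)
      (Groth.Agent.Helper18.SymAlg.isUnit_res_str 𝒮 U.1 r)
      (fun i b hb => Groth.Agent.Helper18.SymAlg.exists_homogeneous_lift 𝒮 U.1 U.2 r i b hb)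
      (fun i μ hμ => resM_lift hℳ U r i μ hμ)
      (β : ℳ.mod.val.obj (op (S.basicOpen r))) (σ' : 𝒮.presheaf.obj (op (S.basicOpen r)))
      β.2 σ'.2
    have nin' : ∀ x' : ((RelProj.emb p chart U.1 U.2) ⁻¹ᵁ ((RelProj.emb p chart (S.basicOpen r) (U.2.basicOpen r)) ''ᵁ V') : (Proj (𝒮.deg U.1 U.2)).Opens),
        s ∉ x'.1.asHomogeneousIdeal := by
      rintro ⟨x', hx'⟩
      obtain ⟨y, rfl⟩ := exists_comap_eq hP U r ((RelProj.emb p chart (S.basicOpen r) (U.2.basicOpen r)) ''ᵁ V') (hW'.trans hW) x' hx'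
      have hyW' : (RelProj.emb p chart (S.basicOpen r) (U.2.basicOpen r)).base y ∈ (RelProj.emb p chart (S.basicOpen r) (U.2.basicOpen r)) ''ᵁ V' := by
        rw [← emb_comap hP U r y]; exact hx'
      obtain ⟨hs', -⟩ := hfrac y (nin ⟨y, hV'of y hyW'⟩)
      exact hs'
    refine ⟨fracSec (𝒮.deg U.1 U.2) (ℳ.deg U.1 U.2) n ((RelProj.emb p chart U.1 U.2) ⁻¹ᵁ ((RelProj.emb p chart (S.basicOpen r) (U.2.basicOpen r)) ''ᵁ V')) ⟨m, hm⟩ ⟨s, hs⟩ nin' hab, ?_⟩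
    unfold tildeRelAt
    intro y hy hy'
    have hyV : y ∈ V' := hV'of y hy
    obtain ⟨hs', e⟩ := hfrac y (nin ⟨y, hyV⟩)
    have e1 : GrMod.val (V := (RelProj.emb p chart (S.basicOpen r) (U.2.basicOpen r)) ⁻¹ᵁ ((RelProj.emb p chart (S.basicOpen r) (U.2.basicOpen r)) ''ᵁ V')) (rs (tdN 𝒮 p chart ℳ n (bo U r)) hW' b) ⟨y, hy⟩ =
        LocalizedModule.mk (β : ℳ.mod.val.obj (op (S.basicOpen r)))
          ⟨(σ' : 𝒮.presheaf.obj (op (S.basicOpen r))), nin ⟨y, hyV⟩⟩ := w ⟨y, hyV⟩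
    refine e1.trans ?_
    exact e.symm
  · refine ⟨0, ?_⟩
    unfold tildeRelAt
    intro y hy hy'
    have hyV : y ∈ V' := hV'of y hy
    have e1 : GrMod.val (V := (RelProj.emb p chart (S.basicOpen r) (U.2.basicOpen r)) ⁻¹ᵁ ((RelProj.emb p chart (S.basicOpen r) (U.2.basicOpen r)) ''ᵁ V')) (rs (tdN 𝒮 p chart ℳ n (bo U r)) hW' b) ⟨y, hy⟩ =
        LocalizedModule.mk (β : ℳ.mod.val.obj (op (S.basicOpen r)))
          ⟨(σ' : 𝒮.presheaf.obj (op (S.basicOpen r))), nin ⟨y, hyV⟩⟩ := w ⟨y, hyV⟩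
    refine e1.trans ?_
    have hβ0' : (β : ℳ.mod.val.obj (op (S.basicOpen r))) = 0 := hβ0
    rw [hβ0', LocalizedModule.zero_mk]
    exact (map_zero (GrMod.locModMap (𝒮.res U.2 (U.2.basicOpen r) (S.basicOpen_le r)) (𝒮.irrelevant_le_map U.1 U.2 r) (ℳ.res U.2 (U.2.basicOpen r) (S.basicOpen_le r)) y)).symm

include hP in
lemma td_surj (hℳ : Coh.IsQCoh (osMod ℳ)) (n : ℤ) (U : Aff S) (r : Γ(S, U.1)) (W : P.Opens)
    (hW : W ≤ p ⁻¹ᵁ (S.basicOpen r)) (b : Γ((tdN 𝒮 p chart ℳ n (bo U r)), W)) :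
    ∃ a : Γ((tdN 𝒮 p chart ℳ n U), W), tildeRelAt 𝒮 p chart ℳ n U r W a b := by
  refine exists_rel_of_local (M := (tdN 𝒮 p chart ℳ n U)) (N := (tdN 𝒮 p chart ℳ n (bo U r)))
    (fun W a b => tildeRelAt 𝒮 p chart ℳ n U r W a b) ?_ ?_ (p ⁻¹ᵁ (S.basicOpen r)) ?_ W hW b
    (fun x hx => td_surj_loc hP hℳ n U r W hW b x hx)
  · intro W W' h a b hab
    rw [tildeRelAt_iff_eq_rho hP] at hab ⊢
    rw [hab]
    exact rho_res hP n U r h a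
  · intro W a b h
    exact td_local hP n U r W a b (fun x hx => h x hx.1)
  · intro W hW a a' b h h'
    exact td_inj hP hℳ n U r W hW a a' b h h'

include hP in
lemma relAt_trans (n : ℤ) (U : Aff S) (r : Γ(S, U.1)) (r' : Γ(S, S.basicOpen r))
    (hle : (bo (bo U r) r').1 ≤ U.1)
    (hirr : (𝒮.deg (bo (bo U r) r').1 (bo (bo U r) r').2)₊ ≤
      ((𝒮.deg U.1 U.2)₊).map (𝒮.res U.2 (bo (bo U r) r').2 hle))
    (W : P.Opens) (a : Γ((tdN 𝒮 p chart ℳ n U), W)) (b : Γ((tdN 𝒮 p chart ℳ n (bo U r)), W))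
    (c : Γ(tdN 𝒮 p chart ℳ n (bo (bo U r) r'), W))
    (h1 : tildeRelAt 𝒮 p chart ℳ n U r W a b)
    (h2 : tildeRelAt 𝒮 p chart ℳ n (bo U r) r' W b c) :
    relAt 𝒮 p chart ℳ n U (bo (bo U r) r') hle hirr W a c := by
  intro y hy hy'
  have hy1 := emb_comap_mem hP (bo U r) r' W y hy
  have hy2 := emb_comap_mem hP U r W _ hy1
  have e1 := h2 y hy hy1
  have e2 := h1 _ hy1 hy2
  refine e1.trans ?_
  refine (congrArg (GrMod.locModMap (𝒮.res (bo U r).2 ((bo U r).2.basicOpen r')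
    (S.basicOpen_le r')) (𝒮.irrelevant_le_map (bo U r).1 (bo U r).2 r')
    (ℳ.res (bo U r).2 ((bo U r).2.basicOpen r') (S.basicOpen_le r')) y) e2).trans ?_
  have hvc : ∀ m : ℳ.mod.val.obj (op U.1),
      (ℳ.res (bo U r).2 ((bo U r).2.basicOpen r') (S.basicOpen_le r')) ((ℳ.res U.2 (U.2.basicOpen r) (S.basicOpen_le r)) m) =
        (ℳ.res U.2 (bo (bo U r) r').2 hle) m := fun m =>
    rs_rs (osMod ℳ) (S.basicOpen_le r) (S.basicOpen_le r') (toSec ℳ m)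
  refine locModMap_comp (ℳ := (ℳ.deg U.1 U.2)) (𝒮.res U.2 (U.2.basicOpen r) (S.basicOpen_le r)) (𝒮.irrelevant_le_map U.1 U.2 r)
    (𝒮.res (bo U r).2 ((bo U r).2.basicOpen r') (S.basicOpen_le r'))
    (𝒮.irrelevant_le_map (bo U r).1 (bo U r).2 r') (𝒮.res U.2 (bo (bo U r) r').2 hle) hirr
    (ℳ.res U.2 (U.2.basicOpen r) (S.basicOpen_le r)) (ℳ.res (bo U r).2 ((bo U r).2.basicOpen r') (S.basicOpen_le r'))
    (ℳ.res U.2 (bo (bo U r) r').2 hle)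
    (fun x => ?_) hvc n ((RelProj.emb p chart U.1 U.2) ⁻¹ᵁ W) a y hy2 hy'
  have c : 𝒮.presheaf.map (homOfLE (S.basicOpen_le r)).op ≫
      𝒮.presheaf.map (homOfLE (S.basicOpen_le r')).op =
      𝒮.presheaf.map (homOfLE hle).op := by
    rw [← 𝒮.presheaf.map_comp]; rfl
  exact congrArg (fun k => k.hom x) c

section Fields

variable (n : ℤ)

lemma g_zero (U D : Aff S) (h : basic U D) (W : P.Opens) :
    (tildeSys 𝒮 p chart ℳ hP n).Rel U D W 0 0 := by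
  obtain ⟨r, rfl⟩ := h
  exact (rel_iff hP n U r W _ _).2
    ((tildeRelAt_iff_eq_rho hP n U r W _ _).2 (rho_zero hP n U r W).symm)

lemma g_add (U D : Aff S) (h : basic U D) (W : P.Opens) (a a' : Γ(tdN 𝒮 p chart ℳ n U, W))
    (b b' : Γ(tdN 𝒮 p chart ℳ n D, W)) (h1 : (tildeSys 𝒮 p chart ℳ hP n).Rel U D W a b)
    (h2 : (tildeSys 𝒮 p chart ℳ hP n).Rel U D W a' b') :
    (tildeSys 𝒮 p chart ℳ hP n).Rel U D W (a + a') (b + b') := by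
  obtain ⟨r, rfl⟩ := h
  have e1 := (tildeRelAt_iff_eq_rho hP n U r W _ _).1 ((rel_iff hP n U r W _ _).1 h1)
  have e2 := (tildeRelAt_iff_eq_rho hP n U r W _ _).1 ((rel_iff hP n U r W _ _).1 h2)
  refine (rel_iff hP n U r W _ _).2 ((tildeRelAt_iff_eq_rho hP n U r W _ _).2 ?_)
  rw [e1, e2]
  exact (rho_add hP n U r W a a').symm

lemma g_smul (U D : Aff S) (h : basic U D) (W : P.Opens) (c : Γ(P, W))
    (a : Γ(tdN 𝒮 p chart ℳ n U, W)) (b : Γ(tdN 𝒮 p chart ℳ n D, W))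
    (h1 : (tildeSys 𝒮 p chart ℳ hP n).Rel U D W a b) :
    (tildeSys 𝒮 p chart ℳ hP n).Rel U D W (c • a) (c • b) := by
  obtain ⟨r, rfl⟩ := h
  have e1 := (tildeRelAt_iff_eq_rho hP n U r W _ _).1 ((rel_iff hP n U r W _ _).1 h1)
  refine (rel_iff hP n U r W _ _).2 ((tildeRelAt_iff_eq_rho hP n U r W _ _).2 ?_)
  rw [e1]
  exact (rho_smul hP n U r W c a).symm

lemma g_res (U D : Aff S) (h : basic U D) (W W' : P.Opens) (hW : W' ≤ W)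
    (a : Γ(tdN 𝒮 p chart ℳ n U, W)) (b : Γ(tdN 𝒮 p chart ℳ n D, W))
    (h1 : (tildeSys 𝒮 p chart ℳ hP n).Rel U D W a b) :
    (tildeSys 𝒮 p chart ℳ hP n).Rel U D W' (rs (tdN 𝒮 p chart ℳ n U) hW a)
      (rs (tdN 𝒮 p chart ℳ n D) hW b) := by
  obtain ⟨r, rfl⟩ := h
  have e1 := (tildeRelAt_iff_eq_rho hP n U r W _ _).1 ((rel_iff hP n U r W _ _).1 h1)
  refine (rel_iff hP n U r W' _ _).2 ((tildeRelAt_iff_eq_rho hP n U r W' _ _).2 ?_)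
  rw [e1]
  exact rho_res hP n U r hW a

lemma g_local (U D : Aff S) (h : basic U D) (W : P.Opens) (a : Γ(tdN 𝒮 p chart ℳ n U, W))
    (b : Γ(tdN 𝒮 p chart ℳ n D, W))
    (hl : ∀ x ∈ W ⊓ p ⁻¹ᵁ D.1, ∃ (W' : P.Opens) (hW' : W' ≤ W), x ∈ W' ∧
      (tildeSys 𝒮 p chart ℳ hP n).Rel U D W' (rs (tdN 𝒮 p chart ℳ n U) hW' a)
        (rs (tdN 𝒮 p chart ℳ n D) hW' b)) :
    (tildeSys 𝒮 p chart ℳ hP n).Rel U D W a b := by
  obtain ⟨r, rfl⟩ := h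
  refine (rel_iff hP n U r W _ _).2 (td_local hP n U r W a b ?_)
  intro x hx
  obtain ⟨W', hW', hxW', hrel⟩ := hl x hx
  exact ⟨W', hW', hxW', (rel_iff hP n U r W' _ _).1 hrel⟩

lemma g_total (U D : Aff S) (h : basic U D) (W : P.Opens) (a : Γ(tdN 𝒮 p chart ℳ n U, W)) :
    ∃ b : Γ(tdN 𝒮 p chart ℳ n D, W), (tildeSys 𝒮 p chart ℳ hP n).Rel U D W a b := by
  obtain ⟨r, rfl⟩ := h
  exact ⟨rho hP n U r W a, (rel_iff hP n U r W _ _).2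
    ((tildeRelAt_iff_eq_rho hP n U r W _ _).2 rfl)⟩

lemma g_inj (hℳ : Coh.IsQCoh (osMod ℳ)) (U D : Aff S) (h : basic U D) (W : P.Opens)
    (hW : W ≤ p ⁻¹ᵁ D.1)
    (a a' : Γ(tdN 𝒮 p chart ℳ n U, W)) (b : Γ(tdN 𝒮 p chart ℳ n D, W))
    (h1 : (tildeSys 𝒮 p chart ℳ hP n).Rel U D W a b)
    (h2 : (tildeSys 𝒮 p chart ℳ hP n).Rel U D W a' b) : a = a' := by
  obtain ⟨r, rfl⟩ := h
  exact td_inj hP hℳ n U r W hW a a' b ((rel_iff hP n U r W _ _).1 h1)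
    ((rel_iff hP n U r W _ _).1 h2)

lemma g_surj (hℳ : Coh.IsQCoh (osMod ℳ)) (U D : Aff S) (h : basic U D) (W : P.Opens)
    (hW : W ≤ p ⁻¹ᵁ D.1)
    (b : Γ(tdN 𝒮 p chart ℳ n D, W)) :
    ∃ a : Γ(tdN 𝒮 p chart ℳ n U, W), (tildeSys 𝒮 p chart ℳ hP n).Rel U D W a b := by
  obtain ⟨r, rfl⟩ := h
  obtain ⟨a, ha⟩ := td_surj hP hℳ n U r W hW b
  exact ⟨a, (rel_iff hP n U r W _ _).2 ha⟩

lemma g_trans (U D D' : Aff S) (h : basic U D) (h' : basic D D') (W : P.Opens)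
    (a : Γ(tdN 𝒮 p chart ℳ n U, W)) (b : Γ(tdN 𝒮 p chart ℳ n D, W))
    (c : Γ(tdN 𝒮 p chart ℳ n D', W)) (h1 : (tildeSys 𝒮 p chart ℳ hP n).Rel U D W a b)
    (h2 : (tildeSys 𝒮 p chart ℳ hP n).Rel D D' W b c) :
    (tildeSys 𝒮 p chart ℳ hP n).Rel U D' W a c := by
  obtain ⟨r, rfl⟩ := h
  obtain ⟨r', rfl⟩ := h'
  have k1 := (rel_iff hP n U r W _ _).1 h1
  have k2 := (rel_iff hP n (bo U r) r' W _ _).1 h2
  intro t e c' hc'
  have hle : (bo (bo U r) r').1 ≤ U.1 := (S.basicOpen_le r').trans (S.basicOpen_le r)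
  have hirr := irr_of_eq U (bo U t) (bo (bo U r) r') e.symm (S.basicOpen_le t) hle
    (𝒮.irrelevant_le_map U.1 U.2 t)
  have h3 := relAt_trans hP n U r r' hle hirr W a b c k1 k2
  exact (tildeRelAt_iff n U t W a c').2
    (relAt_congr n U (bo (bo U r) r') (bo U t) e hle hirr (S.basicOpen_le t)
      (𝒮.irrelevant_le_map U.1 U.2 t) W a c c' hc' h3)

lemma g_res_surj (ℳ : RelProj.GrModule 𝒮) (U : Aff S) (W : P.Opens) :
    Function.Surjective (rs (tdN 𝒮 p chart ℳ n U) (inf_le_left : W ⊓ p ⁻¹ᵁ U.1 ≤ W)) := by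
  intro τ
  have h2 : RelProj.emb p chart U.1 U.2 ⁻¹ᵁ W ≤
      RelProj.emb p chart U.1 U.2 ⁻¹ᵁ (W ⊓ p ⁻¹ᵁ U.1) :=
    emb_preimage_le 𝒮 p chart U W (W ⊓ p ⁻¹ᵁ U.1) le_rfl
  refine ⟨rs (GrMod.tilde (𝒮.deg U.1 U.2) (ℳ.deg U.1 U.2) n) h2 τ, ?_⟩
  exact (rs_rs (GrMod.tilde (𝒮.deg U.1 U.2) (ℳ.deg U.1 U.2) n) _ _ τ).trans
    (rs_self (GrMod.tilde (𝒮.deg U.1 U.2) (ℳ.deg U.1 U.2) n) _ τ)

end Fields

/-- the chart system of the modules `ℳ(n)~` is glueable, for `ℳ` quasi-coherent. -/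
theorem glueable_tildeSys (hℳ : Coh.IsQCoh (osMod ℳ)) (n : ℤ) : Glueable (tildeSys 𝒮 p chart ℳ hP n) where
  le := fun U D h => f_le U D h
  trans_basic := fun U D D' h h' => f_trans_basic U D D' h h'
  rel_zero := fun U D h W => g_zero hP n U D h W
  rel_add := fun U D h W a a' b b' h1 h2 => g_add hP n U D h W a a' b b' h1 h2
  rel_smul := fun U D h W c a b h1 => g_smul hP n U D h W c a b h1
  rel_res := fun U D h W W' hW a b h1 => g_res hP n U D h W W' hW a b h1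
  rel_local := fun U D h W a b hl => g_local hP n U D h W a b hl
  rel_total := fun U D h W _ a => g_total hP n U D h W a
  rel_inj := fun U D h W hW a a' b h1 h2 => g_inj hP n hℳ U D h W hW a a' b h1 h2
  rel_surj := fun U D h W hW b => g_surj hP n hℳ U D h W hW b
  rel_trans := fun U D D' h h' W _ a b c h1 h2 => g_trans hP n U D D' h h' W a b c h1 h2
  res_surj := fun U W => g_res_surj n ℳ U W

theorem isRelTilde_of_adapted {n : ℤ} {F : P.Modules}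
    {lam : ∀ U : Aff S, F ⟶ tdN 𝒮 p chart ℳ n U}
    (h : Adapted (tildeSys 𝒮 p chart ℳ hP n) F lam) :
    RelProj.IsRelTilde 𝒮 p chart ℳ n F (fun U hU => lam ⟨U, hU⟩) where
  bijective := fun U hU W hW => h.bij ⟨U, hU⟩ W hW
  compat := fun U hU r W s y hy hy' =>
    h.compat ⟨U, hU⟩ (bo ⟨U, hU⟩ r) ⟨r, rfl⟩ W s r rfl _ HEq.rfl y hy hy'

include hP in
/-- **existence of the module `ℳ(n)~`** on a relative homogeneous spectrum, for `ℳ`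
quasi-coherent. -/
theorem exists_isRelTilde (ℳ : RelProj.GrModule 𝒮) (hℳ : Coh.IsQCoh (osMod ℳ)) (n : ℤ) :
    ∃ (F : P.Modules) (lam : ∀ (U : S.Opens) (hU : IsAffineOpen U),
      F ⟶ (Scheme.Modules.pushforward (RelProj.emb p chart U hU)).obj
        (GrMod.tilde (𝒮.deg U hU) (ℳ.deg U hU) n)),
      RelProj.IsRelTilde 𝒮 p chart ℳ n F lam := by
  obtain ⟨F, lam, h⟩ := exists_adapted (tildeSys 𝒮 p chart ℳ hP n) (glueable_tildeSys hP hℳ n)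
  exact ⟨F, fun U hU => lam ⟨U, hU⟩, isRelTilde_of_adapted hP h⟩

end Main

end Groth.Agent.Helper28.RelSys.TE

end
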