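import Mathlib
import Groth.Prelude.Def_RelProj3
import Groth.Agent.Lib.Helper28.RelTildeInj

/-!
# (TN) graded modules have zero associated module on the relative Proj (helper28)
-/

set_option autoImplicit false
universe u
open CategoryTheory CategoryTheory.Limits AlgebraicGeometry Opposite TopologicalSpace DirectSum
open scoped HomogeneousIdeal

noncomputable section

namespace Groth.Agent.Helper28.RelSys

open ChartGlue

section Alg

variable {A σ : Type u} [CommRing A] [SetLike σ A] [AddSubgroupClass σ A] (𝒜 : ℕ → σ) [GradedRing 𝒜]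
variable {M τ : Type u} [AddCommGroup M] [Module A M] [SetLike τ M] [AddSubgroupClass τ M]
  (ℳ : ℕ → τ) [DirectSum.Decomposition ℳ] [SetLike.GradedSMul 𝒜 ℳ]

lemma locMap_zero (x : ProjectiveSpectrum 𝒜) (q : GrMod.LocMod 𝒜 (M := M) x) :
    GrMod.locMap (0 : M →ₗ[A] M) x q = 0 := by
  induction q using LocalizedModule.induction_on with
  | h m s =>
    rw [GrMod.locMap_mk, LinearMap.zero_apply, LocalizedModule.zero_mk]

theorem sect_eq_zero_of_TN (n₀ : ℕ) (hTN : ∀ k, n₀ ≤ k → ∀ m ∈ ℳ k, m = 0) (n : ℤ)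
    (V : (Opens (ProjectiveSpectrum.top 𝒜))ᵒᵖ) (a : GrMod.sect 𝒜 ℳ n V) : a = 0 := by
  apply mapApp_injective 𝒜 ℳ ℳ (0 : M →ₗ[A] M) (fun i m _ => zero_mem _) n₀
    (fun k hk m hm _ => hTN k hk m hm) n V
  rw [map_zero]
  refine Subtype.ext (funext fun x => Subtype.ext ?_)
  exact locMap_zero 𝒜 x.1 (a.1 x).1

end Alg

variable {S : Scheme.{u}} {𝒮 : RelProj.QCGrAlg S} {P : Scheme.{u}} {p : P ⟶ S}
  {chart : ∀ (U : S.Opens) (hU : IsAffineOpen U),
    (((p ⁻¹ᵁ U : P.Opens) : Scheme.{u}) ≅ Proj (𝒮.deg U hU))}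
  {ℳ : RelProj.GrModule 𝒮}

theorem isZero_of_isTN (hP : RelProj.IsRelProj 𝒮 p chart) (hTN : ℳ.IsTN) (n : ℤ)
    {F : P.Modules}
    {lam : ∀ (U : S.Opens) (hU : IsAffineOpen U),
      F ⟶ (Scheme.Modules.pushforward (RelProj.emb p chart U hU)).obj
        (GrMod.tilde (𝒮.deg U hU) (ℳ.deg U hU) n)}
    (hF : RelProj.IsRelTilde 𝒮 p chart ℳ n F lam) : IsZero F := by
  obtain ⟨n₀, hn₀⟩ := hTN
  have hF' := adapted_of_isRelTilde hP hF
  rw [IsZero.iff_id_eq_zero]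
  apply Scheme.Modules.hom_ext
  intro V
  ext s
  change s = 0
  refine sec_ext_charts hF' _ _ (fun (U : Aff S) => ?_)
  change (lam U.1 U.2).app (V ⊓ p ⁻¹ᵁ U.1) (rs F inf_le_left s) =
    (lam U.1 U.2).app (V ⊓ p ⁻¹ᵁ U.1) (rs F inf_le_left 0)
  have key : ∀ a : GrMod.sect (𝒮.deg U.1 U.2) (ℳ.deg U.1 U.2) n
      (op (RelProj.emb p chart U.1 U.2 ⁻¹ᵁ (V ⊓ p ⁻¹ᵁ U.1))), a = 0 :=
    fun a => sect_eq_zero_of_TN (𝒮.deg U.1 U.2) (ℳ.deg U.1 U.2) n₀ (hn₀ U.1 U.2) n _ a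
  exact (key _).trans (key _).symm

end Groth.Agent.Helper28.RelSys

end
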