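import Mathlib
import Groth.Agent.Lib.Helper28.RelTwistComap2
import Groth.Agent.Lib.Helper28.RelTwistPair2
import Groth.Agent.Lib.Helper28.GrModTN
import Groth.Agent.Lib.Helper13.PbTensor
import Groth.Agent.Lib.Helper13.PbInv
import Groth.Agent.Lib.Helper13.PbGen

/-!
# `h^* O_{Proj 𝒜}(n) ≅ O_{Proj ℬ}(n)` for a surjective graded homomorphism `𝒜 → ℬ`, `𝒜` generated
in degree one (helper28)
-/

set_option autoImplicit false
universe u
open CategoryTheory CategoryTheory.Limits AlgebraicGeometry Opposite TopologicalSpace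
open scoped HomogeneousIdeal

noncomputable section

namespace Groth.Agent.Helper28.GrTwistSurj

open GrTwist Groth.Agent.Helper28.RelSys

variable {A σ : Type u} [CommRing A] [SetLike σ A] [AddSubgroupClass σ A] {𝒜 : ℕ → σ}
  [GradedRing 𝒜]
variable {B τ : Type u} [CommRing B] [SetLike τ B] [AddSubgroupClass τ B] {ℬ : ℕ → τ}
  [GradedRing ℬ]
variable (ψ : 𝒜 →+*ᵍ ℬ) (hψ : ℬ₊ ≤ (𝒜₊).map ψ)

/-- homogeneous elements lift to homogeneous elements along a surjective graded homomorphism. -/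
theorem exists_homogeneous_lift (hsurj : Function.Surjective ψ) {i : ℕ} {b : B} (hb : b ∈ ℬ i) :
    ∃ a : A, a ∈ 𝒜 i ∧ ψ a = b := by
  obtain ⟨a0, rfl⟩ := hsurj b
  refine ⟨(DirectSum.decompose 𝒜 a0 i : A), (DirectSum.decompose 𝒜 a0 i).2, ?_⟩
  have h1 : ((DirectSum.decompose ℬ (ψ a0) i : ℬ i) : B) =
      ψ ((DirectSum.decompose 𝒜 a0 i : 𝒜 i) : A) :=
    Groth.Agent.Helper28.GrModTN.decompose_map 𝒜 ℬ ψ.toRingHom.toAddMonoidHom
      (fun j m hm => ψ.map_mem hm) a0 i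
  rw [DirectSum.decompose_of_mem_same ℬ hb] at h1
  exact h1.symm

/-- along a surjective graded homomorphism, every section of `O_{Proj ℬ}(n)` is, near any point,
the comap of a section of `O_{Proj 𝒜}(n)`. -/
theorem exists_comap_eq (hsurj : Function.Surjective ψ) (n : ℤ)
    (V' : Opens (ProjectiveSpectrum.top ℬ)) (t : sectN (𝒜 := ℬ) n (op V'))
    (y : ProjectiveSpectrum ℬ) (hy : y ∈ V') :
    ∃ (U' : Opens (ProjectiveSpectrum.top 𝒜)) (σ₀ : sectN (𝒜 := 𝒜) n (op U'))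
      (V'' : Opens (ProjectiveSpectrum.top ℬ))
      (hVU : V''.1 ⊆ ProjectiveSpectrum.comap ψ hψ ⁻¹' U'.1) (hVV : V'' ≤ V'), y ∈ V'' ∧
      ∀ y' : V'', GrTwist.locMap ψ hψ y'.1
          ((σ₀.1 ⟨ProjectiveSpectrum.comap ψ hψ y'.1, hVU y'.2⟩ :
            twistAt 𝒜 n (ProjectiveSpectrum.comap ψ hψ y'.1)) :
              Loc 𝒜 (ProjectiveSpectrum.comap ψ hψ y'.1)) =
        ((t.1 ⟨y'.1, hVV y'.2⟩ : twistAt ℬ n y'.1) : Loc ℬ y'.1) := by
  obtain ⟨Va, ma, ia, i, j, ⟨b, hb⟩, ⟨s, hs⟩, nin, hdeg, hval⟩ := t.2 ⟨y, hy⟩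
  obtain ⟨s', hs', rfl⟩ := exists_homogeneous_lift ψ hsurj hs
  rcases hdeg with hdeg | hb0
  · obtain ⟨a, ha, rfl⟩ := exists_homogeneous_lift ψ hsurj hb
    have hVU : Va.1 ⊆ ProjectiveSpectrum.comap ψ hψ ⁻¹' (ProjectiveSpectrum.basicOpen 𝒜 s').1 := by
      intro y' hy'
      exact (ProjectiveSpectrum.mem_basicOpen 𝒜 s' _).2 (nin ⟨y', hy'⟩)
    refine ⟨ProjectiveSpectrum.basicOpen 𝒜 s',
      twFrac 𝒜 n _ ⟨a, ha⟩ ⟨s', hs'⟩
        (fun x => (ProjectiveSpectrum.mem_basicOpen 𝒜 s' x.1).1 x.2) hdeg,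
      Va, hVU, ia.le, ma, ?_⟩
    intro y'
    rw [twFrac_val, GrTwist.locMap_mk]
    exact (hval y').symm
  · refine ⟨⊤, 0, Va, fun _ _ => trivial, ia.le, ma, ?_⟩
    intro y'
    have h1 := hval y'
    have hb0' : b = 0 := hb0
    subst hb0'
    rw [Localization.mk_zero] at h1
    refine Eq.trans ?_ h1.symm
    exact map_zero _

end Groth.Agent.Helper28.GrTwistSurj

namespace Groth.Agent.Helper28.RelSys

open ChartGlue GrTwist GrTwistMul Groth.Agent.Helper13 Groth.Agent.Helper13.QCoh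

variable {S : Scheme.{u}} {𝒜 ℬ : RelProj.QCGrAlg S} (φ : 𝒜.toQCAlg ⟶ ℬ.toQCAlg)
  (hφ : RelProj.IsGradedHom φ)
  (hirr : ∀ (U : S.Opens) (hU : IsAffineOpen U),
    (ℬ.deg U hU)₊ ≤ ((𝒜.deg U hU)₊).map (RelProj.gradedHomAt φ hφ U hU))
  {PA PB : Scheme.{u}} {pA : PA ⟶ S} {pB : PB ⟶ S}
  {chartA : ∀ (U : S.Opens) (hU : IsAffineOpen U),
    (((pA ⁻¹ᵁ U : PA.Opens) : Scheme.{u}) ≅ Proj (𝒜.deg U hU))}
  {chartB : ∀ (U : S.Opens) (hU : IsAffineOpen U),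
    (((pB ⁻¹ᵁ U : PB.Opens) : Scheme.{u}) ≅ Proj (ℬ.deg U hU))}
  (hA : RelProj.IsRelProj 𝒜 pA chartA) (hB : RelProj.IsRelProj ℬ pB chartB)
  {h : PB ⟶ PA} (hh : RelProj.IsRelProjMap φ hφ hirr chartA chartB h)
  {n : ℤ} {LA : PA.Modules}
  {lamA : ∀ (U : S.Opens) (hU : IsAffineOpen U),
    LA ⟶ (Scheme.Modules.pushforward (RelProj.emb pA chartA U hU)).obj
      (GrTwist.twist (𝒜.deg U hU) n)}
  (hLA : RelProj.IsRelTwist 𝒜 pA chartA n LA lamA)
  {LB : PB.Modules}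
  {lamB : ∀ (U : S.Opens) (hU : IsAffineOpen U),
    LB ⟶ (Scheme.Modules.pushforward (RelProj.emb pB chartB U hU)).obj
      (GrTwist.twist (ℬ.deg U hU) n)}
  (hLB : RelProj.IsRelTwist ℬ pB chartB n LB lamB)

include hφ in
omit hirr in
/-- the target of a surjective graded homomorphism from an algebra generated in degree one is
generated in degree one. -/
theorem isGenDegOne_of_surjective (hgen : 𝒜.IsGenDegOne)
    (hsurj : ∀ (U : S.Opens) (hU : IsAffineOpen U),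
      Function.Surjective (φ.hom.app (op U)).hom) : ℬ.IsGenDegOne := by
  intro U hU
  rw [eq_top_iff]
  intro b hb
  clear hb
  obtain ⟨a, rfl⟩ := hsurj U hU b
  have ha : a ∈ Subring.closure ((𝒜.deg U hU 0 : Set (𝒜.presheaf.obj (op U))) ∪
      (𝒜.deg U hU 1 : Set _)) := by
    rw [hgen U hU]; exact Subring.mem_top a
  induction ha using Subring.closure_induction with
  | mem x hx =>
    apply Subring.subset_closure
    rcases hx with hx | hx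
    · exact Or.inl (hφ U hU 0 x hx)
    · exact Or.inr (hφ U hU 1 x hx)
  | zero => rw [map_zero]; exact zero_mem _
  | one => rw [map_one]; exact one_mem _
  | add x y _ _ hx hy => rw [map_add]; exact add_mem hx hy
  | neg x _ hx => rw [map_neg]; exact neg_mem hx
  | mul x y _ _ hx hy => rw [map_mul]; exact mul_mem hx hy

include hA hB hh hLA hLB in
/-- every section of `O_{Proj ℬ}(n)` is, near any point, the comparison image of a section of
`O_{Proj 𝒜}(n)`. -/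
theorem exists_cmp_eq
    (hsurj : ∀ (U : S.Opens) (hU : IsAffineOpen U),
      Function.Surjective (φ.hom.app (op U)).hom)
    (z : PB) (W'' : PB.Opens) (hz : z ∈ W'') (τ : Γ(LB, W'')) :
    ∃ (W : PA.Opens) (σ : Γ(LA, W)) (W3 : PB.Opens) (h1 : W3 ≤ h ⁻¹ᵁ W) (h2 : W3 ≤ W''),
      z ∈ W3 ∧ rs LB h1 ((cmpHom φ hφ hirr hA hB hh hLA hLB).app W σ) = rs LB h2 τ := by
  obtain ⟨U, hzU⟩ := cover pB z
  have hzr : z ∈ (RelProj.emb pB chartB U.1 U.2).opensRange := by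
    rw [RelTwist.opensRange_emb]; exact hzU
  obtain ⟨y, rfl⟩ := hzr
  -- the section on the chart
  obtain ⟨U', σ₀, V'', hVU, hVV, hyV, hval⟩ := GrTwistSurj.exists_comap_eq
    (RelProj.gradedHomAt φ hφ U.1 U.2) (hirr U.1 U.2) (hsurj U.1 U.2) n
    (RelProj.emb pB chartB U.1 U.2 ⁻¹ᵁ W'') ((lamB U.1 U.2).app W'' τ) y hz
  -- the section of `LA`
  have hb := app_bijective_of_isIso (RelTwist.restrictIso hLA U.1 U.2).hom U'
  obtain ⟨σ, hσ⟩ := hb.2 σ₀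
  have hσval : ∀ (x : ProjectiveSpectrum (𝒜.deg U.1 U.2))
      (hx : (RelProj.emb pA chartA U.1 U.2).base x ∈ RelProj.emb pA chartA U.1 U.2 ''ᵁ U')
      (hx' : x ∈ U'),
      GrTwist.val (V := RelProj.emb pA chartA U.1 U.2 ⁻¹ᵁ (RelProj.emb pA chartA U.1 U.2 ''ᵁ U'))
        ((lamA U.1 U.2).app (RelProj.emb pA chartA U.1 U.2 ''ᵁ U') σ) ⟨x, hx⟩ =
      ((σ₀.1 ⟨x, hx'⟩ : twistAt (𝒜.deg U.1 U.2) n x) : Loc (𝒜.deg U.1 U.2) x) := by
    intro x hx hx'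
    have := congrArg (fun t : sectN (𝒜 := 𝒜.deg U.1 U.2) n (op U') =>
      ((t.1 ⟨x, hx'⟩ : twistAt (𝒜.deg U.1 U.2) n x) : Loc (𝒜.deg U.1 U.2) x)) hσ
    exact this
  have h1 : RelProj.emb pB chartB U.1 U.2 ''ᵁ V'' ≤
      h ⁻¹ᵁ (RelProj.emb pA chartA U.1 U.2 ''ᵁ U') := by
    rintro _ ⟨y', hy', rfl⟩
    change h.base ((RelProj.emb pB chartB U.1 U.2).base y') ∈
      RelProj.emb pA chartA U.1 U.2 ''ᵁ U'
    rw [← emb_comap_eq φ hφ hirr hh U.1 U.2 y']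
    exact ⟨_, hVU hy', rfl⟩
  have h2 : RelProj.emb pB chartB U.1 U.2 ''ᵁ V'' ≤ W'' := by
    rintro _ ⟨y', hy', rfl⟩
    exact hVV hy'
  have h3 : RelProj.emb pB chartB U.1 U.2 ''ᵁ V'' ≤ pB ⁻¹ᵁ U.1 :=
    RelTwist.image_emb_le pB chartB U.1 U.2 V''
  refine ⟨RelProj.emb pA chartA U.1 U.2 ''ᵁ U', σ, RelProj.emb pB chartB U.1 U.2 ''ᵁ V'', h1, h2,
    ⟨y, hyV, rfl⟩, ?_⟩
  apply (hLB.bijective U.1 U.2 _ h3).1
  have e1 : (lamB U.1 U.2).app (RelProj.emb pB chartB U.1 U.2 ''ᵁ V'')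
      (rs LB h1 ((cmpHom φ hφ hirr hA hB hh hLA hLB).app _ σ)) =
      cmpAt φ hφ hirr hh (lamA := lamA) U _ _ h1 σ :=
    cmpSec_spec φ hφ hirr hA hB hh hLA hLB _ σ U _ h1 h3
  have e2 : (lamB U.1 U.2).app (RelProj.emb pB chartB U.1 U.2 ''ᵁ V'') (rs LB h2 τ) =
      rs (twN ℬ pB chartB n U) h2 ((lamB U.1 U.2).app W'' τ) := app_rs _ _ _
  rw [e1, e2]
  refine twist_sec_ext (ℬ.deg U.1 U.2) n
    (V := RelProj.emb pB chartB U.1 U.2 ⁻¹ᵁ (RelProj.emb pB chartB U.1 U.2 ''ᵁ V'')) _ _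
    (fun y' => ?_)
  obtain ⟨y1, hy1⟩ := y'
  have hy'V : y1 ∈ V'' := by
    have h5 := hy1
    rwa [Scheme.Hom.preimage_image_eq] at h5
  rw [cmpAt_val]
  refine (congrArg (GrTwist.locMap (RelProj.gradedHomAt φ hφ U.1 U.2) (hirr U.1 U.2) y1)
    (hσval _ _ (hVU hy'V))).trans ?_
  exact hval ⟨y1, hy'V⟩

/-- the adjoint `h^* O_{Proj 𝒜}(n) ⟶ O_{Proj ℬ}(n)` of the comparison morphism. -/
def cmpAdj : (Scheme.Modules.pullback h).obj LA ⟶ LB :=
  ((Scheme.Modules.pullbackPushforwardAdjunction h).homEquiv LA LB).symm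
    (cmpHom φ hφ hirr hA hB hh hLA hLB)

lemma cmpAdj_app_ηsec (W : PA.Opens) (σ : Γ(LA, W)) :
    (cmpAdj φ hφ hirr hA hB hh hLA hLB).app (h ⁻¹ᵁ W) (PbGen.ηsec h LA W σ) =
      (cmpHom φ hφ hirr hA hB hh hLA hLB).app W σ := by
  have e := PbGen.homEquiv_app h LA (cmpAdj φ hφ hirr hA hB hh hLA hLB) W σ
  unfold cmpAdj at e
  rw [Equiv.apply_symm_apply] at e
  exact e.symm

/-- the adjoint of the comparison morphism is surjective on stalks when `φ` is surjective. -/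
theorem stalkMap_cmpAdj_surjective
    (hsurj : ∀ (U : S.Opens) (hU : IsAffineOpen U),
      Function.Surjective (φ.hom.app (op U)).hom) (z : PB) :
    Function.Surjective (stalkMap (cmpAdj φ hφ hirr hA hB hh hLA hLB) z) := by
  intro m
  obtain ⟨W'', hz, τ, rfl⟩ := TopCat.Presheaf.exists_germ_eq LB.presheaf m
  obtain ⟨W, σ, W3, h1, h2, hz3, e⟩ :=
    exists_cmp_eq φ hφ hirr hA hB hh hLA hLB hsurj z W'' hz τ
  refine ⟨((Scheme.Modules.pullback h).obj LA).presheaf.germ (h ⁻¹ᵁ W) z (h1 hz3)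
    (PbGen.ηsec h LA W σ), ?_⟩
  rw [stalkMap_germ, cmpAdj_app_ηsec]
  have e1 := TopCat.Presheaf.germ_res_apply LB.presheaf (homOfLE h1) z hz3
    ((cmpHom φ hφ hirr hA hB hh hLA hLB).app W σ)
  have e2 := TopCat.Presheaf.germ_res_apply LB.presheaf (homOfLE h2) z hz3 τ
  rw [← e1, ← e2]
  exact congrArg _ e

include hA hB hh hLA hLB in
/-- **`h^* O_{Proj 𝒜}(n) ≅ O_{Proj ℬ}(n)`** for `φ : 𝒜 → ℬ` surjective, `𝒜` generated in degree
one. -/
theorem nonempty_pullback_iso (hgen : 𝒜.IsGenDegOne)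
    (hsurj : ∀ (U : S.Opens) (hU : IsAffineOpen U),
      Function.Surjective (φ.hom.app (op U)).hom) :
    Nonempty ((Scheme.Modules.pullback h).obj LA ≅ LB) := by
  have hLAinv : PicF.IsInvertible LA := RelTwist.isInvertible_of_isRelTwist hgen hLA
  have hLBinv : PicF.IsInvertible LB :=
    RelTwist.isInvertible_of_isRelTwist (isGenDegOne_of_surjective φ hφ hgen hsurj) hLB
  haveI : IsIso (cmpAdj φ hφ hirr hA hB hh hLA hLB) :=
    PbTensor.isIso_of_surjective_of_isInvertible _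
      (PbInv.isInvertible_pullback h LA hLAinv) hLBinv
      (stalkMap_cmpAdj_surjective φ hφ hirr hA hB hh hLA hLB hsurj)
  exact ⟨asIso (cmpAdj φ hφ hirr hA hB hh hLA hLB)⟩

end Groth.Agent.Helper28.RelSys

end
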