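import Mathlib

/-!
# A combinatorial base for finite crystallographic reduced root pairings over char-zero domains

Mathlib's `RootPairing.nonempty_base` needs a root *system* over a *field*.  For a root pairing `P`
over a domain `R` we build an auxiliary root system `PK P` over `FR R` with the same index
set, the same `reflectionPerm` and the same Cartan integers, and transfer the combinatorics.
-/

set_option autoImplicit false

namespace Groth.Agent.Helper28.RootBase

open Module Submodule Set Function

/-- A copy of the fraction field that does not carry the `OreLocalization` `ℤ`-algebra diamond. -/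
def FR (R : Type*) [CommRing R] [IsDomain R] : Type _ := FractionRing R

noncomputable instance (R : Type*) [CommRing R] [IsDomain R] : Field (FR R) :=
  inferInstanceAs (Field (FractionRing R))
noncomputable instance (R : Type*) [CommRing R] [IsDomain R] : Algebra R (FR R) :=
  inferInstanceAs (Algebra R (FractionRing R))
instance (R : Type*) [CommRing R] [IsDomain R] : IsFractionRing R (FR R) :=
  inferInstanceAs (IsFractionRing R (FractionRing R))
instance (R : Type*) [CommRing R] [IsDomain R] [CharZero R] : CharZero (FR R) :=
  charZero_of_injective_algebraMap (IsFractionRing.injective R (FR R))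

variable {ι : Type*} {R : Type*} {M N : Type*} [CommRing R] [IsDomain R] [CharZero R]
  [AddCommGroup M] [Module R M] [AddCommGroup N] [Module R N] (P : RootPairing ι R M N)

/-- Cartan column. -/
noncomputable def col (j : ι) : ι → FR R :=
  fun i => algebraMap R (FR R) (P.pairing i j)

/-- span of the Cartan columns. -/
noncomputable def NK : Submodule (FR R) (ι → FR R) :=
  span _ (range (col P))

noncomputable def corootK (j : ι) : NK P := ⟨col P j, subset_span ⟨j, rfl⟩⟩

noncomputable def rootK (i : ι) : Dual (FR R) (NK P) :=
  (LinearMap.proj i).comp (NK P).subtype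

@[simp] lemma rootK_corootK (i j : ι) :
    rootK P i (corootK P j) = algebraMap R (FR R) (P.pairing i j) := rfl

lemma span_corootK : span (FR R) (range (corootK P)) = ⊤ := by
  rw [eq_top_iff]
  rintro ⟨x, hx⟩ -
  have : ∀ y (hy : y ∈ NK P), (⟨y, hy⟩ : NK P) ∈ span (FR R) (range (corootK P)) := by
    intro y hy
    induction hy using Submodule.span_induction with
    | mem y hy =>
      obtain ⟨j, rfl⟩ := hy
      exact subset_span ⟨j, rfl⟩
    | zero => exact Submodule.zero_mem _
    | add y z hy hz h1 h2 => exact Submodule.add_mem _ h1 h2
    | smul a y hy h1 => exact Submodule.smul_mem _ a h1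
  exact this x hx

lemma ext_on_corootK {f g : Dual (FR R) (NK P)}
    (h : ∀ k, f (corootK P k) = g (corootK P k)) : f = g := by
  apply LinearMap.ext_on_range (span_corootK P)
  exact h

variable [Finite ι]

lemma rootK_injective : Injective (rootK P) := by
  intro i j h
  have h1 : ∀ k, P.pairing i k = P.pairing j k := by
    intro k
    have := congrArg (fun f => f (corootK P k)) h
    simp only [rootK_corootK] at this
    exact IsFractionRing.injective R (FR R) this
  have := Module.IsReflexive.of_isPerfPair P.toLinearMap
  have := (P.pairing_two_two_iff i j).mp ⟨by rw [h1 j]; simp, by rw [← h1 i]; simp⟩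
  exact this

lemma corootK_injective : Injective (corootK P) := by
  intro i j h
  have h0 : col P i = col P j := congrArg Subtype.val h
  have h1 : ∀ k, P.pairing k i = P.pairing k j := by
    intro k
    have := congrFun h0 k
    exact IsFractionRing.injective R (FR R) this
  have := Module.IsReflexive.of_isPerfPair P.toLinearMap
  exact (P.pairing_two_two_iff i j).mp ⟨by rw [← h1 i]; simp, by rw [h1 j]; simp⟩

omit [IsDomain R] [CharZero R] [Finite ι] in
lemma pairing_reflectionPerm_left (i j k : ι) :
    P.pairing (P.reflectionPerm i j) k = P.pairing j k - P.pairing j i * P.pairing i k := by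
  have h := P.reflectionPerm_root i j
  have := congrArg (fun x => P.toLinearMap x (P.coroot k)) h
  simp only [map_sub, map_smul, LinearMap.sub_apply, LinearMap.smul_apply, smul_eq_mul] at this
  exact this.symm

omit [IsDomain R] [CharZero R] [Finite ι] in
lemma pairing_reflectionPerm_right (i j k : ι) :
    P.pairing k (P.reflectionPerm i j) = P.pairing k j - P.pairing i j * P.pairing k i := by
  have h := P.reflectionPerm_coroot i j
  have := congrArg (fun x => P.toLinearMap (P.root k) x) h
  simp only [map_sub, map_smul, smul_eq_mul] at this
  exact this.symm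

/-- The auxiliary root system over the fraction field. -/
noncomputable def PK : RootPairing ι (FR R) (Dual (FR R) (NK P)) (NK P) where
  toLinearMap := LinearMap.id
  isPerfPair_toLinearMap := LinearMap.IsPerfPair.id
  root := ⟨rootK P, rootK_injective P⟩
  coroot := ⟨corootK P, corootK_injective P⟩
  root_coroot_two i := by
    simp [map_ofNat]
  reflectionPerm := P.reflectionPerm
  reflectionPerm_root i j := by
    apply ext_on_corootK
    intro k
    simp [pairing_reflectionPerm_left, Algebra.smul_def]
  reflectionPerm_coroot i j := by
    apply Subtype.ext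
    funext k
    show col P j k - (rootK P i (corootK P j)) * col P i k = col P (P.reflectionPerm i j) k
    simp [col, pairing_reflectionPerm_right]

@[simp] lemma PK_pairing (i j : ι) :
    (PK P).pairing i j = algebraMap R (FR R) (P.pairing i j) := rfl

@[simp] lemma PK_reflectionPerm : (PK P).reflectionPerm = P.reflectionPerm := rfl

@[simp] lemma PK_root (i : ι) : (PK P).root i = rootK P i := rfl

@[simp] lemma PK_coroot (i : ι) : (PK P).coroot i = corootK P i := rfl

instance : (PK P).IsRootSystem where
  span_coroot_eq_top := span_corootK P
  span_root_eq_top := by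
    classical
    have := Fintype.ofFinite ι
    rw [eq_top_iff]
    intro f _
    obtain ⟨g, hg⟩ := LinearMap.exists_extend f
    have : f = ∑ i, g (Pi.single i 1) • rootK P i := by
      ext x
      rw [← hg]
      simp only [LinearMap.coe_comp, coe_subtype, comp_apply, LinearMap.coe_sum, Finset.sum_apply,
        LinearMap.smul_apply, smul_eq_mul]
      rw [LinearMap.pi_apply_eq_sum_univ g x.1]
      refine Finset.sum_congr rfl fun i _ => ?_
      simp only [rootK, LinearMap.coe_comp, coe_subtype, comp_apply, LinearMap.proj_apply,
        smul_eq_mul]
      rw [mul_comm]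
      congr 2
      funext j
      simp [Pi.single_apply, eq_comm]
    rw [this]
    exact Submodule.sum_mem _ fun i _ => Submodule.smul_mem _ _ (subset_span ⟨i, rfl⟩)

instance [P.IsCrystallographic] : (PK P).IsCrystallographic where
  exists_value i j := by
    refine ⟨P.pairingIn ℤ i j, ?_⟩
    rw [PK_pairing, ← P.algebraMap_pairingIn ℤ]
    simp

instance [P.IsReduced] : (PK P).IsReduced := by
  refine ⟨fun i j h => ?_⟩
  rw [← (PK P).coxeterWeight_eq_four_iff_not_linearIndependent] at h
  have h' : P.coxeterWeight i j = 4 := by
    apply IsFractionRing.injective R (FR R)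
    simpa [RootPairing.coxeterWeight, map_ofNat] using h
  have := Module.IsReflexive.of_isPerfPair P.toLinearMap
  rw [P.coxeterWeight_eq_four_iff_not_linearIndependent] at h'
  rcases RootPairing.IsReduced.eq_or_eq_neg i j h' with h1 | h1
  · left
    have : i = j := P.root.injective h1
    rw [this]
  · right
    apply ext_on_corootK
    intro k
    have : P.pairing i k = - P.pairing j k := by
      show P.toLinearMap (P.root i) (P.coroot k) = - P.toLinearMap (P.root j) (P.coroot k)
      rw [h1]; simp
    simp [this]

/-- A combinatorial base for a finite reduced crystallographic root pairing over a domain of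
characteristic zero: a finite set `B` of indices whose roots and coroots are `ℤ`-linearly independent
and from which every index is reached by simple reflections and negation. -/
theorem exists_base [P.IsCrystallographic] [P.IsReduced] :
    ∃ B : Finset ι,
      LinearIndepOn ℤ P.coroot (B : Set ι) ∧ LinearIndepOn ℤ P.root (B : Set ι) ∧
      (∀ (p : ι → Prop), (∀ i, p i → p (P.reflectionPerm i i)) → (∀ i ∈ B, p i) →
        (∀ i j, p i → j ∈ B → p (P.reflectionPerm j i)) → ∀ i, p i) := by
  obtain ⟨b⟩ := (PK P).nonempty_base
  refine ⟨b.support, ?_, ?_, ?_⟩
  · rw [linearIndepOn_iff]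
    intro l hl h0
    have hli : LinearIndepOn ℤ (PK P).coroot (b.support : Set ι) :=
      b.linearIndepOn_coroot.restrict_scalars' ℤ
    apply linearIndepOn_iff.mp hli l hl
    apply Subtype.ext
    funext k
    let evk : NK P →ₗ[ℤ] FR R :=
      ((LinearMap.proj k : (ι → FR R) →ₗ[FR R] FR R).comp (NK P).subtype).restrictScalars ℤ
    let ψ : N →ₗ[ℤ] FR R :=
      ((Algebra.linearMap R (FR R)).restrictScalars ℤ).comp
        ((P.toLinearMap (P.root k)).restrictScalars ℤ)
    have hcomp : (evk ∘ fun i => (PK P).coroot i) = (ψ ∘ fun i => P.coroot i) := by
      funext i; rfl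
    have h1 : evk (Finsupp.linearCombination ℤ (fun i => (PK P).coroot i) l) = 0 := by
      rw [Finsupp.apply_linearCombination, hcomp, ← Finsupp.apply_linearCombination, h0, map_zero]
    exact h1
  · rw [linearIndepOn_iff]
    intro l hl h0
    have hli : LinearIndepOn ℤ (PK P).root (b.support : Set ι) :=
      b.linearIndepOn_root.restrict_scalars' ℤ
    apply linearIndepOn_iff.mp hli l hl
    apply ext_on_corootK
    intro k
    let evk : Dual (FR R) (NK P) →ₗ[ℤ] FR R :=
      ((LinearMap.applyₗ (corootK P k) : Dual (FR R) (NK P) →ₗ[FR R] FR R)).restrictScalars ℤ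
    let ψ : M →ₗ[ℤ] FR R :=
      ((Algebra.linearMap R (FR R)).restrictScalars ℤ).comp
        ((P.toLinearMap.flip (P.coroot k)).restrictScalars ℤ)
    have hcomp : (evk ∘ fun i => (PK P).root i) = (ψ ∘ fun i => P.root i) := by
      funext i; rfl
    have h1 : evk (Finsupp.linearCombination ℤ (fun i => (PK P).root i) l) = 0 := by
      rw [Finsupp.apply_linearCombination, hcomp, ← Finsupp.apply_linearCombination, h0, map_zero]
    rw [LinearMap.zero_apply]
    exact h1
  · intro p h0 h1 h2 i
    exact b.induction_reflect i h0 h1 h2

end Groth.Agent.Helper28.RootBase
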