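import Mathlib
import Groth.Prelude.Def_Coh
import Groth.Prelude.Def_CurvBase

/-!
# Two linear forms with equal d-th powers differ by a root of unity at a generic point (helper28)
-/
set_option autoImplicit false
open CategoryTheory AlgebraicGeometry
universe u

namespace Groth.Agent.Helper28.RootUnityGerm

theorem exists_root_of_unity {k K : Type*} [Field k] [IsAlgClosed k] [CharZero k] [CommRing K]
    [IsDomain K] (φ : k →+* K) (d : ℕ) (hd : 1 ≤ d) (ζ : K) (hζ : ζ ^ d = 1) :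
    ∃ ξ : k, ξ ^ d = 1 ∧ φ ξ = ζ := by
  haveI : NeZero d := ⟨by omega⟩
  haveI : NeZero (d : k) := ⟨by exact_mod_cast (show d ≠ 0 by omega)⟩
  obtain ⟨ξ₀, hξ₀⟩ := HasEnoughRootsOfUnity.exists_primitiveRoot k d
  have hinj : Function.Injective φ := φ.injective
  have h1 : IsPrimitiveRoot (φ ξ₀) d := hξ₀.map_of_injective hinj
  obtain ⟨i, -, hi⟩ := h1.eq_pow_of_pow_eq_one hζ
  refine ⟨ξ₀ ^ i, ?_, ?_⟩
  · rw [← pow_mul, mul_comm, pow_mul, hξ₀.pow_eq_one, one_pow]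
  · rw [map_pow, hi]

theorem core {K : Type*} [CommRing K] [IsDomain K] (hK : IsField K) {k : Type*} [Field k]
    [IsAlgClosed k] [CharZero k] (φ : k →+* K) (d : ℕ) (hd : 1 ≤ d) {ι : Type*} (t t' : ι → K)
    (key : ∀ i j, t i ^ (d - 1) * t j = t' i ^ (d - 1) * t' j) :
    ∃ ξ : k, ξ ^ d = 1 ∧ ∀ i, t' i = φ ξ * t i := by
  have hpow : ∀ i, t i ^ d = t' i ^ d := fun i => by
    have h := key i i
    rwa [← pow_succ, ← pow_succ, Nat.sub_add_cancel hd] at h
  by_cases h : ∀ i, t i = 0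
  · refine ⟨1, one_pow _, fun i => ?_⟩
    have h1 : t' i ^ d = 0 := by rw [← hpow i, h i, zero_pow (by omega)]
    rw [pow_eq_zero_iff (by omega)] at h1
    rw [h1, h i, mul_zero]
  · push Not at h
    obtain ⟨i₀, hi₀⟩ := h
    obtain ⟨u, hu⟩ := hK.mul_inv_cancel hi₀
    have hζ : (t' i₀ * u) ^ d = 1 := by
      rw [mul_pow, ← hpow i₀, ← mul_pow, hu, one_pow]
    obtain ⟨ξ, hξ, hφ⟩ := exists_root_of_unity φ d hd (t' i₀ * u) hζ
    refine ⟨ξ, hξ, fun j => ?_⟩
    have hj : t j = (t' i₀ * u) ^ (d - 1) * t' j := by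
      calc t j = (t i₀ * u) ^ (d - 1) * t j := by rw [hu, one_pow, one_mul]
        _ = u ^ (d - 1) * (t i₀ ^ (d - 1) * t j) := by rw [mul_pow]; ring
        _ = u ^ (d - 1) * (t' i₀ ^ (d - 1) * t' j) := by rw [key i₀ j]
        _ = (t' i₀ * u) ^ (d - 1) * t' j := by rw [mul_pow]; ring
    rw [hφ]
    calc t' j = (t' i₀ * u) ^ d * t' j := by rw [hζ, one_mul]
      _ = (t' i₀ * u) * ((t' i₀ * u) ^ (d - 1) * t' j) := by
        rw [← mul_assoc, ← pow_succ', Nat.sub_add_cancel hd]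
      _ = (t' i₀ * u) * t j := by rw [← hj]

lemma prod_ite_fin {K : Type*} [CommMonoid K] (d : ℕ) (i₀ : Fin d) (x y : K) :
    ∏ i : Fin d, (if i = i₀ then y else x) = y * x ^ (d - 1) := by
  classical
  rw [← Finset.mul_prod_erase Finset.univ _ (Finset.mem_univ i₀), if_pos rfl]
  congr 1
  rw [Finset.prod_congr rfl (fun i hi => if_neg (Finset.ne_of_mem_erase hi)), Finset.prod_const,
    Finset.card_erase_of_mem (Finset.mem_univ i₀), Finset.card_univ, Fintype.card_fin]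

variable {X : Scheme.{u}}

lemma app_res (F : X.Modules) (τ : F ⟶ Coh.structureModule X) {U W : X.Opens} (i : W ≤ U)
    (a : Γ(F, U)) :
    (τ.app W (F.presheaf.map (homOfLE i).op a) : Γ(X, W)) =
      X.presheaf.map (homOfLE i).op (τ.app U a : Γ(X, U)) := by
  have h := τ.mapPresheaf.naturality (homOfLE i).op
  have h2 := congrArg (fun φ => φ a) h
  exact h2

lemma germ_app_res (F : X.Modules) (τ : F ⟶ Coh.structureModule X) {U W : X.Opens} (i : W ≤ U)
    (a : Γ(F, U)) (η : X) (hW : η ∈ W) :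
    X.presheaf.germ W η hW (τ.app W (F.presheaf.map (homOfLE i).op a) : Γ(X, W)) =
      X.presheaf.germ U η (i hW) (τ.app U a : Γ(X, U)) := by
  rw [app_res]
  exact TopCat.Presheaf.germ_res_apply X.presheaf (homOfLE i) η hW _

theorem main (k : Type u) [Field k] [IsAlgClosed k] [CharZero k]
    (X : Scheme.{u}) [X.Over (Spec (CommRingCat.of k))]
    (F : X.Modules) (τ τ' : F ⟶ Coh.structureModule X) (d : ℕ) (hd : 1 ≤ d)
    (hS : ∀ (U : X.Opens) (a : Fin d → Γ(F, U)),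
      (∏ i, (τ.app U (a i) : Γ(X, U)) : Γ(X, U)) = (∏ i, (τ'.app U (a i) : Γ(X, U)) : Γ(X, U)))
    (η : X) (hη : IsField (X.presheaf.stalk η)) :
    ∃ ξ : k, ξ ^ d = 1 ∧ ∀ (U : X.Opens) (hU : η ∈ U) (a : Γ(F, U)),
      (X.presheaf.germ U η hU (τ'.app U a : Γ(X, U)) : X.presheaf.stalk η) =
        Curv2.stalkMap k X η ξ * X.presheaf.germ U η hU (τ.app U a : Γ(X, U)) := by
  classical
  haveI : IsDomain (X.presheaf.stalk η) := hη.isDomain
  let ι := Σ U : {U : X.Opens // η ∈ U}, Γ(F, U.1)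
  let t : ι → X.presheaf.stalk η := fun p =>
    X.presheaf.germ p.1.1 η p.1.2 (τ.app p.1.1 p.2 : Γ(X, p.1.1))
  let t' : ι → X.presheaf.stalk η := fun p =>
    X.presheaf.germ p.1.1 η p.1.2 (τ'.app p.1.1 p.2 : Γ(X, p.1.1))
  have key : ∀ p q : ι, t p ^ (d - 1) * t q = t' p ^ (d - 1) * t' q := by
    rintro ⟨⟨U, hU⟩, a⟩ ⟨⟨V, hV⟩, b⟩
    have hW : η ∈ U ⊓ V := ⟨hU, hV⟩
    have h1 := hS (U ⊓ V) (fun i => if i = (⟨0, hd⟩ : Fin d) then
      F.presheaf.map (homOfLE (inf_le_right : U ⊓ V ≤ V)).op b else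
      F.presheaf.map (homOfLE (inf_le_left : U ⊓ V ≤ U)).op a)
    have h2 := congrArg (fun z => (X.presheaf.germ (U ⊓ V) η hW).hom z) h1
    simp only [map_prod] at h2
    have e1 : ∀ (σ : F ⟶ Coh.structureModule X) (i : Fin d),
        (X.presheaf.germ (U ⊓ V) η hW).hom (σ.app (U ⊓ V) (if i = (⟨0, hd⟩ : Fin d) then
          F.presheaf.map (homOfLE (inf_le_right : U ⊓ V ≤ V)).op b else
          F.presheaf.map (homOfLE (inf_le_left : U ⊓ V ≤ U)).op a) : Γ(X, U ⊓ V)) =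
        if i = (⟨0, hd⟩ : Fin d) then X.presheaf.germ V η hV (σ.app V b : Γ(X, V)) else
          X.presheaf.germ U η hU (σ.app U a : Γ(X, U)) := by
      intro σ i
      split_ifs
      · exact germ_app_res F σ inf_le_right b η hW
      · exact germ_app_res F σ inf_le_left a η hW
    rw [Finset.prod_congr rfl (fun i _ => e1 τ i), Finset.prod_congr rfl (fun i _ => e1 τ' i),
      prod_ite_fin, prod_ite_fin] at h2
    show X.presheaf.germ U η hU (τ.app U a : Γ(X, U)) ^ (d - 1) *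
        X.presheaf.germ V η hV (τ.app V b : Γ(X, V)) =
      X.presheaf.germ U η hU (τ'.app U a : Γ(X, U)) ^ (d - 1) *
        X.presheaf.germ V η hV (τ'.app V b : Γ(X, V))
    rw [mul_comm, h2, mul_comm]
  obtain ⟨ξ, hξ, h⟩ := core hη (Curv2.stalkMap k X η) d hd t t' key
  exact ⟨ξ, hξ, fun U hU a => h ⟨⟨U, hU⟩, a⟩⟩

end Groth.Agent.Helper28.RootUnityGerm
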