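import Mathlib
set_option autoImplicit false
universe u
open MvPolynomial

namespace Groth.Agent.Lib.Helper28.SatChart

variable {R : Type u} [CommRing R]

/-- a polynomial with constant coefficient one is left-regular -/
lemma reg_of_coeff_zero (p q : Polynomial R) (hp : p.coeff 0 = 1) (h : p * q = 0) : q = 0 := by
  nontriviality R
  by_contra hq
  have h1 := Polynomial.coeff_mul_natTrailingDegree_add_natTrailingDegree (p := p) (q := q)
  have h2 : p.natTrailingDegree = 0 :=
    Polynomial.natTrailingDegree_eq_zero.mpr (Or.inr (by rw [hp]; exact one_ne_zero))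
  have h3 : p.trailingCoeff = 1 := by rw [Polynomial.trailingCoeff, h2, hp]
  rw [h, h3, one_mul, Polynomial.coeff_zero] at h1
  exact hq (Polynomial.trailingCoeff_eq_zero.mp h1.symm)

noncomputable def ψ : MvPolynomial (Fin 2) R →ₐ[R] Polynomial R :=
  MvPolynomial.aeval ![0, Polynomial.X]

noncomputable def σ : Polynomial R →ₐ[R] MvPolynomial (Fin 2) R :=
  Polynomial.aeval (X 1)

lemma sub_mem (t : MvPolynomial (Fin 2) R) : (X 0 : MvPolynomial (Fin 2) R) ∣ t - σ (ψ t) := by
  induction t using MvPolynomial.induction_on with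
  | C a => simp [ψ, σ]
  | add p q hp hq =>
    rw [map_add, map_add]
    have : p + q - (σ (ψ p) + σ (ψ q)) = (p - σ (ψ p)) + (q - σ (ψ q)) := by ring
    rw [this]; exact dvd_add hp hq
  | mul_X p i hp =>
    fin_cases i
    · simp [ψ, σ]
    · have : p * X 1 - σ (ψ (p * X 1)) = (p - σ (ψ p)) * X 1 := by
        simp [ψ, σ]; ring
      show _ ∣ p * X 1 - σ (ψ (p * X 1))
      rw [this]; exact Dvd.dvd.mul_right hp _

lemma key (G u : MvPolynomial (Fin 2) R)
    (hG : ∀ q : Polynomial R, ψ G * q = 0 → q = 0)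
    (h : G ∣ X 0 * u) : G ∣ u := by
  obtain ⟨t, ht⟩ := h
  have h1 : ψ G * ψ t = 0 := by
    rw [← map_mul, ← ht, map_mul]; simp [ψ]
  have h2 := hG _ h1
  have h3 := sub_mem t
  rw [h2, map_zero, sub_zero] at h3
  obtain ⟨t', rfl⟩ := h3
  refine ⟨t', ?_⟩
  rw [← X_mul_cancel_left_iff (i := (0 : Fin 2)), ht]; ring

lemma sat (G s : MvPolynomial (Fin 2) R)
    (hG : ∀ q : Polynomial R, ψ G * q = 0 → q = 0) :
    (∃ n : ℕ, X 0 ^ n * s ∈ Ideal.span ({X 0 ^ 2 * G} : Set (MvPolynomial (Fin 2) R))) ↔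
      s ∈ Ideal.span ({G} : Set (MvPolynomial (Fin 2) R)) := by
  simp only [Ideal.mem_span_singleton]
  constructor
  · rintro ⟨n, hn⟩
    have h1 : G ∣ X 0 ^ n * s := (Dvd.intro_left _ rfl).trans hn
    clear hn
    induction n with
    | zero => simpa using h1
    | succ n ih =>
      apply ih
      apply key G _ hG
      rw [← mul_assoc, ← pow_succ']; exact h1
  · intro h
    exact ⟨2, mul_dvd_mul_left _ h⟩

end Groth.Agent.Lib.Helper28.SatChart
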