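import Mathlib
import Groth.Prelude.Def_BlowUp2
import Groth.Agent.Lib.Helper28.DiagReg
set_option autoImplicit false
universe u

open CategoryTheory CategoryTheory.Limits AlgebraicGeometry TopologicalSpace
open RingTheory.Sequence

namespace Groth.Agent.Helper28.SecCartier

/-- A section of a separated morphism smooth of relative dimension one is a relative effective
Cartier divisor. -/
theorem section_relCartier {X Y : Scheme.{u}} (f : X ⟶ Y) [IsSeparated f]
    [SmoothOfRelativeDimension 1 f] (σ : Y ⟶ X) (hσ : σ ≫ f = 𝟙 Y) :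
    BlowUp.IsEffCartierIdeal σ.ker ∧ Flat (σ.ker.subschemeι ≫ f) := by
  haveI : IsClosedImmersion (σ ≫ f) := by rw [hσ]; infer_instance
  haveI hcl : IsClosedImmersion σ := IsClosedImmersion.of_comp σ f
  constructor
  · intro x
    by_cases hx : x ∈ Set.range σ
    · obtain ⟨s, rfl⟩ := hx
      obtain ⟨W, hW, hsW, rs, hlen, hrs, hker⟩ :=
        Groth.Agent.Helper28.DiagReg.section_regular_relDim f 1 σ hσ s
      obtain ⟨r, rfl⟩ : ∃ r, rs = [r] := List.length_eq_one_iff.mp hlen
      refine ⟨⟨W, hW⟩, hsW, r, ?_, ?_⟩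
      · have h1 : IsSMulRegular Γ(X, W) r := (isWeaklyRegular_singleton_iff Γ(X, W) r).mp hrs.1
        rw [mem_nonZeroDivisors_iff_right]
        intro a ha
        apply h1
        show r * a = r * 0
        rw [mul_zero, mul_comm]
        exact ha
      · rw [hker, Ideal.ofList_singleton]
    · have hopen : IsOpen (Set.range σ)ᶜ := σ.isClosedEmbedding.isClosed_range.isOpen_compl
      obtain ⟨U, hU, hxU, hUle⟩ : ∃ U : X.Opens, IsAffineOpen U ∧ x ∈ U ∧
          (U : Set X) ⊆ (Set.range σ)ᶜ := by
        obtain ⟨_, ⟨U, hU, rfl⟩, hxU, hUle⟩ :=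
          X.isBasis_affineOpens.exists_subset_of_mem_open hx hopen
        exact ⟨U, hU, hxU, hUle⟩
      refine ⟨⟨U, hU⟩, hxU, 1, one_mem _, ?_⟩
      rw [Ideal.span_singleton_one, Scheme.Hom.ker_apply]
      have hemp : σ ⁻¹ᵁ U = ⊥ := by
        ext y
        simp only [Opens.coe_bot, Set.mem_empty_iff_false, iff_false]
        intro hy
        exact hUle hy ⟨y, rfl⟩
      haveI : Subsingleton Γ(Y, σ ⁻¹ᵁ U) := by
        rw [hemp]
        infer_instance
      rw [Ideal.eq_top_iff_one, RingHom.mem_ker]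
      exact Subsingleton.elim _ _
  · have h1 : σ.ker.subschemeι ≫ f = inv σ.toImage := by
      rw [← cancel_epi σ.toImage, ← Category.assoc]
      have h2 : σ.toImage ≫ σ.ker.subschemeι = σ := σ.toImage_imageι
      rw [h2, hσ, IsIso.hom_inv_id]
    rw [h1]
    infer_instance

end Groth.Agent.Helper28.SecCartier
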