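import Mathlib

/-!
# Rank one projective modules are locally generated by one element (helper28)
-/

set_option autoImplicit false
universe u

noncomputable section

namespace Groth.Agent.Helper28.SecKernelCA

open Module

/-- a bijective `c ↦ c • e` gives a basis with one element. -/
lemma nonempty_basis_of_bijective_smul {B P : Type*} [CommRing B] [AddCommGroup P] [Module B P]
    (e : P) (he : Function.Bijective (fun c : B => c • e)) :
    Nonempty (Module.Basis (Fin 1) B P) := by
  let φ : B ≃ₗ[B] P := LinearEquiv.ofBijective (LinearMap.toSpanSingleton B P e) he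
  exact ⟨Module.Basis.ofEquivFun (φ.symm ≪≫ₗ (LinearEquiv.funUnique (Fin 1) B B).symm)⟩

/-- a basis with one element gives a bijective `c ↦ c • e`. -/
lemma bijective_smul_of_basis {B P : Type*} [CommRing B] [AddCommGroup P] [Module B P]
    (b : Module.Basis (Fin 1) B P) : Function.Bijective (fun c : B => c • b 0) := by
  have h : (fun c : B => c • b 0) = b.equivFun.symm ∘ (fun c : B => (fun _ : Fin 1 => c)) := by
    funext c
    simp [Module.Basis.equivFun_symm_apply]
  rw [h]
  refine b.equivFun.symm.bijective.comp ⟨fun c c' hcc => congrFun hcc 0, fun f => ⟨f 0, ?_⟩⟩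
  funext i
  rw [Subsingleton.elim i 0]

variable {R : Type u} [CommRing R] {Q : Type u} [AddCommGroup Q] [Module R Q]

/-- A finite projective module of rank one at the prime `p` has, after inverting some `r ∉ p`, a
free generator in every model of the localization. -/
theorem exists_away_gen [Module.Finite R Q] [Module.Projective R Q] (p : Ideal R) [p.IsPrime]
    (hrank : Module.finrank (Localization.AtPrime p) (LocalizedModule p.primeCompl Q) = 1) :
    ∃ r : R, r ∉ p ∧ ∀ (B : Type u) [CommRing B] [Algebra R B] [IsLocalization.Away r B]
      (P : Type u) [AddCommGroup P] [Module R P] [Module B P] [IsScalarTower R B P]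
      (g : Q →ₗ[R] P) [IsLocalizedModule (Submonoid.powers r) g],
      ∃ e : P, Function.Bijective (fun c : B => c • e) := by
  haveI : Module.FinitePresentation R Q := Module.finitePresentation_of_projective R Q
  haveI : Module.Free (Localization.AtPrime p) (LocalizedModule p.primeCompl Q) :=
    Module.free_of_flat_of_isLocalRing
  obtain ⟨r, hr, hfree, hfr⟩ := Module.FinitePresentation.exists_free_localizedModule_powers
    p.primeCompl (LocalizedModule.mkLinearMap p.primeCompl Q) (Localization.AtPrime p)
  refine ⟨r, hr, ?_⟩
  intro B _ _ _ P _ _ _ _ g _
  haveI : Nontrivial (Localization (Submonoid.powers r)) :=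
    (show Localization (Submonoid.powers r) →+* Localization.AtPrime p from
      IsLocalization.map (M := Submonoid.powers r) (T := p.primeCompl) _
        (RingHom.id _) (Submonoid.powers_le.mpr hr)).domain_nontrivial
  rw [hrank] at hfr
  haveI : Module.Finite (Localization (Submonoid.powers r))
      (LocalizedModule (Submonoid.powers r) Q) :=
    Module.Finite.of_isLocalizedModule (Submonoid.powers r)
      (LocalizedModule.mkLinearMap (Submonoid.powers r) Q)
  let b : Module.Basis (Fin 1) (Localization (Submonoid.powers r))
      (LocalizedModule (Submonoid.powers r) Q) := Module.finBasisOfFinrankEq _ _ hfr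
  have hb := bijective_smul_of_basis b
  let σ : Localization (Submonoid.powers r) ≃ₐ[R] B :=
    IsLocalization.algEquiv (Submonoid.powers r) (Localization (Submonoid.powers r)) B
  letI mLoc : Module (Localization (Submonoid.powers r)) P :=
    Module.compHom P (σ : Localization (Submonoid.powers r) →+* B)
  have hsm : ∀ (a : Localization (Submonoid.powers r)) (x : P), a • x = σ a • x := fun _ _ => rfl
  haveI : IsScalarTower R (Localization (Submonoid.powers r)) P :=
    IsScalarTower.of_algebraMap_smul (fun a x => by
      rw [hsm, σ.commutes, algebraMap_smul])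
  let ι : LocalizedModule (Submonoid.powers r) Q ≃ₗ[R] P :=
    IsLocalizedModule.iso (Submonoid.powers r) g
  let ι' : LocalizedModule (Submonoid.powers r) Q ≃ₗ[Localization (Submonoid.powers r)] P :=
    ι.extendScalarsOfIsLocalization (Submonoid.powers r) (Localization (Submonoid.powers r))
  refine ⟨ι' (b 0), ?_⟩
  have key : (fun c : B => c • ι' (b 0)) =
      ι' ∘ (fun a : Localization (Submonoid.powers r) => a • b 0) ∘ σ.symm := by
    funext c
    simp only [Function.comp_apply]
    rw [map_smul, hsm, σ.apply_symm_apply]
  rw [key]
  exact ι'.bijective.comp (hb.comp σ.symm.bijective)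

end Groth.Agent.Helper28.SecKernelCA
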