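import Mathlib
import Groth.Agent.Lib.Helper28.SecKernel
import Groth.Agent.Lib.Helper28.SecKernelCA
import Groth.Agent.Lib.Helper28.ProjSpaceExist
import Groth.Agent.Lib.Helper18.TildeProj
import Groth.Agent.Lib.Helper13.LocFree3

/-!
# A rank one projective quotient of `R^{n+1}` gives a section of `P^n_R` (helper28)
-/

set_option autoImplicit false
universe u
open CategoryTheory CategoryTheory.Limits AlgebraicGeometry Opposite TopologicalSpace
open Groth.Agent.Helper13
open Groth.Agent.Helper18.AffHom (res res_smul res_res app_res res_self)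

noncomputable section

namespace Groth.Agent.Helper28.SecKernelTilde

section General

variable {X : Scheme.{u}}

lemma isInvertible_of_isFinLocFreeOfRank_one (L : X.Modules)
    (h : FlatMod.IsFinLocFreeOfRank 1 L) : PicF.IsInvertible L := fun x => by
  obtain ⟨U, hxU, ⟨e⟩⟩ := h x
  exact ⟨U, hxU, ⟨e ≪≫
    coproductUniqueIso (fun _ : Fin 1 => Coh.structureModule (U : Scheme.{u}))⟩⟩

lemma res_sum (L : X.Modules) {U V : X.Opens} (h : U ≤ V) {ι : Type*} (s : Finset ι)
    (f : ι → Γ(L, V)) : res L h (∑ j ∈ s, f j) = ∑ j ∈ s, res L h (f j) :=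
  map_sum _ _ _

lemma germ_sum (L : X.Modules) (U : X.Opens) (x : X) (hx : x ∈ U) {ι : Type*} (s : Finset ι)
    (f : ι → Γ(L, U)) :
    L.presheaf.germ U x hx (∑ j ∈ s, f j) = ∑ j ∈ s, L.presheaf.germ U x hx (f j) :=
  map_sum _ _ _

/-- on an affine scheme, global sections spanning the module of global sections of a
quasi-coherent module generate it. -/
theorem generatedBy_of_span [IsAffine X] (L : X.Modules) [L.IsQuasicoherent]
    {ι : Type*} [Fintype ι] (t : ι → Γ(L, ⊤))
    (hspan : ∀ σ : Γ(L, ⊤), ∃ a : ι → Γ(X, ⊤), σ = ∑ j, a j • t j) :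
    ProjUP.GeneratedBy L t := by
  intro x
  rw [eq_top_iff]
  rintro z -
  obtain ⟨U, hxU, σ, rfl⟩ := TopCat.Presheaf.exists_germ_eq L.presheaf z
  obtain ⟨h, hle, hxh⟩ := (isAffineOpen_top X).exists_basicOpen_le (V := U) ⟨x, hxU⟩ trivial
  have hx' : x ∈ X.basicOpen h := hxh
  have hD : X.basicOpen h ≤ ⊤ := le_top
  obtain ⟨n, τ, hτ⟩ := QCoh.exists_pow_smul_eq_res L (isAffineOpen_top X) h (res L hle σ)
  obtain ⟨a, ha⟩ := hspan τ
  have hu : IsUnit (X.presheaf.map (homOfLE hD).op h) :=
    IsLocalization.map_units Γ(X, X.basicOpen h) (⟨h, Submonoid.mem_powers h⟩ : Submonoid.powers h)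
  have hun : IsUnit ((X.presheaf.map (homOfLE hD).op h) ^ n) := hu.pow n
  obtain ⟨c, hc⟩ := hun.exists_left_inv
  -- `res σ = Σ (c ρ(a_j)) • res t_j`
  have e1 : res L hle σ = ∑ j, (c * X.presheaf.map (homOfLE hD).op (a j)) • res L hD (t j) := by
    have h1 : res L hD τ = (X.presheaf.map (homOfLE hD).op h) ^ n • res L hle σ := hτ
    have h2 : res L hle σ = c • res L hD τ := by
      rw [h1, smul_smul, hc, one_smul]
    rw [h2, ha, res_sum, Finset.smul_sum]
    refine Finset.sum_congr rfl (fun j _ => ?_)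
    rw [res_smul, smul_smul]
  have e2 : L.presheaf.germ U x hxU σ =
      ∑ j, X.presheaf.germ (X.basicOpen h) x hx' (c * X.presheaf.map (homOfLE hD).op (a j)) •
        L.presheaf.germ ⊤ x trivial (t j) := by
    have h3 : L.presheaf.germ U x hxU σ = L.presheaf.germ (X.basicOpen h) x hx' (res L hle σ) :=
      (TopCat.Presheaf.germ_res_apply L.presheaf (homOfLE hle) x hx' σ).symm
    rw [h3, e1, germ_sum]
    refine Finset.sum_congr rfl (fun j _ => ?_)
    rw [Tensor.germ_smul]
    congr 1
    exact TopCat.Presheaf.germ_res_apply L.presheaf (homOfLE hD) x hx' (t j)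
  change L.presheaf.germ U x hxU σ ∈ _
  rw [e2]
  exact Submodule.sum_mem _ (fun j _ => Submodule.smul_mem _ _ (Submodule.subset_span ⟨j, rfl⟩))

end General

set_option backward.isDefEq.respectTransparency.types false

lemma isAffineOpen_basicOpen' (RR : CommRingCat.{u}) (r : RR) :
    IsAffineOpen (X := Spec RR) (PrimeSpectrum.basicOpen r) := by
  rw [← basicOpen_eq_of_affine]
  exact (isAffineOpen_top (Spec RR)).basicOpen _

variable (RR : CommRingCat.{u})

/-- the module on `Spec R` attached to a finite projective module of rank one is invertible. -/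
theorem isInvertible_tilde (M : ModuleCat.{u} RR) [Module.Finite RR M]
    [Module.Projective RR M]
    (hrank : ∀ p : PrimeSpectrum RR, Module.finrank (Localization.AtPrime p.asIdeal)
      (LocalizedModule p.asIdeal.primeCompl M) = 1) :
    PicF.IsInvertible (tilde M) := by
  apply isInvertible_of_isFinLocFreeOfRank_one
  rw [LocFree.isFinLocFreeOfRank_iff_of_isQuasicoherent]
  intro x
  obtain ⟨r, hr, H⟩ := SecKernelCA.exists_away_gen (R := RR) (Q := M)
    (x : PrimeSpectrum RR).asIdeal (hrank x)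
  refine ⟨PrimeSpectrum.basicOpen r, isAffineOpen_basicOpen' RR r, hr, ?_⟩
  letI i1 : AddCommGroup Γ(tilde M, PrimeSpectrum.basicOpen r) := inferInstance
  letI i2 : Module RR Γ(tilde M, PrimeSpectrum.basicOpen r) := inferInstance
  letI i3 : Module Γ(Spec RR, PrimeSpectrum.basicOpen r) Γ(tilde M, PrimeSpectrum.basicOpen r) :=
    inferInstance
  haveI i4 : IsScalarTower RR Γ(Spec RR, PrimeSpectrum.basicOpen r)
      Γ(tilde M, PrimeSpectrum.basicOpen r) := inferInstance
  obtain ⟨e, he⟩ := @H Γ(Spec RR, PrimeSpectrum.basicOpen r) _ _ _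
    Γ(tilde M, PrimeSpectrum.basicOpen r) _ i2 i3 i4
    (tilde.toOpen M (PrimeSpectrum.basicOpen r)).hom
    (show IsLocalizedModule (Submonoid.powers r)
      (tilde.toOpen M (PrimeSpectrum.basicOpen r)).hom from inferInstance)
  exact SecKernelCA.nonempty_basis_of_bijective_smul e he

open Groth.Agent.Helper18.TildeProj in
/-- **image of the correspondence, one direction**: a submodule of `R^{n+1}` with invertible
quotient is the relation module of a section of `P^n_R`. -/
theorem exists_section (n : ℕ) (F : Submodule RR (Fin (n + 1) → RR))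
    [Module.Projective RR ((Fin (n + 1) → RR) ⧸ F)]
    (hrank : ∀ p : PrimeSpectrum RR, Module.finrank (Localization.AtPrime p.asIdeal)
      (LocalizedModule p.asIdeal.primeCompl ((Fin (n + 1) → RR) ⧸ F)) = 1) :
    ∃ s : Spec RR ⟶ CohB1.ProjSpace n RR,
      s ≫ CohB1.ProjSpace.toSpec n RR = 𝟙 (Spec RR) ∧ ProjUP.secKernel n RR s = F := by
  classical
  let Qm : ModuleCat.{u} RR := ModuleCat.of RR ((Fin (n + 1) → RR) ⧸ F)
  let L : (Spec RR).Modules := tilde Qm
  let E := topEquiv RR Qm
  let t : Fin (n + 1) → Γ(L, ⊤) := fun j => E (F.mkQ (Pi.single j 1))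
  have hE : ∀ w : Fin (n + 1) → RR,
      E (F.mkQ w) = ∑ l, (Scheme.ΓSpecIso RR).inv.hom (w l) • t l := by
    intro w
    have hw : F.mkQ w = ∑ l, w l • F.mkQ (Pi.single l 1) := by
      conv_lhs => rw [pi_eq_sum_univ w]
      rw [map_sum]
      refine Finset.sum_congr rfl (fun l _ => ?_)
      rw [map_smul]
      congr 2
      funext k
      simp [Pi.single_apply, eq_comm]
    rw [hw, map_sum]
    refine Finset.sum_congr rfl (fun l _ => ?_)
    exact E.map_smulₛₗ (w l) _
  haveI : Module.Finite RR Qm := inferInstanceAs (Module.Finite RR ((Fin (n + 1) → RR) ⧸ F))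
  haveI : Module.Projective RR Qm :=
    inferInstanceAs (Module.Projective RR ((Fin (n + 1) → RR) ⧸ F))
  have hinv : PicF.IsInvertible L := isInvertible_tilde RR Qm hrank
  have hgen : ProjUP.GeneratedBy L t := by
    apply generatedBy_of_span L t
    intro σ
    obtain ⟨w, hw⟩ := F.mkQ_surjective (E.symm σ)
    refine ⟨fun l => (Scheme.ΓSpecIso RR).inv.hom (w l), ?_⟩
    rw [← hE w, hw, LinearEquiv.apply_symm_apply]
  obtain ⟨s, hs, τ, hτ⟩ := ProjSpaceExist.main (R := RR) n (𝟙 (Spec RR)) L t hinv hgen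
  refine ⟨s, hs, ?_⟩
  ext w
  rw [SecKernel.mem_secKernel]
  let T := LocFree.appLinearEquiv τ ⊤
  have hT : ∀ l, T (ProjUP.pullSec s (Twist.twistProjSpace n RR 1) (ProjUP.coord n RR l)) = t l :=
    fun l => hτ l
  have h1 : T (∑ l, ((Scheme.ΓSpecIso RR).inv.hom (w l)) •
      ProjUP.pullSec s (Twist.twistProjSpace n RR 1) (ProjUP.coord n RR l)) =
      E (F.mkQ w) := by
    rw [map_sum, hE w]
    refine Finset.sum_congr rfl (fun l _ => ?_)
    rw [map_smul, hT]
  have hker : F.mkQ w = 0 ↔ w ∈ F := by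
    rw [Submodule.mkQ_apply]
    exact Submodule.Quotient.mk_eq_zero F
  constructor
  · intro h0
    have h0' : (∑ l, ((Scheme.ΓSpecIso RR).inv.hom (w l)) •
      ProjUP.pullSec s (Twist.twistProjSpace n RR 1) (ProjUP.coord n RR l)) = 0 := h0
    rw [h0', map_zero] at h1
    have h2 : F.mkQ w = 0 := by
      apply E.injective
      rw [← h1, map_zero]
    exact hker.1 h2
  · intro hw
    apply T.injective
    rw [h1, map_zero, hker.2 hw, map_zero]

end Groth.Agent.Helper28.SecKernelTilde
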