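import Mathlib
import Groth.Agent.Lib.Helper28.SecKernel
import Groth.Agent.Lib.Helper28.SecKernelCA
import Groth.Agent.Lib.Helper28.SecKernelTilde
import Groth.Agent.Lib.Helper18.TildeProj
import Groth.Agent.Lib.Helper13.LocFree3
import Groth.Agent.Lib.Helper13.HomShAff

/-!
# The relation module of a section of `P^n_R` has an invertible quotient (helper28)
-/

set_option autoImplicit false
universe u
open CategoryTheory CategoryTheory.Limits AlgebraicGeometry Opposite TopologicalSpace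
open Groth.Agent.Helper13 Groth.Agent.Helper13.Inv
open Groth.Agent.Helper28.ProjSymUnique Groth.Agent.Helper28.ProjFracSec
open Groth.Agent.Helper18.AffHom (res res_smul res_res app_res res_self)

noncomputable section

namespace Groth.Agent.Helper28.SecKernelRank

section General

variable {X : Scheme.{u}}

/-- on an affine scheme, global sections of a quasi-coherent module which locally contain a free
generator span the module of global sections. -/
theorem span_of_isGen_cover [IsAffine X] (L : X.Modules) [L.IsQuasicoherent] {ι : Type*}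
    [Fintype ι] (t : ι → Γ(L, ⊤))
    (hcover : ∀ x : X, ∃ (i : ι) (W : X.Opens), x ∈ W ∧
      ∀ (y : X) (_ : y ∈ W), IsGen L (t i) y trivial) (σ : Γ(L, ⊤)) :
    ∃ a : ι → Γ(X, ⊤), σ = ∑ j, a j • t j := by
  classical
  suffices hσ : σ ∈ Submodule.span Γ(X, ⊤) (Set.range t) by
    obtain ⟨a, ha⟩ := (Submodule.mem_span_range_iff_exists_fun Γ(X, ⊤)).1 hσ
    exact ⟨a, ha.symm⟩
  let S : Set Γ(X, ⊤) :=
    {h | ∃ i : ι, ∀ (y : X) (_ : y ∈ X.basicOpen h), IsGen L (t i) y trivial}
  have hS : Ideal.span S = ⊤ := by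
    rw [← (isAffineOpen_top X).self_le_iSup_basicOpen_iff]
    intro x _
    obtain ⟨i, W, hxW, hW⟩ := hcover x
    obtain ⟨h, hle, hxh⟩ := (isAffineOpen_top X).exists_basicOpen_le (V := W) ⟨x, hxW⟩ trivial
    exact Opens.mem_iSup.2 ⟨⟨h, i, fun y hy => hW y (hle hy)⟩, hxh⟩
  refine Submodule.mem_of_span_eq_top_of_smul_pow_mem _ S hS σ ?_
  rintro ⟨h, i, hi⟩
  have hD : X.basicOpen h ≤ ⊤ := le_top
  have hgenD : ∀ (y : X) (hy : y ∈ X.basicOpen h), IsGen L (res L hD (t i)) y hy :=
    fun y hy => (isGen_res _ (homOfLE hD) _ y hy).2 (hi y hy)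
  obtain ⟨c, hc0⟩ := (GenCoef.smul_bijective_of_isGen L _ hgenD).2 (res L hD σ)
  have hc : c • res L hD (t i) = res L hD σ := hc0
  obtain ⟨⟨a, ⟨_, m, rfl⟩⟩, hca⟩ := IsLocalization.surj (Submonoid.powers h) c
  have hc' : X.presheaf.map (homOfLE hD).op (h ^ m) * c = X.presheaf.map (homOfLE hD).op a := by
    rw [mul_comm]; exact hca
  have z1 : res L hD (h ^ m • σ - a • t i) = 0 := by
    rw [SecKernel.res_sub', res_smul, res_smul, ← hc, smul_smul, hc', sub_self]
  obtain ⟨N, hN⟩ := QCoh.exists_pow_smul_eq_zero L (isAffineOpen_top X) h _ z1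
  refine ⟨N + m, ?_⟩
  have e1 : h ^ (N + m) • σ = (h ^ N * a) • t i := by
    rw [smul_sub, sub_eq_zero] at hN
    rw [pow_add, mul_smul, hN, mul_smul]
  change h ^ (N + m) • σ ∈ _
  rw [e1]
  exact Submodule.smul_mem _ _ (Submodule.subset_span ⟨i, rfl⟩)

end General

set_option backward.isDefEq.respectTransparency.types false

variable (RR : CommRingCat.{u})

lemma algebraMap_top_bijective : Function.Bijective (algebraMap RR Γ(Spec RR, ⊤)) := by
  have e : (homOfLE (le_top : (⊤ : (Spec RR).Opens) ≤ ⊤)) = 𝟙 _ := Subsingleton.elim _ _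
  have h1 : algebraMap RR Γ(Spec RR, ⊤) = (Scheme.ΓSpecIso RR).inv.hom := by
    rw [IsAffineOpen.algebraMap_Spec_obj, e, op_id, CategoryTheory.Functor.map_id,
      Category.comp_id]
  rw [h1]
  exact ConcreteCategory.bijective_of_isIso (Scheme.ΓSpecIso RR).inv

/-- restriction to a basic open of `Spec R`, as an `R`-linear map. -/
def resLin (L : (Spec RR).Modules) (r : RR) :
    Γ(L, ⊤) →ₗ[RR] Γ(L, PrimeSpectrum.basicOpen r) where
  toFun x := L.presheaf.map
    (homOfLE (le_top : (PrimeSpectrum.basicOpen r : (Spec RR).Opens) ≤ ⊤)).op x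
  map_add' := map_add _
  map_smul' a x := Scheme.Modules.map_smul_Spec (M := L)
    (homOfLE (le_top : (PrimeSpectrum.basicOpen r : (Spec RR).Opens) ≤ ⊤)).op a x

lemma resLin_apply (L : (Spec RR).Modules) (r : RR) (x : Γ(L, ⊤)) :
    resLin RR L r x = L.presheaf.map
      (homOfLE (le_top : (PrimeSpectrum.basicOpen r : (Spec RR).Opens) ≤ ⊤)).op x := rfl

instance isLocalizedModule_resLin (L : (Spec RR).Modules) [L.IsQuasicoherent] (r : RR) :
    IsLocalizedModule (Submonoid.powers r) (resLin RR L r) where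
  map_units := by
    rintro ⟨_, k, rfl⟩
    have h := Scheme.Modules.isUnit_algebraMap_end_of_le_basicOpen (M := L)
      (U := PrimeSpectrum.basicOpen r) r le_rfl
    change IsUnit (algebraMap RR (Module.End RR Γ(L, PrimeSpectrum.basicOpen r)) (r ^ k))
    rw [map_pow]
    exact h.pow k
  surj y := by
    obtain ⟨k, t, ht⟩ := QCoh.spec_exists_lift L r y
    exact ⟨(t, ⟨r ^ k, k, rfl⟩), ht.symm⟩
  exists_of_eq {x₁ x₂} h := by
    have h0 : L.presheaf.map
        (homOfLE (le_top : (PrimeSpectrum.basicOpen r : (Spec RR).Opens) ≤ ⊤)).op (x₁ - x₂) = 0 := by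
      have h' := h
      rw [resLin_apply, resLin_apply] at h'
      have h2 := SecKernel.res_sub' L
        (le_top : (PrimeSpectrum.basicOpen r : (Spec RR).Opens) ≤ ⊤) x₁ x₂
      exact h2.trans (sub_eq_zero.2 h')
    obtain ⟨k, hk⟩ := QCoh.spec_exists_pow_smul_eq_zero L r (x₁ - x₂) h0
    refine ⟨⟨r ^ k, k, rfl⟩, ?_⟩
    change r ^ k • x₁ = r ^ k • x₂
    rw [smul_sub, sub_eq_zero] at hk
    exact hk

/-- global sections over `Spec R` of a quasi-coherent module with an everywhere generating section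
over `D(r)`: the rank at the points of `D(r)` is one. -/
theorem rankAtStalk_eq_one (L : (Spec RR).Modules) [L.IsQuasicoherent]
    [Module.Finite RR Γ(L, ⊤)] [Module.Flat RR Γ(L, ⊤)] (r : RR)
    (e : Γ(L, PrimeSpectrum.basicOpen r))
    (he : ∀ (y : Spec RR) (hy : y ∈ (PrimeSpectrum.basicOpen r : (Spec RR).Opens)),
      IsGen L e y hy) (p : PrimeSpectrum RR) (hp : p ∈ PrimeSpectrum.basicOpen r) :
    Module.rankAtStalk (R := RR) Γ(L, ⊤) p = 1 := by
  obtain ⟨b⟩ := SecKernelCA.nonempty_basis_of_bijective_smul e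
    (GenCoef.smul_bijective_of_isGen L e he)
  let resR := resLin RR L r
  have hbc : IsBaseChange Γ(Spec RR, PrimeSpectrum.basicOpen r) resR :=
    IsLocalizedModule.isBaseChange (Submonoid.powers r) Γ(Spec RR, PrimeSpectrum.basicOpen r) resR
  have hrange : p ∈ Set.range (PrimeSpectrum.comap
      (algebraMap RR Γ(Spec RR, PrimeSpectrum.basicOpen r))) := by
    rw [PrimeSpectrum.localization_away_comap_range Γ(Spec RR, PrimeSpectrum.basicOpen r) r]
    exact hp
  obtain ⟨p', hp'⟩ := hrange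
  haveI : Nontrivial Γ(Spec RR, PrimeSpectrum.basicOpen r) :=
    ⟨⟨0, 1, fun h01 => p'.isPrime.ne_top
      ((Ideal.eq_top_iff_one _).2 (h01 ▸ p'.asIdeal.zero_mem))⟩⟩
  haveI : Module.Free Γ(Spec RR, PrimeSpectrum.basicOpen r) Γ(L, PrimeSpectrum.basicOpen r) :=
    Module.Free.of_basis b
  have h1 := Module.rankAtStalk_isBaseChange hbc p'
  rw [hp'] at h1
  rw [← h1, Module.rankAtStalk_eq_finrank_of_free, Pi.natCast_def]
  simp [Module.finrank_eq_card_basis b]

open MvPolynomial in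
/-- **image of the correspondence, other direction**: the relation module of a morphism
`Spec R ⟶ P^n_R` has a projective quotient of rank one. -/
theorem projective_and_rank (n : ℕ) (s : Spec RR ⟶ CohB1.ProjSpace n RR) :
    Module.Projective RR ((Fin (n + 1) → RR) ⧸ ProjUP.secKernel n RR s) ∧
      ∀ p : PrimeSpectrum RR, Module.finrank (Localization.AtPrime p.asIdeal)
        (LocalizedModule p.asIdeal.primeCompl
          ((Fin (n + 1) → RR) ⧸ ProjUP.secKernel n RR s)) = 1 := by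
  classical
  have hgen : Algebra.adjoin RR (Set.range fun i : Fin (n + 1) =>
      (X i : MvPolynomial (Fin (n + 1)) RR)) = ⊤ := MvPolynomial.adjoin_range_X
  let 𝒮 := CohB1.polyGrading n RR
  let g : Fin (n + 1) → MvPolynomial (Fin (n + 1)) RR := fun i => X i
  have hg : ∀ i, g i ∈ 𝒮 1 := fun i => MvPolynomial.isHomogeneous_X RR i
  have hc := hcov 𝒮 g hg hgen
  have hinv0 : PicF.IsInvertible (Twist.twist 𝒮 1) := isInvertible_twist_one 𝒮 hc
  let L : (Spec RR).Modules := PB 𝒮 s
  have hinv : PicF.IsInvertible L := PbInv.isInvertible_pullback s _ hinv0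
  haveI : L.IsQuasicoherent := Inv.isQuasicoherent_of_isInvertible _ hinv
  let t : Fin (n + 1) → Γ(L, ⊤) := fun l => psec 𝒮 s (g l) (hg l)
  -- the sections locally generate
  have hcover : ∀ x : Spec RR, ∃ (i : Fin (n + 1)) (W : (Spec RR).Opens), x ∈ W ∧
      ∀ (y : Spec RR) (_ : y ∈ W), IsGen L (t i) y trivial := by
    intro x
    obtain ⟨i, hi⟩ := exists_nmem 𝒮 g hg hgen (s x)
    exact ⟨i, s ⁻¹ᵁ Proj.basicOpen 𝒮 (g i), hi, fun y hy => (mem_iff 𝒮 hc (hg i) s y).1 hy⟩
  have hspan := span_of_isGen_cover L t hcover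
  -- finiteness and projectivity over `Γ(Spec R, ⊤)` and over `R`
  have hflf : FlatMod.IsFinLocFree L := fun x => by
    obtain ⟨U, hxU, ⟨e⟩⟩ := hinv x
    exact ⟨U, 1, hxU, ⟨e ≪≫
      (coproductUniqueIso (fun _ : Fin 1 => Coh.structureModule (U : Scheme.{u}))).symm⟩⟩
  obtain ⟨hfinA, hprojA⟩ := LocFree.projective_sections_of_isFinLocFree L hflf
    (isAffineOpen_top (Spec RR))
  have hbij := algebraMap_top_bijective RR
  haveI : Module.Finite RR Γ(Spec RR, ⊤) :=
    Module.Finite.of_surjective (Algebra.linearMap RR Γ(Spec RR, ⊤)) hbij.2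
  haveI : Module.Projective RR Γ(Spec RR, ⊤) :=
    Module.Projective.of_equiv (LinearEquiv.ofBijective (Algebra.linearMap RR Γ(Spec RR, ⊤)) hbij)
  haveI : Module.Finite RR Γ(L, ⊤) := Module.Finite.trans Γ(Spec RR, ⊤) Γ(L, ⊤)
  haveI : Module.Projective RR Γ(L, ⊤) :=
    HomShAff.projective_trans RR Γ(Spec RR, ⊤) Γ(L, ⊤)
  -- the quotient is the module of global sections
  have hsmul : ∀ (a : RR) (x : Γ(L, ⊤)), a • x = (Scheme.ΓSpecIso RR).inv.hom a • x :=
    fun a x => Groth.Agent.Helper18.TildeProj.smul_top_eq' L a x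
  let Φ : (Fin (n + 1) → RR) →ₗ[RR] Γ(L, ⊤) := Fintype.linearCombination RR t
  have hΦ : ∀ w, Φ w = ∑ l, (Scheme.ΓSpecIso RR).inv.hom (w l) • t l := by
    intro w
    change ∑ l, w l • t l = _
    refine Finset.sum_congr rfl (fun l _ => hsmul _ _)
  have hker : LinearMap.ker Φ = ProjUP.secKernel n RR s := by
    ext w
    rw [LinearMap.mem_ker, SecKernel.mem_secKernel, hΦ]
    exact Iff.rfl
  have hsurj : Function.Surjective Φ := by
    intro σ
    obtain ⟨a, ha⟩ := hspan σ
    refine ⟨fun l => (Scheme.ΓSpecIso RR).hom.hom (a l), ?_⟩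
    rw [hΦ, ha]
    refine Finset.sum_congr rfl (fun l _ => ?_)
    congr 1
    exact congrArg (fun φ => φ.hom (a l)) (Scheme.ΓSpecIso RR).hom_inv_id
  let eQ : ((Fin (n + 1) → RR) ⧸ ProjUP.secKernel n RR s) ≃ₗ[RR] Γ(L, ⊤) :=
    (Submodule.quotEquivOfEq _ _ hker.symm).trans (Φ.quotKerEquivOfSurjective hsurj)
  refine ⟨Module.Projective.of_equiv eQ.symm, fun p => ?_⟩
  change Module.rankAtStalk (R := RR) ((Fin (n + 1) → RR) ⧸ ProjUP.secKernel n RR s) p = 1
  rw [Module.rankAtStalk_eq_of_equiv eQ]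
  -- choose a basic open around `p` where some `t i` generates
  obtain ⟨i, W, hpW, hW⟩ := hcover p
  obtain ⟨_, ⟨r, rfl⟩, hpr, hrW⟩ :=
    Opens.isBasis_iff_nbhd.1 PrimeSpectrum.isBasis_basic_opens hpW
  have hle : (PrimeSpectrum.basicOpen r : (Spec RR).Opens) ≤ ⊤ := le_top
  exact rankAtStalk_eq_one RR L r (res L hle (t i))
    (fun y hy => (isGen_res _ (homOfLE hle) _ y hy).2 (hW y (hrW hy))) p hpr

end Groth.Agent.Helper28.SecKernelRank
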