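import Mathlib

/-!
# A section of a morphism to a scheme with discrete underlying space is a closed immersion
(helper28)
-/
set_option autoImplicit false
universe u
open CategoryTheory AlgebraicGeometry TopologicalSpace

namespace Groth.Agent.Helper28.SectionDiscrete

lemma surj_comp_iso {A B C : CommRingCat.{u}} (f : A ⟶ B) (g : B ⟶ C) [IsIso g]
    (hf : Function.Surjective f) : Function.Surjective (f ≫ g) := by
  intro c
  obtain ⟨a, ha⟩ := hf (inv g c)
  refine ⟨a, ?_⟩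
  rw [CommRingCat.comp_apply, ha, ← CommRingCat.comp_apply, IsIso.inv_hom_id]
  rfl

lemma key {X S : Scheme.{u}} (π : X ⟶ S) (ε : S ⟶ X) (hε : ε ≫ π = 𝟙 S)
    (W : S.Opens) (V' : X.Opens) (hle : V' ≤ π ⁻¹ᵁ W) (hW : ε ⁻¹ᵁ V' = W) (a : Γ(S, W)) :
    ε.app V' (π.appLE W V' hle a) = S.presheaf.map (eqToHom hW).op a := by
  have h8 : (ε ≫ π) ⁻¹ᵁ W = W := by rw [hε]; rfl
  have h9 : (ε ≫ π).app W = S.presheaf.map (eqToHom h8).op := by
    rw [Scheme.Hom.congr_app hε W, Scheme.Hom.id_app]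
    exact Category.id_comp _
  have hle2 : ε ⁻¹ᵁ V' ≤ (ε ≫ π) ⁻¹ᵁ W := fun t ht => hle ht
  have h10 : π.appLE W V' hle ≫ ε.app V' =
      (ε ≫ π).app W ≫ S.presheaf.map (homOfLE hle2).op := by
    rw [Scheme.Hom.appLE, Category.assoc, Scheme.Hom.naturality, ← Category.assoc]
    rfl
  have h11 : ε.app V' (π.appLE W V' hle a) = (π.appLE W V' hle ≫ ε.app V') a := rfl
  rw [h11, h10, h9, ← Functor.map_comp]
  congr 1

theorem isClosedImmersion_section {X S : Scheme.{u}} [DiscreteTopology S] (π : X ⟶ S)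
    (ε : S ⟶ X) (hε : ε ≫ π = 𝟙 S) : IsClosedImmersion ε := by
  have h1 : ∀ s : S, π.base (ε.base s) = s := fun s => by
    have h := congrArg (fun f : S ⟶ S => f.base s) hε
    simpa using h
  obtain ⟨U₀, hU₀def⟩ : ∃ U₀ : S → S.Opens, ∀ s, (U₀ s : Set S) = {s} :=
    ⟨fun s => ⟨{s}, isOpen_discrete _⟩, fun s => rfl⟩
  have hmem : ∀ s t, t ∈ U₀ s ↔ t = s := fun s t => by
    rw [← SetLike.mem_coe, hU₀def]; exact Set.mem_singleton_iff
  have hU₀ : ∀ s, IsAffineOpen (U₀ s) := by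
    intro s
    obtain ⟨_, ⟨W, hW, rfl⟩, hsW, hWU⟩ :=
      S.isBasis_affineOpens.exists_subset_of_mem_open
        (show s ∈ (U₀ s : Set S) from (hmem s s).mpr rfl) (U₀ s).isOpen
    have : W = U₀ s := by
      ext t
      constructor
      · intro ht; exact hWU ht
      · intro ht
        have : t = s := (hmem s t).mp ht
        rw [this]; exact hsW
    rw [← this]; exact hW
  -- the core surjectivity/affineness statement
  have core : ∀ (s : S) (V' : X.Opens), V' ≤ π ⁻¹ᵁ (U₀ s) →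
      IsAffineOpen (ε ⁻¹ᵁ V') ∧ Function.Surjective (ε.app V') := by
    intro s V' hV'
    have hsub : ∀ t, t ∈ ε ⁻¹ᵁ V' → t = s := by
      intro t ht
      have h2 : π.base (ε.base t) ∈ U₀ s := hV' ht
      rw [h1] at h2
      exact (hmem s t).mp h2
    by_cases hs : s ∈ ε ⁻¹ᵁ V'
    · have hW : ε ⁻¹ᵁ V' = U₀ s := by
        ext t
        constructor
        · intro ht; exact (hmem s t).mpr (hsub t ht)
        · intro ht
          have : t = s := (hmem s t).mp ht
          rw [this]; exact hs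
      refine ⟨by rw [hW]; exact hU₀ s, ?_⟩
      intro a
      refine ⟨π.appLE (U₀ s) V' hV' (S.presheaf.map (eqToHom hW.symm).op a), ?_⟩
      rw [key π ε hε (U₀ s) V' hV' hW, ← CommRingCat.comp_apply, ← Functor.map_comp]
      have h5 : ∀ (f : Opposite.op (ε ⁻¹ᵁ V') ⟶ Opposite.op (ε ⁻¹ᵁ V')),
          S.presheaf.map f a = a := fun f => by
        have : f = 𝟙 _ := Subsingleton.elim _ _
        rw [this, CategoryTheory.Functor.map_id]; rfl
      exact h5 _
    · have hbot : ε ⁻¹ᵁ V' = ⊥ := by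
        rw [eq_bot_iff]
        intro t ht
        exact (hs (hsub t ht ▸ ht)).elim
      refine ⟨by rw [hbot]; exact isAffineOpen_bot S, ?_⟩
      haveI : Subsingleton Γ(S, ε ⁻¹ᵁ V') := by rw [hbot]; infer_instance
      exact fun a => ⟨0, Subsingleton.elim _ _⟩
  -- affine cover of X
  have hcov : ∀ x : X, ∃ V : X.affineOpens, x ∈ V.1 ∧ V.1 ≤ π ⁻¹ᵁ (U₀ (π.base x)) := by
    intro x
    obtain ⟨_, ⟨V, hV, rfl⟩, hxV, hVU⟩ :=
      X.isBasis_affineOpens.exists_subset_of_mem_open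
        (show x ∈ ((π ⁻¹ᵁ (U₀ (π.base x)) : X.Opens) : Set X) from
          (hmem (π.base x) (π.base x)).mpr rfl) (π ⁻¹ᵁ (U₀ (π.base x))).isOpen
    exact ⟨⟨V, hV⟩, hxV, hVU⟩
  choose V hxV hVU using hcov
  have hsup : (⨆ x, (V x : X.Opens)) = ⊤ := by
    rw [eq_top_iff]
    intro x _
    exact TopologicalSpace.Opens.mem_iSup.mpr ⟨x, hxV x⟩
  rw [HasAffineProperty.iff_of_iSup_eq_top (P := @IsClosedImmersion) V hsup]
  intro x
  have hc := core (π.base x) (V x).1 (hVU x)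
  refine ⟨hc.1, ?_⟩
  have hc2 : Function.Surjective (ε.app ((V x).1.ι ''ᵁ ⊤)) := by
    have : (V x).1.ι ''ᵁ ⊤ ≤ π ⁻¹ᵁ (U₀ (π.base x)) := by
      rw [Scheme.Opens.ι_image_top]; exact hVU x
    exact (core (π.base x) _ this).2
  have hcomp := surj_comp_iso (ε.app ((V x).1.ι ''ᵁ ⊤))
    (S.presheaf.map (eqToHom (image_morphismRestrict_preimage ε (V x).1 ⊤)).op) hc2
  rw [morphismRestrict_appTop]
  exact hcomp

end Groth.Agent.Helper28.SectionDiscrete
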