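import Mathlib

/-!
# Semilinear endomorphisms of finite-dimensional vector spaces (helper28)

Library for the `SigmaLin` family of statements: `k` a field, `σ : k →+* k`,
`T : V →ₛₗ[σ] V` on a finite-dimensional `V`.
-/

set_option autoImplicit false
universe u v

namespace Groth.Agent.Helper28.SigmaLin

open Submodule

section basic

variable {k : Type u} [Field k] {σ : k →+* k}
variable {V : Type v} [AddCommGroup V] [Module k V] (T : V →ₛₗ[σ] V)

/-- the span of the image of the `n`-th iterate. -/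
def W (n : ℕ) : Submodule k V := Submodule.span k (Set.range ((⇑T)^[n]))

/-- the stable part. -/
def Winf : Submodule k V := ⨅ n : ℕ, W T n

lemma iterate_add (n : ℕ) (v w : V) : (⇑T)^[n] (v + w) = (⇑T)^[n] v + (⇑T)^[n] w := by
  induction n generalizing v w with
  | zero => rfl
  | succ n ih => rw [Function.iterate_succ_apply, Function.iterate_succ_apply,
      Function.iterate_succ_apply, map_add, ih]

lemma iterate_sub (n : ℕ) (v w : V) : (⇑T)^[n] (v - w) = (⇑T)^[n] v - (⇑T)^[n] w := by
  have := iterate_add T n (v - w) w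
  rw [sub_add_cancel] at this
  rw [this, add_sub_cancel_right]

lemma iterate_zero' (n : ℕ) : (⇑T)^[n] (0 : V) = 0 := by
  induction n with
  | zero => rfl
  | succ n ih => rw [Function.iterate_succ_apply, map_zero, ih]

lemma iterate_smul (n : ℕ) (c : k) (v : V) : (⇑T)^[n] (c • v) = (⇑σ)^[n] c • (⇑T)^[n] v := by
  induction n generalizing c v with
  | zero => rfl
  | succ n ih => rw [Function.iterate_succ_apply, Function.iterate_succ_apply,
      Function.iterate_succ_apply, map_smulₛₗ, ih]

lemma iterate_sigma_eq_zero (n : ℕ) (c : k) (h : (⇑σ)^[n] c = 0) : c = 0 := by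
  induction n generalizing c with
  | zero => exact h
  | succ n ih =>
    rw [Function.iterate_succ_apply] at h
    exact (map_eq_zero σ).mp (ih _ h)

lemma W_succ_le (n : ℕ) : W T (n + 1) ≤ W T n := by
  apply Submodule.span_le.mpr
  rintro _ ⟨v, rfl⟩
  apply Submodule.subset_span
  exact ⟨T v, by simp only [Function.iterate_succ_apply]⟩

lemma W_antitone : Antitone (W T) := antitone_nat_of_succ_le (W_succ_le T)

lemma map_mem_W_succ (n : ℕ) {v : V} (hv : v ∈ W T n) : T v ∈ W T (n + 1) := by
  induction hv using Submodule.span_induction with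
  | mem x hx =>
    obtain ⟨w, rfl⟩ := hx
    apply Submodule.subset_span
    exact ⟨w, by simp only [Function.iterate_succ_apply']⟩
  | zero => rw [map_zero]; exact zero_mem _
  | add x y _ _ hx hy => rw [map_add]; exact add_mem hx hy
  | smul c x _ hx => rw [map_smulₛₗ]; exact smul_mem _ _ hx

lemma W_succ_le_span_image (n : ℕ) : W T (n + 1) ≤ Submodule.span k (T '' (W T n : Set V)) := by
  apply Submodule.span_le.mpr
  rintro _ ⟨v, rfl⟩
  apply Submodule.subset_span
  refine ⟨(⇑T)^[n] v, Submodule.subset_span ⟨v, rfl⟩, ?_⟩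
  simp only [Function.iterate_succ_apply']

lemma map_mem_Winf {v : V} (hv : v ∈ Winf T) : T v ∈ Winf T := by
  rw [Winf, Submodule.mem_iInf] at hv ⊢
  intro n
  exact W_antitone T (Nat.le_succ n) (map_mem_W_succ T n (hv n))

lemma iterate_mem_Winf (n : ℕ) {v : V} (hv : v ∈ Winf T) : (⇑T)^[n] v ∈ Winf T := by
  induction n with
  | zero => exact hv
  | succ n ih => rw [Function.iterate_succ_apply']; exact map_mem_Winf T ih

variable [FiniteDimensional k V]

lemma exists_W_stable : ∃ N : ℕ, ∀ n : ℕ, N ≤ n → W T N = W T n := by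
  have := IsArtinian.monotone_stabilizes (R := k) (M := V)
    ⟨fun n => OrderDual.toDual (W T n), fun a b hab => W_antitone T hab⟩
  obtain ⟨N, hN⟩ := this
  exact ⟨N, fun n hn => by simpa using hN n hn⟩

lemma exists_Winf_eq : ∃ N : ℕ, Winf T = W T N ∧ ∀ n : ℕ, N ≤ n → W T N = W T n := by
  obtain ⟨N, hN⟩ := exists_W_stable T
  refine ⟨N, ?_, hN⟩
  apply le_antisymm (iInf_le _ N)
  apply le_iInf
  intro n
  rcases le_total N n with h | h
  · rw [← hN n h]
  · exact W_antitone T h

lemma Winf_le_span_image : Winf T ≤ Submodule.span k (T '' (Winf T : Set V)) := by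
  obtain ⟨N, hN, hstab⟩ := exists_Winf_eq T
  rw [hN]
  calc W T N = W T (N + 1) := hstab _ (Nat.le_succ N)
    _ ≤ _ := W_succ_le_span_image T N

/-- If the image of a subspace `S` under `T` spans (at least) `S`, then `T` has no kernel on `S`. -/
lemma eq_zero_of_le_span_image (S : Submodule k V) (hS : S ≤ Submodule.span k (T '' (S : Set V)))
    {s : V} (hs : s ∈ S) (h0 : T s = 0) : s = 0 := by
  classical
  set r := Module.finrank k S with hr
  let b : Module.Basis (Fin r) k S := Module.finBasis k S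
  let w : Fin r → V := fun i => T (b i : V)
  have himg : T '' (S : Set V) ⊆ Submodule.span k (Set.range w) := by
    rintro _ ⟨x, hx, rfl⟩
    have hx' := b.sum_repr ⟨x, hx⟩
    have hx'' : x = ∑ i, b.repr ⟨x, hx⟩ i • (b i : V) := by
      have := congrArg (Submodule.subtype S) hx'
      rw [map_sum] at this
      simp only [map_smul, Submodule.subtype_apply] at this
      exact this.symm
    rw [hx'', map_sum]
    apply Submodule.sum_mem
    intro i _
    rw [map_smulₛₗ]
    exact Submodule.smul_mem _ _ (Submodule.subset_span ⟨i, rfl⟩)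
  have hle : S ≤ Submodule.span k (Set.range w) := hS.trans (Submodule.span_le.mpr himg)
  have hli : LinearIndependent k w := by
    rw [linearIndependent_iff_card_eq_finrank_span, Fintype.card_fin]
    apply le_antisymm
    · calc r = Module.finrank k S := hr
        _ ≤ _ := Submodule.finrank_mono hle
    · have := finrank_range_le_card (R := k) w
      simpa using this
  have hs' := b.sum_repr ⟨s, hs⟩
  have hs'' : s = ∑ i, b.repr ⟨s, hs⟩ i • (b i : V) := by
    have := congrArg (Submodule.subtype S) hs'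
    rw [map_sum] at this
    simp only [map_smul, Submodule.subtype_apply] at this
    exact this.symm
  have h1 : ∑ i, σ (b.repr ⟨s, hs⟩ i) • w i = 0 := by
    rw [← h0]
    conv_rhs => rw [hs'', map_sum]
    apply Finset.sum_congr rfl
    intro i _
    rw [map_smulₛₗ]
  have h2 := Fintype.linearIndependent_iff.mp hli _ h1
  rw [hs'']
  apply Finset.sum_eq_zero
  intro i _
  rw [(map_eq_zero σ).mp (h2 i), zero_smul]

lemma eq_zero_of_mem_Winf {s : V} (hs : s ∈ Winf T) (h0 : T s = 0) : s = 0 :=
  eq_zero_of_le_span_image T (Winf T) (Winf_le_span_image T) hs h0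

lemma iterate_eq_zero_of_mem_Winf (n : ℕ) {s : V} (hs : s ∈ Winf T) (h0 : (⇑T)^[n] s = 0) :
    s = 0 := by
  induction n generalizing s with
  | zero => exact h0
  | succ n ih =>
    rw [Function.iterate_succ_apply] at h0
    exact eq_zero_of_mem_Winf T hs (ih (map_mem_Winf T hs) h0)

end basic

section surj

variable {k : Type u} [Field k] {σ : k →+* k}
variable {V : Type v} [AddCommGroup V] [Module k V] (T : V →ₛₗ[σ] V)

/-- the kernel of the `n`-th iterate, as a subspace. -/
def K (n : ℕ) : Submodule k V where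
  carrier := {v | (⇑T)^[n] v = 0}
  add_mem' := by
    intro a b ha hb
    change (⇑T)^[n] a = 0 at ha
    change (⇑T)^[n] b = 0 at hb
    change (⇑T)^[n] (a + b) = 0
    rw [iterate_add, ha, hb, add_zero]
  zero_mem' := iterate_zero' T n
  smul_mem' := by
    intro c v hv
    change (⇑T)^[n] v = 0 at hv
    change (⇑T)^[n] (c • v) = 0
    rw [iterate_smul, hv, smul_zero]

lemma mem_K {n : ℕ} {v : V} : v ∈ K T n ↔ (⇑T)^[n] v = 0 := Iff.rfl

lemma K_mono : Monotone (K T) := by
  apply monotone_nat_of_le_succ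
  intro n v hv
  rw [mem_K] at hv ⊢
  rw [Function.iterate_succ_apply', hv, map_zero]

/-- the vectors killed by some iterate. -/
def Vnil : Submodule k V where
  carrier := {v | ∃ n : ℕ, (⇑T)^[n] v = 0}
  add_mem' := by
    rintro a b ⟨n, hn⟩ ⟨m, hm⟩
    refine ⟨max n m, ?_⟩
    have h1 : a ∈ K T (max n m) := K_mono T (le_max_left n m) hn
    have h2 : b ∈ K T (max n m) := K_mono T (le_max_right n m) hm
    exact add_mem h1 h2
  zero_mem' := ⟨0, rfl⟩
  smul_mem' := by
    rintro c v ⟨n, hn⟩
    exact ⟨n, (K T n).smul_mem c hn⟩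

lemma mem_Vnil {v : V} : v ∈ Vnil T ↔ ∃ n : ℕ, (⇑T)^[n] v = 0 := Iff.rfl

variable [FiniteDimensional k V]

lemma exists_K_stable : ∃ N : ℕ, ∀ n : ℕ, N ≤ n → K T N = K T n := by
  have := monotone_stabilizes_iff_noetherian.mpr (inferInstance : IsNoetherian k V)
    ⟨K T, K_mono T⟩
  obtain ⟨N, hN⟩ := this
  exact ⟨N, fun n hn => hN n hn⟩

lemma exists_uniform_nil : ∃ N : ℕ, ∀ v ∈ Vnil T, (⇑T)^[N] v = 0 := by
  obtain ⟨N, hN⟩ := exists_K_stable T
  refine ⟨N, ?_⟩
  rintro v ⟨n, hn⟩
  have h1 : v ∈ K T (max n N) := K_mono T (le_max_left n N) hn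
  rw [← hN _ (le_max_right n N)] at h1
  exact h1

lemma disjoint_Vnil_Winf : Disjoint (Vnil T) (Winf T) := by
  rw [Submodule.disjoint_def]
  rintro x ⟨n, hn⟩ hx
  exact iterate_eq_zero_of_mem_Winf T n hx hn

variable (hσ : Function.Surjective σ)
include hσ

lemma surjOn_Winf {s : V} (hs : s ∈ Winf T) : ∃ s' ∈ Winf T, T s' = s := by
  let Timg : Submodule k V :=
    { carrier := T '' (Winf T : Set V)
      add_mem' := by
        rintro _ _ ⟨a, ha, rfl⟩ ⟨b, hb, rfl⟩
        exact ⟨a + b, add_mem ha hb, map_add T a b⟩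
      zero_mem' := ⟨0, zero_mem _, map_zero T⟩
      smul_mem' := by
        rintro c _ ⟨a, ha, rfl⟩
        obtain ⟨c', rfl⟩ := hσ c
        exact ⟨c' • a, Submodule.smul_mem _ _ ha, map_smulₛₗ T c' a⟩ }
  have h1 : Submodule.span k (T '' (Winf T : Set V)) ≤ Timg :=
    Submodule.span_le.mpr (fun x hx => hx)
  have h2 := h1 (Winf_le_span_image T hs)
  obtain ⟨s', hs', rfl⟩ := h2
  exact ⟨s', hs', rfl⟩

lemma iterate_surjOn_Winf (n : ℕ) {s : V} (hs : s ∈ Winf T) :
    ∃ s' ∈ Winf T, (⇑T)^[n] s' = s := by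
  induction n generalizing s with
  | zero => exact ⟨s, hs, rfl⟩
  | succ n ih =>
    obtain ⟨s₁, hs₁, rfl⟩ := surjOn_Winf T hσ hs
    obtain ⟨s₂, hs₂, rfl⟩ := ih hs₁
    exact ⟨s₂, hs₂, by rw [Function.iterate_succ_apply']⟩

lemma isCompl_Vnil_Winf : IsCompl (Vnil T) (Winf T) := by
  refine ⟨disjoint_Vnil_Winf T, ?_⟩
  rw [Submodule.codisjoint_iff_exists_add_eq]
  intro z
  obtain ⟨N, hN, hstab⟩ := exists_Winf_eq T
  have hz : (⇑T)^[N] z ∈ Winf T := by
    rw [hN]
    exact Submodule.subset_span ⟨z, rfl⟩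
  obtain ⟨s, hs, hsz⟩ := iterate_surjOn_Winf T hσ N hz
  refine ⟨z - s, s, ⟨N, ?_⟩, hs, sub_add_cancel z s⟩
  rw [iterate_sub T, hsz, sub_self]

lemma bijOn_Winf : Set.BijOn (⇑T) (Winf T : Set V) (Winf T : Set V) := by
  refine ⟨fun x hx => map_mem_Winf T hx, ?_, fun s hs => ?_⟩
  · intro x hx y hy hxy
    have h1 : T (x - y) = 0 := by rw [map_sub, hxy, sub_self]
    exact sub_eq_zero.mp (eq_zero_of_mem_Winf T (sub_mem hx hy) h1)
  · obtain ⟨s', hs', h⟩ := surjOn_Winf T hσ hs
    exact ⟨s', hs', h⟩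

end surj

section fixed

variable {k : Type u} [Field k] {σ : k →+* k}

/-- the solvability hypothesis (i) of the family. -/
def H2 (σ : k →+* k) : Prop :=
  ∀ (n : ℕ) (b : Fin (n + 1) → k), b ≠ 0 →
      ∃ x : k, x ≠ 0 ∧ x = ∑ i : Fin (n + 1), (⇑σ)^[i.val + 1] x * (⇑σ)^[i.val] (b (Fin.rev i))

/-- the solvability hypothesis (ii) of the family. -/
def H3 (σ : k →+* k) : Prop := ∀ c : k, ∃ y : k, σ y - y + c = 0

/-- coefficients of the fixed vector. -/
def xs (σ : k →+* k) (y : k) (a : ℕ → k) : ℕ → k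
  | 0 => σ y * a 0
  | (i + 1) => σ (xs σ y a i) + σ y * a (i + 1)

open Finset in
lemma xs_closed (y : k) (a : ℕ → k) (m : ℕ) :
    xs σ y a m = ∑ i ∈ range (m + 1), (⇑σ)^[i + 1] y * (⇑σ)^[i] (a (m - i)) := by
  induction m with
  | zero => simp [xs]
  | succ m ih =>
    rw [xs, ih, Finset.sum_range_succ' _ (m + 1), map_sum]
    congr 1
    · apply Finset.sum_congr rfl
      intro i _
      rw [map_mul, ← Function.iterate_succ_apply' (⇑σ), ← Function.iterate_succ_apply' (⇑σ),
        Nat.succ_sub_succ]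

variable {V : Type v} [AddCommGroup V] [Module k V] [FiniteDimensional k V] (T : V →ₛₗ[σ] V)

open Finset in
lemma exists_fixed (h2 : H2 σ) (e : V) (he : ∀ m : ℕ, (⇑T)^[m] e ≠ 0) :
    ∃ v ∈ Submodule.span k (Set.range (fun m : ℕ => (⇑T)^[m] e)), v ≠ 0 ∧ T v = v := by
  classical
  -- the increasing chain of spans of initial segments of the orbit
  let O : ℕ → Submodule k V := fun r =>
    Submodule.span k (Set.range fun i : Fin r => (⇑T)^[(i : ℕ)] e)
  have hOmono : Monotone O := by
    intro r s hrs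
    apply Submodule.span_mono
    rintro _ ⟨i, rfl⟩
    exact ⟨⟨i, lt_of_lt_of_le i.2 hrs⟩, rfl⟩
  have hex : ∃ r : ℕ, (⇑T)^[r] e ∈ O r := by
    obtain ⟨N, hN⟩ := monotone_stabilizes_iff_noetherian.mpr (inferInstance : IsNoetherian k V)
      ⟨O, hOmono⟩
    refine ⟨N, ?_⟩
    have h1 : (⇑T)^[N] e ∈ O (N + 1) := Submodule.subset_span ⟨⟨N, Nat.lt_succ_self N⟩, rfl⟩
    have h2 : O N = O (N + 1) := hN (N + 1) (Nat.le_succ N)
    change (⇑T)^[N] e ∈ O N
    rw [h2]
    exact h1
  have hr := Nat.find_spec hex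
  have hmin := fun m (hm : m < Nat.find hex) => Nat.find_min hex hm
  set r := Nat.find hex with hrdef
  have hr0 : r ≠ 0 := by
    intro h0
    rw [h0] at hr
    have : O 0 = ⊥ := by
      apply (Submodule.eq_bot_iff _).mpr
      intro x hx
      have h3 : (Set.range fun i : Fin 0 => (⇑T)^[(i : ℕ)] e) = ∅ := by
        ext z
        simp only [Set.mem_range, Set.mem_empty_iff_false, iff_false]
        rintro ⟨i, _⟩
        exact i.elim0
      change x ∈ Submodule.span k (Set.range fun i : Fin 0 => (⇑T)^[(i : ℕ)] e) at hx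
      rw [h3, Submodule.span_empty] at hx
      exact hx
    rw [this] at hr
    exact he 0 hr
  obtain ⟨n, hn⟩ : ∃ n, r = n + 1 := ⟨r - 1, by omega⟩
  rw [hn] at hr
  obtain ⟨c, hc⟩ := (Submodule.mem_span_range_iff_exists_fun k).mp hr
  -- extend the coefficients to ℕ
  let a : ℕ → k := fun i => if h : i < n + 1 then c ⟨i, h⟩ else 0
  have hca : ∀ i : Fin (n + 1), c i = a i := by
    intro i
    simp only [a]
    rw [dif_pos i.2]
  have hsum : ∑ i ∈ range (n + 1), a i • (⇑T)^[i] e = (⇑T)^[n + 1] e := by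
    rw [← hc, ← Fin.sum_univ_eq_sum_range (fun i => a i • (⇑T)^[i] e) (n + 1)]
    apply Finset.sum_congr rfl
    intro i _
    rw [hca]
  have hc0 : c ≠ 0 := by
    intro h0
    rw [h0] at hc
    simp only [Pi.zero_apply, zero_smul, Finset.sum_const_zero] at hc
    exact he (n + 1) hc.symm
  obtain ⟨y, hy0, hy⟩ := h2 n c hc0
  have hxn : xs σ y a n = y := by
    rw [xs_closed]
    conv_rhs => rw [hy]
    rw [← Fin.sum_univ_eq_sum_range (fun i => (⇑σ)^[i + 1] y * (⇑σ)^[i] (a (n - i))) (n + 1)]
    apply Finset.sum_congr rfl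
    intro i _
    rw [hca, Fin.val_rev]
    congr 3
    omega
  set x := xs σ y a with hx
  let v : V := ∑ i ∈ range (n + 1), x i • (⇑T)^[i] e
  refine ⟨v, ?_, ?_, ?_⟩
  · apply Submodule.sum_mem
    intro i _
    exact Submodule.smul_mem _ _ (Submodule.subset_span ⟨i, rfl⟩)
  · intro hv0
    apply hmin n (by omega)
    have h3 : x n • (⇑T)^[n] e = - ∑ i ∈ range n, x i • (⇑T)^[i] e := by
      have : v = ∑ i ∈ range n, x i • (⇑T)^[i] e + x n • (⇑T)^[n] e :=
        Finset.sum_range_succ _ n
      rw [hv0] at this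
      exact eq_neg_of_add_eq_zero_right this.symm
    have h4 : (⇑T)^[n] e = (x n)⁻¹ • (- ∑ i ∈ range n, x i • (⇑T)^[i] e) := by
      rw [← h3, smul_smul, inv_mul_cancel₀ (by rw [hxn]; exact hy0), one_smul]
    rw [h4]
    apply Submodule.smul_mem
    apply Submodule.neg_mem
    apply Submodule.sum_mem
    intro i hi
    rw [mem_range] at hi
    exact Submodule.smul_mem _ _ (Submodule.subset_span ⟨⟨i, hi⟩, rfl⟩)
  · have hT : T v = ∑ i ∈ range (n + 1), σ (x i) • (⇑T)^[i + 1] e := by
      simp only [v]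
      rw [map_sum]
      apply Finset.sum_congr rfl
      intro i _
      rw [map_smulₛₗ, Function.iterate_succ_apply']
    rw [hT, Finset.sum_range_succ, hxn, ← hsum, Finset.smul_sum]
    simp only [v]
    rw [Finset.sum_range_succ' (fun i => x i • (⇑T)^[i] e) n,
      Finset.sum_range_succ' (fun i => σ y • a i • (⇑T)^[i] e) n, ← add_assoc,
      ← Finset.sum_add_distrib]
    congr 1
    · apply Finset.sum_congr rfl
      intro i _
      rw [hx, xs, add_smul, smul_smul]
    · rw [hx, xs, smul_smul]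

end fixed

section basis

variable {k : Type u} [Field k] {σ : k →+* k}

lemma iterate_ne_zero {V : Type v} [AddCommGroup V] [Module k V] (T : V →ₛₗ[σ] V)
    (hinj : ∀ s : V, T s = 0 → s = 0) {e : V} (he : e ≠ 0) (m : ℕ) : (⇑T)^[m] e ≠ 0 := by
  induction m with
  | zero => exact he
  | succ m ih =>
    rw [Function.iterate_succ_apply']
    exact fun h => ih (hinj _ h)

theorem exists_fixed_basis (h2 : H2 σ) (h3 : H3 σ) :
    ∀ (d : ℕ) (V : Type v) [AddCommGroup V] [Module k V] [FiniteDimensional k V]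
      (T : V →ₛₗ[σ] V), Module.finrank k V = d → Submodule.span k (Set.range ⇑T) = ⊤ →
      ∃ b : Module.Basis (Fin d) k V, ∀ i, T (b i) = b i := by
  intro d
  induction d with
  | zero =>
    intro V _ _ _ T hd _
    have : Subsingleton V := Module.finrank_zero_iff.mp hd
    exact ⟨Module.Basis.empty V, fun i => i.elim0⟩
  | succ d ih =>
    intro V _ _ _ T hd hT
    have hnt : Nontrivial V := Module.nontrivial_of_finrank_pos (R := k) (by omega)
    obtain ⟨e, he⟩ := exists_ne (0 : V)
    have hinj : ∀ s : V, T s = 0 → s = 0 := fun s hs =>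
      eq_zero_of_le_span_image T ⊤ (by rw [Submodule.top_coe, Set.image_univ, hT])
        Submodule.mem_top hs
    obtain ⟨v, -, hv0, hTv⟩ := exists_fixed T h2 e (iterate_ne_zero T hinj he)
    let U : Submodule k V := Submodule.span k {v}
    have hU : U ≤ U.comap T := by
      intro x hx
      obtain ⟨c, rfl⟩ := Submodule.mem_span_singleton.mp hx
      rw [Submodule.mem_comap, map_smulₛₗ, hTv]
      exact Submodule.smul_mem _ _ (Submodule.mem_span_singleton_self v)
    let T' : (V ⧸ U) →ₛₗ[σ] (V ⧸ U) := U.mapQ U T hU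
    have hT'mk : ∀ x : V, T' (U.mkQ x) = U.mkQ (T x) := fun x => rfl
    have hd' : Module.finrank k (V ⧸ U) = d := by
      have h1 := Submodule.finrank_quotient_add_finrank U
      rw [finrank_span_singleton hv0, hd] at h1
      omega
    have hT' : Submodule.span k (Set.range ⇑T') = ⊤ := by
      rw [eq_top_iff]
      rintro x -
      obtain ⟨w, rfl⟩ := U.mkQ_surjective x
      have hw : w ∈ Submodule.span k (Set.range ⇑T) := by rw [hT]; trivial
      have h1 := Submodule.mem_map_of_mem (f := U.mkQ) hw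
      rw [Submodule.map_span] at h1
      refine Submodule.span_mono ?_ h1
      rintro _ ⟨_, ⟨u, rfl⟩, rfl⟩
      exact ⟨U.mkQ u, hT'mk u⟩
    obtain ⟨b', hb'⟩ := ih (V ⧸ U) T' hd' hT'
    choose w hw using fun i => U.mkQ_surjective (b' i)
    have hcw : ∀ i, ∃ c : k, T (w i) - w i = c • v := by
      intro i
      have h1 : T (w i) - w i ∈ U := by
        rw [← Submodule.Quotient.mk_eq_zero, Submodule.Quotient.mk_sub]
        have h2 := hb' i
        rw [← hw i, hT'mk] at h2
        change U.mkQ (T (w i)) - U.mkQ (w i) = 0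
        rw [h2, sub_self]
      obtain ⟨c, hc⟩ := Submodule.mem_span_singleton.mp h1
      exact ⟨c, hc.symm⟩
    choose c hc using hcw
    choose y hy using fun i => h3 (c i)
    let u : Fin d → V := fun i => w i + y i • v
    have hu : ∀ i, T (u i) = u i := by
      intro i
      simp only [u]
      rw [map_add, map_smulₛₗ, hTv]
      have h1 : T (w i) = w i + c i • v := by rw [← hc i]; abel
      rw [h1]
      have h2' : y i = σ (y i) + c i := by linear_combination -(hy i)
      conv_rhs => rw [h2']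
      module
    let f : Fin (d + 1) → V := Fin.cons v u
    have hspan : ⊤ ≤ Submodule.span k (Set.range f) := by
      rintro z -
      have hz := b'.sum_repr (U.mkQ z)
      have hmem : z - ∑ i, b'.repr (U.mkQ z) i • u i ∈ U := by
        rw [← Submodule.Quotient.mk_eq_zero]
        change U.mkQ (z - ∑ i, b'.repr (U.mkQ z) i • u i) = 0
        rw [map_sub, map_sum, sub_eq_zero]
        conv_lhs => rw [← hz]
        apply Finset.sum_congr rfl
        intro i _
        rw [map_smul]
        congr 1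
        simp only [u]
        rw [map_add, map_smul, hw i]
        have : U.mkQ v = 0 := by
          change Submodule.Quotient.mk v = 0
          rw [Submodule.Quotient.mk_eq_zero]
          exact Submodule.mem_span_singleton_self v
        rw [this, smul_zero, add_zero]
      obtain ⟨a, ha⟩ := Submodule.mem_span_singleton.mp hmem
      have hz2 : z = a • f 0 + ∑ i, b'.repr (U.mkQ z) i • f i.succ := by
        simp only [f, Fin.cons_zero, Fin.cons_succ]
        rw [ha]
        abel
      rw [hz2]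
      apply Submodule.add_mem
      · exact Submodule.smul_mem _ _ (Submodule.subset_span ⟨0, rfl⟩)
      · apply Submodule.sum_mem
        intro i _
        exact Submodule.smul_mem _ _ (Submodule.subset_span ⟨i.succ, rfl⟩)
    refine ⟨basisOfTopLeSpanOfCardEqFinrank f hspan (by rw [Fintype.card_fin, hd]), ?_⟩
    intro i
    rw [coe_basisOfTopLeSpanOfCardEqFinrank]
    refine Fin.cases ?_ (fun j => ?_) i
    · simp only [f, Fin.cons_zero]
      exact hTv
    · simp only [f, Fin.cons_succ]
      exact hu j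

theorem sub_surjective_of_fixed_basis (h3 : H3 σ) {ι : Type*} [Fintype ι]
    {V : Type v} [AddCommGroup V] [Module k V]
    (T : V →ₛₗ[σ] V) (b : Module.Basis ι k V) (hb : ∀ i, T (b i) = b i) :
    Function.Surjective (fun v : V => v - T v) := by
  intro w
  choose y hy using fun i => h3 (b.repr w i)
  refine ⟨∑ i, y i • b i, ?_⟩
  simp only
  rw [map_sum, ← Finset.sum_sub_distrib]
  conv_rhs => rw [← b.sum_repr w]
  apply Finset.sum_congr rfl
  intro i _
  rw [map_smulₛₗ, hb i, ← sub_smul]
  congr 1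
  linear_combination -(hy i)

end basis

section general

variable {k : Type u} [Field k] {σ : k →+* k}
variable {V : Type v} [AddCommGroup V] [Module k V] (T : V →ₛₗ[σ] V)

/-- the restriction of `T` to the stable part. -/
def TS : ↥(Winf T) →ₛₗ[σ] ↥(Winf T) :=
  (T.domRestrict (Winf T)).codRestrict (Winf T) (fun s => map_mem_Winf T s.2)

lemma TS_coe (s : ↥(Winf T)) : ((TS T s : ↥(Winf T)) : V) = T (s : V) := rfl

variable [FiniteDimensional k V]

lemma span_range_TS : Submodule.span k (Set.range ⇑(TS T)) = ⊤ := by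
  rw [eq_top_iff]
  rintro s -
  have h1 : (s : V) ∈ Submodule.span k (T '' (Winf T : Set V)) := Winf_le_span_image T s.2
  have h2 : (Winf T).subtype '' Set.range ⇑(TS T) = T '' (Winf T : Set V) := by
    ext x
    constructor
    · rintro ⟨_, ⟨t, rfl⟩, rfl⟩
      exact ⟨(t : V), t.2, rfl⟩
    · rintro ⟨t, ht, rfl⟩
      exact ⟨TS T ⟨t, ht⟩, ⟨⟨t, ht⟩, rfl⟩, rfl⟩
  rw [← h2, ← Submodule.map_span] at h1
  obtain ⟨s', hs', hss'⟩ := h1
  have : s' = s := Subtype.ext hss'
  rw [← this]
  exact hs'

theorem main (h2 : H2 σ) (h3 : H3 σ) :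
    Function.Surjective (fun v : V => v - T v) ∧
    ∃ b : Module.Basis (Fin (Module.finrank k ↥(Winf T))) k ↥(Winf T),
      ∀ i, T (b i : V) = (b i : V) := by
  obtain ⟨b, hb⟩ := exists_fixed_basis h2 h3 (Module.finrank k ↥(Winf T)) ↥(Winf T) (TS T) rfl
    (span_range_TS T)
  refine ⟨?_, b, fun i => ?_⟩
  · intro v
    obtain ⟨N, hN, -⟩ := exists_Winf_eq T
    have hv : (⇑T)^[N] v ∈ Winf T := by
      rw [hN]
      exact Submodule.subset_span ⟨v, rfl⟩
    obtain ⟨s', hs'⟩ := sub_surjective_of_fixed_basis h3 (TS T) b hb ⟨(⇑T)^[N] v, hv⟩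
    have hs'' : (s' : V) - T (s' : V) = (⇑T)^[N] v := by
      have := congrArg Subtype.val hs'
      simpa [TS_coe] using this
    refine ⟨∑ i ∈ Finset.range N, (⇑T)^[i] v + (s' : V), ?_⟩
    simp only
    rw [map_add, map_sum]
    have h4 : ∑ i ∈ Finset.range N, ((⇑T)^[i] v - (⇑T)^[i + 1] v) = (⇑T)^[0] v - (⇑T)^[N] v :=
      Finset.sum_range_sub' (fun i => (⇑T)^[i] v) N
    rw [Finset.sum_sub_distrib] at h4
    simp only [Function.iterate_succ_apply', Function.iterate_zero, id_eq] at h4
    have h5 : ∑ i ∈ Finset.range N, (⇑T)^[i] v + (s' : V) -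
        (∑ i ∈ Finset.range N, T ((⇑T)^[i] v) + T (s' : V)) =
        (∑ i ∈ Finset.range N, (⇑T)^[i] v - ∑ i ∈ Finset.range N, T ((⇑T)^[i] v)) +
          ((s' : V) - T (s' : V)) := by abel
    rw [h5, h4, hs'']
    abel
  · have := congrArg Subtype.val (hb i)
    rw [TS_coe] at this
    exact this

end general

end Groth.Agent.Helper28.SigmaLin
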