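import Groth.Agent.Lib.Helper28.SigmaLinLocal
import Mathlib
open IsLocalRing
set_option autoImplicit false
universe u v
namespace Groth.Agent.Helper28.SigmaLin

section fixedvec
variable {k : Type u} [Field k] {σ : k →+* k}
variable {V : Type v} [AddCommGroup V] [Module k V] [FiniteDimensional k V] (T : V →ₛₗ[σ] V)

lemma mem_Winf_of_fixed {v : V} (hv : T v = v) : v ∈ Winf T := by
  rw [Winf, Submodule.mem_iInf]
  intro n
  have : (⇑T)^[n] v = v := Function.iterate_fixed hv n
  rw [← this]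
  exact Submodule.subset_span ⟨v, rfl⟩

/-- fixed vectors are combinations of a finite family of fixed vectors with fixed coefficients -/
lemma fixed_eq_sum (h2 : H2 σ) (h3 : H3 σ) :
    ∃ (r : ℕ) (e : Fin r → V), (∀ i, T (e i) = e i) ∧
      ∀ v : V, T v = v → ∃ c : Fin r → k, (∀ i, σ (c i) = c i) ∧ v = ∑ i, c i • e i := by
  obtain ⟨-, b, hb⟩ := main T h2 h3
  refine ⟨_, fun i => (b i : V), hb, ?_⟩
  intro v hv
  have hvW := mem_Winf_of_fixed T hv
  refine ⟨fun i => b.repr ⟨v, hvW⟩ i, ?_, ?_⟩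
  · have h1 : (⟨v, hvW⟩ : ↥(Winf T)) = ∑ i, b.repr ⟨v, hvW⟩ i • b i := (b.sum_repr _).symm
    have h4 : TS T ⟨v, hvW⟩ = ⟨v, hvW⟩ := Subtype.ext hv
    have h5 : TS T ⟨v, hvW⟩ = ∑ i, σ (b.repr ⟨v, hvW⟩ i) • b i := by
      conv_lhs => rw [h1]
      rw [map_sum]
      apply Finset.sum_congr rfl
      intro i _
      rw [map_smulₛₗ]
      congr 1
      exact Subtype.ext (by rw [TS_coe]; exact hb i)
    rw [h4] at h5
    have h6 := congrArg b.repr h5
    intro i
    have h7 := DFunLike.congr_fun h6 i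
    rw [b.repr_sum_self] at h7
    exact h7.symm
  · have h1 : (⟨v, hvW⟩ : ↥(Winf T)) = ∑ i, b.repr ⟨v, hvW⟩ i • b i := (b.sum_repr _).symm
    have := congrArg (Submodule.subtype (Winf T)) h1
    rw [map_sum] at this
    simpa using this

end fixedvec

section localring3
variable {R : Type u} [CommRing R] [IsLocalRing R]
variable (σ : R →+* R) (σbar : ResidueField R →+* ResidueField R)
  (hσbar : ∀ r : R, σbar (residue R r) = residue R (σ r))

/-- the ring of `σ`-fixed elements. -/
abbrev R0 : Subring R := (σ : R →+* R).eqLocus (RingHom.id R)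

lemma mem_R0 {r : R} : r ∈ R0 σ ↔ σ r = r := Iff.rfl

variable (p : R) (hmax : maximalIdeal R = Ideal.span {p}) (hσp : σ p = p)

include hmax in
lemma exists_smul_of_mk_eq_zero {M : Type v} [AddCommGroup M] [Module R M] (x : M)
    (hx : (Submodule.Quotient.mk x : Mbar R M) = 0) : ∃ y : M, x = p • y := by
  rw [Submodule.Quotient.mk_eq_zero, hmax, Submodule.ideal_span_singleton_smul] at hx
  obtain ⟨y, -, hy⟩ := hx
  exact ⟨y, hy.symm⟩

include hmax in
lemma mk_smul_eq_zero {M : Type v} [AddCommGroup M] [Module R M] (y : M) :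
    (Submodule.Quotient.mk (p • y) : Mbar R M) = 0 := by
  rw [Submodule.Quotient.mk_eq_zero]
  apply Submodule.smul_mem_smul _ Submodule.mem_top
  rw [hmax]
  exact Ideal.mem_span_singleton_self p

variable (n : ℕ) (hn : p ^ n = 0) (h2 : H2 σbar) (h3 : H3 σbar)

include hσbar hmax hσp hn h2 h3 in
lemma lift_fixed {M : Type v} [AddCommGroup M] [Module R M] [Module.Finite R M] (T : M →ₛₗ[σ] M)
    (m : M) (hm : (Submodule.Quotient.mk (T m) : Mbar R M) = Submodule.Quotient.mk m) :
    ∃ m' : M, T m' = m' ∧ (Submodule.Quotient.mk m' : Mbar R M) = Submodule.Quotient.mk m := by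
  have h1 : (Submodule.Quotient.mk (T m - m) : Mbar R M) = 0 := by
    rw [Submodule.Quotient.mk_sub, hm, sub_self]
  obtain ⟨y, hy⟩ := exists_smul_of_mk_eq_zero p hmax _ h1
  obtain ⟨w, hw⟩ := sub_surjective_local σ σbar hσbar T p hmax hσp n hn h2 h3 y
  simp only at hw
  refine ⟨m + p • w, ?_, ?_⟩
  · rw [map_add, map_smulₛₗ, hσp]
    have : T m = m + p • y := by rw [← hy]; abel
    rw [this, ← hw]
    module
  · rw [Submodule.Quotient.mk_add, mk_smul_eq_zero p hmax, add_zero]

variable (hlift : ∀ x : ResidueField R, σbar x = x → ∃ r : R, σ r = r ∧ residue R r = x)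

include hσbar hmax hσp hn h2 h3 hlift in
theorem fixed_fg_aux : ∀ (j : ℕ) (M : Type v) [AddCommGroup M] [Module R M] [Module.Finite R M]
    (T : M →ₛₗ[σ] M), (∀ x : M, p ^ j • x = 0) →
    ∃ s : Finset M, (∀ m ∈ s, T m = m) ∧
      ∀ m : M, T m = m → m ∈ Submodule.span (R0 σ) (s : Set M) := by
  classical
  intro j
  induction j with
  | zero =>
    intro M _ _ _ T hM
    refine ⟨∅, by simp, ?_⟩
    intro m _
    have := hM m
    rw [pow_zero, one_smul] at this
    rw [this]
    exact zero_mem _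
  | succ j ih =>
    intro M _ _ _ T hM
    -- the submodule `pM`
    let N : Submodule R M := LinearMap.range (LinearMap.lsmul R M p)
    have hNmem : ∀ x : M, x ∈ N ↔ ∃ y, p • y = x := fun x => Iff.rfl
    have hTN : ∀ x : ↥N, T (x : M) ∈ N := by
      rintro ⟨_, y, rfl⟩
      refine ⟨T y, ?_⟩
      simp only [LinearMap.lsmul_apply]
      rw [map_smulₛₗ, hσp]
    let TN : ↥N →ₛₗ[σ] ↥N := (T.domRestrict N).codRestrict N hTN
    have hTNcoe : ∀ x : ↥N, ((TN x : ↥N) : M) = T (x : M) := fun x => rfl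
    have hNj : ∀ x : ↥N, p ^ j • x = 0 := by
      rintro ⟨_, y, rfl⟩
      apply Subtype.ext
      simp only [LinearMap.lsmul_apply, Submodule.coe_smul, Submodule.coe_zero]
      rw [smul_smul, ← pow_succ]
      exact hM y
    obtain ⟨sN, hsN, hgenN⟩ := ih ↥N TN hNj
    -- the residual part
    obtain ⟨r, e, he, hgen⟩ := fixed_eq_sum (Tbar σ σbar hσbar T) h2 h3
    have hlifts : ∀ i : Fin r, ∃ m' : M, T m' = m' ∧ (Submodule.Quotient.mk m' : Mbar R M) = e i := by
      intro i
      obtain ⟨x, hx⟩ := Submodule.Quotient.mk_surjective _ (e i)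
      have h1 : (Submodule.Quotient.mk (T x) : Mbar R M) = Submodule.Quotient.mk x := by
        rw [← Tbar_mk σ σbar hσbar T, hx, he i]
      obtain ⟨m', hm', hm'2⟩ := lift_fixed σ σbar hσbar p hmax hσp n hn h2 h3 T x h1
      exact ⟨m', hm', hm'2.trans hx⟩
    choose mm hmm1 hmm2 using hlifts
    refine ⟨sN.image Subtype.val ∪ Finset.univ.image mm, ?_, ?_⟩
    · intro m hm
      rw [Finset.mem_union, Finset.mem_image, Finset.mem_image] at hm
      rcases hm with ⟨x, hx, rfl⟩ | ⟨i, -, rfl⟩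
      · have := hsN x hx
        have h := congrArg Subtype.val this
        rw [hTNcoe] at h
        exact h
      · exact hmm1 i
    · intro m hm
      have h1 : Tbar σ σbar hσbar T (Submodule.Quotient.mk m : Mbar R M) =
          Submodule.Quotient.mk m := by rw [Tbar_mk, hm]
      obtain ⟨cbar, hcbar, hsum⟩ := hgen _ h1
      choose c hc1 hc2 using fun i => hlift (cbar i) (hcbar i)
      set m₁ : M := m - ∑ i, c i • mm i with hm₁
      have hm₁0 : (Submodule.Quotient.mk m₁ : Mbar R M) = 0 := by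
        rw [hm₁, Submodule.Quotient.mk_sub, hsum, sub_eq_zero]
        have : (Submodule.Quotient.mk (∑ i, c i • mm i) : Mbar R M) =
            ∑ i, (Submodule.Quotient.mk (c i • mm i) : Mbar R M) :=
          map_sum (Submodule.mkQ (maximalIdeal R • (⊤ : Submodule R M))) _ _
        rw [this]
        apply Finset.sum_congr rfl
        intro i _
        rw [← residue_smul_mk, hc2 i, hmm2 i]
      obtain ⟨y, hy⟩ := exists_smul_of_mk_eq_zero p hmax _ hm₁0
      have hm₁N : m₁ ∈ N := ⟨y, hy.symm⟩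
      have hTm₁ : T m₁ = m₁ := by
        rw [hm₁, map_sub, map_sum, hm]
        congr 1
        apply Finset.sum_congr rfl
        intro i _
        rw [map_smulₛₗ, hc1 i, hmm1 i]
      have h3' : (⟨m₁, hm₁N⟩ : ↥N) ∈ Submodule.span (R0 σ) (sN : Set ↥N) :=
        hgenN ⟨m₁, hm₁N⟩ (Subtype.ext hTm₁)
      have h4 : m₁ ∈ Submodule.span (R0 σ)
          ((sN.image Subtype.val ∪ Finset.univ.image mm : Finset M) : Set M) := by
        have h5 := Submodule.apply_mem_span_image_of_mem_span
          ((Submodule.subtype N).restrictScalars (R0 σ)) h3'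
        refine Submodule.span_mono ?_ h5
        rintro _ ⟨x, hx, rfl⟩
        rw [Finset.coe_union, Finset.coe_image]
        exact Or.inl ⟨x, hx, rfl⟩
      have h6 : m = m₁ + ∑ i, c i • mm i := by rw [hm₁]; abel
      rw [h6]
      apply add_mem h4
      apply Submodule.sum_mem
      intro i _
      have h7 : c i • mm i = (⟨c i, hc1 i⟩ : R0 σ) • mm i := rfl
      rw [h7]
      apply Submodule.smul_mem
      apply Submodule.subset_span
      rw [Finset.coe_union, Finset.coe_image, Finset.coe_image]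
      exact Or.inr ⟨i, Finset.mem_coe.mpr (Finset.mem_univ i), rfl⟩

include hσbar hmax hσp hn h2 h3 hlift in
theorem fixed_fg {M : Type v} [AddCommGroup M] [Module R M] [Module.Finite R M]
    (T : M →ₛₗ[σ] M) :
    ∃ s : Finset M, (∀ m ∈ s, T m = m) ∧
      ∀ m : M, T m = m → ∃ c : M → R, (∀ x ∈ s, σ (c x) = c x) ∧ m = ∑ x ∈ s, c x • x := by
  obtain ⟨s, hs, hgen⟩ := fixed_fg_aux σ σbar hσbar p hmax hσp n hn h2 h3 hlift n M T
    (fun x => by rw [hn, zero_smul])
  refine ⟨s, hs, ?_⟩
  intro m hm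
  obtain ⟨f, -, hf⟩ := Submodule.mem_span_finset.mp (hgen m hm)
  refine ⟨fun x => (f x : R), fun x _ => (f x).2, ?_⟩
  rw [← hf]
  rfl

end localring3

end Groth.Agent.Helper28.SigmaLin
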