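import Groth.Agent.Lib.Helper28.SigmaLin
import Mathlib
open IsLocalRing
set_option autoImplicit false
universe u v
namespace Groth.Agent.Helper28.SigmaLin
section localring
variable {R : Type u} [CommRing R] [IsLocalRing R] {M : Type v} [AddCommGroup M] [Module R M]

/-- `M / 𝔪 M`. -/
abbrev Mbar (R : Type u) [CommRing R] [IsLocalRing R] (M : Type v) [AddCommGroup M] [Module R M] :
    Type v := M ⧸ (maximalIdeal R • (⊤ : Submodule R M))

noncomputable instance : Module (ResidueField R) (Mbar R M) :=
  inferInstanceAs (Module (R ⧸ maximalIdeal R) (M ⧸ (maximalIdeal R • (⊤ : Submodule R M))))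

instance : IsScalarTower R (ResidueField R) (Mbar R M) :=
  inferInstanceAs (IsScalarTower R (R ⧸ maximalIdeal R) (M ⧸ (maximalIdeal R • (⊤ : Submodule R M))))

instance [Module.Finite R M] : Module.Finite (ResidueField R) (Mbar R M) :=
  inferInstanceAs (Module.Finite (R ⧸ maximalIdeal R) (M ⧸ (maximalIdeal R • (⊤ : Submodule R M))))

lemma residue_smul_mk (r : R) (x : M) :
    (residue R r) • (Submodule.Quotient.mk x : Mbar R M) = Submodule.Quotient.mk (r • x) := rfl

end localring
section localring2
variable {R : Type u} [CommRing R] [IsLocalRing R] {M : Type v} [AddCommGroup M] [Module R M]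
variable (σ : R →+* R) (σbar : ResidueField R →+* ResidueField R)
  (hσbar : ∀ r : R, σbar (residue R r) = residue R (σ r)) (T : M →ₛₗ[σ] M)

include hσbar in
lemma sigma_mem_max {r : R} (hr : r ∈ maximalIdeal R) : σ r ∈ maximalIdeal R := by
  rw [← residue_eq_zero_iff] at hr ⊢
  rw [← hσbar, hr, map_zero]

include hσbar in
lemma T_maps : (maximalIdeal R • ⊤ : Submodule R M) ≤
    (maximalIdeal R • ⊤ : Submodule R M).comap T := by
  intro x hx
  induction hx using Submodule.smul_induction_on' with
  | smul r hr m _ =>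
    rw [Submodule.mem_comap, map_smulₛₗ]
    exact Submodule.smul_mem_smul (sigma_mem_max σ σbar hσbar hr) Submodule.mem_top
  | add x _ y _ hx hy =>
    rw [Submodule.mem_comap, map_add]
    exact add_mem hx hy

/-- the induced semilinear map on `M / 𝔪 M`. -/
noncomputable def Tbar : Mbar R M →ₛₗ[σbar] Mbar R M where
  toFun := (maximalIdeal R • ⊤ : Submodule R M).mapQ _ T (T_maps σ σbar hσbar T)
  map_add' := map_add _
  map_smul' := by
    intro c x
    obtain ⟨r, rfl⟩ := IsLocalRing.residue_surjective c
    obtain ⟨m, rfl⟩ := Submodule.Quotient.mk_surjective _ x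
    rw [residue_smul_mk, hσbar]
    change (Submodule.Quotient.mk (T (r • m)) : Mbar R M) =
      residue R (σ r) • (Submodule.Quotient.mk (T m) : Mbar R M)
    rw [residue_smul_mk, map_smulₛₗ]

lemma Tbar_mk (m : M) : Tbar σ σbar hσbar T (Submodule.Quotient.mk m : Mbar R M) =
    (Submodule.Quotient.mk (T m) : Mbar R M) := rfl

include hσbar in
theorem sub_surjective_local [Module.Finite R M] (p : R)
    (hmax : maximalIdeal R = Ideal.span {p}) (hσp : σ p = p) (n : ℕ) (hn : p ^ n = 0)
    (h2 : H2 σbar) (h3 : H3 σbar) : Function.Surjective (fun m : M => m - T m) := by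
  have hbar : Function.Surjective (fun v : Mbar R M => v - Tbar σ σbar hσbar T v) :=
    (main (Tbar σ σbar hσbar T) h2 h3).1
  have step : ∀ y : M, ∃ u y' : M, y - (u - T u) = p • y' := by
    intro y
    obtain ⟨ubar, hubar⟩ := hbar (Submodule.Quotient.mk y)
    obtain ⟨u, rfl⟩ := Submodule.Quotient.mk_surjective _ ubar
    have h1 : y - (u - T u) ∈ (maximalIdeal R • ⊤ : Submodule R M) := by
      rw [← Submodule.Quotient.mk_eq_zero, Submodule.Quotient.mk_sub, Submodule.Quotient.mk_sub,
        sub_eq_zero]
      simp only [Tbar_mk] at hubar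
      exact hubar.symm
    rw [hmax, Submodule.ideal_span_singleton_smul] at h1
    obtain ⟨y', -, hy'⟩ := h1
    exact ⟨u, y', hy'.symm⟩
  have key : ∀ j : ℕ, ∀ x : M, ∃ u y : M, x - (u - T u) = p ^ j • y := by
    intro j
    induction j with
    | zero => intro x; exact ⟨0, x, by simp⟩
    | succ j ih =>
      intro x
      obtain ⟨u, y, huy⟩ := ih x
      obtain ⟨u', y', hu'⟩ := step y
      refine ⟨u + p ^ j • u', y', ?_⟩
      rw [map_add, map_smulₛₗ, map_pow, hσp, pow_succ, mul_smul, ← hu']
      have : x = (u - T u) + p ^ j • y := by rw [← huy]; abel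
      rw [this]
      module
  intro x
  obtain ⟨u, y, huy⟩ := key n x
  refine ⟨u, ?_⟩
  simp only
  rw [hn, zero_smul, sub_eq_zero] at huy
  exact huy.symm

end localring2

end Groth.Agent.Helper28.SigmaLin
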