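import Groth.Prelude.Def_WittGrp
import Groth.Agent.Lib.Helper28.SigmaLinFixed
import Mathlib

/-!
# The `SigmaLin` family over truncated Witt vectors (helper28)
-/

set_option autoImplicit false
universe u v

namespace Groth.Agent.Helper28.SigmaLin

open IsLocalRing

section transport
variable {K k : Type u} [Field K] [Field k] (ι : K ≃+* k) (σbar : K →+* K) (φ : k →+* k)
  (hι : ∀ x, ι (σbar x) = φ (ι x))

include hι in
lemma iter_transport (i : ℕ) (x : K) : ι ((⇑σbar)^[i] x) = (⇑φ)^[i] (ι x) := by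
  induction i generalizing x with
  | zero => rfl
  | succ i ih => rw [Function.iterate_succ_apply, Function.iterate_succ_apply, ih, hι]

include hι in
lemma H2_transport (h : H2 φ) : H2 σbar := by
  intro n b hb
  have hb' : (fun i => ι (b i)) ≠ 0 := by
    intro h0
    apply hb
    funext i
    have := congrFun h0 i
    simpa using this
  obtain ⟨x', hx'0, hx'⟩ := h n (fun i => ι (b i)) hb'
  refine ⟨ι.symm x', ?_, ?_⟩
  · intro h0
    apply hx'0
    have := congrArg ι h0
    simpa using this
  · apply ι.injective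
    rw [map_sum, RingEquiv.apply_symm_apply]
    conv_lhs => rw [hx']
    apply Finset.sum_congr rfl
    intro i _
    rw [map_mul, iter_transport ι σbar φ hι, iter_transport ι σbar φ hι, RingEquiv.apply_symm_apply]

include hι in
lemma H3_transport (h : H3 φ) : H3 σbar := by
  intro c
  obtain ⟨y, hy⟩ := h (ι c)
  refine ⟨ι.symm y, ?_⟩
  apply ι.injective
  rw [map_add, map_sub, hι, RingEquiv.apply_symm_apply, hy, map_zero]

end transport

section algclosed

open Polynomial in
/-- over an algebraically closed field a polynomial with two different nonzero coefficients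
has a nonzero root. -/
lemma exists_root_ne_zero' {k : Type u} [Field k] [IsAlgClosed k] (P : k[X])
    (h : P.natTrailingDegree < P.natDegree) : ∃ z : k, z ≠ 0 ∧ P.eval z = 0 := by
  classical
  have hP0 : P ≠ 0 := by
    intro h0
    rw [h0] at h
    simp at h
  have hcard : P.roots.card = P.natDegree := splits_iff_card_roots.mp (IsAlgClosed.splits P)
  have hcount : P.roots.count 0 = P.natTrailingDegree := by
    rw [count_roots, rootMultiplicity_eq_natTrailingDegree']
  have hex : ∃ z ∈ P.roots, z ≠ 0 := by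
    by_contra hcon
    push Not at hcon
    have : P.roots.count 0 = P.roots.card :=
      Multiset.count_eq_card.mpr (fun x hx => (hcon x hx).symm)
    omega
  obtain ⟨z, hz, hz0⟩ := hex
  exact ⟨z, hz0, (mem_roots hP0).mp hz⟩

variable (p : ℕ) [Fact p.Prime] (k : Type u) [Field k] [CharP k p] [IsAlgClosed k]

lemma iter_symm_pow (j : ℕ) (z : k) :
    (⇑(frobeniusEquiv k p).symm.toRingHom)^[j] (z ^ p ^ j) = z := by
  induction j generalizing z with
  | zero => simp
  | succ j ih =>
    rw [Function.iterate_succ_apply, pow_succ, pow_mul]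
    change (⇑(frobeniusEquiv k p).symm.toRingHom)^[j]
      ((frobeniusEquiv k p).symm ((z ^ p ^ j) ^ p)) = z
    rw [frobeniusEquiv_symm_pow, ih]

open Polynomial in
lemma H3_frobSymm : H3 (frobeniusEquiv k p).symm.toRingHom := by
  intro c
  have hp : 1 < p := (Fact.out : p.Prime).one_lt
  have hdeg : (X - X ^ p + C c : k[X]).degree ≠ 0 := by
    have h1 : (X - X ^ p + C c : k[X]) = - (X ^ p - (X + C c)) := by ring
    rw [h1, degree_neg, degree_sub_eq_left_of_degree_lt]
    · rw [degree_X_pow]
      exact_mod_cast (by omega : p ≠ 0)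
    · rw [degree_X_pow, degree_X_add_C]
      exact_mod_cast hp
  obtain ⟨w, hw⟩ := IsAlgClosed.exists_root _ hdeg
  refine ⟨w ^ p, ?_⟩
  change (frobeniusEquiv k p).symm (w ^ p) - w ^ p + c = 0
  rw [frobeniusEquiv_symm_pow]
  simpa using hw

open Polynomial in
lemma H3_frob : H3 (frobenius k p) := by
  intro c
  have hp : 1 < p := (Fact.out : p.Prime).one_lt
  have hdeg : (X ^ p - X + C c : k[X]).degree ≠ 0 := by
    have h1 : (X ^ p - X + C c : k[X]) = (X ^ p - (X - C c)) := by ring
    rw [h1, degree_sub_eq_left_of_degree_lt]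
    · rw [degree_X_pow]
      exact_mod_cast (by omega : p ≠ 0)
    · rw [degree_X_pow, degree_X_sub_C]
      exact_mod_cast hp
  obtain ⟨w, hw⟩ := IsAlgClosed.exists_root _ hdeg
  refine ⟨w, ?_⟩
  rw [frobenius_def]
  simpa using hw

open Polynomial in
lemma H2_frobSymm : H2 (frobeniusEquiv k p).symm.toRingHom := by
  classical
  intro n b hb
  set σ := (frobeniusEquiv k p).symm.toRingHom with hσ
  have hp : 1 < p := (Fact.out : p.Prime).one_lt
  let c : Fin (n + 1) → k := fun i => (⇑σ)^[i.val] (b (Fin.rev i))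
  obtain ⟨j₀, hj₀⟩ : ∃ j, b j ≠ 0 := by
    by_contra hcon
    push Not at hcon
    exact hb (funext hcon)
  have hc : c (Fin.rev j₀) ≠ 0 := by
    intro h
    simp only [c, Fin.rev_rev] at h
    exact hj₀ (iterate_sigma_eq_zero _ _ h)
  have hinj : Function.Injective (fun i : Fin (n + 1) => p ^ (n - i.val)) := by
    intro i j hij
    have := Nat.pow_right_injective hp hij
    apply Fin.ext
    have hi := i.2
    have hj := j.2
    omega
  have hlt : ∀ i : Fin (n + 1), p ^ (n - i.val) < p ^ (n + 1) :=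
    fun i => Nat.pow_lt_pow_right hp (by omega)
  set P : k[X] := X ^ (p ^ (n + 1)) - ∑ i : Fin (n + 1), C (c i) * X ^ (p ^ (n - i.val)) with hP
  have hcoeff : ∀ m, P.coeff m = (if m = p ^ (n + 1) then 1 else 0) -
      ∑ i : Fin (n + 1), (if m = p ^ (n - i.val) then c i else 0) := by
    intro m
    rw [hP, coeff_sub, finsetSum_coeff, coeff_X_pow]
    congr 1
    apply Finset.sum_congr rfl
    intro i _
    rw [coeff_C_mul_X_pow]
  have h1 : P.coeff (p ^ (n + 1)) = 1 := by
    rw [hcoeff, if_pos rfl]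
    rw [Finset.sum_eq_zero, sub_zero]
    intro i _
    rw [if_neg (ne_of_gt (hlt i))]
  have h2 : P.coeff (p ^ (n - (Fin.rev j₀).val)) = - c (Fin.rev j₀) := by
    rw [hcoeff, if_neg (ne_of_lt (hlt _)), zero_sub]
    congr 1
    rw [Finset.sum_eq_single (Fin.rev j₀)]
    · rw [if_pos rfl]
    · intro i _ hi
      rw [if_neg (fun h => hi (hinj h).symm)]
    · intro h
      exact absurd (Finset.mem_univ _) h
  have hdeg : p ^ (n + 1) ≤ P.natDegree :=
    le_natDegree_of_ne_zero (by rw [h1]; exact one_ne_zero)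
  have htr : P.natTrailingDegree ≤ p ^ (n - (Fin.rev j₀).val) :=
    natTrailingDegree_le_of_ne_zero (by rw [h2]; exact neg_ne_zero.mpr hc)
  obtain ⟨z, hz0, hz⟩ := exists_root_ne_zero' P (lt_of_le_of_lt htr (lt_of_lt_of_le (hlt _) hdeg))
  rw [hP, eval_sub, eval_pow, eval_X, eval_finsetSum, sub_eq_zero] at hz
  refine ⟨z ^ p ^ (n + 1), pow_ne_zero _ hz0, ?_⟩
  conv_lhs => rw [hz]
  apply Finset.sum_congr rfl
  intro i _
  rw [eval_mul, eval_C, eval_pow, eval_X, mul_comm]
  congr 1
  have h4 : z ^ p ^ (n + 1) = (z ^ p ^ (n - i.val)) ^ p ^ (i.val + 1) := by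
    rw [← pow_mul, ← pow_add]
    congr 2
    have := i.2
    omega
  rw [h4, hσ, iter_symm_pow]

open Polynomial in
lemma H2_frob : H2 (frobenius k p) := by
  classical
  intro n b hb
  have hp : 1 < p := (Fact.out : p.Prime).one_lt
  let c : Fin (n + 1) → k := fun i => (b (Fin.rev i)) ^ p ^ i.val
  obtain ⟨j₀, hj₀⟩ : ∃ j, b j ≠ 0 := by
    by_contra hcon
    push Not at hcon
    exact hb (funext hcon)
  have hc : c (Fin.rev j₀) ≠ 0 := by
    simp only [c, Fin.rev_rev]
    exact pow_ne_zero _ hj₀
  have hinj : Function.Injective (fun i : Fin (n + 1) => p ^ (i.val + 1)) := by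
    intro i j hij
    have := Nat.pow_right_injective hp hij
    apply Fin.ext
    omega
  have hgt : ∀ i : Fin (n + 1), 1 < p ^ (i.val + 1) :=
    fun i => Nat.one_lt_pow (by omega) hp
  set P : k[X] := ∑ i : Fin (n + 1), C (c i) * X ^ (p ^ (i.val + 1)) - X with hP
  have hcoeff : ∀ m, P.coeff m =
      ∑ i : Fin (n + 1), (if m = p ^ (i.val + 1) then c i else 0) - (if m = 1 then 1 else 0) := by
    intro m
    rw [hP, coeff_sub, finsetSum_coeff, coeff_X]
    congr 1
    · apply Finset.sum_congr rfl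
      intro i _
      rw [coeff_C_mul_X_pow]
    · simp only [eq_comm]
  have h1 : P.coeff 1 = -1 := by
    rw [hcoeff, if_pos rfl]
    rw [Finset.sum_eq_zero, zero_sub]
    intro i _
    rw [if_neg (ne_of_lt (hgt i))]
  have h2 : P.coeff (p ^ ((Fin.rev j₀).val + 1)) = c (Fin.rev j₀) := by
    rw [hcoeff, if_neg (ne_of_gt (hgt _)), sub_zero]
    rw [Finset.sum_eq_single (Fin.rev j₀)]
    · rw [if_pos rfl]
    · intro i _ hi
      rw [if_neg (fun h => hi (hinj h).symm)]
    · intro h
      exact absurd (Finset.mem_univ _) h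
  have hdeg : p ^ ((Fin.rev j₀).val + 1) ≤ P.natDegree :=
    le_natDegree_of_ne_zero (by rw [h2]; exact hc)
  have htr : P.natTrailingDegree ≤ 1 :=
    natTrailingDegree_le_of_ne_zero (by rw [h1]; exact neg_ne_zero.mpr one_ne_zero)
  obtain ⟨z, hz0, hz⟩ := exists_root_ne_zero' P (lt_of_le_of_lt htr (lt_of_lt_of_le (hgt _) hdeg))
  rw [hP, eval_sub, eval_X, eval_finsetSum, sub_eq_zero] at hz
  refine ⟨z, hz0, ?_⟩
  conv_lhs => rw [← hz]
  apply Finset.sum_congr rfl
  intro i _
  rw [eval_mul, eval_C, eval_pow, eval_X, mul_comm]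
  simp only [c]
  rw [iterate_frobenius, iterate_frobenius]

end algclosed

end Groth.Agent.Helper28.SigmaLin
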