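import Groth.Agent.Lib.Helper28.SigmaLinWitt
import Mathlib
set_option autoImplicit false
universe u v

namespace Groth.Agent.Helper28.SigmaLin
open IsLocalRing

section witt
variable (p : ℕ) [Fact p.Prime] (k : Type u) [Field k] [CharP k p] [PerfectRing k p] (n : ℕ)

/-- the zeroth coefficient as a ring hom on truncated Witt vectors of positive length. -/
noncomputable def c0 : TruncatedWittVector p (n + 1) k →+* k where
  toFun x := x.coeff 0
  map_one' := by
    rw [← map_one (WittVector.truncate (p := p) (R := k) (n + 1)), WittVector.coeff_truncate]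
    exact WittVector.one_coeff_zero p k
  map_zero' := by
    rw [← map_zero (WittVector.truncate (p := p) (R := k) (n + 1)), WittVector.coeff_truncate]
    exact WittVector.zero_coeff p k 0
  map_mul' x y := by
    obtain ⟨X, rfl⟩ := WittVector.truncate_surjective p (n + 1) k x
    obtain ⟨Y, rfl⟩ := WittVector.truncate_surjective p (n + 1) k y
    rw [← map_mul, WittVector.coeff_truncate, WittVector.coeff_truncate, WittVector.coeff_truncate]
    exact WittVector.mul_coeff_zero X Y
  map_add' x y := by
    obtain ⟨X, rfl⟩ := WittVector.truncate_surjective p (n + 1) k x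
    obtain ⟨Y, rfl⟩ := WittVector.truncate_surjective p (n + 1) k y
    rw [← map_add, WittVector.coeff_truncate, WittVector.coeff_truncate, WittVector.coeff_truncate]
    exact WittVector.add_coeff_zero X Y

lemma c0_apply (x : TruncatedWittVector p (n + 1) k) : c0 p k n x = x.coeff 0 := rfl

lemma c0_truncate (X : WittVector p k) :
    c0 p k n (WittVector.truncate (n + 1) X) = X.coeff 0 := by
  rw [c0_apply, WittVector.coeff_truncate]
  rfl

lemma c0_surjective : Function.Surjective (c0 p k n) := by
  intro a
  obtain ⟨X, hX⟩ := WittVector.constantCoeff_surjective p (R := k) a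
  exact ⟨WittVector.truncate (n + 1) X, by rw [c0_truncate]; exact hX⟩

instance : Nontrivial (TruncatedWittVector p (n + 1) k) :=
  (c0 p k n).domain_nontrivial

instance : IsLocalRing (TruncatedWittVector p (n + 1) k) :=
  IsLocalRing.of_surjective' (WittVector.truncate (p := p) (R := k) (n + 1))
    (WittVector.truncate_surjective p (n + 1) k)

lemma isUnit_iff_c0 (x : TruncatedWittVector p (n + 1) k) : IsUnit x ↔ c0 p k n x ≠ 0 := by
  constructor
  · intro h
    exact (h.map (c0 p k n)).ne_zero
  · intro h
    obtain ⟨X, rfl⟩ := WittVector.truncate_surjective p (n + 1) k x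
    rw [c0_truncate] at h
    exact (WittVector.isUnit_of_coeff_zero_ne_zero X h).map _

lemma mem_maximalIdeal_iff (x : TruncatedWittVector p (n + 1) k) :
    x ∈ maximalIdeal (TruncatedWittVector p (n + 1) k) ↔ c0 p k n x = 0 := by
  rw [IsLocalRing.mem_maximalIdeal, mem_nonunits_iff, isUnit_iff_c0, not_not]

lemma c0_p : c0 p k n (p : TruncatedWittVector p (n + 1) k) = 0 := by
  rw [map_natCast]
  exact CharP.cast_eq_zero k p

lemma maximalIdeal_eq : maximalIdeal (TruncatedWittVector p (n + 1) k) =
    Ideal.span {(p : TruncatedWittVector p (n + 1) k)} := by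
  ext x
  rw [mem_maximalIdeal_iff]
  constructor
  · intro h
    obtain ⟨X, rfl⟩ := WittVector.truncate_surjective p (n + 1) k x
    rw [c0_truncate] at h
    have hX := (WittVector.mem_span_p_iff_coeff_zero_eq_zero X).mpr h
    obtain ⟨Y, hY⟩ := Ideal.mem_span_singleton'.mp hX
    rw [← hY, map_mul, map_natCast]
    exact Ideal.mul_mem_left _ _ (Ideal.mem_span_singleton_self _)
  · intro h
    obtain ⟨y, rfl⟩ := Ideal.mem_span_singleton'.mp h
    rw [map_mul, c0_p, mul_zero]

lemma p_pow_eq_zero : (p : TruncatedWittVector p (n + 1) k) ^ (n + 1) = 0 := by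
  have h1 : ((p : WittVector p k) ^ (n + 1)) ∈
      RingHom.ker (WittVector.truncate (p := p) (R := k) (n + 1)) := by
    rw [WittVector.mem_ker_truncate]
    exact (WittVector.mem_span_p_pow_iff_le_coeff_eq_zero _ (n + 1)).mp
      (Ideal.mem_span_singleton_self _)
  rw [RingHom.mem_ker, map_pow, map_natCast] at h1
  exact h1

lemma ker_c0 : RingHom.ker (c0 p k n) = maximalIdeal (TruncatedWittVector p (n + 1) k) := by
  ext x
  rw [RingHom.mem_ker, mem_maximalIdeal_iff]

/-- the residue field of `W_{n+1}(k)` is `k`. -/
noncomputable def iota : ResidueField (TruncatedWittVector p (n + 1) k) ≃+* k :=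
  (Ideal.quotEquivOfEq (ker_c0 p k n).symm).trans
    (RingHom.quotientKerEquivOfSurjective (c0_surjective p k n))

lemma iota_residue (r : TruncatedWittVector p (n + 1) k) :
    iota p k n (residue _ r) = r.coeff 0 := rfl

/-- the map induced on the residue field by `truncMap f`. -/
noncomputable def sbar (f : k →+* k) :
    ResidueField (TruncatedWittVector p (n + 1) k) →+*
      ResidueField (TruncatedWittVector p (n + 1) k) :=
  Ideal.quotientMap (maximalIdeal (TruncatedWittVector p (n + 1) k))
    (WittGrp.truncMap p (n + 1) f) (by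
      intro x hx
      rw [Ideal.mem_comap, mem_maximalIdeal_iff, c0_apply, WittGrp.coeff_truncMap]
      rw [mem_maximalIdeal_iff, c0_apply] at hx
      rw [hx, map_zero])

lemma sbar_residue (f : k →+* k) (r : TruncatedWittVector p (n + 1) k) :
    sbar p k n f (residue _ r) = residue _ (WittGrp.truncMap p (n + 1) f r) := rfl

lemma iota_sbar (f : k →+* k) (x : ResidueField (TruncatedWittVector p (n + 1) k)) :
    iota p k n (sbar p k n f x) = f (iota p k n x) := by
  obtain ⟨r, rfl⟩ := IsLocalRing.residue_surjective x
  rw [sbar_residue, iota_residue, iota_residue, WittGrp.coeff_truncMap]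

end witt

section wittmain
variable (p : ℕ) [Fact p.Prime] (k : Type u) [Field k] [CharP k p] [IsAlgClosed k] (n : ℕ)

theorem witt_sub_surjective (f : k →+* k) (h2 : H2 f) (h3 : H3 f)
    (M : Type v) [AddCommGroup M] [Module (TruncatedWittVector p (n + 1) k) M]
    [Module.Finite (TruncatedWittVector p (n + 1) k) M]
    (T : M →ₛₗ[WittGrp.truncMap p (n + 1) f] M) :
    Function.Surjective (fun m : M => m - T m) :=
  sub_surjective_local (WittGrp.truncMap p (n + 1) f) (sbar p k n f) (sbar_residue p k n f) T
    (p : TruncatedWittVector p (n + 1) k) (maximalIdeal_eq p k n) (map_natCast _ p) (n + 1)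
    (p_pow_eq_zero p k n)
    (H2_transport (iota p k n) (sbar p k n f) f (iota_sbar p k n f) h2)
    (H3_transport (iota p k n) (sbar p k n f) f (iota_sbar p k n f) h3)

lemma witt_hlift (f : k →+* k) (hf : ∀ a : k, f a = a → a ^ p = a)
    (x : ResidueField (TruncatedWittVector p (n + 1) k)) (hx : sbar p k n f x = x) :
    ∃ r : TruncatedWittVector p (n + 1) k,
      WittGrp.truncMap p (n + 1) f r = r ∧ residue _ r = x := by
  have h1 : f (iota p k n x) = iota p k n x := by rw [← iota_sbar, hx]
  have h2 := hf _ h1
  have h3 : iota p k n x ∈ (⊥ : Subfield k) := (Subfield.mem_bot_iff_pow_eq_self k p).mpr h2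
  rw [← ZMod.fieldRange_castHom_eq_bot p] at h3
  obtain ⟨z, hz⟩ := h3
  refine ⟨((z.val : ℕ) : TruncatedWittVector p (n + 1) k), map_natCast _ _, ?_⟩
  apply (iota p k n).injective
  rw [iota_residue, ← c0_apply, map_natCast, ← hz]
  rw [← map_natCast (ZMod.castHom (dvd_refl p) k), ZMod.natCast_zmod_val]

theorem witt_fixed_finite (f : k →+* k) (h2 : H2 f) (h3 : H3 f)
    (hf : ∀ a : k, f a = a → a ^ p = a)
    (M : Type v) [AddCommGroup M] [Module (TruncatedWittVector p (n + 1) k) M]
    [Module.Finite (TruncatedWittVector p (n + 1) k) M]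
    (T : M →ₛₗ[WittGrp.truncMap p (n + 1) f] M) :
    {m : M | T m = m}.Finite := by
  classical
  obtain ⟨s, -, hgen⟩ := fixed_fg (WittGrp.truncMap p (n + 1) f) (sbar p k n f)
    (sbar_residue p k n f) (p : TruncatedWittVector p (n + 1) k) (maximalIdeal_eq p k n)
    (map_natCast _ p) (n + 1) (p_pow_eq_zero p k n)
    (H2_transport (iota p k n) (sbar p k n f) f (iota_sbar p k n f) h2)
    (H3_transport (iota p k n) (sbar p k n f) f (iota_sbar p k n f) h3)
    (witt_hlift p k n f hf) T
  -- the fixed ring is finite
  have hp : 1 < p := (Fact.out : p.Prime).one_lt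
  have hF : {a : k | a ^ p = a}.Finite := by
    have hne : (Polynomial.X ^ p - Polynomial.X : Polynomial k) ≠ 0 :=
      FiniteField.X_pow_card_sub_X_ne_zero k hp
    refine (Polynomial.finite_setOfPred_isRoot hne).subset ?_
    intro a ha
    change a ^ p = a at ha
    change Polynomial.IsRoot _ a
    simp [Polynomial.IsRoot, ha]
  have hR0 : {r : TruncatedWittVector p (n + 1) k | WittGrp.truncMap p (n + 1) f r = r}.Finite := by
    have h1 : (Set.pi Set.univ (fun _ : Fin (n + 1) => {a : k | a ^ p = a})).Finite :=
      Set.Finite.pi (fun _ => hF)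
    have h2' : Set.InjOn (fun (r : TruncatedWittVector p (n + 1) k) (i : Fin (n + 1)) => r.coeff i)
        ((fun (r : TruncatedWittVector p (n + 1) k) (i : Fin (n + 1)) => r.coeff i) ⁻¹'
          (Set.pi Set.univ (fun _ : Fin (n + 1) => {a : k | a ^ p = a}))) := by
      intro a _ b _ hab
      exact TruncatedWittVector.ext (fun i => congrFun hab i)
    refine (Set.Finite.preimage h2' h1).subset ?_
    intro r hr
    simp only [Set.mem_preimage, Set.mem_pi, Set.mem_univ, forall_true_left]
    intro i
    apply hf
    have := congrArg (fun y => TruncatedWittVector.coeff i y) hr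
    simp only [WittGrp.coeff_truncMap] at this
    exact this
  have hpi : (Set.pi Set.univ (fun _ : ↥s =>
      {r : TruncatedWittVector p (n + 1) k | WittGrp.truncMap p (n + 1) f r = r})).Finite :=
    Set.Finite.pi (fun _ => hR0)
  refine (hpi.image (fun c : ↥s → TruncatedWittVector p (n + 1) k =>
    ∑ x : ↥s, c x • (x : M))).subset ?_
  intro m hm
  obtain ⟨c, hc, hmc⟩ := hgen m hm
  refine ⟨fun x => c x, ?_, ?_⟩
  · simp only [Set.mem_pi, Set.mem_univ, forall_true_left]
    intro x
    exact hc x x.2
  · simp only
    rw [hmc]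
    exact Finset.sum_coe_sort s (fun x => c x • x)

lemma frobSymm_fixed (a : k) (h : (frobeniusEquiv k p).symm.toRingHom a = a) : a ^ p = a := by
  have h1 : (frobeniusEquiv k p).symm a = a := h
  have := frobeniusEquiv_symm_pow_p k p a
  rw [h1] at this
  exact this

lemma frob_fixed (a : k) (h : frobenius k p a = a) : a ^ p = a := h

end wittmain

end Groth.Agent.Helper28.SigmaLin
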