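import Mathlib
import Groth.Agent.Lib.Helper12.ComodQuot
set_option autoImplicit false
open TensorProduct

namespace Groth.Agent.Helper28.SliceLemmas
open Groth.Agent.Helper12

universe u w e f

variable {k : Type u} [Field k] {W : Type w} [AddCommGroup W] [Module k W]
  {E : Type e} [AddCommGroup E] [Module k E] {F : Type f} [AddCommGroup F] [Module k F]

theorem slice_lTensor (g : E →ₗ[k] F) (μ : F →ₗ[k] k) (z : W ⊗[k] E) :
    slice μ (g.lTensor W z) = slice (μ ∘ₗ g) z := by
  induction z using TensorProduct.induction_on with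
  | zero => simp
  | tmul w c => simp
  | add a b ha hb => simp only [map_add, ha, hb]

theorem eq_zero_of_slice_eq_zero (x : W ⊗[k] E) (h : ∀ ν : E →ₗ[k] k, slice ν x = 0) : x = 0 := by
  apply range_rTensor_bot (⊥ : Submodule k W) rfl
  apply mem_range_rTensor_of_slice_mem (Module.Basis.ofVectorSpace k E)
  intro i
  rw [h]
  exact Submodule.zero_mem _

/-- Over a field, `x ∈ W ⊗ F` comes from `W ⊗ E` iff all its slices along functionals killing
the image of `E` vanish. -/
theorem mem_range_lTensor_iff (g : E →ₗ[k] F) (x : W ⊗[k] F) :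
    x ∈ LinearMap.range (g.lTensor W) ↔
      ∀ μ : F →ₗ[k] k, μ ∘ₗ g = 0 → slice μ x = 0 := by
  constructor
  · rintro ⟨z, rfl⟩ μ hμ
    rw [slice_lTensor, hμ]
    induction z using TensorProduct.induction_on with
    | zero => simp
    | tmul w c => simp
    | add a b ha hb => simp only [map_add, ha, hb, add_zero]
  · intro h
    have hex : Function.Exact (g.lTensor W) ((LinearMap.range g).mkQ.lTensor W) :=
      lTensor_exact W (LinearMap.exact_map_mkQ_range g) (Submodule.mkQ_surjective _)
    rw [← LinearMap.exact_iff.1 hex, LinearMap.mem_ker]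
    apply eq_zero_of_slice_eq_zero
    intro ν
    rw [slice_lTensor]
    apply h
    ext c
    have h0 : (Submodule.Quotient.mk (g c) : F ⧸ LinearMap.range g) = 0 :=
      (Submodule.Quotient.mk_eq_zero _).2 (LinearMap.mem_range_self g c)
    simp [h0]

end Groth.Agent.Helper28.SliceLemmas
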