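import Mathlib
import Groth.Prelude.Def_SpSeq

/-!
# Dimension counting for spectral sequences of vector spaces
-/

universe v u

open CategoryTheory CategoryTheory.Limits ZeroObject

namespace Groth.Agent.Helper28.SpSeqDim

variable {K : Type u} [Field K]

/-- homology of a short complex of vector spaces: dimension bound and the equality case. -/
theorem homology_dim (S : ShortComplex (ModuleCat.{v} K)) [Module.Finite K S.X₂] :
    Module.Finite K S.homology ∧ Module.finrank K S.homology ≤ Module.finrank K S.X₂ ∧
      (Module.finrank K S.homology = Module.finrank K S.X₂ → S.f = 0 ∧ S.g = 0) := by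
  let e : S.homology ≃ₗ[K] (LinearMap.ker S.g.hom ⧸ LinearMap.range S.moduleCatToCycles) :=
    S.moduleCatLeftHomologyData.homologyIso.toLinearEquiv
  have hfin : Module.Finite K (LinearMap.ker S.g.hom ⧸ LinearMap.range S.moduleCatToCycles) :=
    inferInstance
  have h1 := (LinearMap.range S.moduleCatToCycles).finrank_quotient_add_finrank
  have h2 : Module.finrank K (LinearMap.ker S.g.hom) ≤ Module.finrank K S.X₂ :=
    Submodule.finrank_le _
  refine ⟨Module.Finite.equiv e.symm, ?_, ?_⟩
  · rw [e.finrank_eq]; omega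
  · intro h
    rw [e.finrank_eq] at h
    have h3 : Module.finrank K (LinearMap.ker S.g.hom) = Module.finrank K S.X₂ := by omega
    have h4 : Module.finrank K (LinearMap.range S.moduleCatToCycles) = 0 := by omega
    have h5 : LinearMap.ker S.g.hom = ⊤ := Submodule.eq_top_of_finrank_eq h3
    have h6 : LinearMap.range S.moduleCatToCycles = ⊥ := Submodule.finrank_eq_zero.1 h4
    constructor
    · ext x
      have : S.moduleCatToCycles x = 0 := by
        have : S.moduleCatToCycles x ∈ LinearMap.range S.moduleCatToCycles := ⟨x, rfl⟩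
        rw [h6] at this
        exact this
      have := congrArg Subtype.val this
      exact this
    · ext x
      have : x ∈ LinearMap.ker S.g.hom := by rw [h5]; trivial
      exact this


section pages

variable {r₀ : ℤ} (E : CohomologicalSpectralSequence (ModuleCat.{v} K) r₀)

theorem page_step (r : ℤ) (hr : r₀ ≤ r) (pq : ℤ × ℤ)
    (hfin : Module.Finite K ((E.page r hr).X pq)) :
    Module.Finite K ((E.page (r + 1) (by omega)).X pq) ∧
    Module.finrank K ((E.page (r + 1) (by omega)).X pq) ≤ Module.finrank K ((E.page r hr).X pq) ∧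
    (Module.finrank K ((E.page (r + 1) (by omega)).X pq) = Module.finrank K ((E.page r hr).X pq) →
      (E.page r hr).d (pq - (r, 1 - r)) pq = 0 ∧ (E.page r hr).d pq (pq + (r, 1 - r)) = 0) := by
  haveI : Module.Finite K ((E.page r hr).sc pq).X₂ := hfin
  obtain ⟨h1, h2, h3⟩ := homology_dim ((E.page r hr).sc pq)
  let e : ((E.page r hr).sc pq).homology ≃ₗ[K] (E.page (r + 1) (by omega)).X pq :=
    (E.iso r (r + 1) pq rfl hr).toLinearEquiv
  refine ⟨Module.Finite.equiv e, ?_, ?_⟩
  · rw [← e.finrank_eq]; exact h2
  · intro h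
    rw [← e.finrank_eq] at h
    obtain ⟨hf, hg⟩ := h3 h
    constructor
    · have hrel : (ComplexShape.up' ((r, 1 - r) : ℤ × ℤ)).Rel (pq - (r, 1 - r)) pq :=
        sub_add_cancel pq _
      have hprev := (ComplexShape.up' ((r, 1 - r) : ℤ × ℤ)).prev_eq' hrel
      have hf' : (E.page r hr).d ((ComplexShape.up' ((r, 1 - r) : ℤ × ℤ)).prev pq) pq = 0 := hf
      rw [hprev] at hf'
      exact hf'
    · have hrel : (ComplexShape.up' ((r, 1 - r) : ℤ × ℤ)).Rel pq (pq + (r, 1 - r)) := rfl
      have hnext := (ComplexShape.up' ((r, 1 - r) : ℤ × ℤ)).next_eq' hrel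
      have hg' : (E.page r hr).d pq ((ComplexShape.up' ((r, 1 - r) : ℤ × ℤ)).next pq) = 0 := hg
      rw [hnext] at hg'
      exact hg'

theorem page_fin (pq : ℤ × ℤ) (hfd : Module.Finite K ((E.page r₀ le_rfl).X pq)) :
    ∀ (r : ℤ) (hr : r₀ ≤ r), Module.Finite K ((E.page r hr).X pq) := by
  intro r hr
  induction r, hr using Int.leInduction with
  | base => exact hfd
  | succ r hr ih => exact (page_step E r hr pq ih).1

theorem page_mono (pq : ℤ × ℤ) (hfd : Module.Finite K ((E.page r₀ le_rfl).X pq))
    (r : ℤ) (hr : r₀ ≤ r) : ∀ (r' : ℤ) (hr' : r ≤ r'),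
    Module.finrank K ((E.page r' (le_trans hr hr')).X pq) ≤ Module.finrank K ((E.page r hr).X pq) := by
  intro r' hr'
  induction r', hr' using Int.leInduction with
  | base => exact le_rfl
  | succ r' hr' ih =>
    exact le_trans (page_step E r' (le_trans hr hr') pq (page_fin E pq hfd r' _)).2.1 ih

theorem page_isZero (pq : ℤ × ℤ) (h0 : IsZero ((E.page r₀ le_rfl).X pq)) :
    ∀ (r : ℤ) (hr : r₀ ≤ r), IsZero ((E.page r hr).X pq) := by
  intro r hr
  induction r, hr using Int.leInduction with
  | base => exact h0
  | succ r hr ih =>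
    have h1 : IsZero ((E.page r hr).homology pq) :=
      ShortComplex.isZero_homology_of_isZero_X₂ _ ih
    exact h1.of_iso (E.iso r (r + 1) pq rfl hr).symm

end pages


section filtration

variable {X : ModuleCat.{v} K} [Module.Finite K X] (F : ℤ → Subobject X) (hF : Antitone F)

instance sub_fin (Y : Subobject X) : Module.Finite K (Y : ModuleCat.{v} K) :=
  Module.Finite.of_injective Y.arrow.hom ((ModuleCat.mono_iff_injective _).1 inferInstance)

include hF in
theorem gr_dim (p : ℤ) :
    Module.finrank K (F p : ModuleCat.{v} K) =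
      Module.finrank K (F (p + 1) : ModuleCat.{v} K) +
        Module.finrank K (SpSeq.grPiece F hF p : ModuleCat.{v} K) := by
  set ι := (F (p + 1)).ofLE (F p) (hF (Int.le_add_one le_rfl)) with hι
  have hinj : Function.Injective ι.hom := (ModuleCat.mono_iff_injective _).1 inferInstance
  have hsurj : Function.Surjective (cokernel.π ι).hom := (ModuleCat.epi_iff_surjective _).1 inferInstance
  have hex := (ShortComplex.exact_cokernel ι).moduleCat_range_eq_ker
  have h1 := LinearMap.finrank_range_add_finrank_ker (cokernel.π ι).hom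
  have h2 : Module.finrank K (LinearMap.range (cokernel.π ι).hom) =
      Module.finrank K (SpSeq.grPiece F hF p : ModuleCat.{v} K) := by
    rw [LinearMap.range_eq_top.2 hsurj, finrank_top]
    rfl
  have h3 : Module.finrank K (LinearMap.ker (cokernel.π ι).hom) =
      Module.finrank K (F (p + 1) : ModuleCat.{v} K) := by
    have : LinearMap.ker (cokernel.π ι).hom = LinearMap.range ι.hom := hex.symm
    rw [this, LinearMap.finrank_range_of_inj hinj]
  omega

include hF in
theorem sum_gr (lo hi : ℤ) (h : lo ≤ hi) :
    Module.finrank K (F lo : ModuleCat.{v} K) = Module.finrank K (F hi : ModuleCat.{v} K) +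
      ∑ s ∈ Finset.Ico lo hi, Module.finrank K (SpSeq.grPiece F hF s : ModuleCat.{v} K) := by
  induction hi, h using Int.leInduction with
  | base => simp
  | succ hi h ih =>
    rw [← Finset.insert_Ico_right_eq_Ico_add_one h, Finset.sum_insert (by simp), ih,
      gr_dim F hF hi]
    omega

omit [Module.Finite K X] in
theorem dim_top (p : ℤ) (h : F p = ⊤) :
    Module.finrank K (F p : ModuleCat.{v} K) = Module.finrank K X := by
  have e1 : (F p : ModuleCat.{v} K) ≅ ((⊤ : Subobject X) : ModuleCat.{v} K) := Subobject.isoOfEq _ _ h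
  have e2 : ((⊤ : Subobject X) : ModuleCat.{v} K) ≅ X := asIso (⊤ : Subobject X).arrow
  exact (e1 ≪≫ e2).toLinearEquiv.finrank_eq

omit [Module.Finite K X] in
theorem dim_bot (p : ℤ) (h : F p = ⊥) :
    Module.finrank K (F p : ModuleCat.{v} K) = 0 := by
  have e1 : (F p : ModuleCat.{v} K) ≅ ((⊥ : Subobject X) : ModuleCat.{v} K) := Subobject.isoOfEq _ _ h
  have e2 : ((⊥ : Subobject X) : ModuleCat.{v} K) ≅ 0 := Subobject.botCoeIsoZero
  have hz : IsZero (F p : ModuleCat.{v} K) := (isZero_zero _).of_iso (e1 ≪≫ e2)
  haveI : Subsingleton (F p : ModuleCat.{v} K) := ModuleCat.subsingleton_of_isZero hz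
  exact Module.finrank_zero_of_subsingleton

end filtration

end Groth.Agent.Helper28.SpSeqDim
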