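import Mathlib
import Groth.Prelude.Def_BlowUp2
import Groth.Agent.Lib.Helper28.ChartGlue
import Groth.Agent.Lib.Helper13.KerSec
import Groth.Agent.Lib.Helper13.QCohKer
import Groth.Agent.Lib.Helper13.QCohStalk
import Groth.Agent.Lib.Helper13.FinTypeEpi
import Groth.Agent.Lib.Helper13.PullbackLocal
import Groth.Agent.Lib.Helper22.Pinch2
import Groth.Agent.Lib.Helper6.QcohLocal

/-!
# Strict transforms of coherent modules are coherent

For an ideal sheaf `𝓔` that is locally principal (on the members of an affine cover), the submodule of sections of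
a quasi-coherent module `N` killed by a power of `𝓔` is quasi-coherent: it satisfies the two localisation
conditions on the affine opens where `𝓔` is principal.  Hence a strict transform `N ⟶ G` (an epimorphism with that
kernel) has quasi-coherent target.
-/

set_option autoImplicit false
universe u
open CategoryTheory CategoryTheory.Limits AlgebraicGeometry TopologicalSpace Opposite

namespace Groth.Agent.Helper28.StrictCoh

open Groth.Agent.Helper28.ChartGlue

variable {X : Scheme.{u}} (𝓔 : X.IdealSheafData) {N G : X.Modules} (π : N ⟶ G)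

lemma ι_injective (W : X.Opens) : Function.Injective ((kernel.ι π).app W) :=
  (Groth.Agent.Helper13.QCoh.mono_iff_app_injective (kernel.ι π)).1 inferInstance W

lemma res_mem_ideal {V W : X.affineOpens} (hW : W.1 ≤ V.1) (f : Γ(X, V.1))
    (hf : 𝓔.ideal V = Ideal.span {f}) (k : ℕ) :
    (X.presheaf.map (homOfLE hW).op f) ^ k ∈ (𝓔 ^ k).ideal W := by
  have h1 : X.presheaf.map (homOfLE hW).op f ∈ 𝓔.ideal W := by
    rw [← 𝓔.map_ideal (U := W) (V := V) hW, hf]
    exact Ideal.mem_map_of_mem _ (Ideal.mem_span_singleton_self f)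
  show (X.presheaf.map (homOfLE hW).op f) ^ k ∈ (𝓔.ideal W) ^ k
  exact Ideal.pow_mem_pow h1 k

lemma killed_of_pow_smul (V : X.affineOpens) (f : Γ(X, V.1)) (hf : 𝓔.ideal V = Ideal.span {f})
    (k : ℕ) (t : Γ(N, V.1)) (ht : f ^ k • t = 0) : BlowUp.KilledByPowerNear 𝓔 N V t := by
  refine ⟨k, fun a ha => ?_⟩
  have ha' : a ∈ (𝓔.ideal V) ^ k := ha
  rw [hf, Ideal.span_singleton_pow] at ha'
  obtain ⟨c, rfl⟩ := Ideal.mem_span_singleton'.1 ha'
  rw [mul_smul, ht, smul_zero]

variable [N.IsQuasicoherent]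
  (hker : ∀ (V : X.affineOpens) (m : Γ(N, V.1)), π.app V.1 m = 0 ↔ BlowUp.KilledByPowerNear 𝓔 N V m)

include hker in
lemma d1_aux (V : X.affineOpens) (f : Γ(X, V.1)) (hf : 𝓔.ideal V = Ideal.span {f})
    (r : Γ(X, V.1)) (s : Γ(kernel π, X.basicOpen r)) :
    ∃ (n : ℕ) (t : Γ(kernel π, V.1)),
      (X.presheaf.map (homOfLE (X.basicOpen_le r)).op r) ^ n • s =
        (kernel π).presheaf.map (homOfLE (X.basicOpen_le r)).op t := by
  have hW : X.basicOpen r ≤ V.1 := X.basicOpen_le r
  set rW := X.presheaf.map (homOfLE hW).op r with hrW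
  set fW := X.presheaf.map (homOfLE hW).op f with hfW
  let Wa : X.affineOpens := ⟨X.basicOpen r, V.2.basicOpen r⟩
  set m := (kernel.ι π).app (X.basicOpen r) s with hm
  have hm0 : π.app (X.basicOpen r) m = 0 :=
    Groth.Agent.Helper13.KerSec.kernel_ι_app_comp π (X.basicOpen r) s
  obtain ⟨k, hk⟩ := (hker Wa m).1 hm0
  have h1 : fW ^ k • m = 0 := hk _ (res_mem_ideal 𝓔 (V := V) (W := Wa) hW f hf k)
  obtain ⟨n, t₀, ht₀⟩ := Groth.Agent.Helper13.QCoh.exists_pow_smul_eq_res N V.2 r m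
  have ht₀' : rs N hW t₀ = rW ^ n • m := ht₀
  have h2 : rs N hW (f ^ k • t₀) = 0 := by
    rw [rs_smul, ht₀', map_pow, smul_comm, h1, smul_zero]
  obtain ⟨l, hl⟩ := Groth.Agent.Helper13.QCoh.exists_pow_smul_eq_zero N V.2 r (f ^ k • t₀) h2
  have hkill : BlowUp.KilledByPowerNear 𝓔 N V (r ^ l • t₀) := by
    apply killed_of_pow_smul 𝓔 V f hf k
    rw [smul_comm, hl]
  have hπ : π.app V.1 (r ^ l • t₀) = 0 := (hker V _).2 hkill
  obtain ⟨t, ht⟩ := Groth.Agent.Helper13.KerSec.exists_kernel_section π V.1 _ hπ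
  refine ⟨n + l, t, ?_⟩
  apply ι_injective π (X.basicOpen r)
  have e1 : (kernel.ι π).app (X.basicOpen r) (rW ^ (n + l) • s) = rW ^ (n + l) • m :=
    Scheme.Modules.Hom.app_smul _ _ _
  have e2 : (kernel.ι π).app (X.basicOpen r) (rs (kernel π) hW t) = rs N hW (r ^ l • t₀) := by
    rw [app_rs, ht]
  have e3 : rs N hW (r ^ l • t₀) = rW ^ (n + l) • m := by
    rw [rs_smul, ht₀', map_pow, smul_smul, ← pow_add, add_comm]
  exact e1.trans (e3.symm.trans e2.symm)

omit [N.IsQuasicoherent] in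
lemma res_self_apply {W : X.Opens} (h : W ≤ W) (x : Γ(X, W)) :
    X.presheaf.map (homOfLE h).op x = x := by
  have : X.presheaf.map (homOfLE h).op = 𝟙 _ := by
    rw [← X.presheaf.map_id]; rfl
  rw [this]; rfl

lemma d2_aux (V : X.affineOpens) (r : Γ(X, V.1)) (t : Γ(kernel π, V.1))
    (ht : (kernel π).presheaf.map (homOfLE (X.basicOpen_le r)).op t = 0) :
    ∃ n : ℕ, r ^ n • t = 0 := by
  have hW : X.basicOpen r ≤ V.1 := X.basicOpen_le r
  set m := (kernel.ι π).app V.1 t with hm
  have h1 : rs N hW m = 0 := by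
    have ht' : rs (kernel π) hW t = 0 := ht
    rw [hm, ← app_rs, ht']
    exact map_zero _
  obtain ⟨n, hn⟩ := Groth.Agent.Helper13.QCoh.exists_pow_smul_eq_zero N V.2 r m h1
  refine ⟨n, ?_⟩
  apply ι_injective π V.1
  have e1 : (kernel.ι π).app V.1 (r ^ n • t) = r ^ n • m := Scheme.Modules.Hom.app_smul _ _ _
  rw [e1, hn]
  exact (map_zero _).symm

include hker in
/-- the kernel of a strict-transform-type morphism is quasi-coherent, when `𝓔` is locally principal. -/
theorem isQuasicoherent_kernel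
    (hE : ∀ x : X, ∃ U : X.affineOpens, x ∈ U.1 ∧ ∃ f : Γ(X, U.1), 𝓔.ideal U = Ideal.span {f}) :
    (kernel π).IsQuasicoherent := by
  let ι := {V : X.affineOpens // ∃ f : Γ(X, V.1), 𝓔.ideal V = Ideal.span {f}}
  refine Groth.Agent.Helper6.QcohLocal.isQuasicoherent_of_affineOpens (kernel π) (ι := ι)
    (fun i => i.1.1) (fun i => i.1.2) ?_ ?_ ?_
  · intro x
    obtain ⟨U, hxU, f, hf⟩ := hE x
    exact ⟨⟨U, f, hf⟩, hxU⟩
  · rintro ⟨V, f, hf⟩ r W U' hU' hW hWr s
    subst hU'
    subst hWr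
    exact d1_aux 𝓔 π hker V f hf r s
  · rintro ⟨V, f, hf⟩ r W U' hU' hW hWr t ht
    subst hU'
    subst hWr
    obtain ⟨n, hn⟩ := d2_aux π V r t ht
    refine ⟨n, ?_⟩
    rw [res_self_apply]
    exact hn

include hker in
/-- the target of a strict-transform-type epimorphism out of a quasi-coherent module is quasi-coherent. -/
theorem isQuasicoherent_target [Epi π]
    (hE : ∀ x : X, ∃ U : X.affineOpens, x ∈ U.1 ∧ ∃ f : Γ(X, U.1), 𝓔.ideal U = Ideal.span {f}) :
    G.IsQuasicoherent := by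
  haveI : (kernel π).IsQuasicoherent := isQuasicoherent_kernel 𝓔 π hker hE
  haveI : (cokernel (kernel.ι π)).IsQuasicoherent :=
    Groth.Agent.Helper13.QCohLocal.isQuasicoherent_cokernel (kernel.ι π)
  have e : cokernel (kernel.ι π) ≅ G :=
    IsColimit.coconePointUniqueUpToIso (cokernelIsCokernel (kernel.ι π))
      (Abelian.epiIsCokernelOfKernel (limit.cone (parallelPair π 0)) (limit.isLimit _))
  exact Groth.Agent.Helper13.QCohLocal.isQuasicoherent_of_iso e

/-- S19349 in library form. -/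
theorem isCoh_of_isStrictTransform {X X' : Scheme.{u}} (I : X.IdealSheafData) (b : X' ⟶ X)
    (hE : BlowUp.IsEffCartierIdeal (I.comap b)) (F : X.Modules) (hF : Coh.IsCoh F) (G : X'.Modules)
    (π : (Scheme.Modules.pullback b).obj F ⟶ G) (hG : BlowUp.IsStrictTransform b I F G π) :
    Coh.IsCoh G := by
  obtain ⟨hq, hft⟩ := hF
  haveI : F.IsQuasicoherent := hq
  haveI : SheafOfModules.IsFiniteType (R := X.ringCatSheaf) F := hft
  haveI : Epi π := hG.1
  haveI : SheafOfModules.IsFiniteType (R := X'.ringCatSheaf) ((Scheme.Modules.pullback b).obj F) :=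
    Groth.Agent.Helper22.Pinch.isFiniteType_pullback b F
  refine ⟨?_, Groth.Agent.Helper13.FinType.isFiniteType_of_epi π⟩
  refine isQuasicoherent_target (I.comap b) π hG.2 ?_
  intro x
  obtain ⟨U, hxU, f, -, hf⟩ := hE x
  exact ⟨U, hxU, f, hf⟩

end Groth.Agent.Helper28.StrictCoh
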