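import Mathlib
import Groth.Prelude.Def_BlowUp2
import Groth.Prelude.Def_FlatMod2
import Groth.Agent.Lib.Helper13.PullbackStalk
import Groth.Agent.Lib.Helper13.QCohStalk

/-!
# The strict transform of a module flat along the centre is the full pullback

`b : S' ⟶ S` with `𝓘 · O_{S'}` effective Cartier, `F` quasi-coherent on `S`, flat at the points of `V(𝓘)`.
Then no nonzero local section of `b^* F` is killed by a power of the exceptional ideal: locally the exceptional
ideal is generated by a nonzerodivisor `f`; off the exceptional divisor `f` is a unit, and at a point `x` of it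
`(b^* F)_x = O_{S',x} ⊗ F_{b x}` with `F_{b x}` flat, so that multiplication by the nonzerodivisor `f_x` stays
injective.
-/

set_option autoImplicit false
universe u
open CategoryTheory CategoryTheory.Limits AlgebraicGeometry TopologicalSpace TensorProduct

namespace Groth.Agent.Helper28.StrictFlat

/-- multiplication by a nonzerodivisor of `A` is injective on `A ⊗[R] M` for `M` flat over `R`. -/
lemma tensor_smul_eq_zero {R A M : Type*} [CommRing R] [CommRing A] [Algebra R A] [AddCommGroup M]
    [Module R M] [Module.Flat R M] (t : A) (ht : t ∈ nonZeroDivisors A) (z : A ⊗[R] M)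
    (hz : t • z = 0) : z = 0 := by
  have hinj : Function.Injective (LinearMap.mulLeft R t) := by
    intro a c hac
    have h1 : t * (a - c) = 0 := by
      rw [mul_sub]
      exact sub_eq_zero.2 hac
    exact sub_eq_zero.1 ((mem_nonZeroDivisors_iff.1 ht).1 _ h1)
  have hT := Module.Flat.rTensor_preserves_injective_linearMap (M := M) (LinearMap.mulLeft R t) hinj
  have key : ∀ w : A ⊗[R] M, (LinearMap.mulLeft R t).rTensor M w = t • w := by
    intro w
    induction w using TensorProduct.induction_on with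
    | zero => rw [map_zero, smul_zero]
    | tmul a m =>
      rw [LinearMap.rTensor_tmul, TensorProduct.smul_tmul', LinearMap.mulLeft_apply, smul_eq_mul]
    | add a c ha hc => rw [map_add, smul_add, ha, hc]
  apply hT
  rw [key, hz, map_zero]

variable {X : Scheme.{u}}

/-- the germ of a nonzerodivisor on an affine open is a nonzerodivisor of the local ring. -/
lemma germ_mem_nonZeroDivisors {U : X.Opens} (hU : IsAffineOpen U) (x : X) (hx : x ∈ U) (f : Γ(X, U))
    (hf : f ∈ nonZeroDivisors Γ(X, U)) :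
    X.presheaf.germ U x hx f ∈ nonZeroDivisors (X.presheaf.stalk x) := by
  letI : Algebra Γ(X, U) (X.presheaf.stalk x) := X.presheaf.algebra_section_stalk ⟨x, hx⟩
  haveI := hU.isLocalization_stalk ⟨x, hx⟩
  exact IsLocalization.map_nonZeroDivisors_le (hU.primeIdealOf ⟨x, hx⟩).asIdeal.primeCompl
    (X.presheaf.stalk x) (Submonoid.mem_map_of_mem (algebraMap Γ(X, U) (X.presheaf.stalk x)) hf)

/-- If `𝓔` is effective Cartier and nonzerodivisors of the local rings act injectively on the stalks of `G` at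
the points of `V(𝓔)`, then a section of `G` over an affine open killed by a power of `𝓔` is zero. -/
theorem eq_zero_of_killed (𝓔 : X.IdealSheafData) (hE : BlowUp.IsEffCartierIdeal 𝓔) (G : X.Modules)
    (hstalk : ∀ x : X, ∀ t : X.presheaf.stalk x, t ∈ nonZeroDivisors (X.presheaf.stalk x) →
      x ∈ 𝓔.support → ∀ z : G.presheaf.stalk x, t • z = 0 → z = 0)
    (V : X.affineOpens) (m : Γ(G, V.1)) (h : BlowUp.KilledByPowerNear 𝓔 G V m) : m = 0 := by
  obtain ⟨n, hn⟩ := h
  apply TopCat.Presheaf.section_ext ⟨G.presheaf, G.isSheaf⟩ V.1 m 0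
  intro x hxV
  rw [map_zero]
  obtain ⟨U', hxU', f, hf, hfU'⟩ := hE x
  obtain ⟨_, ⟨W, hW, rfl⟩, hxW, hWle⟩ := X.isBasis_affineOpens.exists_subset_of_mem_open
    (show x ∈ ((V.1 ⊓ U'.1 : X.Opens) : Set X) from ⟨hxV, hxU'⟩) (V.1 ⊓ U'.1).2
  have hWV : W ≤ V.1 := fun y hy => (hWle hy).1
  have hWU : W ≤ U'.1 := fun y hy => (hWle hy).2
  let Wa : X.affineOpens := ⟨W, hW⟩
  have h1 : X.presheaf.map (homOfLE hWU).op f ∈ 𝓔.ideal Wa := by
    rw [← 𝓔.map_ideal (U := Wa) (V := U') hWU, hfU']
    exact Ideal.mem_map_of_mem _ (Ideal.mem_span_singleton_self f)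
  have h2 : (X.presheaf.map (homOfLE hWU).op f) ^ n ∈ (𝓔 ^ n).ideal Wa := by
    show (X.presheaf.map (homOfLE hWU).op f) ^ n ∈ (𝓔.ideal Wa) ^ n
    exact Ideal.pow_mem_pow h1 n
  have h3 : ∀ a ∈ (𝓔 ^ n).ideal Wa, a • G.presheaf.map (homOfLE hWV).op m = 0 := by
    intro a ha
    rw [← (𝓔 ^ n).map_ideal (U := Wa) (V := V) hWV] at ha
    have ha' : a ∈ Submodule.span Γ(X, W)
        ((X.presheaf.map (homOfLE hWV).op).hom '' ((𝓔 ^ n).ideal V : Set Γ(X, V.1))) := ha
    refine Submodule.span_induction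
      (p := fun a _ => a • G.presheaf.map (homOfLE hWV).op m = 0) ?_ ?_ ?_ ?_ ha'
    · rintro _ ⟨a0, ha0, rfl⟩
      have e := Scheme.Modules.map_smul G (homOfLE hWV) a0 m
      rw [hn a0 ha0, map_zero] at e
      exact e.symm
    · rw [zero_smul]
    · intro a c _ _ e1 e2
      rw [add_smul, e1, e2, add_zero]
    · intro c a _ e1
      rw [smul_eq_mul, mul_smul, e1, smul_zero]
  have h4 := h3 _ h2
  have h5 := congrArg (G.presheaf.germ W x hxW) h4
  rw [Groth.Agent.Helper13.QCoh.germ_smul, map_zero, map_pow, TopCat.Presheaf.germ_res_apply,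
    TopCat.Presheaf.germ_res_apply] at h5
  by_cases hxs : x ∈ 𝓔.support
  · have htn := germ_mem_nonZeroDivisors U'.2 x hxU' f hf
    exact hstalk x _ (pow_mem htn n) hxs _ h5
  · rw [Scheme.IdealSheafData.mem_support_iff_of_mem (U := U') hxU', hfU',
      Scheme.mem_zeroLocus_iff] at hxs
    push Not at hxs
    obtain ⟨g, hg, hxg⟩ := hxs
    have hg' : g ∈ Ideal.span {f} := hg
    obtain ⟨c, rfl⟩ := Ideal.mem_span_singleton'.1 hg'
    have hxf : x ∈ X.basicOpen f := by
      rw [X.basicOpen_mul c f] at hxg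
      exact hxg.2
    have hu : IsUnit (X.presheaf.germ U'.1 x hxU' f) := (X.mem_basicOpen f x hxU').1 hxf
    exact (hu.pow n).smul_eq_zero.1 h5

/-- S1696 in library form. -/
theorem isStrictTransform_id_of_flat {S S' : Scheme.{u}} (𝓘 : S.IdealSheafData) (b : S' ⟶ S)
    (hE : BlowUp.IsEffCartierIdeal (𝓘.comap b)) (F : S.Modules) [F.IsQuasicoherent]
    (hflat : ∀ s : ↥S, s ∈ 𝓘.support → FlatMod.IsFlatAt F s) :
    BlowUp.IsStrictTransform b 𝓘 F ((Scheme.Modules.pullback b).obj F) (𝟙 _) := by
  refine ⟨inferInstance, fun V m => ⟨fun h => ⟨0, fun a _ => ?_⟩, fun h => ?_⟩⟩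
  · have hm : m = 0 := h
    rw [hm, smul_zero]
  · have hm : m = 0 := by
      refine eq_zero_of_killed (𝓘.comap b) hE _ ?_ V m h
      intro x t ht hxs z hz
      have hbx : b x ∈ 𝓘.support := by
        rw [Scheme.IdealSheafData.support_comap] at hxs
        exact hxs
      haveI : Module.Flat (S.presheaf.stalk (b x)) (F.presheaf.stalk (b x)) := hflat _ hbx
      letI := (b.stalkMap x).hom.toAlgebra
      obtain ⟨e⟩ := Groth.Agent.Helper13.Pullback.exists_stalk_pullback_equiv b F x
      have he : e z = 0 := tensor_smul_eq_zero t ht (e z) (by rw [← map_smul, hz, map_zero])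
      exact e.map_eq_zero_iff.1 he
    rw [hm]
    exact map_zero _

end Groth.Agent.Helper28.StrictFlat
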