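import Mathlib
import Groth.Agent.Lib.Helper28.StrictFlat
import Groth.Agent.Lib.Helper28.ChartGlue
import Groth.Agent.Lib.Helper13.ResAffine
import Groth.Agent.Lib.Helper13.ResFinLocFree
import Groth.Agent.Lib.Helper13.LocFree2
import Groth.Agent.Lib.Helper13.LocFree4

/-!
# Strict transforms of finite locally free modules
-/

set_option autoImplicit false
universe u
open CategoryTheory CategoryTheory.Limits AlgebraicGeometry TopologicalSpace

namespace Groth.Agent.Helper28.StrictFlat

/-- sections of `b^* F` killed by a power of the exceptional ideal vanish (`F` flat along the centre). -/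
theorem eq_zero_of_killed_pullback {S S' : Scheme.{u}} (𝓘 : S.IdealSheafData) (b : S' ⟶ S)
    (hE : BlowUp.IsEffCartierIdeal (𝓘.comap b)) (F : S.Modules) [F.IsQuasicoherent]
    (hflat : ∀ s : ↥S, s ∈ 𝓘.support → FlatMod.IsFlatAt F s) (V : S'.affineOpens)
    (m : Γ((Scheme.Modules.pullback b).obj F, V.1))
    (h : BlowUp.KilledByPowerNear (𝓘.comap b) ((Scheme.Modules.pullback b).obj F) V m) : m = 0 :=
  ((isStrictTransform_id_of_flat 𝓘 b hE F hflat).2 V m).2 h

/-- a morphism of modules with trivial kernel on the affine opens is a monomorphism. -/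
theorem mono_of_injective_affine {X : Scheme.{u}} {M N : X.Modules} (φ : M ⟶ N)
    (h : ∀ V : X.affineOpens, ∀ m : Γ(M, V.1), φ.app V.1 m = 0 → m = 0) : Mono φ := by
  rw [Groth.Agent.Helper13.QCoh.mono_iff_app_injective]
  intro U
  rw [injective_iff_map_eq_zero]
  intro s hs
  apply ChartGlue.sec_ext M s 0
  intro x hx
  obtain ⟨_, ⟨W, hW, rfl⟩, hxW, hWle⟩ := X.isBasis_affineOpens.exists_subset_of_mem_open
    (show x ∈ (U : Set X) from hx) U.2
  refine ⟨W, hWle, hxW, ?_⟩
  have h0 : ChartGlue.rs M hWle (0 : Γ(M, U)) = 0 := map_zero _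
  rw [h0]
  apply h ⟨W, hW⟩
  rw [ChartGlue.app_rs, hs]
  exact map_zero _

/-- S19350 in library form: a strict transform of a finite locally free module along a morphism making the
centre effective Cartier is the full pullback. -/
theorem isIso_of_isStrictTransform_of_isFinLocFree {X X' : Scheme.{u}} (I : X.IdealSheafData)
    (b : X' ⟶ X) (hE : BlowUp.IsEffCartierIdeal (I.comap b)) (F : X.Modules)
    (hF : FlatMod.IsFinLocFree F) (G : X'.Modules) (π : (Scheme.Modules.pullback b).obj F ⟶ G)
    (hG : BlowUp.IsStrictTransform b I F G π) : IsIso π ∧ FlatMod.IsFinLocFree G := by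
  haveI : F.IsQuasicoherent :=
    Groth.Agent.Helper13.ResFinLocFree.isQuasicoherent_of_isFinLocFree F hF
  have hflat : ∀ s : ↥X, s ∈ I.support → FlatMod.IsFlatAt F s := by
    intro s _
    haveI := Groth.Agent.Helper13.LocFree.free_stalk_of_isFinLocFree F hF s
    exact Module.Flat.of_free
  haveI : Epi π := hG.1
  haveI : Mono π := by
    apply mono_of_injective_affine
    intro V m hm
    exact eq_zero_of_killed_pullback I b hE F hflat V m ((hG.2 V m).1 hm)
  haveI : IsIso π := isIso_of_mono_of_epi π
  exact ⟨inferInstance, Groth.Agent.Helper13.LocFree.isFinLocFree_of_iso (asIso π)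
    (Groth.Agent.Helper13.ResAffine.isFinLocFree_pullback b F hF)⟩

end Groth.Agent.Helper28.StrictFlat
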