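import Mathlib
set_option autoImplicit false
universe v₁ v₂ v₃ u₁ u₂ u₃
open CategoryTheory

namespace Groth.Agent.Helper28.SubLoc

variable {C : Type u₁} [Category.{v₁} C] (W : MorphismProperty C) [W.HasRightCalculusOfFractions]
  (P : ObjectProperty C) (hP : ∀ ⦃X' X : C⦄ (s : X' ⟶ X), W s → P X → P X')

include hP in
theorem hasRightCalcSub : (W.inverseImage P.ι).HasRightCalculusOfFractions where
  toIsMultiplicative := inferInstance
  exists_rightFraction A B φ := by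
    obtain ⟨ψ, hψ⟩ := MorphismProperty.HasRightCalculusOfFractions.exists_rightFraction (W := W)
      (MorphismProperty.LeftFraction.mk φ.f.hom φ.s.hom φ.hs)
    dsimp at hψ
    refine ⟨MorphismProperty.RightFraction.mk (X' := ⟨ψ.X', hP ψ.s ψ.hs A.property⟩)
      (ObjectProperty.homMk ψ.s) ψ.hs (ObjectProperty.homMk ψ.f), ?_⟩
    apply ObjectProperty.hom_ext
    exact hψ
  ext A B B' f₁ f₂ s hs h := by
    obtain ⟨X', t, ht, hft⟩ := MorphismProperty.HasRightCalculusOfFractions.ext (W := W)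
      f₁.hom f₂.hom s.hom hs (by
        rw [← ObjectProperty.FullSubcategory.comp_hom, ← ObjectProperty.FullSubcategory.comp_hom, h])
    refine ⟨⟨X', hP t ht A.property⟩, ObjectProperty.homMk t, ht, ?_⟩
    apply ObjectProperty.hom_ext
    exact hft

variable {D : Type u₂} [Category.{v₂} D] (L : C ⥤ D) [L.IsLocalization W]
  {E : Type u₃} [Category.{v₃} E] (L' : P.FullSubcategory ⥤ E)
  [L'.IsLocalization (W.inverseImage P.ι)]
  (Φ : E ⥤ D) (e : L' ⋙ Φ ≅ P.ι ⋙ L)

include hP in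
lemma claimA (A B : P.FullSubcategory) (θ : L.obj A.obj ⟶ L.obj B.obj) :
    ∃ m : L'.obj A ⟶ L'.obj B, e.inv.app A ≫ Φ.map m ≫ e.hom.app B = θ := by
  obtain ⟨φ, hφ⟩ := Localization.exists_rightFraction L W θ
  let X'' : P.FullSubcategory := ⟨φ.X', hP φ.s φ.hs A.property⟩
  let σ : X'' ⟶ A := ObjectProperty.homMk φ.s
  let g : X'' ⟶ B := ObjectProperty.homMk φ.f
  have hσ : (W.inverseImage P.ι) σ := φ.hs
  let iσ := Localization.isoOfHom L' (W.inverseImage P.ι) σ hσ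
  refine ⟨iσ.inv ≫ L'.map g, ?_⟩
  have hnatσ : e.hom.app X'' ≫ L.map φ.s = Φ.map (L'.map σ) ≫ e.hom.app A :=
    (e.hom.naturality σ).symm
  have hnatg : e.hom.app X'' ≫ L.map φ.f = Φ.map (L'.map g) ≫ e.hom.app B :=
    (e.hom.naturality g).symm
  haveI : IsIso (L.map φ.s) := Localization.inverts L W _ φ.hs
  rw [← cancel_epi (L.map φ.s)]
  have h2 : L.map φ.s ≫ e.inv.app A = e.inv.app X'' ≫ Φ.map (L'.map σ) := by
    rw [← cancel_mono (e.hom.app A), Category.assoc, Category.assoc, Iso.inv_hom_id_app]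
    erw [Category.comp_id]
    rw [← hnatσ, Iso.inv_hom_id_app_assoc]
  have h3 : L'.map σ ≫ iσ.inv ≫ L'.map g = L'.map g := by
    rw [← Localization.isoOfHom_hom L' _ σ hσ]
    exact Iso.hom_inv_id_assoc _ _
  rw [reassoc_of% h2, ← Φ.map_comp_assoc, h3, ← hnatg, Iso.inv_hom_id_app_assoc]
  rw [hφ, MorphismProperty.RightFraction.map_s_comp_map]

/-- the underlying fraction -/
def under {A B : P.FullSubcategory} (φ : (W.inverseImage P.ι).RightFraction A B) :
    W.RightFraction A.obj B.obj :=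
  ⟨φ.s.hom, φ.hs, φ.f.hom⟩

lemma mu_left (A B : P.FullSubcategory) (φ : (W.inverseImage P.ι).RightFraction A B) :
    e.inv.app A ≫ Φ.map (φ.map L' (Localization.inverts _ _)) ≫ e.hom.app B =
      (under W P φ).map L (Localization.inverts _ _) := by
  haveI : IsIso (L.map (under W P φ).s) := Localization.inverts L W _ (under W P φ).hs
  refine (cancel_epi (L.map (under W P φ).s)).mp ?_
  refine Eq.trans ?_ (MorphismProperty.RightFraction.map_s_comp_map (under W P φ) L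
    (Localization.inverts _ _)).symm
  have hnats : e.hom.app φ.X' ≫ L.map φ.s.hom = Φ.map (L'.map φ.s) ≫ e.hom.app A :=
    (e.hom.naturality φ.s).symm
  have hnatf : e.hom.app φ.X' ≫ L.map φ.f.hom = Φ.map (L'.map φ.f) ≫ e.hom.app B :=
    (e.hom.naturality φ.f).symm
  have h2 : L.map φ.s.hom ≫ e.inv.app A = e.inv.app φ.X' ≫ Φ.map (L'.map φ.s) := by
    rw [← cancel_mono (e.hom.app A), Category.assoc, Category.assoc, Iso.inv_hom_id_app]
    erw [Category.comp_id]
    rw [← hnats, Iso.inv_hom_id_app_assoc]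
  show L.map φ.s.hom ≫ e.inv.app A ≫
      Φ.map (φ.map L' (Localization.inverts _ _)) ≫ e.hom.app B = L.map φ.f.hom
  rw [reassoc_of% h2, ← Φ.map_comp_assoc, MorphismProperty.RightFraction.map_s_comp_map,
    ← hnatf, Iso.inv_hom_id_app_assoc]

include hP L e in
lemma claimB (A B : P.FullSubcategory)
    (m₁ m₂ : L'.obj A ⟶ L'.obj B) (h : Φ.map m₁ = Φ.map m₂) : m₁ = m₂ := by
  haveI := hasRightCalcSub W P hP
  obtain ⟨φ₁, h₁⟩ := Localization.exists_rightFraction L' (W.inverseImage P.ι) m₁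
  obtain ⟨φ₂, h₂⟩ := Localization.exists_rightFraction L' (W.inverseImage P.ι) m₂
  rw [h₁, h₂, MorphismProperty.RightFraction.map_eq_iff]
  have hψ : (under W P φ₁).map L (Localization.inverts _ _) =
      (under W P φ₂).map L (Localization.inverts _ _) := by
    rw [← mu_left W P L L' Φ e A B φ₁, ← mu_left W P L L' Φ e A B φ₂, ← h₁, ← h₂, h]
  obtain ⟨Z, t₁, t₂, hst', hft', ht⟩ : ∃ (Z : C) (t₁ : Z ⟶ φ₁.X'.obj) (t₂ : Z ⟶ φ₂.X'.obj)
      (_ : t₁ ≫ φ₁.s.hom = t₂ ≫ φ₂.s.hom) (_ : t₁ ≫ φ₁.f.hom = t₂ ≫ φ₂.f.hom),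
      W (t₁ ≫ φ₁.s.hom) :=
    (MorphismProperty.RightFraction.map_eq_iff L W (under W P φ₁) (under W P φ₂)).mp hψ
  refine ⟨⟨Z, hP _ ht A.property⟩, ObjectProperty.homMk t₁, ObjectProperty.homMk t₂, ?_, ?_, ?_⟩
  · apply ObjectProperty.hom_ext
    exact hst'
  · apply ObjectProperty.hom_ext
    exact hft'
  · exact ht

include hP L e in
theorem full_faithful : Φ.Full ∧ Φ.Faithful := by
  haveI := hasRightCalcSub W P hP
  haveI : L'.EssSurj := Localization.essSurj L' (W.inverseImage P.ι)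
  refine ⟨⟨?_⟩, ⟨?_⟩⟩
  · intro X Y θ
    let a := L'.objObjPreimageIso X
    let b := L'.objObjPreimageIso Y
    obtain ⟨m, hm⟩ := claimA W P hP L L' Φ e (L'.objPreimage X) (L'.objPreimage Y)
      (e.inv.app _ ≫ Φ.map a.hom ≫ θ ≫ Φ.map b.inv ≫ e.hom.app _)
    have hm' : Φ.map m = Φ.map a.hom ≫ θ ≫ Φ.map b.inv := by
      have h3 := congrArg (fun x => e.hom.app _ ≫ x ≫ e.inv.app _) hm
      simpa using h3
    refine ⟨a.inv ≫ m ≫ b.hom, ?_⟩
    rw [Φ.map_comp, Φ.map_comp, hm']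
    simp only [Category.assoc, ← Φ.map_comp, Iso.inv_hom_id, Φ.map_id, Category.comp_id]
    rw [← Category.assoc, ← Φ.map_comp, Iso.inv_hom_id, Φ.map_id, Category.id_comp]
  · intro X Y f g h
    let a := L'.objObjPreimageIso X
    let b := L'.objObjPreimageIso Y
    have h1 := claimB W P hP L L' Φ e _ _ (a.hom ≫ f ≫ b.inv) (a.hom ≫ g ≫ b.inv)
      (by simp only [Functor.map_comp, h])
    have h2 : a.inv ≫ (a.hom ≫ f ≫ b.inv) ≫ b.hom = a.inv ≫ (a.hom ≫ g ≫ b.inv) ≫ b.hom := by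
      rw [h1]
    simpa using h2

end Groth.Agent.Helper28.SubLoc
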