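import Mathlib
set_option autoImplicit false
universe u v
open scoped TensorProduct

namespace Groth.Agent.Helper28.TensorPowSummand

variable {R : Type u} [CommRing R] {M : Type v} [AddCommGroup M] [Module R M]

/-- step 1: the contraction identity -/
lemma contraction (F₁ F₂ : Submodule R M) (π : M →ₗ[R] M) (hπ : ∀ y ∈ F₂, π y = 0) (n : ℕ)
    (hr : LinearMap.range (PiTensorProduct.map (R := R) (fun _ : Fin (n + 1) => F₁.subtype)) =
      LinearMap.range (PiTensorProduct.map (R := R) (fun _ : Fin (n + 1) => F₂.subtype)))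
    (x : Fin (n + 1) → F₁) (φ : Fin (n + 1) → (M →ₗ[R] R)) :
    φ 0 (π (x 0)) * ∏ i : Fin n, φ i.succ (x i.succ) = 0 := by
  let g : Fin (n + 1) → (M →ₗ[R] M) := fun i => if i = 0 then π else LinearMap.id
  let Λ : (⨂[R] _ : Fin (n + 1), M) →ₗ[R] R :=
    PiTensorProduct.lift ((MultilinearMap.mkPiAlgebra R (Fin (n + 1)) R).compLinearMap φ)
  let T : (⨂[R] _ : Fin (n + 1), M) →ₗ[R] (⨂[R] _ : Fin (n + 1), M) := PiTensorProduct.map g
  have hzero : (Λ ∘ₗ T) ∘ₗ (PiTensorProduct.map (R := R) (fun _ : Fin (n + 1) => F₂.subtype)) = 0 := by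
    apply PiTensorProduct.ext
    ext y
    simp only [LinearMap.compMultilinearMap_apply, LinearMap.comp_apply, PiTensorProduct.map_tprod,
      Λ, T, PiTensorProduct.lift.tprod, MultilinearMap.compLinearMap_apply,
      MultilinearMap.mkPiAlgebra_apply, LinearMap.zero_apply]
    apply Finset.prod_eq_zero (Finset.mem_univ (0 : Fin (n + 1)))
    simp only [g, if_true, Submodule.subtype_apply]
    rw [hπ _ (y 0).2, map_zero]
  have hmem : PiTensorProduct.tprod R (fun i => ((x i : F₁) : M)) ∈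
      LinearMap.range (PiTensorProduct.map (R := R) (fun _ : Fin (n + 1) => F₂.subtype)) := by
    rw [← hr]
    exact ⟨PiTensorProduct.tprod R x, by simp [PiTensorProduct.map_tprod]⟩
  obtain ⟨w, hw⟩ := hmem
  have h1 : (Λ ∘ₗ T) (PiTensorProduct.tprod R (fun i => ((x i : F₁) : M))) = 0 := by
    rw [← hw]
    exact LinearMap.congr_fun hzero w
  simp only [LinearMap.comp_apply, PiTensorProduct.map_tprod,
      Λ, T, PiTensorProduct.lift.tprod, MultilinearMap.compLinearMap_apply,
      MultilinearMap.mkPiAlgebra_apply] at h1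
  rw [Fin.prod_univ_succ] at h1
  simp only [g, if_true] at h1
  have h2 : ∀ i : Fin n, (if i.succ = 0 then π else LinearMap.id) ((x i.succ : F₁) : M) =
      ((x i.succ : F₁) : M) := by
    intro i
    rw [if_neg (Fin.succ_ne_zero i)]
    rfl
  simp only [h2] at h1
  exact h1


theorem le_of_range_eq [Module.Finite R M] [Module.Projective R M] (F₁ F₂ : Submodule R M)
    (h₁ : ∃ C : Submodule R M, IsCompl F₁ C) (h₂ : ∃ C : Submodule R M, IsCompl F₂ C) (n : ℕ)
    (hr : LinearMap.range (PiTensorProduct.map (R := R) (fun _ : Fin (n + 1) => F₁.subtype)) =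
      LinearMap.range (PiTensorProduct.map (R := R) (fun _ : Fin (n + 1) => F₂.subtype))) :
    F₁ ≤ F₂ := by
  obtain ⟨C₁, hc₁⟩ := h₁
  obtain ⟨C₂, hc₂⟩ := h₂
  let π : M →ₗ[R] M := C₂.projection F₂ hc₂.symm
  have hπ : ∀ y, π y = 0 ↔ y ∈ F₂ := fun y => Submodule.projection_apply_eq_zero_iff hc₂.symm
  let p₁ : M →ₗ[R] M := F₁.projection C₁ hc₁
  have hp₁ : ∀ m, p₁ m ∈ F₁ := fun m => Submodule.projection_apply_mem hc₁ m
  have hp₁x : ∀ x ∈ F₁, p₁ x = x := fun x hx => Submodule.projection_apply_of_mem_left hc₁ hx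
  obtain ⟨N, f, g, -, -, hfg⟩ := Module.Finite.exists_comp_eq_id_of_projective R M
  let e : Fin N → M := fun j => f (fun i => if j = i then 1 else 0)
  let ε : Fin N → (M →ₗ[R] R) := fun j => LinearMap.proj j ∘ₗ g
  have hdual : ∀ m : M, m = ∑ j, ε j m • e j := by
    intro m
    have h1 : f (g m) = m := LinearMap.congr_fun hfg m
    conv_lhs => rw [← h1, LinearMap.pi_apply_eq_sum_univ f (g m)]
    rfl
  -- the family of vanishing statements
  have H : ∀ m : ℕ, m ≤ n → ∀ (φ : Fin m → (M →ₗ[R] R)) (y : Fin m → F₁) (ψ : M →ₗ[R] R) (x : F₁),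
      ψ (π x) * ∏ i, φ i (y i) = 0 := by
    intro m hm
    induction' h : n - m with d ih generalizing m
    · have hmn : m = n := by omega
      subst hmn
      intro φ y ψ x
      have := contraction F₁ F₂ π (fun y hy => (hπ y).mpr hy) m hr (Fin.cons x y)
        (Fin.cons ψ φ)
      simpa [Fin.cons_zero, Fin.cons_succ] using this
    · intro φ y ψ x
      have ih' := ih (m + 1) (by omega) (by omega)
      have hx : (x : M) = ∑ j, ε j x • p₁ (e j) := by
        conv_lhs => rw [← hp₁x x x.2, hdual x, map_sum]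
        simp only [map_smul]
      rw [hx, map_sum, map_sum, Finset.sum_mul]
      apply Finset.sum_eq_zero
      intro j _
      have := ih' (Fin.cons (ε j) φ) (Fin.cons x y) ψ ⟨p₁ (e j), hp₁ _⟩
      rw [Fin.prod_univ_succ] at this
      simp only [Fin.cons_zero, Fin.cons_succ] at this
      rw [map_smul, map_smul, smul_eq_mul]
      linear_combination this
  intro x hx
  rw [← hπ]
  have h0 : ∀ ψ : M →ₗ[R] R, ψ (π x) = 0 := by
    intro ψ
    have := H 0 (Nat.zero_le n) Fin.elim0 Fin.elim0 ψ ⟨x, hx⟩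
    simpa using this
  rw [hdual (π x)]
  apply Finset.sum_eq_zero
  intro j _
  rw [h0, zero_smul]

end Groth.Agent.Helper28.TensorPowSummand
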