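import Mathlib
import Groth.Agent.Lib.Helper28.GlueGood

/-!
# Existence and uniqueness of the trace of a finite locally free quasi-coherent algebra
-/

set_option autoImplicit false
universe u
open CategoryTheory CategoryTheory.Limits AlgebraicGeometry Opposite TopologicalSpace
open Module

namespace Groth.Agent.Helper28.GlueGood

open Groth.Agent.Helper13.LocFree

variable {X : Scheme.{u}}

lemma isBasis_isGood (A : RelSpec.QCAlg X) (hA : FlatMod.IsFinLocFree A.toModule) :
    Opens.IsBasis {U : X.Opens | IsGood A U} := by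
  rw [Opens.isBasis_iff_nbhd]
  intro U x hxU
  obtain ⟨W, n, hxW, ⟨e⟩⟩ := hA x
  obtain ⟨_, ⟨V, hV, rfl⟩, hxV, hVUW⟩ := X.isBasis_affineOpens.exists_subset_of_mem_open
    (show x ∈ ((U ⊓ W : X.Opens) : Set X) from ⟨hxU, hxW⟩) (U ⊓ W).2
  have hVU : V ≤ U := fun y hy => (hVUW hy).1
  have hVW : V ≤ W := fun y hy => (hVUW hy).2
  obtain ⟨b⟩ := nonempty_basis_of_restrict_iso A.toModule e hVW
  letI := algSect A V
  let b' : Basis (Fin n) Γ(X, V) (A.presheaf.obj (op V)) := b
  exact ⟨V, ⟨hV, Module.Free.of_basis b', Module.Finite.of_basis b'⟩, hxV, hVU⟩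

/-- the trace of a finite locally free quasi-coherent algebra. -/
noncomputable def traceHom (A : RelSpec.QCAlg X) (hA : FlatMod.IsFinLocFree A.toModule) :
    A.toModule ⟶ Coh.structureModule X :=
  glueHom (traceFamily A) (isBasis_isGood A hA)
    (fun U _ a b => by
      letI := algSect A U
      exact map_add (Algebra.trace Γ(X, U) (A.presheaf.obj (op U))) a b)
    (fun U _ r a => by
      letI := algSect A U
      have h := map_smul (Algebra.trace Γ(X, U) (A.presheaf.obj (op U))) r a
      rwa [Algebra.smul_def, smul_eq_mul] at h)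

theorem isTrace_traceHom (A : RelSpec.QCAlg X) (hA : FlatMod.IsFinLocFree A.toModule) :
    FinCov.IsTrace A (traceHom A hA) := by
  intro U hU hfree hfin a
  exact glue_good (traceFamily A) (isBasis_isGood A hA) ⟨hU, hfree, hfin⟩ a

theorem existsUnique_isTrace (A : RelSpec.QCAlg X) (hA : FlatMod.IsFinLocFree A.toModule) :
    ∃! τ : A.toModule ⟶ Coh.structureModule X, FinCov.IsTrace A τ := by
  refine ⟨traceHom A hA, isTrace_traceHom A hA, fun τ' hτ' => ?_⟩
  apply Groth.Agent.Helper28.TraceSplit.hom_ext_of_isBasis _ _ (isBasis_isGood A hA)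
  rintro V ⟨hV, hfree, hfin⟩ m
  exact (hτ' V hV hfree hfin m).trans (isTrace_traceHom A hA V hV hfree hfin m).symm

end Groth.Agent.Helper28.GlueGood
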