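import Mathlib
import Groth.Prelude.Def_Twist2
import Groth.Prelude.Def_Coh
import Groth.Prelude.Def_Pic
import Groth.Agent.Lib.Helper28.TwistGen
import Groth.Agent.Lib.Helper13.AmpleLocal

set_option autoImplicit false
universe u
open CategoryTheory AlgebraicGeometry Opposite TopologicalSpace TopCat

namespace Groth.Agent.Helper28.TwistMul

open Groth.Agent.Helper13 Groth.Agent.Helper13.QCoh Groth.Agent.Helper13.FinType

variable {R A : Type u} [CommRing R] [CommRing A] [Algebra R A] (𝒜 : ℕ → Submodule R A)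
  [GradedAlgebra 𝒜]

open Twist

/-- every point of `Proj` lies in some `D_+(f)` with `f` homogeneous of positive degree. -/
theorem exists_pos_nmem (x : Proj 𝒜) :
    ∃ (m : ℕ) (f : A), 0 < m ∧ f ∈ 𝒜 m ∧ f ∉ x.asHomogeneousIdeal := by
  classical
  by_contra! H
  refine x.not_irrelevant_le (fun z hz => ?_)
  rw [← DirectSum.sum_support_decompose 𝒜 z]
  refine x.asHomogeneousIdeal.toIdeal.sum_mem (fun k _ => ?_)
  by_cases hk0 : k = 0
  · subst hk0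
    have h0 : ((DirectSum.decompose 𝒜 z 0 : 𝒜 0) : A) = 0 :=
      (HomogeneousIdeal.mem_irrelevant_iff 𝒜 z).mp hz
    rw [h0]
    exact zero_mem _
  · exact H k _ (Nat.pos_of_ne_zero hk0) (SetLike.coe_mem _)

theorem exists_basicOpen_le (Y : (Proj 𝒜).Opens) (y : Proj 𝒜) (hy : y ∈ Y) :
    ∃ (m : ℕ) (f : A), 0 < m ∧ f ∈ 𝒜 m ∧ y ∈ Proj.basicOpen 𝒜 f ∧ Proj.basicOpen 𝒜 f ≤ Y := by
  obtain ⟨_, ⟨f0, rfl⟩, hy0, h0Y⟩ := Opens.isBasis_iff_nbhd.mp (Proj.isBasis_basicOpen 𝒜) hy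
  have hsup := Proj.basicOpen_eq_iSup_proj 𝒜 f0
  rw [hsup] at hy0
  obtain ⟨i, hi⟩ := Opens.mem_iSup.mp hy0
  obtain ⟨m, g, hm, hg, hgy⟩ := exists_pos_nmem 𝒜 y
  refine ⟨i + m, GradedRing.proj 𝒜 i f0 * g, by omega,
    SetLike.mul_mem_graded (show GradedRing.proj 𝒜 i f0 ∈ 𝒜 i from
      SetLike.coe_mem (DirectSum.decompose 𝒜 f0 i)) hg, ?_, ?_⟩
  · rw [Proj.basicOpen_mul]
    exact ⟨hi, hgy⟩
  · rw [Proj.basicOpen_mul]
    refine inf_le_left.trans (le_trans ?_ h0Y)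
    rw [hsup]
    exact le_iSup (fun i => Proj.basicOpen 𝒜 (GradedRing.proj 𝒜 i f0)) i

/-- a quasi-compact open of `Proj` is a finite union of `D_+(g)` with all `g` of the same positive
degree. -/
theorem exists_finite_cover (Y : (Proj 𝒜).Opens) (hY : IsCompact (Y : Set (Proj 𝒜))) :
    ∃ (d : ℕ) (t : Finset A), 0 < d ∧ (∀ g ∈ t, g ∈ 𝒜 d) ∧
      (∀ g ∈ t, Proj.basicOpen 𝒜 g ≤ Y) ∧ ∀ y ∈ Y, ∃ g ∈ t, g ∉ y.asHomogeneousIdeal := by
  classical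
  choose m f hm hf hmem hle using fun (y : Y) => exists_basicOpen_le 𝒜 Y y.1 y.2
  obtain ⟨t0, ht0⟩ := hY.elim_nhds_subcover'
    (fun y hy => (Proj.basicOpen 𝒜 (f ⟨y, hy⟩) : Set (Proj 𝒜)))
    (fun y hy => (Proj.basicOpen 𝒜 (f ⟨y, hy⟩)).2.mem_nhds (hmem ⟨y, hy⟩))
  set d := ∏ y ∈ t0, m ⟨y.1, y.2⟩ with hd
  have hdpos : 0 < d := Finset.prod_pos (fun y _ => hm _)
  have hdvd : ∀ y ∈ t0, m ⟨y.1, y.2⟩ ∣ d := fun y hy => Finset.dvd_prod_of_mem _ hy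
  let g : ↥(Y : Set (Proj 𝒜)) → A := fun y => f ⟨y.1, y.2⟩ ^ (d / m ⟨y.1, y.2⟩)
  have hgdeg : ∀ y ∈ t0, g y ∈ 𝒜 d := by
    intro y hy
    have h1 : f ⟨y.1, y.2⟩ ^ (d / m ⟨y.1, y.2⟩) ∈ 𝒜 ((d / m ⟨y.1, y.2⟩) • m ⟨y.1, y.2⟩) :=
      SetLike.pow_mem_graded _ (hf _)
    rwa [smul_eq_mul, Nat.div_mul_cancel (hdvd y hy)] at h1
  have hgopen : ∀ y ∈ t0, Proj.basicOpen 𝒜 (g y) = Proj.basicOpen 𝒜 (f ⟨y.1, y.2⟩) := by
    intro y hy
    exact Proj.basicOpen_pow 𝒜 _ _ (Nat.div_pos (Nat.le_of_dvd hdpos (hdvd y hy)) (hm _))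
  refine ⟨d, t0.image g, hdpos, ?_, ?_, ?_⟩
  · intro a ha
    obtain ⟨y, hy, rfl⟩ := Finset.mem_image.mp ha
    exact hgdeg y hy
  · intro a ha
    obtain ⟨y, hy, rfl⟩ := Finset.mem_image.mp ha
    rw [hgopen y hy]
    exact hle _
  · intro y hy
    obtain ⟨z, hz, hyz⟩ := Set.mem_iUnion₂.mp (ht0 hy)
    refine ⟨g z, Finset.mem_image_of_mem g hz, ?_⟩
    have : y ∈ Proj.basicOpen 𝒜 (g z) := by
      rw [hgopen z hz]
      exact hyz
    exact this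

/-- invertibility of `O(m)` over an open covered by `D_+(g)`'s with `deg g` dividing `m`. -/
theorem isInvertible_restrict_of_cover (Y : (Proj 𝒜).Opens) (m : ℤ)
    (hcov : ∀ y ∈ Y, ∃ (e : ℕ) (g : A) (k : ℤ), g ∈ 𝒜 e ∧ g ∉ y.asHomogeneousIdeal ∧ m = k * e) :
    PicF.IsInvertible ((Twist.twist 𝒜 m).restrict Y.ι) := by
  apply Ample.isInvertible_of_forall_exists_restrict
  intro y
  obtain ⟨e, g, k, hg, hgy, hm⟩ := hcov y.1 y.2
  have hle : Y ⊓ Proj.basicOpen 𝒜 g ≤ Y := inf_le_left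
  have hle' : Y ⊓ Proj.basicOpen 𝒜 g ≤ Proj.basicOpen 𝒜 g := inf_le_right
  refine ⟨↑(Y ⊓ Proj.basicOpen 𝒜 g), (Proj 𝒜).homOfLE hle, inferInstance,
    ⟨⟨y.1, ⟨y.2, hgy⟩⟩, Scheme.homOfLE_apply' hle y.1 ⟨y.2, hgy⟩⟩, ?_⟩
  obtain ⟨ε⟩ := twist_restrict_iso' 𝒜 hg k hm
  have h1 : PicF.IsInvertible ((Twist.twist 𝒜 m).restrict (Proj.basicOpen 𝒜 g).ι) :=
    Inv.isInvertible_of_iso ε.symm Inv.isInvertible_structureModule
  have h2 := Inv.isInvertible_restrict ((Proj 𝒜).homOfLE hle') _ h1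
  have h3 : PicF.IsInvertible ((Twist.twist 𝒜 m).restrict (Y ⊓ Proj.basicOpen 𝒜 g).ι) :=
    Inv.isInvertible_of_iso (Ample.restrictRestrictIso ((Proj 𝒜).homOfLE hle') _ _
      ((Proj 𝒜).homOfLE_ι hle') _) h2
  exact Inv.isInvertible_of_iso (Ample.restrictRestrictIso ((Proj 𝒜).homOfLE hle) Y.ι _
      ((Proj 𝒜).homOfLE_ι hle) _).symm h3

/-- a quasi-compact open `Y` of `Proj` lies in some `W_d`, with all `O(nd)|_Y` invertible. -/
theorem exists_d_invertible (Y : (Proj 𝒜).Opens) (hY : IsCompact (Y : Set (Proj 𝒜))) :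
    ∃ d : ℕ, 0 < d ∧
      (∀ y : Proj 𝒜, y ∈ Y → ∃ (i j : ℕ) (a b : A), a ∈ 𝒜 i ∧ b ∈ 𝒜 j ∧ i = j + d ∧
        y ∈ Proj.basicOpen 𝒜 (a * b)) ∧
      ∀ n : ℤ, PicF.IsInvertible ((Twist.twist 𝒜 (n * d)).restrict Y.ι) := by
  obtain ⟨d, t, hd, htdeg, htle, htcov⟩ := exists_finite_cover 𝒜 Y hY
  refine ⟨d, hd, ?_, ?_⟩
  · intro y hy
    obtain ⟨g, hg, hgy⟩ := htcov y hy
    refine ⟨d + d, d, g * g, g, SetLike.mul_mem_graded (htdeg g hg) (htdeg g hg), htdeg g hg,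
      rfl, ?_⟩
    rw [Proj.basicOpen_mul, Proj.basicOpen_mul]
    exact ⟨⟨hgy, hgy⟩, hgy⟩
  · intro n
    apply isInvertible_restrict_of_cover
    intro y hy
    obtain ⟨g, hg, hgy⟩ := htcov y hy
    exact ⟨d, g, n, htdeg g hg, hgy, rfl⟩

/-- `O(d)` is ample on a quasi-compact open covered by finitely many `D_+(g)`, `deg g = d`. -/
theorem isAmple_restrict_of_cover (Y : (Proj 𝒜).Opens) (hY : IsCompact (Y : Set (Proj 𝒜)))
    {d : ℕ} (hd : 0 < d) (t : Finset A) (htdeg : ∀ g ∈ t, g ∈ 𝒜 d)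
    (htle : ∀ g ∈ t, Proj.basicOpen 𝒜 g ≤ Y)
    (htcov : ∀ y ∈ Y, ∃ g ∈ t, g ∉ y.asHomogeneousIdeal) :
    CohB1.IsAmple ((Twist.twist 𝒜 (d : ℤ)).restrict Y.ι) := by
  haveI : CompactSpace (Y : Scheme.{u}) := isCompact_iff_compactSpace.mp hY
  refine ⟨?_, inferInstance, fun x => ?_⟩
  · apply isInvertible_restrict_of_cover
    intro y hy
    obtain ⟨g, hg, hgy⟩ := htcov y hy
    exact ⟨d, g, 1, htdeg g hg, hgy, (one_mul _).symm⟩
  · obtain ⟨g, hg, hgx⟩ := htcov x.1 x.2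
    have h : (d : ℤ) = 0 + (d : ℤ) := (zero_add _).symm
    have hgl : Y ⊓ CohB1.genLocus _ (secHom 𝒜 (htdeg g hg) h) = Proj.basicOpen 𝒜 g := by
      apply le_antisymm
      · rintro p ⟨hpY, hp⟩
        change g ∉ p.asHomogeneousIdeal
        intro hgp
        obtain ⟨k, hk, hkp⟩ := htcov p hpY
        exact hkp (mem_of_mem_genLocus 𝒜 (htdeg g hg) h (htdeg k hk) p hp hgp)
      · exact le_inf (htle g hg) (le_genLocus_secHom 𝒜 (htdeg g hg) h)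
    obtain ⟨s', hs'⟩ := GenLoc.exists_tensorPow_one ((Twist.twist 𝒜 (d : ℤ)).restrict Y.ι)
      (Ample.restrictSec Y.ι (secHom 𝒜 (htdeg g hg) h))
    have hloc : CohB1.genLocus _ s' =
        Y.ι ⁻¹ᵁ CohB1.genLocus _ (secHom 𝒜 (htdeg g hg) h) := by
      rw [hs', Ample.genLocus_restrictSec]
    refine ⟨0, s', ?_, ?_⟩
    · rw [hloc]
      exact le_genLocus_secHom 𝒜 (htdeg g hg) h hgx
    · rw [hloc, ← Scheme.Hom.isAffineOpen_iff_of_isOpenImmersion Y.ι,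
        Scheme.Hom.image_preimage_eq_opensRange_inf, Scheme.Opens.opensRange_ι, hgl]
      exact Proj.isAffineOpen_basicOpen 𝒜 _ (htdeg g hg) hd

/-- some positive twist restricts to an ample module on a quasi-compact open subscheme of `Proj`. -/
theorem exists_ample_pullback (X : Scheme.{u}) [CompactSpace X] (j : X ⟶ Proj 𝒜)
    [IsOpenImmersion j] :
    ∃ d : ℕ, 0 < d ∧ CohB1.IsAmple ((Scheme.Modules.pullback j).obj (Twist.twist 𝒜 (d : ℤ))) := by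
  have hY : IsCompact (j.opensRange : Set (Proj 𝒜)) := by
    rw [Scheme.Hom.coe_opensRange]
    exact isCompact_range j.continuous
  obtain ⟨d, t, hd, htdeg, htle, htcov⟩ := exists_finite_cover 𝒜 j.opensRange hY
  refine ⟨d, hd, ?_⟩
  have h1 := isAmple_restrict_of_cover 𝒜 j.opensRange hY hd t htdeg htle htcov
  have h2 : CohB1.IsAmple ((Twist.twist 𝒜 (d : ℤ)).restrict j) :=
    Ample.isAmple_restrict_of_factor j.opensRange.ι j
      (by rw [Scheme.Opens.range_ι, Scheme.Hom.coe_opensRange]) _ h1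
  exact Ample.isAmple_of_iso ((Scheme.Modules.restrictFunctorIsoPullback j).app _) h2

end Groth.Agent.Helper28.TwistMul
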