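import Mathlib
import Groth.Prelude.Def_Twist2
import Groth.Prelude.Def_FlatMod2
import Groth.Agent.Lib.Helper28.TwistAmple
import Groth.Agent.Lib.Helper13.FreeMod
import Groth.Agent.Lib.Helper13.EpiGen

set_option autoImplicit false
universe u
open CategoryTheory AlgebraicGeometry Opposite TopologicalSpace TopCat

namespace Groth.Agent.Helper28.TwistMul

open Groth.Agent.Helper13.FinType Groth.Agent.Helper13.QCoh

section General

variable {X : Scheme.{u}}

lemma hom_ext_of_isBasis' {M N : X.Modules} (φ ψ : M ⟶ N) {B : Set X.Opens}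
    (hB : Opens.IsBasis B) (h : ∀ V ∈ B, ∀ m : Γ(M, V), φ.app V m = ψ.app V m) : φ = ψ := by
  apply hom_ext_stalk
  intro x m
  obtain ⟨V, hxV, hV, t, rfl⟩ := TopCat.Presheaf.exists_mem_germ_eq_of_isBasis hB M.presheaf x m
  rw [stalkMap_germ, stalkMap_germ, h V hV t]

/-- a morphism of modules which is surjective on sections over a basis is an epimorphism. -/
theorem epi_of_surjective_of_isBasis {F N : X.Modules} (p : F ⟶ N) {B : Set X.Opens}
    (hB : Opens.IsBasis B) (h : ∀ V ∈ B, Function.Surjective (p.app V)) : Epi p := by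
  constructor
  intro P g g' hgg
  apply hom_ext_of_isBasis' g g' hB
  intro V hV m
  obtain ⟨m', rfl⟩ := h V hV m
  have h1 : (p ≫ g).app V m' = (p ≫ g').app V m' := by rw [hgg]
  exact h1

end General

section TwistSec

variable {R A : Type u} [CommRing R] [CommRing A] [Algebra R A] (𝒜 : ℕ → Submodule R A)
  [GradedAlgebra 𝒜]

open Twist

theorem secHom_app_surjective {e : ℕ} {g : A} (hg : g ∈ 𝒜 e) {m : ℤ} (h : m = 0 + e)
    (V : (Proj 𝒜).Opens) (hV : V ≤ Proj.basicOpen 𝒜 g) :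
    Function.Surjective ((secHom 𝒜 hg h).app V) := by
  have hW : ∀ x : V, g ∉ x.1.asHomogeneousIdeal :=
    fun x => (Proj.mem_basicOpen 𝒜 g x.1).mp (hV x.2)
  intro t
  obtain ⟨t0, ht0⟩ := (mulSec_bijective hg h V hW).2 t
  obtain ⟨c, hc⟩ := (smul_oneSec_bijective (op V)).2 t0
  have hc' : (c • oneSec (op V) : sectN (𝒜 := 𝒜) 0 (op V)) = t0 := hc
  refine ⟨c, ?_⟩
  change mulSec hg h (op V) (c • oneSec (op V)) = t
  rw [hc', ht0]

/-- `O(n)`, `n ≥ 0`, is a quotient of a finite free module when the irrelevant ideal is generated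
by finitely many elements of degree one. -/
theorem exists_epi_free (s : Finset A) (hs1 : ∀ f ∈ s, f ∈ 𝒜 1)
    (hs : (HomogeneousIdeal.irrelevant 𝒜).toIdeal = Ideal.span (s : Set A)) (n : ℕ) :
    ∃ (k : ℕ) (p : FlatMod.freeMod (Proj 𝒜) k ⟶ Twist.twist 𝒜 (n : ℤ)), Epi p := by
  classical
  let fi : Fin s.card → A := fun i => ((s.equivFin.symm i : s) : A)
  have hfi : ∀ i, fi i ∈ s := fun i => (s.equivFin.symm i).2
  have hpow : ∀ i, fi i ^ n ∈ 𝒜 (n • 1) := fun i => SetLike.pow_mem_graded n (hs1 _ (hfi i))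
  have h : (n : ℤ) = 0 + ((n • 1 : ℕ) : ℤ) := by simp
  let p : FlatMod.freeMod (Proj 𝒜) s.card ⟶ Twist.twist 𝒜 (n : ℤ) :=
    Limits.Sigma.desc (fun i => secHom 𝒜 (hpow i) h)
  have hιp : ∀ i, Groth.Agent.Helper13.LocFree.ι s.card i ≫ p = secHom 𝒜 (hpow i) h := by
    intro i
    simp [Groth.Agent.Helper13.LocFree.ι, p]
  refine ⟨s.card, p, ?_⟩
  let B : Set (Proj 𝒜).Opens := {V | ∃ i, V ≤ Proj.basicOpen 𝒜 (fi i)}
  have hB : Opens.IsBasis B := by
    rw [Opens.isBasis_iff_nbhd]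
    intro U x hxU
    obtain ⟨f, hf, hfx⟩ := exists_nmem 𝒜 (s : Set A) hs.le x
    refine ⟨U ⊓ Proj.basicOpen 𝒜 f, ⟨s.equivFin ⟨f, hf⟩, ?_⟩, ⟨hxU, hfx⟩, inf_le_left⟩
    have : fi (s.equivFin ⟨f, hf⟩) = f := by simp [fi]
    rw [this]
    exact inf_le_right
  apply epi_of_surjective_of_isBasis p hB
  rintro V ⟨i, hVi⟩
  have hsurj := secHom_app_surjective 𝒜 (hpow i) h V
    (hVi.trans (basicOpen_le_pow 𝒜 (fi i) n))
  rw [← hιp i] at hsurj
  intro t
  obtain ⟨c, hc⟩ := hsurj t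
  exact ⟨(Groth.Agent.Helper13.LocFree.ι s.card i).app V c, hc⟩

end TwistSec

end Groth.Agent.Helper28.TwistMul
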