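import Mathlib
import Groth.Prelude.Def_Twist2
import Groth.Agent.Lib.Helper28.TwistZero

set_option autoImplicit false
universe u
open CategoryTheory AlgebraicGeometry Opposite TopologicalSpace TopCat

namespace Groth.Agent.Helper28.TwistMul

variable {R A : Type u} [CommRing R] [CommRing A] [Algebra R A] (𝒜 : ℕ → Submodule R A)
  [GradedAlgebra 𝒜]

open Twist

/-- if `f ∉ p` is homogeneous of degree `e`, then `f/1` spans the fibre of `O(e)` at `p`. -/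
theorem span_globalOf_eq_top {e : ℕ} (f : 𝒜 e) (p : ProjectiveSpectrum 𝒜)
    (hfp : (f : A) ∉ p.asHomogeneousIdeal) :
    Submodule.span (A0 𝒜 p) {(globalOf 𝒜 f).1 ⟨p, trivial⟩} = ⊤ := by
  rw [eq_top_iff]
  rintro q -
  have h : ((e : ℕ) : ℤ) = 0 + ((e : ℕ) : ℤ) := (zero_add _).symm
  have h1 := inv_mul_mem_twistAt 𝒜 f.2 h p hfp q.2
  obtain ⟨c, hc⟩ := exists_val_eq 𝒜 p h1
  rw [Submodule.mem_span_singleton]
  refine ⟨c, ?_⟩
  apply Subtype.ext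
  rw [coe_smul_val, hc]
  have hg : (((globalOf 𝒜 f).1 ⟨p, trivial⟩ : twistAt 𝒜 (e : ℤ) p) : Loc 𝒜 p) =
      Localization.mk (f : A) (⟨1, one_nmem 𝒜 p⟩ : p.asHomogeneousIdeal.toIdeal.primeCompl) := rfl
  have h2 : Localization.mk (f : A)
      ((⟨(f : A), hfp⟩ : p.asHomogeneousIdeal.toIdeal.primeCompl) * ⟨1, one_nmem 𝒜 p⟩) = 1 := by
    have h5 : ((⟨(f : A), hfp⟩ : p.asHomogeneousIdeal.toIdeal.primeCompl) * ⟨1, one_nmem 𝒜 p⟩) =
        ⟨(f : A), hfp⟩ := Subtype.ext (mul_one _)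
    rw [h5]
    exact Localization.mk_self (⟨(f : A), hfp⟩ : p.asHomogeneousIdeal.toIdeal.primeCompl)
  rw [hg, mul_right_comm, Localization.mk_mul, one_mul, h2, one_mul]

/-- conversely, on `D_+(ab)` with `deg a = deg b + d`, if `f/1` spans the fibre of `O(nd)` at `p`
then `f ∉ p`. -/
theorem nmem_of_span_globalOf_eq_top {d : ℕ} {i j : ℕ} {a b : A} (ha : a ∈ 𝒜 i) (hb : b ∈ 𝒜 j)
    (hij : i = j + d) (p : ProjectiveSpectrum 𝒜) (hp : a * b ∉ p.asHomogeneousIdeal)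
    {n : ℕ} (f : 𝒜 (n * d))
    (hspan : Submodule.span (A0 𝒜 p) {(globalOf 𝒜 f).1 ⟨p, trivial⟩} = ⊤) :
    (f : A) ∉ p.asHomogeneousIdeal := by
  intro hfp
  have hap : a ∉ p.asHomogeneousIdeal := fun h => hp (Ideal.mul_mem_right _ _ h)
  have hbp : b ∉ p.asHomogeneousIdeal := fun h => hp (Ideal.mul_mem_left _ _ h)
  have han : a ^ n ∉ p.asHomogeneousIdeal := fun h => hap (p.isPrime.mem_of_pow_mem _ h)
  have hbn : b ^ n ∉ p.asHomogeneousIdeal := fun h => hbp (p.isPrime.mem_of_pow_mem _ h)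
  have hu : Localization.mk (a ^ n) ⟨b ^ n, hbn⟩ ∈ twistAt 𝒜 ((n * d : ℕ) : ℤ) p := by
    refine Submodule.subset_span ⟨n • i, n • j, ⟨a ^ n, SetLike.pow_mem_graded n ha⟩,
      ⟨b ^ n, SetLike.pow_mem_graded n hb⟩, hbn, ?_, rfl⟩
    rw [hij]
    simp only [smul_eq_mul]
    push_cast
    ring
  have hmem : (⟨_, hu⟩ : twistAt 𝒜 ((n * d : ℕ) : ℤ) p) ∈
      Submodule.span (A0 𝒜 p) {(globalOf 𝒜 f).1 ⟨p, trivial⟩} := by
    rw [hspan]
    trivial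
  rw [Submodule.mem_span_singleton] at hmem
  obtain ⟨c, hc⟩ := hmem
  have hc' : c.val * Localization.mk (f : A) ⟨1, one_nmem 𝒜 p⟩ =
      Localization.mk (a ^ n) ⟨b ^ n, hbn⟩ := by
    have := congrArg (fun t : twistAt 𝒜 ((n * d : ℕ) : ℤ) p => (t : Loc 𝒜 p)) hc
    simp only [coe_smul_val] at this
    exact this
  have hmax : Localization.mk (a ^ n) ⟨b ^ n, hbn⟩ ∈ IsLocalRing.maximalIdeal (Loc 𝒜 p) := by
    rw [← hc']
    refine Ideal.mul_mem_left _ _ ?_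
    have h3 : Localization.mk (f : A) ⟨1, one_nmem 𝒜 p⟩ = algebraMap A (Loc 𝒜 p) (f : A) :=
      Localization.mk_one_eq_algebraMap _
    rw [h3]
    exact (IsLocalization.AtPrime.to_map_mem_maximal_iff (Loc 𝒜 p)
      p.asHomogeneousIdeal.toIdeal (f : A)).mpr hfp
  have hunit : IsUnit (Localization.mk (a ^ n) ⟨b ^ n, hbn⟩ : Loc 𝒜 p) := by
    refine IsUnit.of_mul_eq_one (M := Loc 𝒜 p) (Localization.mk (b ^ n) ⟨a ^ n, han⟩ : Loc 𝒜 p) ?_
    rw [Localization.mk_mul]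
    have hab : a ^ n * b ^ n ∉ p.asHomogeneousIdeal :=
      fun h => (p.isPrime.mem_or_mem h).elim han hbn
    have h4 : ((⟨b ^ n, hbn⟩ : p.asHomogeneousIdeal.toIdeal.primeCompl) * ⟨a ^ n, han⟩) =
        ⟨a ^ n * b ^ n, hab⟩ :=
      Subtype.ext (mul_comm _ _)
    rw [h4]
    exact Localization.mk_self (⟨a ^ n * b ^ n, hab⟩ : p.asHomogeneousIdeal.toIdeal.primeCompl)
  exact (IsLocalRing.mem_maximalIdeal _).mp hmax hunit

end Groth.Agent.Helper28.TwistMul
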