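import Mathlib
import Groth.Agent.Lib.Helper28.TwistSerre
import Groth.Agent.Lib.Helper28.TwistLcm

/-!
# Coherent modules on `Proj` of a Noetherian graded ring are quotients of sums of twists (helper28)
-/

set_option autoImplicit false
universe u
open CategoryTheory CategoryTheory.Limits AlgebraicGeometry Opposite TopologicalSpace
open Groth.Agent.Helper13

namespace Groth.Agent.Helper28.TwistMul

variable {R A : Type u} [CommRing R] [CommRing A] [Algebra R A] (𝒜 : ℕ → Submodule R A)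
  [GradedAlgebra 𝒜]

/-- the irrelevant ideal of a Noetherian graded ring is generated by finitely many homogeneous
elements of positive degrees. -/
theorem exists_finset_homogeneous_irrelevant [IsNoetherianRing A] :
    ∃ T : Finset A, (∀ t ∈ T, ∃ d : ℕ, 0 < d ∧ t ∈ 𝒜 d) ∧
      (HomogeneousIdeal.irrelevant 𝒜).toIdeal ≤ Ideal.span (T : Set A) := by
  classical
  obtain ⟨T₀, hT₀⟩ := IsNoetherian.noetherian (HomogeneousIdeal.irrelevant 𝒜).toIdeal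
  have hT₀' : Ideal.span (T₀ : Set A) = (HomogeneousIdeal.irrelevant 𝒜).toIdeal := hT₀
  refine ⟨T₀.biUnion (fun t => (DFinsupp.support (DirectSum.decompose 𝒜 t)).image
    (fun i => ((DirectSum.decompose 𝒜 t) i : A))), ?_, ?_⟩
  · intro t ht
    rw [Finset.mem_biUnion] at ht
    obtain ⟨t₀, ht₀, ht⟩ := ht
    rw [Finset.mem_image] at ht
    obtain ⟨i, hi, rfl⟩ := ht
    refine ⟨i, ?_, SetLike.coe_mem _⟩
    rw [Nat.pos_iff_ne_zero]
    rintro rfl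
    have hmem : t₀ ∈ (HomogeneousIdeal.irrelevant 𝒜).toIdeal := by
      rw [← hT₀']; exact Ideal.subset_span ht₀
    have h0 : GradedRing.proj 𝒜 0 t₀ = 0 := (HomogeneousIdeal.mem_irrelevant_iff 𝒜 t₀).1 hmem
    rw [DFinsupp.mem_support_toFun] at hi
    apply hi
    apply Subtype.ext
    exact h0
  · rw [← hT₀', Ideal.span_le]
    intro t₀ ht₀
    have h : t₀ = ∑ i ∈ DFinsupp.support (DirectSum.decompose 𝒜 t₀),
        ((DirectSum.decompose 𝒜 t₀) i : A) := (DirectSum.sum_support_decompose 𝒜 t₀).symm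
    rw [h]
    refine Ideal.sum_mem _ (fun i hi => Ideal.subset_span ?_)
    exact Finset.mem_coe.2 (Finset.mem_biUnion.2 ⟨t₀, ht₀, Finset.mem_image.2 ⟨i, hi, rfl⟩⟩)

/-- **Serre**: if `Proj` is quasi-compact and covered by the `D_+(b)`, `deg b = N > 0`, a
quasi-coherent module of finite type is a quotient of `O(-nN)^k` for `n ≫ 0`. -/
theorem exists_epi_sigma_twist_of_cover {N : ℕ} (hN : 0 < N) [CompactSpace (Proj 𝒜)]
    (hcov : ∀ x : Proj 𝒜, ∃ b ∈ 𝒜 N, b ∉ x.asHomogeneousIdeal)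
    (F : (Proj 𝒜).Modules) (hF : Coh.IsQCoh F) (hFT : CohB1.IsFT F) :
    ∃ n₀ : ℕ, ∀ n : ℕ, n₀ ≤ n →
      ∃ (k : ℕ) (p : (∐ fun _ : Fin k => Twist.twist 𝒜 (-((n : ℤ) * N))) ⟶ F), Epi p := by
  haveI : F.IsQuasicoherent := hF
  haveI : SheafOfModules.IsFiniteType (R := (Proj 𝒜).ringCatSheaf) F := hFT
  have hL := isAmple_of_cover 𝒜 hN hcov
  have hcov' : ∀ (m : ℤ) (c : ℤ), m = c * N → ∀ x : Proj 𝒜, ∃ (d : ℕ) (f : A) (c : ℤ),
      f ∈ 𝒜 d ∧ f ∉ x.asHomogeneousIdeal ∧ m = c * d := fun m c hm x => by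
    obtain ⟨b, hb, hbx⟩ := hcov x
    exact ⟨N, b, c, hb, hbx, hm⟩
  have hinv : ∀ c : ℤ, PicF.IsInvertible (Twist.twist 𝒜 (c * N)) := fun c y => by
    obtain ⟨b, hb, hby⟩ := hcov y
    exact ⟨Proj.basicOpen 𝒜 b, hby, twist_restrict_iso' 𝒜 hb c rfl⟩
  have hpow : ∀ n : ℕ, Nonempty (Twist.twist 𝒜 ((n : ℤ) * N) ≅
      CohB1.tensorPow (Twist.twist 𝒜 (N : ℤ)) n) := by
    intro n
    induction n with
    | zero =>
      have h0 : ((0 : ℕ) : ℤ) * N = 0 := by simp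
      exact ⟨eqToIso (by rw [h0]) ≪≫ (zeroIso 𝒜).symm⟩
    | succ n ih =>
      obtain ⟨e⟩ := ih
      obtain ⟨t⟩ := twist_tensor_iso 𝒜 (m := (n : ℤ) * N) (n := (N : ℤ)) (hcov' _ n rfl)
      have h1 : ((n + 1 : ℕ) : ℤ) * N = (n : ℤ) * N + N := by push_cast; ring
      exact ⟨eqToIso (by rw [h1]) ≪≫ t.symm ≪≫ Tensor.mapIso e (Iso.refl _)⟩
  obtain ⟨n₀, hn₀⟩ := GlobGen.exists_isGloballyGenerated_twist (Twist.twist 𝒜 (N : ℤ)) hL F
  refine ⟨n₀, fun n hn => ?_⟩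
  obtain ⟨e⟩ := hpow n
  have hgg : Curv2.IsGloballyGenerated (CohB1.tensorMod F (Twist.twist 𝒜 ((n : ℤ) * N))) :=
    GlobGen.isGloballyGenerated_of_iso (Tensor.mapIso (Iso.refl F) e.symm) (hn₀ n hn)
  haveI : SheafOfModules.IsFiniteType (R := (Proj 𝒜).ringCatSheaf)
      (Twist.twist 𝒜 ((n : ℤ) * N)) := GlobGen.isFiniteType_of_isInvertible _ (hinv n)
  haveI : SheafOfModules.IsFiniteType (R := (Proj 𝒜).ringCatSheaf)
      (CohB1.tensorMod F (Twist.twist 𝒜 ((n : ℤ) * N))) := Tensor.isFiniteType_tensorMod _ _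
  obtain ⟨k, t, ht⟩ := FinGlobGen.exists_fin_genOn _ ((GlobGen.isGloballyGenerated_iff _).1 hgg)
  haveI hp : Epi (LocFree.descSec _ t) := InvTwist.epi_descSec_of_genOn _ t ht
  obtain ⟨e1⟩ := twist_tensor_iso 𝒜 (m := (n : ℤ) * N) (n := -((n : ℤ) * N)) (hcov' _ n rfl)
  have h0 : (n : ℤ) * N + -((n : ℤ) * N) = 0 := add_neg_cancel _
  let e0 : Twist.twist 𝒜 ((n : ℤ) * N + -((n : ℤ) * N)) ≅ Coh.structureModule (Proj 𝒜) :=
    eqToIso (by rw [h0]) ≪≫ (zeroIso 𝒜).symm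
  let u : CohB1.tensorMod (CohB1.tensorMod F (Twist.twist 𝒜 ((n : ℤ) * N)))
      (Twist.twist 𝒜 (-((n : ℤ) * N))) ≅ F :=
    Tensor.assoc F _ _ ≪≫ Tensor.mapIso (Iso.refl F) (e1 ≪≫ e0) ≪≫ Tensor.rid F
  haveI := InvTwist.epi_map_id (LocFree.descSec _ t) (Twist.twist 𝒜 (-((n : ℤ) * N)))
  haveI : Epi (Tensor.map (LocFree.descSec _ t) (𝟙 (Twist.twist 𝒜 (-((n : ℤ) * N)))) ≫ u.hom) :=
    epi_comp _ _
  obtain ⟨p', hp'⟩ := exists_epi_sigma_of_epi_tensor_free k (Twist.twist 𝒜 (-((n : ℤ) * N))) F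
    (Tensor.map (LocFree.descSec _ t) (𝟙 (Twist.twist 𝒜 (-((n : ℤ) * N)))) ≫ u.hom)
  exact ⟨k, p', hp'⟩

/-- on `Proj` of a Noetherian graded ring, every coherent module is a quotient of a finite sum of
twisting sheaves. -/
theorem exists_epi_sigma_twist_of_noetherian [IsNoetherianRing A] (F : (Proj 𝒜).Modules)
    (hF : Coh.IsCoh F) :
    ∃ (r : ℕ) (d : Fin r → ℤ) (φ : (∐ fun j : Fin r => Twist.twist 𝒜 (d j)) ⟶ F), Epi φ := by
  classical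
  obtain ⟨T, hT, hspan⟩ := exists_finset_homogeneous_irrelevant 𝒜
  choose! deg hdeg hmem using hT
  haveI : CompactSpace (Proj 𝒜) := by
    constructor
    have H (i : T) : IsCompact (Proj.basicOpen 𝒜 (i : A) : Set (Proj 𝒜)) :=
      (Proj.isAffineOpen_basicOpen 𝒜 _ (hmem _ i.2) (hdeg _ i.2)).isCompact
    have h1 : (Set.univ : Set (Proj 𝒜)) = ⋃ i : T, (Proj.basicOpen 𝒜 (i : A) : Set (Proj 𝒜)) := by
      ext x
      simp only [Set.mem_univ, Set.mem_iUnion, true_iff]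
      obtain ⟨f, hf, hfx⟩ := exists_nmem 𝒜 (T : Set A) hspan x
      exact ⟨⟨f, hf⟩, hfx⟩
    rw [h1]
    exact isCompact_iUnion H
  have hN : 0 < ∏ t ∈ T, deg t := Finset.prod_pos (fun t ht => hdeg t ht)
  have hcov : ∀ x : Proj 𝒜, ∃ b ∈ 𝒜 (∏ t ∈ T, deg t), b ∉ x.asHomogeneousIdeal := by
    intro x
    obtain ⟨f, hf, hfx⟩ := exists_nmem 𝒜 (T : Set A) hspan x
    obtain ⟨q, hq⟩ : deg f ∣ ∏ t ∈ T, deg t := Finset.dvd_prod_of_mem deg hf
    refine ⟨f ^ q, ?_, fun h => hfx (x.isPrime.mem_of_pow_mem _ h)⟩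
    have h1 : f ^ q ∈ 𝒜 (q • deg f) := SetLike.pow_mem_graded q (hmem f hf)
    have h2 : q • deg f = ∏ t ∈ T, deg t := by rw [hq, smul_eq_mul, mul_comm]
    rwa [h2] at h1
  obtain ⟨n₀, hn₀⟩ := exists_epi_sigma_twist_of_cover 𝒜 hN hcov F hF.1 hF.2
  obtain ⟨k, p, hp⟩ := hn₀ n₀ le_rfl
  exact ⟨k, fun _ => -((n₀ : ℤ) * (∏ t ∈ T, deg t : ℕ)), p, hp⟩

end Groth.Agent.Helper28.TwistMul
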