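import Mathlib
import Groth.Agent.Lib.Helper28.VeryAmpleCounit
import Groth.Agent.Lib.Helper28.RelTwist
import Groth.Agent.Lib.Helper13.PbInv
import Groth.Agent.Lib.Helper13.SemiLocal
import Groth.Agent.Lib.Helper13.GenLocusQcqs

/-!
# A section of a very ample module over an infinite field generating at finitely many points
(helper28)

* `isGenDegOne_of_isGrSymAlg`: a symmetric algebra is generated in degrees `0` and `1`;
* `ggAt_of_epi_counit`: over a one-point base, if the counit `q^* q_* A ⟶ A` is an epimorphism then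
  the stalks of `A` are generated by germs of global sections;
* `exists_section_of_gg`: prime avoidance for subspaces over an infinite field;
* `main`: the statement of S19593.
-/

set_option autoImplicit false
universe u
open CategoryTheory CategoryTheory.Limits AlgebraicGeometry Opposite TopologicalSpace

noncomputable section

namespace Groth.Agent.Helper28.VeryAmpleSec

open Groth.Agent.Helper13 Groth.Agent.Helper13.QCoh Groth.Agent.Helper13.FinType
  Groth.Agent.Helper13.Inv Groth.Agent.Helper13.GenLoc Groth.Agent.Helper13.SemiLocal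

/-- a graded algebra which is the symmetric algebra of its degree-one part is generated in
degrees `0` and `1`. -/
theorem isGenDegOne_of_isGrSymAlg {S : Scheme.{u}} {𝒮 : RelProj.QCGrAlg S} (E : S.Modules)
    [E.IsQuasicoherent] (j : E ⟶ 𝒮.toModule) (hj : RelProj.IsGrSymAlg E 𝒮 j) :
    𝒮.IsGenDegOne := by
  intro U hU
  rw [eq_top_iff]
  rintro a -
  obtain ⟨x, rfl⟩ :=
    (Groth.Agent.Helper18.SymAlg.symToA_bijective E 𝒮.toQCAlg j hj.1 U hU).2 a
  induction x using SymmetricAlgebra.induction with
  | algebraMap r =>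
    rw [Groth.Agent.Helper18.SymAlg.symToA_algebraMap]
    exact Subring.subset_closure (Or.inl (𝒮.str_mem U hU r))
  | ι m =>
    rw [Groth.Agent.Helper18.SymAlg.symToA_ι]
    exact Subring.subset_closure (Or.inr (hj.2 U hU m))
  | mul a b ha hb =>
    rw [map_mul]
    exact mul_mem ha hb
  | add a b ha hb =>
    rw [map_add]
    exact add_mem ha hb

/-- over a one-point base, if the counit `q^* q_* A ⟶ A` is an epimorphism then every stalk of `A`
is generated by germs of global sections. -/
theorem ggAt_of_epi_counit {Y S : Scheme.{u}} [Subsingleton ↥S] (q : Y ⟶ S) (A : Y.Modules)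
    [Epi ((Scheme.Modules.pullbackPushforwardAdjunction q).counit.app A)] (y : Y) :
    Submodule.span (Y.presheaf.stalk y)
      (Set.range fun t : Γ(A, ⊤) => A.presheaf.germ ⊤ y trivial t) = ⊤ := by
  rw [eq_top_iff]
  intro m _
  obtain ⟨m', rfl⟩ := stalkMap_surjective_of_epi
    ((Scheme.Modules.pullbackPushforwardAdjunction q).counit.app A) y m
  have hm' : m' ∈ Submodule.span (Y.presheaf.stalk y)
      (PbGen.genSet q ((Scheme.Modules.pushforward q).obj A) y) := by
    have h := PbGen.genSpan_eq_top q ((Scheme.Modules.pushforward q).obj A) y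
    unfold PbGen.genSpan at h
    rw [h]
    trivial
  have h2 := Submodule.apply_mem_span_image_of_mem_span
    (stalkLinearMap ((Scheme.Modules.pullbackPushforwardAdjunction q).counit.app A) y) hm'
  refine Submodule.span_mono ?_ h2
  rintro _ ⟨m0, ⟨U, hzU, a, rfl⟩, rfl⟩
  have hU : U = ⊤ := by
    rw [eq_top_iff]
    intro z _
    have hz : z = q.base y := Subsingleton.elim _ _
    rw [hz]
    exact hzU
  subst hU
  have hC := stalkMap_germ ((Scheme.Modules.pullbackPushforwardAdjunction q).counit.app A) y
    (q ⁻¹ᵁ ⊤) hzU (PbGen.ηsec q ((Scheme.Modules.pushforward q).obj A) ⊤ a)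
  rw [VeryAmpleCounit.counit_app_ηsec] at hC
  refine ⟨a, ?_⟩
  exact hC.symm

/-- **prime avoidance over an infinite field**: if the invertible module `A` on a `k`-scheme is
generated by global sections at every point, some global section generates `A` at finitely many
given points. -/
theorem exists_section_of_gg (k : Type u) [Field k] [Infinite k] (Y : Scheme.{u})
    (f : Y ⟶ Spec (CommRingCat.of k)) (A : Y.Modules) (hAinv : PicF.IsInvertible A)
    (hgg : ∀ z : Y, Submodule.span (Y.presheaf.stalk z)
      (Set.range fun t : Γ(A, ⊤) => A.presheaf.germ ⊤ z trivial t) = ⊤)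
    (ι : Type) [Finite ι] (y : ι → ↥Y) :
    ∃ s : Coh.structureModule Y ⟶ A, ∀ i : ι, y i ∈ CohB1.genLocus A s := by
  classical
  let φ : k →+* Γ(Y, ⊤) := (f.appTop.hom).comp (Scheme.ΓSpecIso (CommRingCat.of k)).inv.hom
  letI : Module k Γ(A, ⊤) := Module.compHom _ φ
  have hsm : ∀ (c : k) (a : Γ(A, ⊤)), c • a = φ c • a := fun _ _ => rfl
  let T : ι → Submodule k Γ(A, ⊤) := fun i =>
    { carrier := {a | A.presheaf.germ ⊤ (y i) trivial a ∈ mStalk A (y i)}
      add_mem' := by
        intro a b ha hb
        show A.presheaf.germ ⊤ (y i) trivial (a + b) ∈ mStalk A (y i)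
        rw [map_add]
        exact add_mem ha hb
      zero_mem' := by
        show A.presheaf.germ ⊤ (y i) trivial 0 ∈ mStalk A (y i)
        rw [map_zero]
        exact zero_mem _
      smul_mem' := by
        intro c a ha
        show A.presheaf.germ ⊤ (y i) trivial (c • a) ∈ mStalk A (y i)
        rw [hsm, Tensor.germ_smul]
        exact Submodule.smul_mem _ _ ha }
  have hTmem : ∀ (i : ι) (a : Γ(A, ⊤)),
      a ∈ T i ↔ A.presheaf.germ ⊤ (y i) trivial a ∈ mStalk A (y i) := fun _ _ => Iff.rfl
  have hT : ∀ i, T i ≠ ⊤ := by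
    intro i hTi
    obtain ⟨U, hyU, e, he⟩ := (isInvertible_iff_exists_isGen A).1 hAinv (y i)
    have h1 := (isGen_iff_germ_notMem A hAinv e (y i) hyU).1 (he (y i) hyU)
    apply h1
    have h3 : A.presheaf.germ U (y i) hyU e ∈ Submodule.span (Y.presheaf.stalk (y i))
        (Set.range fun t : Γ(A, ⊤) => A.presheaf.germ ⊤ (y i) trivial t) := by
      rw [hgg (y i)]
      trivial
    refine (Submodule.span_le.2 ?_) h3
    rintro _ ⟨t, rfl⟩
    have ht : t ∈ T i := by
      rw [hTi]
      trivial
    exact (hTmem i t).1 ht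
  have hex : ∃ a : Γ(A, ⊤), ∀ i, a ∉ T i := by
    by_contra hcon
    push Not at hcon
    have hcov : ⋃ i, ((T i : Submodule k Γ(A, ⊤)) : Set Γ(A, ⊤)) = Set.univ := by
      rw [Set.eq_univ_iff_forall]
      intro a
      obtain ⟨i, hi⟩ := hcon a
      exact Set.mem_iUnion.2 ⟨i, hi⟩
    obtain ⟨i, hi⟩ := Subspace.exists_eq_top_of_iUnion_eq_univ hcov
    exact hT i hi
  obtain ⟨a, ha⟩ := hex
  refine ⟨LocFree.homOfSec A a, fun i => ?_⟩
  rw [mem_genLocus_iff_isGen A _ hAinv, sec_homOfSec]
  exact (isGen_iff_germ_notMem A hAinv a (y i) trivial).2 (fun h => ha i ((hTmem i a).2 h))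

/-- **S19593**: over an infinite field, a relatively very ample module has a global section
generating it at finitely many given points. -/
theorem main (k : Type u) [Field k] [Infinite k] (Y : Scheme.{u})
    (f : Y ⟶ Spec (CommRingCat.of k)) (A : Y.Modules) (hA : RelProj.IsRelVeryAmple f A)
    (ι : Type) [Finite ι] (y : ι → ↥Y) :
    ∃ s : Coh.structureModule Y ⟶ A, ∀ i : ι, y i ∈ CohB1.genLocus A s := by
  obtain ⟨E, hE, 𝒮, j, hj, P, p, chart, hP, O1, lam, hO1, i, himm, hip, ⟨ε⟩⟩ := hA
  haveI : E.IsQuasicoherent := hE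
  subst hip
  have hgen : 𝒮.IsGenDegOne := isGenDegOne_of_isGrSymAlg E j hj
  have hO1inv : PicF.IsInvertible O1 :=
    Groth.Agent.Helper28.RelTwist.isInvertible_of_isRelTwist hgen hO1
  have hAinv : PicF.IsInvertible A :=
    isInvertible_of_iso ε.symm (PbInv.isInvertible_pullback i O1 hO1inv)
  haveI hepi : Epi ((Scheme.Modules.pullbackPushforwardAdjunction (i ≫ p)).counit.app A) :=
    VeryAmpleCounit.epi_counit E j hj hO1 i A ε
  exact exists_section_of_gg k Y (i ≫ p) A hAinv
    (fun z => ggAt_of_epi_counit (i ≫ p) A z) ι y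

end Groth.Agent.Helper28.VeryAmpleSec

end
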