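import Mathlib
set_option autoImplicit false
universe u

/-!
# `x`-adic order arguments in `B = A[1/x]` for a prime element `x` with finite multiplicities

`A` a domain, `x` prime, `B = A[1/x]`, `u : Bˣ` the unit defined by `x`, and hypothesis
`H : ∀ a ≠ 0, ∃ d a₀, ¬ x ∣ a₀ ∧ a = x ^ d * a₀`.
* `zpow_mul_mem_iff`: `u ^ w * a₀ ∈ A ↔ 0 ≤ w` when `x ∤ a₀`.
* `exists_rep`: every nonzero `z : B` is `u ^ v * a₀` with `x ∤ a₀`.
* `pow_mul_zpow_mem`: `z ^ q * u ^ n ∈ A` and `q ∤ n` imply `z ^ q * u ^ (n - 1) ∈ A`.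
* `root_closed`: `z ^ q ∈ A → z ∈ A`.
* `H_of_ufd`, `H_powerSeries`: the hypothesis `H` for a UFD, and for `x = X` in `S⟦X⟧`, `S` a domain.
-/

namespace Groth.Agent.Helper28.XAdic

section
variable {A B : Type u} [CommRing A] [IsDomain A] [CommRing B] [Algebra A B] (x : A)
  (hx : Prime x) [IsLocalization.Away x B] (u : Bˣ) (hu : (u : B) = algebraMap A B x)

include hx in
lemma inj : Function.Injective (algebraMap A B) :=
  IsLocalization.injective B (M := Submonoid.powers x)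
    (powers_le_nonZeroDivisors_of_noZeroDivisors hx.ne_zero)

include hu in
lemma u_pow (k : ℕ) : ((u ^ (k : ℤ) : Bˣ) : B) = algebraMap A B (x ^ k) := by
  rw [zpow_natCast, Units.val_pow_eq_pow_val, hu, map_pow]

include hx hu in
lemma zpow_mul_mem_iff (a₀ : A) (h₀ : ¬ x ∣ a₀) (w : ℤ) :
    ((u ^ w : Bˣ) : B) * algebraMap A B a₀ ∈ (algebraMap A B).range ↔ 0 ≤ w := by
  constructor
  · rintro ⟨b, hb⟩
    by_contra hw
    push Not at hw
    obtain ⟨t, ht⟩ : ∃ t : ℕ, w = -((t : ℤ) + 1) := ⟨(-w - 1).toNat, by omega⟩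
    apply h₀
    have h1 : algebraMap A B a₀ = algebraMap A B (x ^ (t + 1) * b) := by
      rw [map_mul, hb, ← u_pow x u hu, ← mul_assoc, ← Units.val_mul, ← zpow_add, ht]
      have : ((t + 1 : ℕ) : ℤ) + -((t : ℤ) + 1) = 0 := by push_cast; ring
      rw [this, zpow_zero, Units.val_one, one_mul]
    have h2 := inj x hx (B := B) h1
    rw [h2, pow_succ]
    exact ⟨x ^ t * b, by ring⟩
  · intro hw
    obtain ⟨t, rfl⟩ := Int.eq_ofNat_of_zero_le hw
    exact ⟨x ^ t * a₀, by rw [map_mul, u_pow x u hu]⟩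

variable (H : ∀ a : A, a ≠ 0 → ∃ (d : ℕ) (a₀ : A), ¬ x ∣ a₀ ∧ a = x ^ d * a₀)

include hu H in
lemma exists_rep (z : B) (hz : z ≠ 0) :
    ∃ (v : ℤ) (a₀ : A), ¬ x ∣ a₀ ∧ z = ((u ^ v : Bˣ) : B) * algebraMap A B a₀ := by
  obtain ⟨⟨a, s⟩, hs⟩ := IsLocalization.surj (Submonoid.powers x) z
  obtain ⟨k, hk⟩ := s.2
  simp only at hs
  have ha : a ≠ 0 := by
    rintro rfl
    rw [map_zero] at hs
    have hunit : IsUnit (algebraMap A B (s : A)) := IsLocalization.map_units B s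
    exact hz (hunit.mul_left_eq_zero.1 hs)
  obtain ⟨d, a₀, h₀, rfl⟩ := H a ha
  refine ⟨(d : ℤ) - k, a₀, h₀, ?_⟩
  have hk' : algebraMap A B (s : A) = ((u ^ (k : ℤ) : Bˣ) : B) := by
    rw [u_pow x u hu, ← hk]
  rw [hk', map_mul, ← u_pow x u hu] at hs
  have : z = z * ((u ^ (k : ℤ) : Bˣ) : B) * ((u ^ (-(k : ℤ)) : Bˣ) : B) := by
    rw [mul_assoc, ← Units.val_mul, ← zpow_add, add_neg_cancel, zpow_zero, Units.val_one, mul_one]
  rw [this, hs, mul_comm _ (algebraMap A B a₀), mul_assoc, ← Units.val_mul, ← zpow_add,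
    mul_comm, sub_eq_add_neg]

include hx hu H in
theorem pow_mul_zpow_mem (z : B) (q : ℕ) (hq : 0 < q) (n : ℤ) (hn : ¬ (q : ℤ) ∣ n)
    (h : z ^ q * ((u ^ n : Bˣ) : B) ∈ (algebraMap A B).range) :
    z ^ q * ((u ^ (n - 1) : Bˣ) : B) ∈ (algebraMap A B).range := by
  by_cases hz : z = 0
  · subst hz
    rw [zero_pow hq.ne', zero_mul]
    exact Subring.zero_mem _
  obtain ⟨v, a₀, h₀, rfl⟩ := exists_rep x u hu H z hz
  have h₀q : ¬ x ∣ a₀ ^ q := fun hd => h₀ (hx.dvd_of_dvd_pow hd)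
  have e : ∀ w : ℤ, (((u ^ v : Bˣ) : B) * algebraMap A B a₀) ^ q * ((u ^ w : Bˣ) : B) =
      ((u ^ ((q : ℤ) * v + w) : Bˣ) : B) * algebraMap A B (a₀ ^ q) := by
    intro w
    rw [mul_pow, ← Units.val_pow_eq_pow_val, ← zpow_natCast, ← zpow_mul, map_pow, mul_right_comm,
      ← Units.val_mul, ← zpow_add, mul_comm v]
  rw [e] at h ⊢
  rw [zpow_mul_mem_iff x hx u hu _ h₀q] at h ⊢
  have hne : (q : ℤ) * v + n ≠ 0 := by
    intro h0
    apply hn
    exact ⟨-v, by linarith⟩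
  omega

include hx hu H in
theorem root_closed (z : B) (q : ℕ) (hq : 0 < q) (h : z ^ q ∈ (algebraMap A B).range) :
    z ∈ (algebraMap A B).range := by
  by_cases hz : z = 0
  · subst hz
    exact Subring.zero_mem _
  obtain ⟨v, a₀, h₀, rfl⟩ := exists_rep x u hu H z hz
  have h₀q : ¬ x ∣ a₀ ^ q := fun hd => h₀ (hx.dvd_of_dvd_pow hd)
  have e : (((u ^ v : Bˣ) : B) * algebraMap A B a₀) ^ q =
      ((u ^ ((q : ℤ) * v) : Bˣ) : B) * algebraMap A B (a₀ ^ q) := by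
    rw [mul_pow, ← Units.val_pow_eq_pow_val, ← zpow_natCast, ← zpow_mul, map_pow, mul_comm v]
  rw [e, zpow_mul_mem_iff x hx u hu _ h₀q] at h
  rw [zpow_mul_mem_iff x hx u hu _ h₀]
  have hq' : (0 : ℤ) < q := by exact_mod_cast hq
  by_contra hv
  push Not at hv
  have : (q : ℤ) * v < 0 := mul_neg_of_pos_of_neg hq' hv
  omega

end

section instances

theorem H_of_ufd {A : Type u} [CommRing A] [IsDomain A] [UniqueFactorizationMonoid A] (x : A)
    (hx : Prime x) : ∀ a : A, a ≠ 0 → ∃ (d : ℕ) (a₀ : A), ¬ x ∣ a₀ ∧ a = x ^ d * a₀ := by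
  intro a ha
  obtain ⟨n, a', h1, h2⟩ := WfDvdMonoid.max_power_factor ha hx.irreducible
  exact ⟨n, a', h1, h2⟩

theorem H_powerSeries {S : Type u} [CommRing S] [IsDomain S] :
    ∀ a : PowerSeries S, a ≠ 0 → ∃ (d : ℕ) (a₀ : PowerSeries S),
      ¬ (PowerSeries.X : PowerSeries S) ∣ a₀ ∧ a = PowerSeries.X ^ d * a₀ := by
  intro a ha
  refine ⟨a.order.toNat, PowerSeries.divXPowOrder a, ?_, PowerSeries.X_pow_order_mul_divXPowOrder.symm⟩
  rw [PowerSeries.X_dvd_iff, PowerSeries.constantCoeff_divXPowOrder_eq_zero_iff]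
  exact ha

end instances

end Groth.Agent.Helper28.XAdic
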