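import Groth.Agent.Lib.Helper28.WittFil
import Groth.Agent.Lib.Helper28.XAdic
set_option autoImplicit false
universe u

/-!
# `Y = [Y₀] + V (shift Y)` and the filtered pieces `WittFil.fil`
-/

namespace Groth.Agent.Helper28.WittDecomp

open WittVector Groth.Agent.Helper28.WittFilLib

variable (p : ℕ) [hp : Fact p.Prime]

theorem teich_add_verschiebung_shift {R : Type u} [CommRing R] (Y : WittVector p R) :
    teichmuller p (Y.coeff 0) + verschiebung (Y.shift 1) = Y := by
  have h1 : teichmuller p (Y.coeff 0) = WittVector.init 1 Y := by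
    ext k
    rw [WittVector.init, WittVector.select, WittVector.coeff_mk]
    rcases k with _ | k
    · simp [teichmuller_coeff_zero]
    · rw [teichmuller_coeff_pos p _ _ (Nat.succ_pos k), if_neg (by omega)]
  have h2 : verschiebung (Y.shift 1) = WittVector.tail 1 Y := by
    ext k
    rw [WittVector.tail, WittVector.select, WittVector.coeff_mk]
    rcases k with _ | k
    · rw [verschiebung_coeff_zero, if_neg (by omega)]
    · rw [verschiebung_coeff_succ, shift_coeff, if_pos (by omega), add_comm]
  rw [h1, h2, WittVector.init_add_tail]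

variable {A B : Type u} [CommRing A] [CommRing B] [Algebra A B]

theorem truncate_teich_mem_fil (k : ℕ) (c t : B)
    (h : t ^ (p ^ k) * c ∈ (algebraMap A B).range) :
    WittVector.truncate (k + 1) (teichmuller p t) ∈ WittFil.fil p (k + 1) (A := A) c := by
  rw [mem_fil_iff']
  intro j hj
  rcases j with _ | j
  · rw [teichmuller_coeff_zero]
    simpa using h
  · rw [teichmuller_coeff_pos p _ _ (Nat.succ_pos j), zero_pow (pow_ne_zero _ hp.out.ne_zero),
      zero_mul]
    exact Subring.zero_mem _

theorem truncate_verschiebung_mem_fil (k : ℕ) (c : B) (W : WittVector p B)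
    (h : WittVector.truncate k W ∈ WittFil.fil p k (A := A) c) :
    WittVector.truncate (k + 1) (verschiebung W) ∈ WittFil.fil p (k + 1) (A := A) c := by
  rw [mem_fil_iff'] at h ⊢
  intro j hj
  rcases j with _ | j
  · rw [verschiebung_coeff_zero, zero_pow (pow_ne_zero _ hp.out.ne_zero), zero_mul]
    exact Subring.zero_mem _
  · rw [verschiebung_coeff_succ]
    have := h j (by omega)
    have e : k + 1 - 1 - (j + 1) = k - 1 - j := by omega
    rw [e]
    exact this

theorem truncate_shift_mem_fil (k : ℕ) (c : B) (Y : WittVector p B)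
    (h : WittVector.truncate (k + 1) Y ∈ WittFil.fil p (k + 1) (A := A) c) :
    WittVector.truncate k (Y.shift 1) ∈ WittFil.fil p k (A := A) c := by
  rw [mem_fil_iff'] at h ⊢
  intro j hj
  rw [shift_coeff]
  have := h (1 + j) (by omega)
  have e : k + 1 - 1 - (1 + j) = k - 1 - j := by omega
  rw [e] at this
  exact this

end Groth.Agent.Helper28.WittDecomp
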