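import Groth.Prelude.Def_W4c6katofiltaWFil
import Mathlib

set_option autoImplicit false
universe u

namespace Groth.Agent.Helper28.WittFilLib

open WittVector MvPolynomial

section teich
variable (p : ℕ) [hp : Fact p.Prime]

/-- auxiliary polynomial function: scale the `n`-th coefficient by `(y_0)^(p^n)`. -/
noncomputable def scaleFun ⦃R : Type u⦄ [CommRing R] (y x : WittVector p R) : WittVector p R :=
  WittVector.mk p (fun n => (y.coeff 0) ^ (p ^ n) * x.coeff n)

noncomputable def teichMulFun ⦃R : Type u⦄ [CommRing R] (y x : WittVector p R) : WittVector p R :=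
  teichmuller p (y.coeff 0) * x

instance scaleFun_isPoly₂ : IsPoly₂ p (scaleFun p) := by
  refine ⟨⟨fun n => X ((0 : Fin 2), 0) ^ (p ^ n) * X ((1 : Fin 2), n), ?_⟩⟩
  intro R _ y x
  funext n
  simp [scaleFun, peval]

/-- `y ↦ [y_0]` is a polynomial function. -/
noncomputable def teich0 ⦃R : Type u⦄ [CommRing R] (y : WittVector p R) : WittVector p R :=
  teichmuller p (y.coeff 0)

instance teich0_isPoly : IsPoly p (teich0 p) := by
  refine ⟨⟨fun n => if n = 0 then X 0 else 0, ?_⟩⟩
  intro R _ y
  funext n
  by_cases hn : n = 0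
  · subst hn
    simp [teich0, teichmuller_coeff_zero]
  · simp [teich0, hn, teichmuller_coeff_pos p _ n (Nat.pos_of_ne_zero hn)]

instance teichMulFun_isPoly₂ : IsPoly₂ p (teichMulFun p) := by
  have : IsPoly₂ p (fun R _Rcr (y x : WittVector p R) => (teich0 p y) * (id x)) :=
    IsPoly₂.comp (h := fun _ _ => (· * ·)) (f := teich0 p) (g := fun _ _ => id)
  exact this

theorem scaleFun_eq_teichMulFun (R : Type u) [CommRing R] (y x : WittVector p R) :
    scaleFun p y x = teichMulFun p y x := by
  refine IsPoly₂.ext (scaleFun_isPoly₂ p) (teichMulFun_isPoly₂ p) ?_ R y x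
  intro R _ y x n
  simp only [teichMulFun, map_mul, ghostComponent_teichmuller]
  rw [ghostComponent_apply, ghostComponent_apply, aeval_wittPolynomial, aeval_wittPolynomial,
    Finset.mul_sum]
  apply Finset.sum_congr rfl
  intro i hi
  rw [Finset.mem_range] at hi
  simp only [scaleFun, coeff_mk]
  rw [mul_pow, ← pow_mul, ← pow_add, Nat.add_sub_cancel' (by omega)]
  ring

theorem teichmuller_mul_coeff {R : Type u} [CommRing R] (t : R) (x : WittVector p R) (n : ℕ) :
    (teichmuller p t * x).coeff n = t ^ (p ^ n) * x.coeff n := by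
  have h := scaleFun_eq_teichMulFun p R (teichmuller p t) x
  simp only [scaleFun, teichMulFun, teichmuller_coeff_zero] at h
  rw [← h, coeff_mk]

end teich

section IC
variable {A B : Type u} [CommRing A] [IsDomain A] [IsIntegrallyClosed A] [CommRing B] [Algebra A B]

/-- `A` is "root closed" in a localization `A[1/π]`. -/
theorem mem_range_of_pow_mem (π : A) (hπ : π ≠ 0) [IsLocalization.Away π B] (z : B) (q : ℕ)
    (hq : 0 < q) (hz : z ^ q ∈ (algebraMap A B).range) : z ∈ (algebraMap A B).range := by
  have hinj : Function.Injective (algebraMap A B) :=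
    IsLocalization.injective B (M := Submonoid.powers π)
      (powers_le_nonZeroDivisors_of_noZeroDivisors hπ)
  obtain ⟨⟨a, s⟩, hs⟩ := IsLocalization.surj (Submonoid.powers π) z
  obtain ⟨k, hk⟩ := s.2
  obtain ⟨b, hb⟩ := hz
  simp only at hs
  have hk' : π ^ k = (s : A) := hk
  have h1 : b * (π ^ k) ^ q = a ^ q := by
    apply hinj
    rw [map_mul, hb, map_pow, map_pow _ a, ← mul_pow, hk', hs]
  have h2 : (π ^ k) ^ q ∣ a ^ q := ⟨b, by rw [← h1, mul_comm]⟩
  rw [IsIntegrallyClosed.pow_dvd_pow_iff (by omega)] at h2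
  obtain ⟨a', ha'⟩ := h2
  refine ⟨a', ?_⟩
  have hunit : IsUnit (algebraMap A B (s : A)) := IsLocalization.map_units B s
  apply hunit.mul_right_cancel
  rw [hs, ← hk', ha', map_mul, mul_comm]

end IC

section fil
variable (p : ℕ) [hp : Fact p.Prime] {A B : Type u} [CommRing A] [CommRing B] [Algebra A B]

/-- the image of `W(A)` in `W_m(B)`, a subring. -/
noncomputable def Sm (A : Type u) {B : Type u} [CommRing A] [CommRing B] [Algebra A B] (m : ℕ) :
    Subring (TruncatedWittVector p m B) :=
  ((WittVector.truncate (p := p) m).comp (WittVector.map (algebraMap A B))).range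

lemma mem_Sm_iff (m : ℕ) (Y : WittVector p B) :
    WittVector.truncate m Y ∈ Sm p A m ↔ ∀ j < m, Y.coeff j ∈ (algebraMap A B).range := by
  constructor
  · rintro ⟨Z, hZ⟩ j hj
    have := congrArg (TruncatedWittVector.coeff ⟨j, hj⟩) hZ
    simp only [RingHom.coe_comp, Function.comp_apply, WittVector.coeff_truncate,
      WittVector.map_coeff] at this
    exact ⟨Z.coeff j, this⟩
  · intro h
    choose z hz using h
    refine ⟨WittVector.mk p (fun j => if hj : j < m then z j hj else 0), ?_⟩
    apply TruncatedWittVector.ext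
    intro j
    simp only [RingHom.coe_comp, Function.comp_apply, WittVector.coeff_truncate,
      WittVector.map_coeff, WittVector.coeff_mk]
    rw [dif_pos j.2, hz]

lemma mem_fil_iff' (m : ℕ) (c : B) (X : WittVector p B) :
    WittVector.truncate m X ∈ WittFil.fil p m (A := A) c ↔
      ∀ j, (hj : j < m) → X.coeff j ^ (p ^ (m - 1 - j)) * c ∈ (algebraMap A B).range := by
  constructor
  · intro h j hj
    have := h ⟨j, hj⟩
    rw [WittVector.coeff_truncate] at this
    exact this
  · intro h j
    rw [WittVector.coeff_truncate]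
    exact h j j.2

variable [CharP B p]

/-- the twist `X ↦ F^{m-1}(X) · [c]`. -/
noncomputable def twist (m : ℕ) (c : B) (X : WittVector p B) : WittVector p B :=
  (WittVector.frobenius^[m - 1] X) * teichmuller p c

lemma twist_coeff (m : ℕ) (c : B) (X : WittVector p B) (j : ℕ) :
    (twist p m c X).coeff j = c ^ (p ^ j) * X.coeff j ^ (p ^ (m - 1)) := by
  rw [twist, mul_comm, teichmuller_mul_coeff, WittVector.iterate_frobenius_coeff]

lemma twist_coeff' (m : ℕ) (c : B) (X : WittVector p B) (j : ℕ) (hj : j < m) :
    (twist p m c X).coeff j = (X.coeff j ^ (p ^ (m - 1 - j)) * c) ^ (p ^ j) := by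
  rw [twist_coeff, mul_pow, ← pow_mul, ← pow_add, Nat.sub_add_cancel (by omega), mul_comm]

lemma twist_sub (m : ℕ) (c : B) (X Y : WittVector p B) :
    twist p m c (X - Y) = twist p m c X - twist p m c Y := by
  rw [twist, twist, twist, iterate_map_sub, sub_mul]

lemma twist_mul (m : ℕ) (c c' : B) (X Y : WittVector p B) :
    twist p m (c * c') (X * Y) = twist p m c X * twist p m c' Y := by
  rw [twist, twist, twist, iterate_map_mul, map_mul]
  ring

/-- the main characterisation of the filtered pieces. -/
theorem mem_fil_iff (IC : ∀ (z : B) (q : ℕ), 0 < q → z ^ q ∈ (algebraMap A B).range →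
      z ∈ (algebraMap A B).range) (m : ℕ) (c : B) (X : WittVector p B) :
    WittVector.truncate m X ∈ WittFil.fil p m (A := A) c ↔
      WittVector.truncate m (twist p m c X) ∈ Sm p A m := by
  rw [mem_fil_iff', mem_Sm_iff]
  constructor
  · intro h j hj
    rw [twist_coeff' p m c X j hj]
    exact Subring.pow_mem _ (h j hj) _
  · intro h j hj
    have := h j hj
    rw [twist_coeff' p m c X j hj] at this
    exact IC _ _ (pow_pos hp.out.pos _) this

end fil

section closure
variable (p : ℕ) [hp : Fact p.Prime] {A B : Type u} [CommRing A] [CommRing B] [Algebra A B]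
  [CharP B p]

theorem sub_mem_fil (IC : ∀ (z : B) (q : ℕ), 0 < q → z ^ q ∈ (algebraMap A B).range →
      z ∈ (algebraMap A B).range) (m : ℕ) (c : B) (a b : TruncatedWittVector p m B)
    (ha : a ∈ WittFil.fil p m (A := A) c) (hb : b ∈ WittFil.fil p m (A := A) c) :
    a - b ∈ WittFil.fil p m (A := A) c := by
  obtain ⟨X, rfl⟩ := WittVector.truncate_surjective p m B a
  obtain ⟨Y, rfl⟩ := WittVector.truncate_surjective p m B b
  rw [mem_fil_iff p IC] at ha hb
  rw [← map_sub, mem_fil_iff p IC, twist_sub, map_sub]
  exact Subring.sub_mem _ ha hb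

theorem mul_mem_fil (IC : ∀ (z : B) (q : ℕ), 0 < q → z ^ q ∈ (algebraMap A B).range →
      z ∈ (algebraMap A B).range) (m : ℕ) (c c' : B) (a b : TruncatedWittVector p m B)
    (ha : a ∈ WittFil.fil p m (A := A) c) (hb : b ∈ WittFil.fil p m (A := A) c') :
    a * b ∈ WittFil.fil p m (A := A) (c * c') := by
  obtain ⟨X, rfl⟩ := WittVector.truncate_surjective p m B a
  obtain ⟨Y, rfl⟩ := WittVector.truncate_surjective p m B b
  rw [mem_fil_iff p IC] at ha hb
  rw [← map_mul, mem_fil_iff p IC, twist_mul, map_mul]
  exact Subring.mul_mem _ ha hb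

end closure

section ufd
variable (p : ℕ) [hp : Fact p.Prime] {A B : Type u} [CommRing A] [IsDomain A]
  [UniqueFactorizationMonoid A] [CommRing B] [Algebra A B] {r : ℕ} (x : Fin r → A)
  (hx : ∀ i, Prime (x i)) [IsLocalization.Away (∏ i, x i) B]

include hx in
lemma prod_ne_zero : (∏ i, x i) ≠ 0 :=
  Finset.prod_ne_zero_iff.mpr (fun i _ => (hx i).ne_zero)

include hx in
lemma algebraMap_injective : Function.Injective (algebraMap A B) :=
  IsLocalization.injective B (M := Submonoid.powers (∏ i, x i))
    (powers_le_nonZeroDivisors_of_noZeroDivisors (prod_ne_zero x hx))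

include hx in
lemma IC_ufd : ∀ (z : B) (q : ℕ), 0 < q → z ^ q ∈ (algebraMap A B).range →
      z ∈ (algebraMap A B).range :=
  fun z q hq hz => mem_range_of_pow_mem (∏ i, x i) (prod_ne_zero x hx) z q hq hz

include hx in
lemma charP_B [CharP A p] : CharP B p :=
  charP_of_injective_algebraMap (algebraMap_injective x hx) p

end ufd

lemma zmon_add {B : Type u} [CommRing B] {r : ℕ} (u : Fin r → Bˣ) (n n' : Fin r → ℤ) :
    WittFil.zmon u (n + n') = WittFil.zmon u n * WittFil.zmon u n' := by
  simp only [WittFil.zmon, Pi.add_apply, zpow_add, Finset.prod_mul_distrib, Units.val_mul]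

section more
variable (p : ℕ) [hp : Fact p.Prime] {A B : Type u} [CommRing A] [CommRing B] [Algebra A B]

/-- multiplication by a Teichmüller representative shifts the filtered pieces. -/
theorem teich_mul_mem_fil (m : ℕ) (t c c' : B) (h : c' * t ^ (p ^ (m - 1)) = c)
    (a : TruncatedWittVector p m B) (ha : a ∈ WittFil.fil p m (A := A) c) :
    WittVector.truncate m (teichmuller p t) * a ∈ WittFil.fil p m (A := A) c' := by
  obtain ⟨X, rfl⟩ := WittVector.truncate_surjective p m B a
  rw [mem_fil_iff'] at ha
  rw [← map_mul, mem_fil_iff']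
  intro j hj
  rw [teichmuller_mul_coeff, mul_pow, ← pow_mul, ← pow_add, Nat.add_sub_cancel' (by omega)]
  have := ha j hj
  rw [← h] at this
  convert this using 1
  ring

lemma truncate_teich_mul_coeff (m : ℕ) (t : B) (X : WittVector p B) (j : Fin m) :
    (WittVector.truncate m X * WittVector.truncate m (teichmuller p t)).coeff j =
      t ^ (p ^ (j : ℕ)) * X.coeff j := by
  rw [← map_mul, WittVector.coeff_truncate, mul_comm, teichmuller_mul_coeff]

end more

section primes
variable {A : Type u} [CommRing A] [IsDomain A]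

lemma prod_dvd_of_primes {ι : Type*} (s : Finset ι) (x : ι → A) (hx : ∀ i ∈ s, Prime (x i))
    (hxa : ∀ i ∈ s, ∀ j ∈ s, Associated (x i) (x j) → i = j) (α : A)
    (hdiv : ∀ i ∈ s, x i ∣ α) : ∏ i ∈ s, x i ∣ α := by
  classical
  induction s using Finset.induction_on generalizing α with
  | empty => simp
  | insert i s his ih =>
    rw [Finset.prod_insert his]
    obtain ⟨α', rfl⟩ := hdiv i (Finset.mem_insert_self i s)
    apply mul_dvd_mul_left
    apply ih (fun j hj => hx j (Finset.mem_insert_of_mem hj))
      (fun j hj l hl => hxa j (Finset.mem_insert_of_mem hj) l (Finset.mem_insert_of_mem hl))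
    intro j hj
    have hpj := hx j (Finset.mem_insert_of_mem hj)
    rcases hpj.dvd_or_dvd (hdiv j (Finset.mem_insert_of_mem hj)) with h | h
    · exfalso
      have hassoc : Associated (x j) (x i) :=
        hpj.associated_of_dvd (hx i (Finset.mem_insert_self i s)) h
      have := hxa j (Finset.mem_insert_of_mem hj) i (Finset.mem_insert_self i s) hassoc
      exact his (this ▸ hj)
    · exact h

end primes

end Groth.Agent.Helper28.WittFilLib
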