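import Groth.Agent.Lib.Helper28.WittDecomp
set_option autoImplicit false
universe u

/-!
# Graded pieces of the filtration on `W_m(S((π)))`
-/

namespace Groth.Agent.Helper28.WittGr

open WittVector Groth.Agent.Helper28.WittFilLib Groth.Agent.Helper28.XAdic
  Groth.Agent.Helper28.WittDecomp

variable (p : ℕ) [hp : Fact p.Prime] {S B : Type u} [CommRing S] [IsDomain S] [CharP S p]
  [CommRing B] [Algebra (PowerSeries S) B] [Algebra S B] [IsScalarTower S (PowerSeries S) B]
  [IsLocalization.Away (PowerSeries.X : PowerSeries S) B]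
  (u : Bˣ) (hu : (u : B) = algebraMap (PowerSeries S) B PowerSeries.X)

include hu in
lemma IC : ∀ (z : B) (q : ℕ), 0 < q → z ^ q ∈ (algebraMap (PowerSeries S) B).range →
    z ∈ (algebraMap (PowerSeries S) B).range :=
  fun z q hq h => root_closed (PowerSeries.X : PowerSeries S) PowerSeries.X_prime u hu
    H_powerSeries z q hq h

omit [CharP S p] in
lemma algS_apply (a : S) : algebraMap S B a = algebraMap (PowerSeries S) B (PowerSeries.C a) :=
  IsScalarTower.algebraMap_apply S (PowerSeries S) B a

omit [CharP S p] in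
lemma algS_injective : Function.Injective (algebraMap S B) := by
  intro a b h
  rw [algS_apply a, algS_apply b] at h
  exact PowerSeries.C_injective
    (inj (PowerSeries.X : PowerSeries S) PowerSeries.X_prime (B := B) h)

include hu in
lemma charP_B : CharP B p :=
  charP_of_injective_ringHom (algS_injective (S := S) (B := B)) p

lemma vShiftTeich_coeff (m s : ℕ) (t : B) (c : WittVector p S) (j : ℕ) (hj : j < m) :
    (WittFil.vShiftTeich p m s t c).coeff ⟨j, hj⟩ =
      if j < s then 0 else t ^ (p ^ (j - s)) * algebraMap S B (c.coeff (j - s)) := by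
  unfold WittFil.vShiftTeich
  rw [WittVector.coeff_truncate]
  split_ifs with h
  · exact iterate_verschiebung_coeff_eq_zero _ h
  · obtain ⟨k, rfl⟩ : ∃ k, j = k + s := ⟨j - s, by omega⟩
    rw [iterate_verschiebung_coeff, mul_comm, teichmuller_mul_coeff, WittVector.map_coeff,
      Nat.add_sub_cancel]

omit [IsDomain S] [CharP S p] [IsScalarTower S (PowerSeries S) B]
  [IsLocalization.Away (PowerSeries.X : PowerSeries S) B] [Algebra S B] in
/-- exponent bookkeeping -/
lemma key_exp (i : ℤ) (m s j : ℕ) (hsj : s ≤ j) (hj : j < m) (w : ℤ) :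
    (((u ^ i : Bˣ) : B) ^ (p ^ (j - s))) ^ (p ^ (m - 1 - j)) *
      ((u ^ (-((p : ℤ) ^ (m - 1 - s) * i) + w) : Bˣ) : B) = ((u ^ w : Bˣ) : B) := by
  have e : j - s + (m - 1 - j) = m - 1 - s := by omega
  rw [← pow_mul, ← pow_add, e, ← Units.val_pow_eq_pow_val, ← zpow_natCast, ← zpow_mul,
    ← Units.val_mul, ← zpow_add]
  congr 2
  push_cast
  ring

include hu in
/-- Part (1). -/
theorem part1 (m s : ℕ) (i : ℤ) (c : WittVector p S) :
    WittFil.vShiftTeich p m s ((u ^ i : Bˣ) : B) c ∈
      WittFil.fil p m (A := PowerSeries S) ((u ^ (-((p : ℤ) ^ (m - 1 - s) * i)) : Bˣ) : B) := by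
  intro j
  rw [vShiftTeich_coeff p m s _ c j.1 j.2]
  split_ifs with h
  · rw [zero_pow (pow_ne_zero _ hp.out.ne_zero), zero_mul]
    exact Subring.zero_mem _
  · have hk := key_exp p u i m s j.1 (by omega) j.2 0
    rw [add_zero, zpow_zero, Units.val_one] at hk
    rw [mul_pow, mul_right_comm, hk, one_mul, ← map_pow, algS_apply]
    exact ⟨_, rfl⟩

include hu in
/-- Part (2). -/
theorem part2 (m s : ℕ) (hs : s < m) (i : ℤ) (c : WittVector p S) :
    WittFil.vShiftTeich p m s ((u ^ i : Bˣ) : B) c ∈
        WittFil.fil p m (A := PowerSeries S)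
          ((u ^ (-((p : ℤ) ^ (m - 1 - s) * i) - 1) : Bˣ) : B) ↔
      WittVector.truncate (m - s) c = 0 := by
  constructor
  · intro h
    apply TruncatedWittVector.ext
    intro k
    rw [WittVector.coeff_truncate, TruncatedWittVector.coeff_zero]
    have hk : (k : ℕ) + s < m := by have := k.2; omega
    have hj := h ⟨(k : ℕ) + s, hk⟩
    rw [vShiftTeich_coeff p m s _ c _ hk, if_neg (by omega), Nat.add_sub_cancel] at hj
    have hke := key_exp p u i m s ((k : ℕ) + s) (by omega) hk (-1)
    rw [Nat.add_sub_cancel, ← sub_eq_add_neg] at hke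
    rw [mul_pow, mul_right_comm, hke, ← map_pow, algS_apply] at hj
    by_contra hne
    have hne' : c.coeff (k : ℕ) ^ (p ^ (m - 1 - ((k : ℕ) + s))) ≠ 0 := pow_ne_zero _ hne
    have hnd : ¬ (PowerSeries.X : PowerSeries S) ∣
        PowerSeries.C (c.coeff (k : ℕ) ^ (p ^ (m - 1 - ((k : ℕ) + s)))) := by
      rw [PowerSeries.X_dvd_iff, PowerSeries.constantCoeff_C]
      exact hne'
    have := (zpow_mul_mem_iff (PowerSeries.X : PowerSeries S) PowerSeries.X_prime u hu _ hnd
      (-1)).1 hj
    omega
  · intro h j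
    rw [vShiftTeich_coeff p m s _ c j.1 j.2]
    split_ifs with hjs
    · rw [zero_pow (pow_ne_zero _ hp.out.ne_zero), zero_mul]
      exact Subring.zero_mem _
    · have hk : j.1 - s < m - s := by have := j.2; omega
      have := congrArg (TruncatedWittVector.coeff ⟨j.1 - s, hk⟩) h
      rw [WittVector.coeff_truncate, TruncatedWittVector.coeff_zero] at this
      rw [this, map_zero, mul_zero, zero_pow (pow_ne_zero _ hp.out.ne_zero), zero_mul]
      exact Subring.zero_mem _

omit [IsDomain S] [CharP S p] [IsScalarTower S (PowerSeries S) B]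
  [IsLocalization.Away (PowerSeries.X : PowerSeries S) B] [Algebra S B] in
lemma zero_mem_fil (m : ℕ) (e : B) :
    (0 : TruncatedWittVector p m B) ∈ WittFil.fil p m (A := PowerSeries S) e := by
  intro j
  rw [TruncatedWittVector.coeff_zero, zero_pow (pow_ne_zero _ hp.out.ne_zero), zero_mul]
  exact Subring.zero_mem _

include hu in
lemma add_mem_fil (m : ℕ) (e : B) (a b : TruncatedWittVector p m B)
    (ha : a ∈ WittFil.fil p m (A := PowerSeries S) e)
    (hb : b ∈ WittFil.fil p m (A := PowerSeries S) e) :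
    a + b ∈ WittFil.fil p m (A := PowerSeries S) e := by
  haveI := charP_B p u hu
  have h0 := sub_mem_fil p (IC u hu) m e 0 b (zero_mem_fil p m e) hb
  have := sub_mem_fil p (IC u hu) m e a (0 - b) ha h0
  simpa using this

include hu in
/-- Part (3), base case `s = 0`, for lifts. -/
theorem part3_zero (m : ℕ) (hm : 0 < m) (i : ℤ) (Y : WittVector p B)
    (hY : WittVector.truncate m Y ∈
      WittFil.fil p m (A := PowerSeries S) ((u ^ (-((p : ℤ) ^ (m - 1 - 0) * i)) : Bˣ) : B)) :
    ∃ c : WittVector p S,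
      WittVector.truncate m (Y - (verschiebung)^[0]
        (WittVector.map (algebraMap S B) c * teichmuller p ((u ^ i : Bˣ) : B))) ∈
        WittFil.fil p m (A := PowerSeries S)
          ((u ^ (-((p : ℤ) ^ (m - 1 - 0) * i) - 1) : Bˣ) : B) := by
  rw [mem_fil_iff'] at hY
  set Z : WittVector p B := teichmuller p ((u ^ (-i) : Bˣ) : B) * Y with hZ
  have hZc : ∀ j, Z.coeff j = ((u ^ (-i) : Bˣ) : B) ^ (p ^ j) * Y.coeff j :=
    fun j => teichmuller_mul_coeff p _ Y j
  have hZmem : ∀ j, j < m → Z.coeff j ∈ (algebraMap (PowerSeries S) B).range := by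
    intro j hj
    apply IC u hu _ (p ^ (m - 1 - j)) (pow_pos hp.out.pos _)
    have := hY j hj
    rw [hZc, mul_pow, ← pow_mul, ← pow_add, mul_comm]
    convert this using 2
    have e : j + (m - 1 - j) = m - 1 - 0 := by omega
    rw [e, ← Units.val_pow_eq_pow_val, ← zpow_natCast, ← zpow_mul]
    congr 2
    push_cast
    ring
  choose α hα using hZmem
  set αW : WittVector p (PowerSeries S) :=
    WittVector.mk p (fun j => if h : j < m then α j h else 0) with hαW
  set c : WittVector p S := WittVector.map (PowerSeries.constantCoeff (R := S)) αW with hc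
  set δ : WittVector p (PowerSeries S) := αW - WittVector.map (PowerSeries.C (R := S)) c with hδ
  have hδ0 : WittVector.map (PowerSeries.constantCoeff (R := S)) δ = 0 := by
    rw [hδ, map_sub, sub_eq_zero]
    ext n
    simp only [WittVector.map_coeff, hc, PowerSeries.constantCoeff_C]
  have hδX : ∀ j, (PowerSeries.X : PowerSeries S) ∣ δ.coeff j := by
    intro j
    rw [PowerSeries.X_dvd_iff]
    have := congrArg (fun w => WittVector.coeff w j) hδ0
    simpa [WittVector.map_coeff] using this
  refine ⟨c, ?_⟩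
  rw [Function.iterate_zero, id]
  -- rewrite the difference
  have hmapS : WittVector.map (algebraMap S B) c =
      WittVector.map (algebraMap (PowerSeries S) B) (WittVector.map (PowerSeries.C (R := S)) c) := by
    ext n
    simp only [WittVector.map_coeff, algS_apply]
  have hT : Y - WittVector.map (algebraMap S B) c * teichmuller p ((u ^ i : Bˣ) : B) =
      teichmuller p ((u ^ i : Bˣ) : B) * (Z - WittVector.map (algebraMap S B) c) := by
    have h1 : teichmuller p ((u ^ i : Bˣ) : B) * Z = Y := by
      rw [hZ, ← mul_assoc, ← map_mul, ← Units.val_mul, ← zpow_add, add_neg_cancel, zpow_zero,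
        Units.val_one, map_one, one_mul]
    rw [mul_sub, h1, mul_comm]
  have hD : WittVector.truncate m (Z - WittVector.map (algebraMap S B) c) =
      WittVector.truncate m (WittVector.map (algebraMap (PowerSeries S) B) δ) := by
    have hZα : WittVector.truncate m Z =
        WittVector.truncate m (WittVector.map (algebraMap (PowerSeries S) B) αW) := by
      apply TruncatedWittVector.ext
      intro j
      rw [WittVector.coeff_truncate, WittVector.coeff_truncate, WittVector.map_coeff, hαW,
        WittVector.coeff_mk, dif_pos j.2, hα]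
    rw [map_sub, hZα, hmapS, ← map_sub, ← map_sub]
  have hT' : WittVector.truncate m
      (Y - WittVector.map (algebraMap S B) c * teichmuller p ((u ^ i : Bˣ) : B)) =
      WittVector.truncate m (teichmuller p ((u ^ i : Bˣ) : B) *
        WittVector.map (algebraMap (PowerSeries S) B) δ) := by
    rw [hT, map_mul, hD, ← map_mul]
  rw [hT', mem_fil_iff']
  intro j hj
  rw [teichmuller_mul_coeff, WittVector.map_coeff, mul_pow, mul_right_comm]
  have hke := key_exp p u i m 0 j (Nat.zero_le j) hj (-1)
  rw [Nat.sub_zero, ← sub_eq_add_neg] at hke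
  rw [hke]
  obtain ⟨δ', hδ'⟩ := hδX j
  obtain ⟨q, hq⟩ : ∃ q, p ^ (m - 1 - j) = q + 1 :=
    ⟨p ^ (m - 1 - j) - 1, (Nat.sub_add_cancel (pow_pos hp.out.pos _)).symm⟩
  rw [hq, pow_succ, ← mul_assoc, mul_right_comm]
  have h1 : ((u ^ (-1 : ℤ) : Bˣ) : B) * algebraMap (PowerSeries S) B (δ.coeff j) =
      algebraMap (PowerSeries S) B δ' := by
    rw [hδ', map_mul, ← hu, ← mul_assoc, zpow_neg_one, Units.inv_mul, one_mul]
  rw [h1, ← map_pow, ← map_mul]
  exact ⟨_, rfl⟩

include hu in
/-- Part (3) for lifts, by induction on `s`. -/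
theorem part3_lift (i : ℤ) : ∀ (s m : ℕ), s < m → (s = 0 ∨ ¬ ((p : ℤ) ∣ i)) →
    ∀ Y : WittVector p B, WittVector.truncate m Y ∈
      WittFil.fil p m (A := PowerSeries S) ((u ^ (-((p : ℤ) ^ (m - 1 - s) * i)) : Bˣ) : B) →
    ∃ c : WittVector p S,
      WittVector.truncate m (Y - (verschiebung)^[s]
        (WittVector.map (algebraMap S B) c * teichmuller p ((u ^ i : Bˣ) : B))) ∈
        WittFil.fil p m (A := PowerSeries S)
          ((u ^ (-((p : ℤ) ^ (m - 1 - s) * i) - 1) : Bˣ) : B) := by
  intro s
  induction s with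
  | zero =>
    intro m hm _ Y hY
    exact part3_zero p u hu m hm i Y hY
  | succ s ih =>
    intro m hm hsi Y hY
    have hpi : ¬ ((p : ℤ) ∣ i) := by
      rcases hsi with h | h
      · omega
      · exact h
    obtain ⟨m', rfl⟩ : ∃ m', m = m' + 1 := ⟨m - 1, by omega⟩
    have hsm' : s < m' := by omega
    have hexp : m' + 1 - 1 - (s + 1) = m' - 1 - s := by omega
    rw [hexp] at hY ⊢
    -- decompose Y
    have hY' := truncate_shift_mem_fil p m' _ Y hY
    obtain ⟨c, hc⟩ := ih m' hsm' (Or.inr hpi) (Y.shift 1) hY'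
    refine ⟨c, ?_⟩
    set W₀ : WittVector p B :=
      WittVector.map (algebraMap S B) c * teichmuller p ((u ^ i : Bˣ) : B) with hW₀
    have hdec : Y - (verschiebung)^[s + 1] W₀ =
        teichmuller p (Y.coeff 0) + verschiebung (Y.shift 1 - (verschiebung)^[s] W₀) := by
      rw [Function.iterate_succ_apply', map_sub, ← add_sub_assoc, teich_add_verschiebung_shift]
    rw [hdec, map_add]
    apply add_mem_fil p u hu
    · apply truncate_teich_mem_fil
      have h0 := (mem_fil_iff' p (m' + 1) _ Y).1 hY 0 (Nat.succ_pos m')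
      rw [Nat.add_sub_cancel, Nat.sub_zero] at h0
      refine pow_mul_zpow_mem (PowerSeries.X : PowerSeries S) PowerSeries.X_prime u hu
        H_powerSeries (Y.coeff 0) (p ^ m') (pow_pos hp.out.pos _) _ ?_ h0
      rintro ⟨t, ht⟩
      apply hpi
      have hm's : m' = (m' - 1 - s) + (s + 1) := by omega
      have hp0 : ((p : ℤ) ^ (m' - 1 - s)) ≠ 0 := pow_ne_zero _ (by exact_mod_cast hp.out.ne_zero)
      have h2 : ((p : ℤ) ^ (m' - 1 - s)) * i = ((p : ℤ) ^ (m' - 1 - s)) * (-((p : ℤ) ^ (s + 1) * t)) := by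
        have : ((p ^ m' : ℕ) : ℤ) = (p : ℤ) ^ (m' - 1 - s) * (p : ℤ) ^ (s + 1) := by
          push_cast
          rw [← pow_add, ← hm's]
        rw [this] at ht
        linarith
      have h3 := mul_left_cancel₀ hp0 h2
      rw [h3, pow_succ]
      exact ⟨-((p : ℤ) ^ s * t), by ring⟩
    · exact truncate_verschiebung_mem_fil p m' _ _ hc

end Groth.Agent.Helper28.WittGr
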